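import Mathlib.GroupTheory.Nilpotent
import Mathlib.GroupTheory.Sylow
import Mathlib.GroupTheory.Commutator.Basic

set_option autoImplicit false

/-! Elementary coprime action lemmas: stabilising series, and BG Prop. 1.10. -/

namespace CfsgLib.OddOrder41

variable {G : Type*} [Group G]

/-- If `a` moves `n` by a factor `x` that it fixes, and `x ∈ H` with `orderOf a` coprime to `#H`, then `a` fixes `n`. -/
theorem fixes_of_step_fixed [Finite G] {H : Subgroup G} {a n x : G}
    (hcop : (orderOf a).Coprime (Nat.card H)) (hx : x ∈ H) (hn : a * n * a⁻¹ = n * x)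
    (hxa : a * x * a⁻¹ = x) : a * n = n * a := by
  have key : ∀ k : ℕ, a ^ k * n * (a ^ k)⁻¹ = n * x ^ k := by
    intro k
    induction k with
    | zero => simp
    | succ k ih =>
      have hxk : a * x ^ k * a⁻¹ = x ^ k := by rw [← conj_pow, hxa]
      calc a ^ (k + 1) * n * (a ^ (k + 1))⁻¹
          = a * (a ^ k * n * (a ^ k)⁻¹) * a⁻¹ := by rw [pow_succ']; group
        _ = a * (n * x ^ k) * a⁻¹ := by rw [ih]
        _ = (a * n * a⁻¹) * (a * x ^ k * a⁻¹) := by group
        _ = n * x ^ (k + 1) := by rw [hn, hxk, pow_succ', mul_assoc]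
  have h1 := key (orderOf a)
  simp only [pow_orderOf_eq_one, one_mul, inv_one, mul_one] at h1
  have h2 : x ^ orderOf a = 1 := left_eq_mul.mp h1
  have h3 : x ^ Nat.card H = 1 := by
    exact orderOf_dvd_iff_pow_eq_one.mp
      (by simpa using orderOf_dvd_natCard (⟨x, hx⟩ : H))
  have hx1 : x = 1 := by
    have := pow_gcd_eq_one.mpr ⟨h2, h3⟩
    rwa [hcop.gcd_eq_one, pow_one] at this
  rw [hx1, mul_one] at hn
  calc a * n = a * n * a⁻¹ * a := by group
    _ = n * a := by rw [hn]

theorem orderOf_coprime_card_of_mem [Finite G] {A H : Subgroup G} {a : G} (ha : a ∈ A)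
    (hcop : (Nat.card A).Coprime (Nat.card H)) : (orderOf a).Coprime (Nat.card H) := by
  apply Nat.Coprime.coprime_dvd_left _ hcop
  have := orderOf_dvd_natCard (⟨a, ha⟩ : A)
  simpa using this

/-- BG 1.10: coprime action on a nilpotent group whose fixed points contain their centraliser is trivial. -/
theorem le_centralizer_of_centralizer_fixed_le [Finite G] (H A : Subgroup G) (hH : Group.IsNilpotent H)
    (hA : A ≤ Subgroup.normalizer (H : Set G)) (hcop : (Nat.card A).Coprime (Nat.card H))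
    (hC : H ⊓ Subgroup.centralizer (((H ⊓ Subgroup.centralizer (A : Set G)) : Subgroup G) : Set G) ≤
      (H ⊓ Subgroup.centralizer (A : Set G))) :
    A ≤ Subgroup.centralizer (H : Set G) := by
  let C : Subgroup G := H ⊓ Subgroup.centralizer (A : Set G)
  have hfix : ∀ c ∈ C, ∀ a ∈ A, a * c = c * a := fun c hc a ha =>
    Subgroup.mem_centralizer_iff.mp hc.2 a ha
  -- everything in `H` normalising `C` is fixed
  have hN : ∀ n : G, n ∈ H → (∀ c : G, c ∈ C ↔ n * c * n⁻¹ ∈ C) → n ∈ C := by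
    intro n hn hnC
    refine ⟨hn, Subgroup.mem_centralizer_iff.mpr ?_⟩
    intro a ha
    have hanH : a * n * a⁻¹ ∈ H := ((Subgroup.mem_normalizer_iff.mp (hA ha)) n).mp hn
    have hxH : n⁻¹ * (a * n * a⁻¹) ∈ H := H.mul_mem (H.inv_mem hn) hanH
    have hxC : n⁻¹ * (a * n * a⁻¹) ∈ C := by
      apply hC
      refine ⟨hxH, Subgroup.mem_centralizer_iff.mpr ?_⟩
      intro c hc
      have h1 : a * c = c * a := hfix c hc a ha
      have h2 : a * (n * c * n⁻¹) = (n * c * n⁻¹) * a := hfix _ ((hnC c).mp hc) a ha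
      have h1' : a⁻¹ * c = c * a⁻¹ := by
        calc a⁻¹ * c = a⁻¹ * (c * a) * a⁻¹ := by group
          _ = a⁻¹ * (a * c) * a⁻¹ := by rw [h1]
          _ = c * a⁻¹ := by group
      calc c * (n⁻¹ * (a * n * a⁻¹))
          = n⁻¹ * ((n * c * n⁻¹) * a) * (n * a⁻¹) := by group
        _ = n⁻¹ * (a * (n * c * n⁻¹)) * (n * a⁻¹) := by rw [h2]
        _ = n⁻¹ * a * n * (c * a⁻¹) := by group
        _ = n⁻¹ * a * n * (a⁻¹ * c) := by rw [h1']
        _ = (n⁻¹ * (a * n * a⁻¹)) * c := by group
    refine fixes_of_step_fixed (orderOf_coprime_card_of_mem ha hcop) hxH ?_ ?_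
    · group
    · rw [hfix _ hxC a ha]; group
  by_contra hne
  have hCH : C.subgroupOf H < ⊤ := by
    rw [lt_top_iff_ne_top]
    intro ht
    apply hne
    intro a ha
    refine Subgroup.mem_centralizer_iff.mpr fun h hh => ?_
    have : (⟨h, hh⟩ : H) ∈ C.subgroupOf H := ht ▸ Subgroup.mem_top _
    exact (hfix h (Subgroup.mem_subgroupOf.mp this) a ha).symm
  have hlt := (Group.normalizerCondition_of_isNilpotent : NormalizerCondition H) _ hCH
  obtain ⟨n, hnN, hnC⟩ := SetLike.exists_of_lt hlt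
  apply hnC
  rw [Subgroup.mem_subgroupOf]
  apply hN (n : G) n.2
  intro c
  have hN' := Subgroup.mem_normalizer_iff.mp hnN
  constructor
  · intro hc
    exact (hN' ⟨c, hc.1⟩).mp hc
  · intro hc
    have hcH : c ∈ H := by
      have := H.mul_mem (H.mul_mem (H.inv_mem n.2) hc.1) n.2
      convert this using 1
      group
    exact (hN' ⟨c, hcH⟩).mpr hc

/-- BG 1.9: an element of order coprime to `#H` stabilising a series of `H` fixes `H`. -/
theorem fixes_of_series [Finite G] (H : Subgroup G) (a : G) (hcop : (orderOf a).Coprime (Nat.card H))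
    (n : ℕ) (c : Fin (n + 1) → Subgroup G) (hcn : c (Fin.last n) = ⊥) (hle : ∀ i, c i ≤ H)
    (htriv : ∀ i : Fin n, ∀ h ∈ c i.castSucc, h * a * h⁻¹ * a⁻¹ ∈ c i.succ) :
    ∀ h ∈ c 0, a * h = h * a := by
  suffices ∀ i, ∀ h ∈ c i, a * h = h * a from this 0
  intro i
  induction i using Fin.reverseInduction with
  | last =>
    intro h hh
    rw [hcn, Subgroup.mem_bot] at hh
    simp [hh]
  | cast i ih =>
    intro h hh
    have hx : h⁻¹ * a * h * a⁻¹ ∈ c i.succ := by
      simpa using htriv i h⁻¹ ((c i.castSucc).inv_mem hh)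
    refine fixes_of_step_fixed hcop (hle _ hx) ?_ ?_
    · group
    · rw [ih _ hx]; group

theorem series_index_prime_dvd [Finite G] (H A : Subgroup G)
    (n : ℕ) (c : Fin (n + 1) → Subgroup G) (hc0 : c 0 = H) (hcn : c (Fin.last n) = ⊥) (hanti : Antitone c)
    (htriv : ∀ i : Fin n, ⁅c i.castSucc, A⁆ ≤ c i.succ) :
    ∀ p : ℕ, p.Prime → p ∣ (A ⊓ Subgroup.centralizer (H : Set G)).relIndex A → p ∣ Nat.card H := by
  intro p hp hdvd
  by_contra hpH
  haveI := Fact.mk hp
  obtain ⟨P⟩ := (inferInstance : Nonempty (Sylow p A))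
  have hle : (P : Subgroup A) ≤ (A ⊓ Subgroup.centralizer (H : Set G)).subgroupOf A := by
    intro a ha
    rw [Subgroup.mem_subgroupOf]
    refine ⟨a.2, Subgroup.mem_centralizer_iff.mpr fun h hh => ?_⟩
    obtain ⟨k, hk⟩ := (IsPGroup.iff_orderOf.mp P.2) ⟨a, ha⟩
    have hk' : orderOf (a : G) = p ^ k := by
      rw [Subgroup.orderOf_coe]
      simpa [Subgroup.orderOf_mk] using hk
    have hcop : (orderOf (a : G)).Coprime (Nat.card H) := by
      rw [hk']
      exact Nat.Coprime.pow_left _ ((Nat.Prime.coprime_iff_not_dvd hp).mpr hpH)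
    refine (fixes_of_series H a hcop n c hcn (fun i => hc0 ▸ hanti (Fin.zero_le i)) ?_ h (hc0 ▸ hh)).symm
    intro i g hg
    exact htriv i (Subgroup.commutator_mem_commutator hg a.2)
  have : ((A ⊓ Subgroup.centralizer (H : Set G)).subgroupOf A).index ∣ (P : Subgroup A).index :=
    Subgroup.index_dvd_of_le hle
  exact P.not_dvd_index (dvd_trans hdvd this)

end CfsgLib.OddOrder41
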