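import Mathlib.GroupTheory.PGroup
import Mathlib.GroupTheory.Abelianization.Defs
import Mathlib.GroupTheory.Solvable
import Mathlib.Data.Nat.Choose.Dvd
import Cfsg.Prelude.Def_Transfer
import Cfsg.Agent.Lib.OddOrder41.Coprime

set_option autoImplicit false

/-! For odd `p`, a coprime action on a `p`-group fixing its elements of order `p` is trivial. -/

namespace CfsgLib.OddOrder41

variable {G : Type*} [Group G]

theorem pow_mul_eq_of_central_step {x y c : G} (hyx : y * x = x * y * c) (hcx : c * x = x * c)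
    (hcy : c * y = y * c) (n : ℕ) :
    y ^ n * x = x * y ^ n * c ^ n ∧ (x * y) ^ n = x ^ n * y ^ n * c ^ n.choose 2 := by
  induction n with
  | zero => simp
  | succ n ih =>
    have hcnx : ∀ k : ℕ, c ^ k * x = x * c ^ k := fun k => (Commute.pow_left hcx k).eq
    have hcny : ∀ k : ℕ, c ^ k * y = y * c ^ k := fun k => (Commute.pow_left hcy k).eq
    constructor
    · calc y ^ (n + 1) * x = y ^ n * (y * x) := by rw [pow_succ, mul_assoc]
        _ = (y ^ n * x) * y * c := by rw [hyx]; simp [mul_assoc]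
        _ = x * y ^ n * (c ^ n * y) * c := by rw [ih.1]; simp [mul_assoc]
        _ = x * y ^ (n + 1) * c ^ (n + 1) := by rw [hcny]; simp [pow_succ, mul_assoc]
    · calc (x * y) ^ (n + 1) = (x * y) ^ n * (x * y) := pow_succ _ _
        _ = x ^ n * y ^ n * (c ^ n.choose 2 * x) * y := by rw [ih.2]; simp [mul_assoc]
        _ = x ^ n * (y ^ n * x) * (c ^ n.choose 2 * y) := by rw [hcnx]; simp [mul_assoc]
        _ = x ^ n * x * y ^ n * (c ^ n * y) * c ^ n.choose 2 := by
          rw [ih.1, hcny]; simp [mul_assoc]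
        _ = x ^ (n + 1) * y ^ (n + 1) * (c ^ n * c ^ n.choose 2) := by
          rw [hcny]; simp [pow_succ, mul_assoc]
        _ = _ := by rw [Nat.choose_succ_succ' n 1, Nat.choose_one_right, pow_add (c), pow_add]

theorem closure_conj_invariant {a : G} {s : Set G} (h : ∀ x ∈ s, a * x * a⁻¹ ∈ Subgroup.closure s) :
    ∀ x ∈ Subgroup.closure s, a * x * a⁻¹ ∈ Subgroup.closure s := by
  intro x hx
  have : Subgroup.closure s ≤ (Subgroup.closure s).comap (MulAut.conj a).toMonoidHom := by
    rw [Subgroup.closure_le]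
    intro y hy
    simpa using h y hy
  simpa using this hx

/-- For odd `p`: an element of order prime to `p` normalising a `p`-subgroup and fixing all its elements
of order dividing `p` fixes it. -/
theorem fixes_of_fixes_exponent_p [Finite G] {p : ℕ} [hp : Fact p.Prime] (hodd : p ≠ 2) (a : G)
    (hcop : (orderOf a).Coprime p) :
    ∀ (n : ℕ) (H : Subgroup G), Nat.card H = n → IsPGroup p H → (∀ x ∈ H, a * x * a⁻¹ ∈ H) →
      (∀ x ∈ H, x ^ p = 1 → a * x = x * a) → ∀ x ∈ H, a * x = x * a := by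
  intro n
  induction n using Nat.strong_induction_on with
  | _ n ih =>
    intro H hn hH hinv hfix
    have hprop : ∀ K : Subgroup G, K ≤ H → K ≠ H → (∀ x ∈ K, a * x * a⁻¹ ∈ K) →
        ∀ x ∈ K, a * x = x * a := by
      intro K hKH hne hKinv
      have hlt : Nat.card K < n := by
        rw [← hn]
        exact lt_of_le_of_ne (Subgroup.card_le_of_le hKH)
          (fun he => hne (Subgroup.eq_of_le_of_card_ge hKH he.ge))
      exact ih _ hlt K rfl (hH.to_le hKH) hKinv (fun x hx => hfix x (hKH hx))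
    have hcopH : (orderOf a).Coprime (Nat.card H) := by
      obtain ⟨k, hk⟩ := hH.exists_card_eq
      rw [hk]; exact Nat.Coprime.pow_right _ hcop
    -- the displacements
    let Y : Set G := (fun x => x⁻¹ * (a * x * a⁻¹)) '' (H : Set G)
    have hYH : Y ⊆ H := by
      rintro _ ⟨x, hx, rfl⟩
      exact H.mul_mem (H.inv_mem hx) (hinv x hx)
    have hYle : Subgroup.closure Y ≤ H := (Subgroup.closure_le H).mpr hYH
    have hdone : (∀ y ∈ Y, a * y = y * a) → ∀ x ∈ H, a * x = x * a := by
      intro hY x hx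
      refine fixes_of_step_fixed hcopH (hYH ⟨x, hx, rfl⟩) ?_ ?_
      · show a * x * a⁻¹ = x * (x⁻¹ * (a * x * a⁻¹))
        group
      · rw [hY _ ⟨x, hx, rfl⟩]; group
    by_cases hYeq : Subgroup.closure Y = H
    swap
    · apply hdone
      intro y hy
      refine hprop _ hYle hYeq (closure_conj_invariant ?_) y (Subgroup.subset_closure hy)
      rintro _ ⟨x, hx, rfl⟩
      refine Subgroup.subset_closure ⟨a * x * a⁻¹, hinv x hx, ?_⟩
      simp only
      group
    rcases eq_or_ne H ⊥ with hbot | hbot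
    · intro x hx
      rw [hbot, Subgroup.mem_bot] at hx
      simp [hx]
    -- the subgroup generated by commutators and p-th powers
    let T : Set G := {g | ∃ x ∈ H, ∃ y ∈ H, g = x * y * x⁻¹ * y⁻¹} ∪ {g | ∃ x ∈ H, g = x ^ p}
    have hTH : Subgroup.closure T ≤ H := by
      rw [Subgroup.closure_le]
      rintro g (⟨x, hx, y, hy, rfl⟩ | ⟨x, hx, rfl⟩)
      · exact H.mul_mem (H.mul_mem (H.mul_mem hx hy) (H.inv_mem hx)) (H.inv_mem hy)
      · exact H.pow_mem hx p
    have hSne : Subgroup.closure T ≠ H := by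
      intro heq
      haveI : Nontrivial H := (Subgroup.nontrivial_iff_ne_bot H).mpr hbot
      haveI : Group.IsNilpotent H := hH.isNilpotent
      haveI : Group.IsSolvable H := inferInstance
      have hAne : Nontrivial (Abelianization H) := by
        by_contra hA
        rw [not_nontrivial_iff_subsingleton] at hA
        have : commutator H = ⊤ := by
          rw [eq_top_iff]
          intro g _
          rw [← Abelianization.ker_of (G := H)]
          exact Subsingleton.elim _ _
        exact (lt_top_iff_ne_top.mp (Group.IsSolvable.commutator_lt_top_of_nontrivial H)) this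
      have hA : IsPGroup p (Abelianization H) := hH.to_quotient _
      let R : Subgroup H := ((powMonoidHom p : Abelianization H →* Abelianization H).range).comap Abelianization.of
      have hR : Subgroup.closure T ≤ R.map H.subtype := by
        rw [Subgroup.closure_le]
        rintro g (⟨x, hx, y, hy, rfl⟩ | ⟨x, hx, rfl⟩)
        · refine ⟨(⟨x, hx⟩ : H) * ⟨y, hy⟩ * (⟨x, hx⟩ : H)⁻¹ * (⟨y, hy⟩ : H)⁻¹, ?_, rfl⟩
          apply Subgroup.mem_comap.mpr
          simp only [map_mul, map_inv]
          rw [mul_inv_cancel_comm, mul_inv_cancel]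
          exact one_mem _
        · refine ⟨(⟨x, hx⟩ : H) ^ p, ?_, rfl⟩
          exact ⟨Abelianization.of ⟨x, hx⟩, (map_pow _ _ _).symm⟩
      have hRtop : R = ⊤ := by
        rw [eq_top_iff]
        intro g _
        obtain ⟨r, hr, hrg⟩ := hR (show (g : G) ∈ Subgroup.closure T by rw [heq]; exact g.2)
        have : r = g := Subtype.ext hrg
        exact this ▸ hr
      have hsurj : Function.Surjective (powMonoidHom p : Abelianization H →* Abelianization H) := by
        intro b
        obtain ⟨g, rfl⟩ : ∃ g : H, Abelianization.of g = b := QuotientGroup.mk'_surjective _ b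
        have : g ∈ R := hRtop ▸ Subgroup.mem_top _
        exact this
      haveI : Finite (Abelianization H) := Quotient.finite _
      have hinj := Finite.injective_iff_surjective.mpr hsurj
      obtain ⟨k, hk0, hk⟩ := (IsPGroup.nontrivial_iff_card hA).mp hAne
      obtain ⟨g, hg⟩ := exists_prime_orderOf_dvd_card' p (hk ▸ dvd_pow_self p hk0.ne')
      have hg1 : g = 1 := hinj (by simp [← hg, pow_orderOf_eq_one])
      rw [hg1, orderOf_one] at hg
      exact hp.out.ne_one hg.symm
    have hSfix : ∀ s ∈ Subgroup.closure T, a * s = s * a := by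
      refine hprop _ hTH hSne (closure_conj_invariant ?_)
      rintro g (⟨x, hx, y, hy, rfl⟩ | ⟨x, hx, rfl⟩)
      · refine Subgroup.subset_closure (Or.inl ⟨a * x * a⁻¹, hinv x hx, a * y * a⁻¹, hinv y hy, ?_⟩)
        group
      · exact Subgroup.subset_closure (Or.inr ⟨a * x * a⁻¹, hinv x hx, conj_pow.symm⟩)
    have hSnorm : ∀ h ∈ H, ∀ s ∈ Subgroup.closure T, h * s * h⁻¹ ∈ Subgroup.closure T := by
      intro h hh s hs
      have h1 : h * s * h⁻¹ * s⁻¹ ∈ Subgroup.closure T :=
        Subgroup.subset_closure (Or.inl ⟨h, hh, s, hTH hs, rfl⟩)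
      have := mul_mem h1 hs
      simpa using this
    have hcentral : ∀ h ∈ H, ∀ s ∈ Subgroup.closure T, h * s = s * h := by
      have hY : Y ⊆ (Subgroup.centralizer (Subgroup.closure T : Set G) : Set G) := by
        rintro _ ⟨x, hx, rfl⟩
        refine Subgroup.mem_centralizer_iff.mpr fun s hs => ?_
        have h1 := hSfix s hs
        have h2 := hSfix _ (hSnorm x hx s hs)
        have h1' : a⁻¹ * s = s * a⁻¹ := by
          calc a⁻¹ * s = a⁻¹ * (s * a) * a⁻¹ := by group
            _ = a⁻¹ * (a * s) * a⁻¹ := by rw [h1]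
            _ = s * a⁻¹ := by group
        calc s * (x⁻¹ * (a * x * a⁻¹)) = x⁻¹ * ((x * s * x⁻¹) * a) * (x * a⁻¹) := by group
          _ = x⁻¹ * (a * (x * s * x⁻¹)) * (x * a⁻¹) := by rw [h2]
          _ = x⁻¹ * a * x * (s * a⁻¹) := by group
          _ = x⁻¹ * a * x * (a⁻¹ * s) := by rw [h1']
          _ = _ := by group
      intro h hh s hs
      have : h ∈ Subgroup.centralizer (Subgroup.closure T : Set G) :=
        (Subgroup.closure_le _).mpr hY (hYeq.symm ▸ hh)
      exact ((Subgroup.mem_centralizer_iff.mp this) s hs).symm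
    apply hdone
    rintro _ ⟨x, hx, rfl⟩
    show a * (x⁻¹ * (a * x * a⁻¹)) = x⁻¹ * (a * x * a⁻¹) * a
    set y := x⁻¹ * (a * x * a⁻¹) with hy_def
    have hy : y ∈ H := hYH ⟨x, hx, rfl⟩
    refine hfix y hy ?_
    let c := y⁻¹ * x⁻¹ * y * x
    have hcT : c ∈ Subgroup.closure T :=
      Subgroup.subset_closure (Or.inl ⟨y⁻¹, H.inv_mem hy, x⁻¹, H.inv_mem hx, by simp [c]⟩)
    have hyx : y * x = x * y * c := by simp only [c]; group
    have hcx : c * x = x * c := (hcentral x hx c hcT).symm
    have hcy : c * y = y * c := (hcentral y hy c hcT).symm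
    obtain ⟨e1, e2⟩ := pow_mul_eq_of_central_step hyx hcx hcy p
    have hyp : y ^ p ∈ Subgroup.closure T := Subgroup.subset_closure (Or.inr ⟨y, hy, rfl⟩)
    have hcp : c ^ p = 1 := by
      rw [← hcentral x hx _ hyp] at e1
      exact left_eq_mul.mp e1
    have hch : c ^ p.choose 2 = 1 := by
      obtain ⟨q, hq⟩ := hp.out.dvd_choose_self two_ne_zero (lt_of_le_of_ne hp.out.two_le (Ne.symm hodd))
      rw [hq, pow_mul, hcp, one_pow]
    have hxy : x * y = a * x * a⁻¹ := by rw [hy_def]; group
    rw [hch, mul_one, hxy, conj_pow] at e2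
    have hxp : x ^ p ∈ Subgroup.closure T := Subgroup.subset_closure (Or.inr ⟨x, hx, rfl⟩)
    rw [hSfix _ hxp, mul_assoc (x ^ p) a a⁻¹, mul_inv_cancel, mul_one] at e2
    exact left_eq_mul.mp e2

/-- BG 1.12. -/
theorem le_centralizer_of_fixes_order_p [Finite G] (p : ℕ) [hp : Fact p.Prime] (hodd : p ≠ 2)
    (H E A : Subgroup G) (hH : IsPGroup p H) (hE : E ≤ H) (hEe : Cfsg.IsElementaryAbelian p E)
    (hA : A ≤ Subgroup.normalizer (H : Set G)) (hcop : (Nat.card A).Coprime p)
    (hfix : ∀ x ∈ (H ⊓ Subgroup.centralizer (E : Set G)), orderOf x = p → A ≤ Subgroup.centralizer ({x} : Set G)) :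
    A ≤ Subgroup.centralizer (H : Set G) := by
  have hfix' : ∀ a ∈ A, ∀ x ∈ (H ⊓ Subgroup.centralizer (E : Set G)), x ^ p = 1 → a * x = x * a := by
    intro a ha x hx hxp
    rcases (Nat.dvd_prime hp.out).mp (orderOf_dvd_iff_pow_eq_one.mpr hxp) with h | h
    · simp [orderOf_eq_one_iff.mp h]
    · exact (Subgroup.mem_centralizer_singleton_iff.mp (hfix x hx h ha))
  have hEC : E ≤ H ⊓ Subgroup.centralizer (E : Set G) := fun e he =>
    ⟨hE he, Subgroup.mem_centralizer_iff.mpr fun e' he' =>
      congrArg Subtype.val (hEe.1.is_comm.comm ⟨e', he'⟩ ⟨e, he⟩)⟩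
  have hEfix : ∀ a ∈ A, ∀ e ∈ E, a * e = e * a := fun a ha e he => hfix' a ha e (hEC he) (hEe.2 e he)
  have hcopA : ∀ a ∈ A, (orderOf a).Coprime p := fun a ha =>
    Nat.Coprime.coprime_dvd_left (by simpa using orderOf_dvd_natCard (⟨a, ha⟩ : A)) hcop
  have hC : ∀ a ∈ A, ∀ x ∈ (H ⊓ Subgroup.centralizer (E : Set G)), a * x = x * a := by
    intro a ha
    refine fixes_of_fixes_exponent_p hodd a (hcopA a ha) _ _ rfl (hH.to_le inf_le_left) ?_ (hfix' a ha)
    intro x hx
    refine ⟨((Subgroup.mem_normalizer_iff.mp (hA ha)) x).mp hx.1, Subgroup.mem_centralizer_iff.mpr ?_⟩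
    intro e he
    have h1 : a * e = e * a := hEfix a ha e he
    have h1' : a⁻¹ * e = e * a⁻¹ := by
      calc a⁻¹ * e = a⁻¹ * (e * a) * a⁻¹ := by group
        _ = a⁻¹ * (a * e) * a⁻¹ := by rw [h1]
        _ = e * a⁻¹ := by group
    have h2 : e * x = x * e := Subgroup.mem_centralizer_iff.mp hx.2 e he
    calc e * (a * x * a⁻¹) = (e * a) * x * a⁻¹ := by group
      _ = a * (e * x) * a⁻¹ := by rw [← h1]; group
      _ = a * x * (e * a⁻¹) := by rw [h2]; group
      _ = a * x * (a⁻¹ * e) := by rw [h1']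
      _ = _ := by group
  have hcop' : (Nat.card A).Coprime (Nat.card H) := by
    obtain ⟨k, hk⟩ := hH.exists_card_eq
    rw [hk]; exact Nat.Coprime.pow_right _ hcop
  refine le_centralizer_of_centralizer_fixed_le H A hH.isNilpotent hA hcop' ?_
  rintro x ⟨hxH, hxC⟩
  refine ⟨hxH, Subgroup.mem_centralizer_iff.mpr fun a ha => hC a ha x ⟨hxH, ?_⟩⟩
  refine Subgroup.mem_centralizer_iff.mpr fun e he => ?_
  exact Subgroup.mem_centralizer_iff.mp hxC e
    ⟨hE he, Subgroup.mem_centralizer_iff.mpr fun a' ha' => hEfix a' ha' e he⟩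

end CfsgLib.OddOrder41
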