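import Mathlib.GroupTheory.PGroup
import Mathlib.GroupTheory.Nilpotent
import Mathlib.GroupTheory.Solvable
import Mathlib.GroupTheory.Index
import Cfsg.Prelude.Def_CaseTheorems
import Cfsg.Prelude.Def_Transfer
import Cfsg.Agent.Lib.OddOrder41.FixOmega

set_option autoImplicit false

/-! Normal elementary abelian subgroups of a `p`-group, `p` odd. -/

namespace CfsgLib.OddOrder41

open Subgroup
open scoped commutatorElement

variable {R : Type*} [Group R]

/-- A normal subgroup not inside a normal subgroup has an element central modulo it. -/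
theorem exists_central_step [Group.IsNilpotent R] (N A : Subgroup R) [N.Normal] (h : ¬ N ≤ A) :
    ∃ y ∈ N, y ∉ A ∧ ∀ g : R, ⁅y, g⁆ ∈ A := by
  classical
  have hex : ∃ n, ¬ (N ⊓ Subgroup.upperCentralSeries R n ≤ A) := by
    obtain ⟨n, hn⟩ := Group.IsNilpotent.nilpotent R
    exact ⟨n, by rwa [hn, inf_top_eq]⟩
  have hspec := Nat.find_spec hex
  obtain ⟨m, hm⟩ : ∃ m, Nat.find hex = m + 1 := by
    refine Nat.exists_eq_succ_of_ne_zero fun h0 => hspec ?_
    rw [h0, Subgroup.upperCentralSeries_zero, inf_bot_eq]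
    exact bot_le
  rw [hm] at hspec
  obtain ⟨y, hy, hyA⟩ := SetLike.not_le_iff_exists.mp hspec
  refine ⟨y, hy.1, hyA, fun g => ?_⟩
  have hmin : N ⊓ Subgroup.upperCentralSeries R m ≤ A := by
    have := Nat.find_min hex (show m < Nat.find hex by omega)
    exact not_not.mp this
  exact hmin ⟨by
    have h1 : g * y⁻¹ * g⁻¹ ∈ N := Subgroup.Normal.conj_mem inferInstance _ (N.inv_mem hy.1) g
    simpa [commutatorElement_def, mul_assoc] using N.mul_mem hy.1 h1,
    Subgroup.mem_upperCentralSeries_succ_iff.mp hy.2 g⟩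

/-- A maximal abelian normal subgroup of a nilpotent group is its own centraliser. -/
theorem exists_normal_abelian_self_centralizing [Finite R] [Group.IsNilpotent R] (F : Subgroup R)
    (hFn : F.Normal) (hFa : IsMulCommutative F) :
    ∃ A : Subgroup R, F ≤ A ∧ A.Normal ∧ IsMulCommutative A ∧ centralizer (A : Set R) = A := by
  classical
  obtain ⟨A, hAmax⟩ := Set.Finite.exists_maximal (s := {A : Subgroup R | F ≤ A ∧ A.Normal ∧ IsMulCommutative A})
    (Set.toFinite _) ⟨F, le_rfl, hFn, hFa⟩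
  obtain ⟨⟨hFA, hAn, hAa⟩, hmax⟩ := hAmax
  refine ⟨A, hFA, hAn, hAa, le_antisymm ?_ ?_⟩
  swap
  · exact fun a ha => mem_centralizer_iff.mpr fun b hb => congrArg Subtype.val (hAa.is_comm.comm ⟨b, hb⟩ ⟨a, ha⟩)
  by_contra hle
  haveI := hAn
  obtain ⟨y, hy, hyA, hyc⟩ := exists_central_step (centralizer (A : Set R)) A hle
  let K := closure (insert y (A : Set R))
  have hK : K ∈ {A : Subgroup R | F ≤ A ∧ A.Normal ∧ IsMulCommutative A} := by
    refine ⟨fun f hf => subset_closure (Set.mem_insert_of_mem _ (hFA hf)), ⟨?_⟩, ?_⟩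
    · intro k hk g
      refine closure_conj_invariant (a := g) ?_ k hk
      intro z hz
      rcases Set.mem_insert_iff.mp hz with rfl | hz
      · have h1 := hyc g
        have : g * z * g⁻¹ = ⁅z, g⁆⁻¹ * z := by rw [commutatorElement_def]; group
        rw [this]
        exact mul_mem (inv_mem (subset_closure (Set.mem_insert_of_mem _ h1)))
          (subset_closure (Set.mem_insert _ _))
      · exact subset_closure (Set.mem_insert_of_mem _ (hAn.conj_mem z hz g))
    · refine Subgroup.isMulCommutative_closure ?_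
      intro a ha b hb
      have hcom : ∀ u ∈ A, u * y = y * u := fun u hu => mem_centralizer_iff.mp hy u hu
      rcases Set.mem_insert_iff.mp ha with h1 | h1 <;> rcases Set.mem_insert_iff.mp hb with h2 | h2
      · rw [h1, h2]
      · rw [h1]; exact (hcom b h2).symm
      · rw [h2]; exact hcom a h1
      · exact congrArg Subtype.val (hAa.is_comm.comm ⟨a, h1⟩ ⟨b, h2⟩)
  have hAK : A ≤ K := fun a ha => subset_closure (Set.mem_insert_of_mem _ ha)
  exact hyA (hmax hK hAK (subset_closure (Set.mem_insert y _)))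

/-- If `E` is normal elementary abelian and some element of order `p` outside `E` centralises it, then `E`
is properly contained in a normal elementary abelian subgroup. -/
theorem exists_normal_elementary_gt [Finite R] {p : ℕ} [hp : Fact p.Prime] (hodd : p ≠ 2) (hR : IsPGroup p R)
    (E : Subgroup R) [E.Normal] (hE : Cfsg.IsElementaryAbelian p E)
    (x₀ : R) (hx₀C : x₀ ∈ centralizer (E : Set R)) (hx₀p : x₀ ^ p = 1) (hx₀E : x₀ ∉ E) :
    ∃ F : Subgroup R, F.Normal ∧ Cfsg.IsElementaryAbelian p F ∧ E < F := by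
  classical
  haveI : Group.IsNilpotent R := hR.isNilpotent
  let S : Set R := {x | x ∈ centralizer (E : Set R) ∧ x ^ p = 1 ∧ x ∉ E}
  obtain ⟨x, ⟨hxC, hxp, hxE⟩, hmin⟩ := Set.exists_min_image S (fun x => Nat.card (normalClosure ({x} : Set R)))
    (Set.toFinite _) ⟨x₀, hx₀C, hx₀p, hx₀E⟩
  let Q := normalClosure ({x} : Set R)
  have hxQ : x ∈ Q := subset_normalClosure rfl
  have hQC : Q ≤ centralizer (E : Set R) :=
    normalClosure_le_normal (Set.singleton_subset_iff.mpr hxC)
  let T : Subgroup R := ⁅Q, (⊤ : Subgroup R)⁆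
  have hTn : T.Normal := inferInstance
  have hTQ : T ≤ Q := Subgroup.commutator_le_left Q ⊤
  have hQone : Q ≠ ⊥ := by
    intro h
    rw [h, mem_bot] at hxQ
    exact hxE (hxQ ▸ E.one_mem)
  have hTlt : T ≠ Q := by
    intro h
    have : ∀ n, Q ≤ (⊤ : Subgroup R).lowerCentralSeries n := by
      intro n
      induction n with
      | zero => simp
      | succ n ih =>
        rw [Subgroup.lowerCentralSeries_succ]
        calc Q = ⁅Q, (⊤ : Subgroup R)⁆ := h.symm
          _ ≤ _ := commutator_mono ih le_rfl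
    obtain ⟨n, hn⟩ := Subgroup.nilpotent_iff_lowerCentralSeries.mp (inferInstance : Group.IsNilpotent R)
    exact hQone (le_bot_iff.mp (hn ▸ this n))
  have hTE : ∀ z ∈ T, z ^ p = 1 → z ∈ E := by
    intro z hz hzp
    by_contra hzE
    have h1 := hmin z ⟨hQC (hTQ hz), hzp, hzE⟩
    have h2 : normalClosure ({z} : Set R) ≤ T := normalClosure_le_normal (Set.singleton_subset_iff.mpr hz)
    exact absurd (le_trans h1 (Subgroup.card_le_of_le h2)) (not_le.mpr
      (lt_of_le_of_ne (Subgroup.card_le_of_le hTQ) (fun he => hTlt (Subgroup.eq_of_le_of_card_ge hTQ he.ge))))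
  have hEQ : ∀ e ∈ E, ∀ q ∈ Q, e * q = q * e := fun e he q hq => mem_centralizer_iff.mp (hQC hq) e he
  have hcomT : ∀ q ∈ Q, ∀ g : R, ⁅q, g⁆ ∈ T := fun q hq g => commutator_mem_commutator hq (mem_top g)
  -- key: for `c = [t, y]` with the next commutator central in `Q`, `c` lies in `E`
  have key : ∀ c ∈ T, ∀ y ∈ Q, y ^ p = 1 → (c * y) ^ p = 1 →
      (∀ q ∈ Q, ⁅c⁻¹, y⁻¹⁆ * q = q * ⁅c⁻¹, y⁻¹⁆) → c ∈ E := by
    intro c hcT y hy hyp hcyp hcen
    refine hTE c hcT ?_
    have e : y * c = c * y * ⁅c⁻¹, y⁻¹⁆⁻¹ := by rw [commutatorElement_def]; group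
    have hcen' : ∀ q ∈ Q, ⁅c⁻¹, y⁻¹⁆⁻¹ * q = q * ⁅c⁻¹, y⁻¹⁆⁻¹ := fun q hq =>
      ((Commute.inv_left (hcen q hq))).eq
    obtain ⟨e1, e2⟩ := pow_mul_eq_of_central_step e (hcen' c (hTQ hcT)) (hcen' y hy) p
    rw [hyp, one_mul, mul_one] at e1
    have hcp : ⁅c⁻¹, y⁻¹⁆⁻¹ ^ p = 1 := left_eq_mul.mp e1
    obtain ⟨k, hk⟩ := hp.out.dvd_choose_self two_ne_zero (lt_of_le_of_ne hp.out.two_le (Ne.symm hodd))
    rw [hcyp, hyp, mul_one, hk, pow_mul, hcp, one_pow, mul_one] at e2
    exact e2.symm
  have hclass : ∀ n, ∀ t ∈ T, t ∈ Subgroup.upperCentralSeries R n → ∀ y ∈ Q, y ^ p = 1 →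
      ∀ q ∈ Q, ⁅t, y⁆ * q = q * ⁅t, y⁆ := by
    intro n
    induction n with
    | zero =>
      intro t _ ht y _ _ q _
      rw [Subgroup.upperCentralSeries_zero, mem_bot] at ht
      simp [ht]
    | succ n ih =>
      intro t htT ht y hy hyp q hq
      refine hEQ _ (key _ ?_ y hy hyp ?_ ?_) q hq
      · have := hcomT t (hTQ htT) y
        exact this
      · have : ⁅t, y⁆ * y = t * y * t⁻¹ := by rw [commutatorElement_def]; group
        rw [this, conj_pow, hyp]; group
      · have hcT : ⁅t, y⁆⁻¹ ∈ T := T.inv_mem (hcomT t (hTQ htT) y)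
        refine ih _ hcT ?_ y⁻¹ (Q.inv_mem hy) (by rw [inv_pow, hyp, inv_one])
        exact inv_mem (Subgroup.mem_upperCentralSeries_succ_iff.mp ht y)
  have hcentral : ∀ g : R, ⁅g, x⁆ ∈ E := by
    intro g
    have hcT : ⁅g, x⁆ ∈ T := by
      rw [← commutatorElement_inv x g]
      exact T.inv_mem (hcomT x hxQ g)
    refine key _ hcT x hxQ hxp ?_ ?_
    · have : ⁅g, x⁆ * x = g * x * g⁻¹ := by rw [commutatorElement_def]; group
      rw [this, conj_pow, hxp]; group
    · obtain ⟨n, hn⟩ := Group.IsNilpotent.nilpotent R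
      exact hclass n _ (T.inv_mem hcT) (hn ▸ mem_top _) x⁻¹ (Q.inv_mem hxQ) (by rw [inv_pow, hxp, inv_one])
  let F := closure (insert x (E : Set R))
  have hcom : ∀ u ∈ E, u * x = x * u := fun u hu => hEQ u hu x hxQ
  have hFa : IsMulCommutative F := by
    refine Subgroup.isMulCommutative_closure ?_
    intro a ha b hb
    rcases Set.mem_insert_iff.mp ha with h1 | h1 <;> rcases Set.mem_insert_iff.mp hb with h2 | h2
    · rw [h1, h2]
    · rw [h1]; exact (hcom b h2).symm
    · rw [h2]; exact hcom a h1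
    · exact congrArg Subtype.val (hE.1.is_comm.comm ⟨a, h1⟩ ⟨b, h2⟩)
  refine ⟨F, ⟨?_⟩, ⟨hFa, ?_⟩, ?_⟩
  · intro k hk g
    refine closure_conj_invariant (a := g) ?_ k hk
    intro z hz
    rcases Set.mem_insert_iff.mp hz with rfl | hz
    · have : g * z * g⁻¹ = ⁅g, z⁆ * z := by rw [commutatorElement_def]; group
      rw [this]
      exact mul_mem (subset_closure (Set.mem_insert_of_mem _ (hcentral g))) (subset_closure (Set.mem_insert _ _))
    · exact subset_closure (Set.mem_insert_of_mem _ (Subgroup.Normal.conj_mem inferInstance z hz g))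
  · intro a ha
    induction ha using closure_induction with
    | mem z hz =>
      rcases Set.mem_insert_iff.mp hz with rfl | hz
      · exact hxp
      · exact hE.2 z hz
    | one => exact one_pow p
    | mul a b ha hb iha ihb =>
      have hab : Commute a b := congrArg Subtype.val (hFa.is_comm.comm ⟨a, ha⟩ ⟨b, hb⟩)
      rw [hab.mul_pow, iha, ihb, one_mul]
    | inv a ha iha => rw [inv_pow, iha, inv_one]
  · refine SetLike.lt_iff_le_and_exists.mpr ⟨fun e he => subset_closure (Set.mem_insert_of_mem _ he), x, ?_, hxE⟩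
    exact subset_closure (Set.mem_insert _ _)

/-- The centraliser of a normal subgroup of order `p ^ 2` has index dividing `p`. -/
theorem index_centralizer_dvd_of_card_sq [Finite R] {p : ℕ} [hp : Fact p.Prime] (hR : IsPGroup p R)
    (E : Subgroup R) [E.Normal] (hE : Cfsg.IsElementaryAbelian p E) (hE2 : Nat.card E = p ^ 2) :
    (centralizer (E : Set R)).index ∣ p := by
  haveI : Group.IsNilpotent R := hR.isNilpotent
  have hEb : ¬ E ≤ ⊥ := by
    intro h
    rw [le_bot_iff] at h
    rw [h, card_bot] at hE2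
    exact absurd hE2.symm (Nat.one_lt_pow two_ne_zero hp.out.one_lt).ne'
  obtain ⟨z, hzE, hz1, hzc⟩ := exists_central_step E ⊥ hEb
  have hzcomm : ∀ g : R, Commute z g := fun g =>
    commutatorElement_eq_one_iff_commute.mp (mem_bot.mp (hzc g))
  let Z := zpowers z
  have hz1' : z ≠ 1 := fun h => hz1 (h ▸ one_mem _)
  have hcard : Nat.card Z = p := by
    rw [Nat.card_zpowers]
    exact ((Nat.dvd_prime hp.out).mp (orderOf_dvd_iff_pow_eq_one.mpr (hE.2 z hzE))).resolve_left
      (fun h => hz1' (orderOf_eq_one_iff.mp h))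
  have hEZ : ¬ E ≤ Z := fun h => by
    have h1 := Subgroup.card_le_of_le h
    rw [hcard, hE2] at h1
    have := hp.out.one_lt
    nlinarith
  haveI : Z.Normal := ⟨fun a ha g => by
    obtain ⟨k, rfl⟩ := mem_zpowers_iff.mp ha
    have : g * z ^ k * g⁻¹ = z ^ k := by rw [((hzcomm g).zpow_left k).symm.eq]; group
    rw [this]; exact zpow_mem (mem_zpowers z) k⟩
  obtain ⟨e, heE, heZ, hec⟩ := exists_central_step E Z hEZ
  have hZc : ∀ u ∈ Z, ∀ g : R, Commute u g := by
    intro u hu g
    obtain ⟨k, rfl⟩ := mem_zpowers_iff.mp hu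
    exact (hzcomm g).zpow_left k
  let f : R →* Z := MonoidHom.mk' (fun g => ⟨⁅e, g⁆, hec g⟩) (by
    intro g g'
    ext
    show ⁅e, g * g'⁆ = ⁅e, g⁆ * ⁅e, g'⁆
    have h1 : ⁅e, g * g'⁆ = ⁅e, g⁆ * (g * ⁅e, g'⁆ * g⁻¹) := by
      simp only [commutatorElement_def]; group
    have h2 : g * ⁅e, g'⁆ * g⁻¹ = ⁅e, g'⁆ := by rw [(hZc _ (hec g') g).symm.eq]; group
    rw [h1, h2])
  have hker : f.ker ≤ centralizer (E : Set R) := by
    intro g hg
    have hge : Commute e g := commutatorElement_eq_one_iff_commute.mp (congrArg Subtype.val hg)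
    refine mem_centralizer_iff.mpr ?_
    have hEgen : E ≤ centralizer ({g} : Set R) := by
      have hsub : Z ⊔ zpowers e ≤ E :=
        sup_le (zpowers_le.mpr hzE) (zpowers_le.mpr heE)
      have heq : Z ⊔ zpowers e = E := by
        refine Subgroup.eq_of_le_of_card_ge hsub ?_
        obtain ⟨m, hm⟩ := IsPGroup.iff_card.mp (hR.to_subgroup (Z ⊔ zpowers e))
        have hlt : Nat.card Z < Nat.card ↥(Z ⊔ zpowers e) :=
          lt_of_le_of_ne (Subgroup.card_le_of_le le_sup_left) (fun h => heZ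
            ((Subgroup.eq_of_le_of_card_ge le_sup_left h.ge).symm ▸ (le_sup_right (a := Z) (mem_zpowers e))))
        rw [hcard, hm] at hlt
        rw [hE2, hm]
        refine Nat.pow_le_pow_right hp.out.pos ?_
        by_contra h2
        have : p ^ m ≤ p ^ 1 := Nat.pow_le_pow_right hp.out.pos (by omega)
        rw [pow_one] at this
        omega
      rw [← heq]
      refine sup_le (fun u hu => mem_centralizer_singleton_iff.mpr (hZc u hu g).eq)
        (zpowers_le.mpr (mem_centralizer_singleton_iff.mpr hge.eq))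
    exact fun u hu => (mem_centralizer_singleton_iff.mp (hEgen hu))
  have h1 : f.ker.index ∣ p := by
    rw [index_ker]
    exact hcard ▸ Subgroup.card_subgroup_dvd_card f.range
  exact dvd_trans (index_dvd_of_le hker) h1

/-- BG 5.2: a normal elementary abelian subgroup of order `p ^ 2` lies in a member of `SCN₃`. -/
theorem normal_sq_le_scn_three [Finite R] (p : ℕ) [hp : Fact p.Prime] (hodd : p ≠ 2) (hR : IsPGroup p R)
    (hr : ¬ Cfsg.PRankLE p 2 R) (E : Subgroup R) [E.Normal] (hE : Cfsg.IsElementaryAbelian p E)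
    (hE2 : Nat.card E = p ^ 2) :
    ∃ A : Subgroup R, E ≤ A ∧ A.Normal ∧ centralizer (A : Set R) = A ∧ ¬ Cfsg.PRankLE p 2 A := by
  haveI : Group.IsNilpotent R := hR.isNilpotent
  simp only [Cfsg.PRankLE, not_forall, not_le] at hr
  obtain ⟨B, hBa, hBp, hB⟩ := hr
  obtain ⟨x, hx, hxp, hxE⟩ : ∃ x ∈ centralizer (E : Set R), x ^ p = 1 ∧ x ∉ E := by
    by_contra hcon
    push Not at hcon
    have hBC : B ⊓ centralizer (E : Set R) ≤ E := fun b hb => hcon b hb.2 (hBp b hb.1)
    have hidx := index_centralizer_dvd_of_card_sq hR E hE hE2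
    have h3 : (centralizer (E : Set R)).relIndex B ≤ p := by
      refine le_trans ?_ (Nat.le_of_dvd hp.out.pos hidx)
      exact Subgroup.relIndex_le_of_le_right le_top (by rw [relIndex_top_right]; exact index_ne_zero_of_finite)
        |>.trans_eq (relIndex_top_right _)
    have h4 : Nat.card B = Nat.card ↥(B ⊓ centralizer (E : Set R)) * (centralizer (E : Set R)).relIndex B := by
      rw [← Subgroup.inf_relIndex_left B (centralizer (E : Set R))]
      rw [← relIndex_bot_left, ← relIndex_bot_left]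
      exact (relIndex_mul_relIndex ⊥ _ _ bot_le inf_le_left).symm
    have hlt : Nat.card ↥(B ⊓ centralizer (E : Set R)) < p ^ 2 ∨ B ⊓ centralizer (E : Set R) = E := by
      rcases (Subgroup.card_le_of_le hBC).lt_or_eq with h | h
      · exact Or.inl (hE2 ▸ h)
      · exact Or.inr (Subgroup.eq_of_le_of_card_ge hBC h.ge)
    rcases hlt with hlt | heq
    · obtain ⟨m, hm⟩ := IsPGroup.iff_card.mp (hR.to_subgroup (B ⊓ centralizer (E : Set R)))
      rw [hm] at hlt h4
      have hm1 : m ≤ 1 := by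
        by_contra hm2
        exact absurd hlt (not_lt.mpr (Nat.pow_le_pow_right hp.out.pos (by omega)))
      have : p ^ m ≤ p := by simpa using Nat.pow_le_pow_right hp.out.pos hm1
      have := Nat.mul_le_mul this h3
      rw [← h4] at this
      nlinarith
    · have hEB : E ≤ B := heq ▸ inf_le_left
      have hBE : B ≤ E := fun b hb => hBC ⟨hb, mem_centralizer_iff.mpr fun e he =>
        congrArg Subtype.val (hBa.is_comm.comm ⟨e, hEB he⟩ ⟨b, hb⟩)⟩
      have := Subgroup.card_le_of_le hBE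
      omega
  obtain ⟨F, hFn, hFe, hEF⟩ := exists_normal_elementary_gt hodd hR E hE x hx hxp hxE
  obtain ⟨A, hFA, hAn, -, hAc⟩ := exists_normal_abelian_self_centralizing F hFn hFe.1
  refine ⟨A, hEF.le.trans hFA, hAn, hAc, ?_⟩
  intro hr2
  have h1 := hr2 (F.subgroupOf A) ?_ ?_
  · rw [Nat.card_congr (Subgroup.subgroupOfEquivOfLe hFA).toEquiv] at h1
    have h2 : Nat.card E < Nat.card F :=
      lt_of_le_of_ne (Subgroup.card_le_of_le hEF.le) (fun h => hEF.ne (Subgroup.eq_of_le_of_card_ge hEF.le h.ge))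
    omega
  · refine ⟨⟨fun a b => Subtype.ext (Subtype.ext ?_)⟩⟩
    simpa using congrArg Subtype.val (hFe.1.is_comm.comm ⟨((a : A) : R), a.2⟩ ⟨((b : A) : R), b.2⟩)
  · intro a ha
    exact Subtype.ext (by simpa using hFe.2 (a : R) ha)

end CfsgLib.OddOrder41
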