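import Mathlib.LinearAlgebra.Determinant
import Mathlib.LinearAlgebra.FiniteDimensional.Lemmas
import Mathlib.GroupTheory.Solvable
import Mathlib.GroupTheory.Abelianization.Defs
import Mathlib.GroupTheory.QuotientGroup.Basic
import Mathlib.GroupTheory.OrderOfElement
import Mathlib.Algebra.CharP.Lemmas
import Cfsg.Agent.Lib.Coprime.SchurZassenhaus

set_option autoImplicit false

/-! Solvable groups of odd order acting on a plane: commutative, or with a common eigenvector. -/

namespace CfsgLib.OddOrder41

open scoped commutatorElement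

variable {F V : Type*} [Field F] [AddCommGroup V] [Module F V]

theorem plane_coord_unique {v u : V} (hv : v ≠ 0) (hu : ∀ c : F, u ≠ c • v) {x y : F}
    (h : x • v + y • u = 0) : x = 0 ∧ y = 0 := by
  by_cases hy : y = 0
  · rw [hy, zero_smul, add_zero, smul_eq_zero] at h
    exact ⟨h.resolve_right hv, hy⟩
  · exfalso
    refine hu (-(y⁻¹ * x)) ?_
    have h1 : y • u = -(x • v) := eq_neg_of_add_eq_zero_right h
    calc u = y⁻¹ • (y • u) := (inv_smul_smul₀ hy u).symm
      _ = _ := by rw [h1, smul_neg, smul_smul, neg_smul]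

theorem plane_coord_exists (hd : Module.finrank F V = 2) {v u : V} (hv : v ≠ 0)
    (hu : ∀ c : F, u ≠ c • v) (z : V) : ∃ x y : F, z = x • v + y • u := by
  have : FiniteDimensional F V := FiniteDimensional.of_finrank_eq_succ hd
  have hli : LinearIndependent F ![v, u] :=
    LinearIndependent.pair_iff.mpr fun s t h => plane_coord_unique hv hu h
  have hspan := hli.span_eq_top_of_card_eq_finrank (by simp [hd])
  have hz : z ∈ Submodule.span F (Set.range ![v, u]) := hspan ▸ Submodule.mem_top
  rw [Matrix.range_cons, Matrix.range_cons, Matrix.range_empty, Set.union_empty, Set.singleton_union,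
    Submodule.mem_span_pair] at hz
  obtain ⟨x, y, h⟩ := hz
  exact ⟨x, y, h.symm⟩

theorem plane_exists_indep (hd : Module.finrank F V = 2) (v : V) : ∃ u : V, ∀ c : F, u ≠ c • v := by
  by_contra h
  push Not at h
  have : Module.finrank F V ≤ 1 := finrank_le_one v (fun u => by
    obtain ⟨c, hc⟩ := h u
    exact ⟨c, hc.symm⟩)
  omega

/-- an endomorphism of a plane with three eigenlines is scalar: used in the form "two eigenlines only". -/
theorem eigenline_two (hd : Module.finrank F V = 2) (a : Module.End F V) (hns : ∀ c : F, a ≠ c • 1)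
    {v w : V} (hv : v ≠ 0) {α β : F} (ha : a v = α • v) (hb : a w = β • w) (hw : ∀ c : F, w ≠ c • v)
    {u : V} {γ : F} (hu : a u = γ • u) : (∃ c : F, u = c • v) ∨ ∃ c : F, u = c • w := by
  obtain ⟨x, y, rfl⟩ := plane_coord_exists hd hv hw u
  have h0 : (x * α - γ * x) • v + (y * β - γ * y) • w = 0 := by
    rw [map_add, map_smul, map_smul, ha, hb, smul_add, smul_smul, smul_smul, smul_smul, smul_smul] at hu
    rw [sub_smul, sub_smul]
    linear_combination (norm := module) hu
  obtain ⟨h1, h2⟩ := plane_coord_unique hv hw h0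
  by_cases hx : x = 0
  · exact Or.inr ⟨y, by simp [hx]⟩
  by_cases hy : y = 0
  · exact Or.inl ⟨x, by simp [hy]⟩
  exfalso
  have hαγ : α = γ := mul_left_cancel₀ hx (by linear_combination h1)
  have hβγ : β = γ := mul_left_cancel₀ hy (by linear_combination h2)
  refine hns γ (LinearMap.ext fun z => ?_)
  obtain ⟨s, t, rfl⟩ := plane_coord_exists hd hv hw z
  rw [map_add, map_smul, map_smul, ha, hb, hαγ, hβγ, LinearMap.smul_apply, Module.End.one_apply]
  module

/-- BG 2.6: a solvable group of odd order acting faithfully on a plane is commutative or fixes a line. -/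
theorem odd_plane_comm_or_eigen (h2 : (2 : F) ≠ 0) (hd : Module.finrank F V = 2)
    {H : Type*} [Group H] [Finite H] [Group.IsSolvable H] (hodd : Odd (Nat.card H))
    (ρ : H →* Module.End F V) (hinj : Function.Injective ρ) :
    (∀ g h : H, g * h = h * g) ∨ ∃ v : V, v ≠ 0 ∧ ∀ h : H, ∃ c : F, ρ h v = c • v := by
  classical
  have hFD : FiniteDimensional F V := FiniteDimensional.of_finrank_eq_succ hd
  have hinv : ∀ h : H, ρ h * ρ h⁻¹ = 1 := fun h => by rw [← map_mul, mul_inv_cancel, map_one]
  have hinjV : ∀ (h : H) (z : V), ρ h z = 0 → z = 0 := by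
    intro h z hz
    have := congrArg (fun f : Module.End F V => f z) (hinv h⁻¹)
    simpa [inv_inv, hz] using this.symm
  have hsq : ∀ g : H, ∃ k : ℕ, g = (g ^ 2) ^ k := by
    intro g
    obtain ⟨m, hm⟩ := hodd
    refine ⟨m + 1, ?_⟩
    rw [← pow_mul, show 2 * (m + 1) = Nat.card H + 1 by omega, pow_succ, pow_card_eq_one', one_mul]
  by_cases hsc : ∀ A : Subgroup H, A.Normal → IsMulCommutative A → ∀ a ∈ A, ∃ c : F, ρ a = c • 1
  · left
    by_contra hnc
    have hcen : ∀ a : H, (∃ c : F, ρ a = c • 1) → a ∈ Subgroup.center H := by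
      rintro a ⟨c, hc⟩
      rw [Subgroup.mem_center_iff]
      intro g
      apply hinj
      rw [map_mul, map_mul, hc, smul_mul_assoc, mul_smul_comm, one_mul, mul_one]
    haveI : Nontrivial (H ⧸ Subgroup.center H) := by
      refine QuotientGroup.nontrivial_iff.mpr fun htop => hnc fun g h => ?_
      exact (Subgroup.mem_center_iff.mp (htop ▸ Subgroup.mem_top h) g)
    obtain ⟨M, hMn, hMc, hM1, -⟩ := CfsgLib.Coprime.exists_normal_abelian_le
      (⊤ : Subgroup (H ⧸ Subgroup.center H)) inferInstance top_ne_bot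
    let N := M.comap (QuotientGroup.mk' (Subgroup.center H))
    have hNc : IsMulCommutative N := by
      refine ⟨⟨fun a b => Subtype.ext ?_⟩⟩
      have hcz : ⁅(a : H), (b : H)⁆ ∈ Subgroup.center H := by
        rw [← QuotientGroup.eq_one_iff]
        show QuotientGroup.mk' _ ⁅(a : H), (b : H)⁆ = 1
        rw [map_commutatorElement, commutatorElement_eq_one_iff_commute]
        exact congrArg Subtype.val (hMc.is_comm.comm ⟨_, a.2⟩ ⟨_, b.2⟩)
      obtain ⟨c, hc⟩ := hsc (Subgroup.center H) inferInstance inferInstance _ hcz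
      have hab : ρ ((a : H) * b) = c • ρ ((b : H) * a) := by
        have e : (a : H) * b = ⁅(a : H), (b : H)⁆ * ((b : H) * a) := by rw [commutatorElement_def]; group
        rw [e, map_mul _ ⁅(a : H), (b : H)⁆, hc, smul_mul_assoc, one_mul]
      have hdet := congrArg LinearMap.det hab
      rw [LinearMap.det_smul, hd, map_mul, map_mul, map_mul, map_mul, mul_comm (LinearMap.det (ρ a))] at hdet
      have hne : LinearMap.det (ρ b) * LinearMap.det (ρ a) ≠ 0 := by
        rw [← map_mul, ← map_mul]
        intro h0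
        have := congrArg LinearMap.det (hinv ((b : H) * a))
        rw [map_mul, h0, zero_mul, map_one] at this
        exact zero_ne_one this
      have hc2 : c ^ 2 = 1 := (mul_eq_right₀ hne).mp hdet.symm
      have hsq1 : ⁅(a : H), (b : H)⁆ ^ 2 = 1 := by
        apply hinj
        rw [map_pow, hc, smul_pow, one_pow, hc2, one_smul, map_one]
      have hone : ⁅(a : H), (b : H)⁆ = 1 := by
        obtain ⟨k, hk⟩ := hsq ⁅(a : H), (b : H)⁆
        rw [hk, hsq1, one_pow]
      exact commutatorElement_eq_one_iff_commute.mp hone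
    apply hM1
    rw [eq_bot_iff]
    intro m hm
    obtain ⟨x, rfl⟩ := QuotientGroup.mk'_surjective (Subgroup.center H) m
    exact (QuotientGroup.eq_one_iff x).mpr (hcen x (hsc N inferInstance hNc x hm))
  push Not at hsc
  obtain ⟨A, hAn, hAc, a, haA, hans⟩ := hsc
  have hAcomm : ∀ b ∈ A, ρ a * ρ b = ρ b * ρ a := fun b hb => by
    rw [← map_mul, ← map_mul]
    exact congrArg ρ (congrArg Subtype.val (hAc.is_comm.comm ⟨a, haA⟩ ⟨b, hb⟩))
  have hconjA : ∀ g : H, g * a * g⁻¹ ∈ A := fun g => hAn.conj_mem a haA g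
  by_cases heig : ∃ v : V, v ≠ 0 ∧ ∃ α : F, ρ a v = α • v
  · obtain ⟨v₀, hv₀, α₀, hα₀⟩ := heig
    -- lines through eigenvectors of `a` are invariant under `A`
    have hline : ∀ b ∈ A, ∀ v : V, v ≠ 0 → ∀ α : F, ρ a v = α • v → ∃ c : F, ρ b v = c • v := by
      intro b hb v hv α hα
      by_contra hne
      push Not at hne
      refine hans α (LinearMap.ext fun z => ?_)
      obtain ⟨x, y, rfl⟩ := plane_coord_exists hd hv hne z
      have hbv : ρ a (ρ b v) = α • ρ b v := by
        rw [← Module.End.mul_apply, hAcomm b hb, Module.End.mul_apply, hα, map_smul]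
      rw [map_add, map_smul, map_smul, hα, hbv, LinearMap.smul_apply, Module.End.one_apply]
      module
    have himg : ∀ (g : H) (v : V), v ≠ 0 → (∃ α : F, ρ a v = α • v) → ∃ β : F, ρ a (ρ g v) = β • ρ g v := by
      rintro g v hv ⟨α, hα⟩
      obtain ⟨c, hc⟩ := hline _ (hconjA g⁻¹) v hv α hα
      refine ⟨c, ?_⟩
      have e : a * g = g * (g⁻¹ * a * g⁻¹⁻¹) := by group
      rw [← Module.End.mul_apply, ← map_mul, e, map_mul, Module.End.mul_apply, hc, map_smul]
    right
    refine ⟨v₀, hv₀, fun g => ?_⟩
    by_contra hne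
    push Not at hne
    obtain ⟨β, hβ⟩ := himg g v₀ hv₀ ⟨α₀, hα₀⟩
    obtain ⟨γ, hγ⟩ := himg (g ^ 2) v₀ hv₀ ⟨α₀, hα₀⟩
    rcases eigenline_two hd (ρ a) hans hv₀ hα₀ hβ hne hγ with ⟨c, hc⟩ | ⟨c, hc⟩
    · obtain ⟨k, hk⟩ := hsq g
      have hpow : ∀ j : ℕ, ρ ((g ^ 2) ^ j) v₀ = c ^ j • v₀ := by
        intro j
        induction j with
        | zero => simp
        | succ j ih => rw [pow_succ, map_mul, Module.End.mul_apply, hc, map_smul, ih, smul_smul, pow_succ']
      exact hne (c ^ k) (hk ▸ hpow k)
    · refine hne c ?_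
      have h : ρ g (ρ g v₀ - c • v₀) = 0 := by
        rw [map_sub, map_smul, ← Module.End.mul_apply, ← map_mul, ← pow_two, hc, sub_self]
      exact sub_eq_zero.mp (hinjV g _ h)
  · left
    push Not at heig
    obtain ⟨v, hv⟩ : ∃ v : V, v ≠ 0 := by
      haveI : Nontrivial V := Module.nontrivial_of_finrank_eq_succ hd
      exact exists_ne 0
    have hind : ∀ c : F, ρ a v ≠ c • v := heig v hv
    have hpoly : ∀ b : Module.End F V, ρ a * b = b * ρ a → ∃ x y : F, b = x • 1 + y • ρ a := by
      intro b hb
      obtain ⟨x, y, hxy⟩ := plane_coord_exists hd hv hind (b v)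
      refine ⟨x, y, LinearMap.ext fun z => ?_⟩
      obtain ⟨s, t, rfl⟩ := plane_coord_exists hd hv hind z
      have hbav : b (ρ a v) = ρ a (b v) := by
        rw [← Module.End.mul_apply, ← hb, Module.End.mul_apply]
      simp only [map_add, map_smul, hbav, hxy, LinearMap.add_apply, LinearMap.smul_apply, Module.End.one_apply]
    obtain ⟨t, s, hquad⟩ := plane_coord_exists hd hv hind (ρ a (ρ a v))
    have hdisc : s * s + 4 * t ≠ 0 := by
      obtain ⟨u, rfl⟩ : ∃ u : F, s = u + u := ⟨s / 2, by field_simp; ring⟩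
      intro h0
      refine heig (ρ a v - u • v) ?_ u ?_
      · intro hz; exact hind u (sub_eq_zero.mp hz)
      · rw [map_sub, map_smul, hquad]
        have e : t = -(u * u) := by
          have h4 : (4 : F) * (t + u * u) = 0 := by linear_combination h0
          have : (4 : F) ≠ 0 := by rw [show (4 : F) = 2 * 2 by norm_num]; exact mul_ne_zero h2 h2
          exact eq_neg_of_add_eq_zero_left ((mul_eq_zero.mp h4).resolve_left this)
        rw [e]
        module
    have hconj2 : ∀ g : H, ρ (g * a * g⁻¹) = ρ a ∨ ρ (g * a * g⁻¹) = s • 1 - ρ a := by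
      intro g
      obtain ⟨x, y, hxy⟩ := hpoly (ρ (g * a * g⁻¹)) (hAcomm _ (hconjA g))
      have hsq' : ρ a * ρ a = t • 1 + s • ρ a := LinearMap.ext fun z => by
        obtain ⟨p, q, rfl⟩ := plane_coord_exists hd hv hind z
        simp only [map_add, map_smul, Module.End.mul_apply, hquad, LinearMap.add_apply, LinearMap.smul_apply,
          Module.End.one_apply]
      have hb2 : ρ (g * a * g⁻¹) * ρ (g * a * g⁻¹) = t • 1 + s • ρ (g * a * g⁻¹) := by
        calc ρ (g * a * g⁻¹) * ρ (g * a * g⁻¹) = ρ g * (ρ a * ρ a) * ρ g⁻¹ := by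
              rw [← map_mul, ← map_mul, ← map_mul, ← map_mul]; congr 1; group
          _ = _ := by
              rw [hsq', mul_add, add_mul, mul_smul_comm, mul_smul_comm, mul_one, smul_mul_assoc,
                smul_mul_assoc, hinv g, map_mul, map_mul]
      rw [hxy] at hb2
      have hv2 := congrArg (fun f : Module.End F V => f v) hb2
      simp only [Module.End.mul_apply, LinearMap.add_apply, LinearMap.smul_apply, Module.End.one_apply,
        map_add, map_smul, hquad] at hv2
      have h0 : (x * x + y * (y * t) - (t + s * x)) • v + (x * y + y * (x + y * s) - s * y) • ρ a v = 0 := by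
        linear_combination (norm := module) hv2
      obtain ⟨e1, e2⟩ := plane_coord_unique hv hind h0
      have hy : y ≠ 0 := by
        intro hy
        rw [hy, zero_smul, add_zero] at hxy
        refine hans x ?_
        calc ρ a = ρ g⁻¹ * ρ (g * a * g⁻¹) * ρ g := by rw [← map_mul, ← map_mul]; congr 1; group
          _ = x • 1 := by rw [hxy, mul_smul_comm, mul_one, smul_mul_assoc, ← map_mul, inv_mul_cancel, map_one]
      have e2' : 2 * x + y * s - s = 0 := by
        apply (mul_eq_zero.mp (show y * (2 * x + y * s - s) = 0 by linear_combination e2)).resolve_left hy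
      have e3 : (y * y - 1) * (s * s + 4 * t) = 0 := by
        linear_combination 4 * e1 - (2 * x - y * s - s) * e2'
      rcases mul_eq_zero.mp e3 with h | h
      · rcases mul_self_eq_one_iff.mp (sub_eq_zero.mp h) with hy1 | hy1
        · have : x = 0 := by
            apply (mul_eq_zero.mp (show 2 * x = 0 by rw [hy1] at e2'; linear_combination e2')).resolve_left h2
          left; rw [hxy, this, hy1, zero_smul, one_smul, zero_add]
        · have : x = s := by
            apply sub_eq_zero.mp
            apply (mul_eq_zero.mp (show 2 * (x - s) = 0 by rw [hy1] at e2'; linear_combination e2')).resolve_left h2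
          right; rw [hxy, this, hy1, neg_one_smul, ← sub_eq_add_neg]
      · exact absurd h hdisc
    have hcomm : ∀ g : H, ρ a * ρ g = ρ g * ρ a := by
      have hfix2 : ∀ g : H, ρ (g ^ 2 * a * (g ^ 2)⁻¹) = ρ a := by
        intro g
        have e : ρ (g ^ 2 * a * (g ^ 2)⁻¹) = ρ g * ρ (g * a * g⁻¹) * ρ g⁻¹ := by
          rw [← map_mul, ← map_mul, pow_two, mul_inv_rev]; simp only [mul_assoc]
        rcases hconj2 g with h | h
        · rw [e, h, ← map_mul, ← map_mul, h]
        · rw [e, h, mul_sub, sub_mul, mul_smul_comm, mul_one, smul_mul_assoc, hinv g, ← map_mul, ← map_mul, h]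
          abel
      intro g
      obtain ⟨k, hk⟩ := hsq g
      have hp2 : Commute (g ^ 2) a := by
        have := hinj (hfix2 g)
        calc g ^ 2 * a = (g ^ 2 * a * (g ^ 2)⁻¹) * g ^ 2 := by group
          _ = a * g ^ 2 := by rw [this]
      have := (hp2.pow_left k).eq
      rw [← hk] at this
      rw [← map_mul, ← map_mul, this]
    intro g h
    obtain ⟨x, y, hg⟩ := hpoly (ρ g) (hcomm g)
    apply hinj
    rw [map_mul, map_mul, hg, add_mul, mul_add, smul_mul_assoc, smul_mul_assoc, mul_smul_comm, mul_smul_comm,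
      one_mul, mul_one, hcomm h]

/-- The derived subgroup of a solvable group of odd order acts unipotently on a plane. -/
theorem odd_plane_commutator_unipotent (h2 : (2 : F) ≠ 0) (hd : Module.finrank F V = 2)
    {H : Type*} [Group H] [Finite H] [Group.IsSolvable H] (hodd : Odd (Nat.card H))
    (ρ : H →* Module.End F V) :
    ∀ x ∈ commutator H, (ρ x - 1) * (ρ x - 1) = 0 := by
  classical
  let ρu := ρ.toHomUnits
  have hker : ∀ h, h ∈ ρu.ker ↔ ρ h = 1 := fun h => by
    rw [MonoidHom.mem_ker, ← Units.val_inj]; rfl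
  let ρ' : H ⧸ ρu.ker →* Module.End F V := (Units.coeHom _).comp (QuotientGroup.kerLift ρu)
  have hmk : ∀ h : H, ρ' (QuotientGroup.mk h) = ρ h := fun h => rfl
  have hinj : Function.Injective ρ' := Units.val_injective.comp (QuotientGroup.kerLift_injective ρu)
  have hodd' : Odd (Nat.card (H ⧸ ρu.ker)) :=
    hodd.of_dvd_nat (Subgroup.card_quotient_dvd_card _)
  rcases odd_plane_comm_or_eigen h2 hd hodd' ρ' hinj with hc | ⟨v, hv, hev⟩
  · intro x hx
    have : commutator H ≤ ρu.ker := by
      rw [commutator_def, Subgroup.commutator_le]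
      intro g _ h _
      rw [hker, ← hmk]
      have : (QuotientGroup.mk ⁅g, h⁆ : H ⧸ ρu.ker) = 1 := by
        show QuotientGroup.mk' ρu.ker ⁅g, h⁆ = 1
        rw [map_commutatorElement, commutatorElement_eq_one_iff_commute]
        exact hc _ _
      rw [this, map_one]
    rw [(hker x).mp (this hx), sub_self, zero_mul]
  · obtain ⟨w, hw⟩ := plane_exists_indep hd v
    let K : Subgroup H := {
      carrier := {h | ρ h v = v ∧ ∃ c : F, ρ h w = w + c • v}
      one_mem' := ⟨by simp, 0, by simp⟩
      mul_mem' := by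
        rintro g h ⟨hg, cg, hgw⟩ ⟨hh, ch, hhw⟩
        refine ⟨?_, cg + ch, ?_⟩
        · rw [map_mul, Module.End.mul_apply, hh, hg]
        · rw [map_mul, Module.End.mul_apply, hhw, map_add, map_smul, hg, hgw]; module
      inv_mem' := by
        rintro g ⟨hg, cg, hgw⟩
        have e : ∀ z, ρ g⁻¹ (ρ g z) = z := fun z => by
          rw [← Module.End.mul_apply, ← map_mul, inv_mul_cancel, map_one, Module.End.one_apply]
        have e1 : ρ g⁻¹ v = v := by
          conv_lhs => rw [← hg]
          exact e v
        refine ⟨e1, -cg, ?_⟩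
        have e2 := e w
        rw [hgw, map_add, map_smul, e1] at e2
        linear_combination (norm := module) e2 }
    have hK : commutator H ≤ K := by
      rw [commutator_def, Subgroup.commutator_le]
      intro g _ h _
      obtain ⟨lg, hlg⟩ := hev (QuotientGroup.mk g)
      obtain ⟨lh, hlh⟩ := hev (QuotientGroup.mk h)
      rw [hmk] at hlg hlh
      obtain ⟨ag, mg, hmg⟩ := plane_coord_exists hd hv hw (ρ g w)
      obtain ⟨ah, mh, hmh⟩ := plane_coord_exists hd hv hw (ρ h w)
      have hcomm : ∀ z, ρ ⁅g, h⁆ (ρ (h * g) z) = ρ (g * h) z := fun z => by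
        rw [← Module.End.mul_apply, ← map_mul]
        congr 2
        rw [commutatorElement_def]; group
      have hnz : ∀ (k : H) (z : V), ρ k z = 0 → z = 0 := fun k z hz => by
        have := congrArg (fun f : Module.End F V => f z) (show ρ k⁻¹ * ρ k = 1 by
          rw [← map_mul, inv_mul_cancel, map_one])
        simpa [hz] using this.symm
      have hlg0 : lg ≠ 0 := fun h0 => hv (hnz g v (by rw [hlg, h0, zero_smul]))
      have hlh0 : lh ≠ 0 := fun h0 => hv (hnz h v (by rw [hlh, h0, zero_smul]))
      have hmul0 : ∀ (k : H) (l a m : F), l ≠ 0 → ρ k v = l • v → ρ k w = a • v + m • w → m ≠ 0 := by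
        intro k l a m hl hkv hkw hm
        have h0 : ρ k (w - (a / l) • v) = 0 := by
          rw [map_sub, map_smul, hkv, hkw, hm, zero_smul, add_zero, smul_smul, div_mul_cancel₀ _ hl, sub_self]
        exact hw _ (sub_eq_zero.mp (hnz k _ h0))
      have hmg0 := hmul0 g lg ag mg hlg0 hlg hmg
      have hmh0 := hmul0 h lh ah mh hlh0 hlh hmh
      have e1 := hcomm v
      simp only [map_mul, Module.End.mul_apply, hlg, hlh, map_smul, smul_smul] at e1
      rw [mul_comm lh lg] at e1
      have hcv : ρ ⁅g, h⁆ v = v := smul_right_injective V (mul_ne_zero hlg0 hlh0) e1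
      refine ⟨hcv, ?_⟩
      have e2 := hcomm w
      simp only [map_mul, Module.End.mul_apply, hmg, hmh, hlg, hlh, map_add, map_smul, hcv] at e2
      obtain ⟨p, q, hpq⟩ := plane_coord_exists hd hv hw (ρ ⁅g, h⁆ w)
      rw [hpq] at e2
      have h0 : (mg * ah + ag * lh + mg * mh * p - (mh * ag + ah * lg)) • v + (mg * mh * q - mg * mh) • w = 0 := by
        linear_combination (norm := module) e2
      have hq : q = 1 := by
        have := (plane_coord_unique hv hw h0).2
        exact mul_left_cancel₀ (mul_ne_zero hmg0 hmh0) (by linear_combination this)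
      exact ⟨p, by rw [hpq, hq, one_smul, add_comm]⟩
    intro x hx
    obtain ⟨hxv, c, hxw⟩ := hK hx
    refine LinearMap.ext fun z => ?_
    obtain ⟨p, q, rfl⟩ := plane_coord_exists hd hv hw z
    simp only [Module.End.mul_apply, LinearMap.sub_apply, Module.End.one_apply, map_add, map_smul, map_sub,
      hxv, hxw, LinearMap.zero_apply]
    module

/-- In characteristic `p`, commutators act with order dividing `p`. -/
theorem odd_plane_commutator_pow_char {p : ℕ} [hp : Fact p.Prime] [CharP F p] (hp2 : p ≠ 2)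
    (hd : Module.finrank F V = 2)
    {H : Type*} [Group H] [Finite H] [Group.IsSolvable H] (hodd : Odd (Nat.card H))
    (ρ : H →* Module.End F V) : ∀ x ∈ commutator H, ρ (x ^ p) = 1 := by
  intro x hx
  have h2 : (2 : F) ≠ 0 := Ring.two_ne_zero (by rw [ringChar.eq F p]; exact hp2)
  have hsq := odd_plane_commutator_unipotent h2 hd hodd ρ x hx
  haveI : Nontrivial V := Module.nontrivial_of_finrank_eq_succ hd
  haveI : CharP (Module.End F V) p := charP_of_injective_algebraMap (algebraMap F _).injective p
  have hz : (ρ x - 1) ^ p = 0 := by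
    obtain ⟨k, hk⟩ : ∃ k, p = 2 + k := ⟨p - 2, by have := hp.out.two_le; omega⟩
    rw [hk, pow_add, pow_two, hsq, zero_mul]
  rw [sub_pow_char_of_commute p (Commute.one_right (ρ x)), one_pow, sub_eq_zero] at hz
  rw [map_pow]
  exact hz

end CfsgLib.OddOrder41
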