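import Mathlib.GroupTheory.SpecificGroups.Cyclic
import Mathlib.FieldTheory.Finiteness
import Mathlib.Algebra.Field.ZMod
import Mathlib.Algebra.Module.ZMod
import Cfsg.Agent.Lib.OddOrder41.DimTwo
import Cfsg.Agent.Lib.OddOrder41.FixOmega
import Cfsg.Agent.Lib.OddOrder41.NormalElementary
import Cfsg.Agent.Lib.OddOrder.Rank
import Cfsg.Agent.Lib.PGroup.Class2
import Cfsg.Agent.Lib.PGroup.Critical

set_option autoImplicit false

/-! Solvable groups of odd order acting on a `p`-group of rank at most 2 (BG 4.17). -/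

namespace CfsgLib.OddOrder41

open scoped commutatorElement

variable {G : Type*} [Group G]

/-- Conjugation action of `A` on a subgroup `R` it normalises. -/
def conjHom (R A : Subgroup G) (hA : A ≤ Subgroup.normalizer (R : Set G)) : A →* MulAut R where
  toFun a :=
    { toFun := fun r => ⟨a * r * (a : G)⁻¹, (Subgroup.mem_normalizer_iff.mp (hA a.2) r).mp r.2⟩
      invFun := fun r => ⟨(a : G)⁻¹ * r * a, by
        have := (Subgroup.mem_normalizer_iff.mp (hA (A.inv_mem a.2)) r).mp r.2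
        simpa using this⟩
      left_inv := fun r => Subtype.ext (by simp [mul_assoc])
      right_inv := fun r => Subtype.ext (by simp [mul_assoc])
      map_mul' := fun r s => Subtype.ext (by simp [mul_assoc]) }
  map_one' := by ext; simp
  map_mul' a b := by ext; simp [mul_assoc]

@[simp] theorem conjHom_apply (R A : Subgroup G) (hA : A ≤ Subgroup.normalizer (R : Set G)) (a : A) (r : R) :
    ((conjHom R A hA a r : R) : G) = a * r * (a : G)⁻¹ := rfl

/-- The module form of the next lemma. -/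
theorem commutator_pow_acts_on_plane {p : ℕ} [hp : Fact p.Prime] (hp2 : p ≠ 2) (U : Type*) [AddCommGroup U]
    [Finite U] [Module (ZMod p) U] (hU : Nat.card U = p ^ 2)
    {H : Type*} [Group H] [Finite H] [Group.IsSolvable H] (hodd : Odd (Nat.card H)) (ψ : H → (U →+ U))
    (h1 : ∀ v, ψ 1 v = v) (hmul : ∀ g h v, ψ (g * h) v = ψ g (ψ h v)) :
    ∀ x ∈ commutator H, ∀ v, ψ (x ^ p) v = v := by
  haveI : Module.Finite (ZMod p) U := Module.Finite.of_finite
  have hd : Module.finrank (ZMod p) U = 2 := by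
    have h := Module.natCard_eq_pow_finrank (K := ZMod p) (V := U)
    rw [hU, Nat.card_zmod] at h
    exact (Nat.pow_right_injective hp.out.two_le h).symm
  let ρ : H →* Module.End (ZMod p) U :=
    { toFun := fun h => AddMonoidHom.toZModLinearMap p (ψ h)
      map_one' := LinearMap.ext fun v => h1 v
      map_mul' := fun g h => LinearMap.ext fun v => hmul g h v }
  intro x hx v
  exact LinearMap.congr_fun (odd_plane_commutator_pow_char hp2 hd hodd ρ x hx) v

/-- Solvable odd groups acting on an abelian group of exponent `p` and order `≤ p ^ 2`. -/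
theorem commutator_pow_acts_trivially {W : Type*} [CommGroup W] [Finite W] {p : ℕ} [hp : Fact p.Prime]
    (hp2 : p ≠ 2) (hexp : ∀ w : W, w ^ p = 1) (hW : Nat.card W ≤ p ^ 2)
    {H : Type*} [Group H] [Finite H] [Group.IsSolvable H] (hodd : Odd (Nat.card H)) (φ : H →* MulAut W) :
    ∀ x ∈ commutator H, φ (x ^ p) = 1 := by
  intro x hx
  have hWp : IsPGroup p W := fun w => ⟨1, by rw [pow_one]; exact hexp w⟩
  obtain ⟨n, hn⟩ := hWp.exists_card_eq
  rcases (show n ≤ 1 ∨ n = 2 by
    have : n ≤ 2 := (Nat.pow_le_pow_iff_right hp.out.one_lt).mp (hn ▸ hW)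
    omega) with hn1 | hn2
  · haveI : IsCyclic W := by
      rcases Nat.le_one_iff_eq_zero_or_eq_one.mp hn1 with rfl | rfl
      · haveI : Subsingleton W := (Nat.card_eq_one_iff_unique.mp (by simpa using hn)).1
        infer_instance
      · exact isCyclic_of_prime_card (p := p) (by simpa using hn)
    have hcomm : ∀ f g : MulAut W, f * g = g * f := by
      intro f g
      obtain ⟨w, hw⟩ := IsCyclic.exists_generator (α := W)
      obtain ⟨i, hi⟩ := hw (f w)
      obtain ⟨j, hj⟩ := hw (g w)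
      ext z
      obtain ⟨k, rfl⟩ := hw z
      simp only at hi hj ⊢
      simp only [MulAut.mul_apply, map_zpow, ← hi, ← hj]
      rw [← zpow_mul, ← zpow_mul, ← zpow_mul, ← zpow_mul]
      ring_nf
    have : commutator H ≤ φ.ker := by
      rw [commutator_def, Subgroup.commutator_le]
      intro g _ h _
      rw [MonoidHom.mem_ker, map_commutatorElement, commutatorElement_eq_one_iff_commute]
      exact hcomm _ _
    rw [map_pow, MonoidHom.mem_ker.mp (this hx), one_pow]
  · refine MulEquiv.ext fun w => ?_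
    exact congrArg Additive.toMul (@commutator_pow_acts_on_plane p hp hp2 (Additive W) _ _
      (AddCommGroup.zmodModule fun v => congrArg Additive.ofMul (hexp v.toMul))
      (by rw [Nat.card_congr Additive.toMul, hn, hn2]) H _ _ _ hodd
      (fun h => (φ h).toMonoidHom.toAdditive) (fun v => by simp) (fun g h v => by simp) x hx (Additive.ofMul w))

/-- An element of order coprime to `p` fixing a subgroup `C ≥ C_R(C)` of the `p`-group `R` fixes `R`. -/
theorem fixes_of_fixes_self_centralizing [Finite G] {p : ℕ} [hp : Fact p.Prime] (R : Subgroup G)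
    (hR : IsPGroup p R) (a : G) (haR : a ∈ Subgroup.normalizer (R : Set G)) (hcop : (orderOf a).Coprime p)
    (C : Subgroup R) (hC : Subgroup.centralizer (C : Set R) ≤ C) (hfix : ∀ c ∈ C, a * c = c * a) :
    ∀ r ∈ R, a * r = r * a := by
  have hA : Subgroup.zpowers a ≤ Subgroup.normalizer (R : Set G) := Subgroup.zpowers_le.mpr haR
  have hcop' : (Nat.card (Subgroup.zpowers a)).Coprime (Nat.card R) := by
    obtain ⟨n, hn⟩ := hR.exists_card_eq
    rw [Nat.card_zpowers, hn]
    exact Nat.Coprime.pow_right _ hcop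
  have hfix' : ∀ c ∈ C, (c : G) ∈ R ⊓ Subgroup.centralizer (Subgroup.zpowers a : Set G) := by
    refine fun c hc => ⟨c.2, Subgroup.mem_centralizer_iff.mpr ?_⟩
    intro b hb
    obtain ⟨k, rfl⟩ := Subgroup.mem_zpowers_iff.mp hb
    exact (Commute.zpow_left (hfix c hc) k).eq
  have := le_centralizer_of_centralizer_fixed_le R (Subgroup.zpowers a) hR.isNilpotent hA hcop' ?_
  · intro r hr
    exact (Subgroup.mem_centralizer_iff.mp (this (Subgroup.mem_zpowers a)) r hr).symm
  rintro x ⟨hxR, hx⟩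
  have hxC : (⟨x, hxR⟩ : R) ∈ C := hC (Subgroup.mem_centralizer_iff.mpr fun c hc =>
    Subtype.ext (Subgroup.mem_centralizer_iff.mp hx c (hfix' c hc)))
  exact hfix' _ hxC

/-- A `p`-group of rank `≤ 2` has an invariant subgroup `Q` whose abelianisation has exponent `p`, order
`≤ p ^ 2`, and detects all coprime operators. -/
theorem rank_two_small_quotient [Finite G] {p : ℕ} [hp : Fact p.Prime] (hp2 : p ≠ 2) (R A : Subgroup G)
    (hR : IsPGroup p R) (hr : Cfsg.PRankLE p 2 R) (hA : A ≤ Subgroup.normalizer (R : Set G)) :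
    ∃ (Q : Subgroup G) (φ : A →* MulAut (Abelianization Q)),
      (∀ w : Abelianization Q, w ^ p = 1) ∧ Nat.card (Abelianization Q) ≤ p ^ 2 ∧
      ∀ a : A, (orderOf (a : G)).Coprime p → φ a = 1 → ∀ r ∈ R, (a : G) * r = r * a := by
  classical
  obtain ⟨C, hCc, hCC, hC1, hC2⟩ := CfsgLib.PGroup.exists_critical hR
  have hpodd : Odd p := hp.out.odd_of_ne_two hp2
  have hcenC : ∀ x ∈ C, ∀ y ∈ C, ∀ c ∈ C, ⁅x, y⁆ * c = c * ⁅x, y⁆ := fun x _ y hy c hc =>
    ((Subgroup.mem_centralizer_iff.mp (hC1 x y hy).2) c hc).symm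
  have hmulpow : ∀ x ∈ C, ∀ y ∈ C, x ^ p = 1 → y ^ p = 1 → (x * y) ^ p = 1 := by
    intro x hx y hy hxp hyp
    have hc : ⁅(⟨y, hy⟩ : C), ⟨x, hx⟩⁆ ∈ Subgroup.center C := by
      rw [Subgroup.mem_center_iff]
      intro c
      apply Subtype.ext
      exact (hcenC y hy x hx c c.2).symm
    have := CfsgLib.PGroup.mul_pow_eq_one_of_central (x := (⟨x, hx⟩ : C)) hpodd hc
      (Subtype.ext (by simpa using hxp)) (Subtype.ext (by simpa using hyp))
    simpa using congrArg Subtype.val this
  let Q₀ : Subgroup R :=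
    { carrier := {x | x ∈ C ∧ x ^ p = 1}
      one_mem' := ⟨C.one_mem, one_pow p⟩
      mul_mem' := fun ha hb => ⟨C.mul_mem ha.1 hb.1, hmulpow _ ha.1 _ hb.1 ha.2 hb.2⟩
      inv_mem' := fun ha => ⟨C.inv_mem ha.1, by rw [inv_pow, ha.2, inv_one]⟩ }
  let Q : Subgroup G := Q₀.map R.subtype
  have hmemQ : ∀ g : G, g ∈ Q ↔ ∃ h : g ∈ R, (⟨g, h⟩ : R) ∈ C ∧ g ^ p = 1 := by
    intro g
    constructor
    · rintro ⟨x, ⟨hxC, hxp⟩, rfl⟩
      exact ⟨x.2, hxC, congrArg Subtype.val hxp⟩
    · rintro ⟨h, h1, h2⟩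
      exact ⟨⟨g, h⟩, ⟨h1, Subtype.ext h2⟩, rfl⟩
  have hconj : ∀ a ∈ A, ∀ g ∈ Q, a * g * a⁻¹ ∈ Q := by
    intro a ha g hg
    obtain ⟨hgR, hgC, hgp⟩ := (hmemQ g).mp hg
    refine (hmemQ _).mpr ⟨(Subgroup.mem_normalizer_iff.mp (hA ha) g).mp hgR, ?_, ?_⟩
    · have := hCc.fixed (conjHom R A hA ⟨a, ha⟩)
      rw [← this] at hgC
      exact hgC
    · rw [conj_pow, hgp]; group
  have hAQ : A ≤ Subgroup.normalizer (Q : Set G) := by
    intro a ha
    rw [Subgroup.mem_normalizer_iff]
    refine fun g => ⟨hconj a ha g, fun hg => ?_⟩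
    have := hconj a⁻¹ (A.inv_mem ha) _ hg
    simpa [mul_assoc] using this
  have hQR : Q ≤ R := Subgroup.map_subtype_le Q₀
  have hQp : IsPGroup p Q := hR.to_le hQR
  have hQexp : ∀ q : Q, q ^ p = 1 := fun q => Subtype.ext (((hmemQ q).mp q.2).2.2)
  have hQcen : ∀ x y : Q, ⁅x, y⁆ ∈ Subgroup.center Q := by
    intro x y
    rw [Subgroup.mem_center_iff]
    intro c
    obtain ⟨hx, hxC, -⟩ := (hmemQ x).mp x.2
    obtain ⟨hy, hyC, -⟩ := (hmemQ y).mp y.2
    obtain ⟨hc, hcC, -⟩ := (hmemQ c).mp c.2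
    apply Subtype.ext
    exact (congrArg Subtype.val (hcenC ⟨x, hx⟩ hxC ⟨y, hy⟩ hyC ⟨c, hc⟩ hcC)).symm
  -- order of `Q / Q'`
  haveI : Group.IsNilpotent Q := hQp.isNilpotent
  have hQr : Cfsg.PRankLE p 2 Q := CfsgLib.OddOrder.PRankLE.of_le hQR hr
  have hW : Nat.card (Abelianization Q) ≤ p ^ 2 := by
    obtain ⟨B, -, hBn, hBa, hBc⟩ := exists_normal_abelian_self_centralizing (⊥ : Subgroup Q) inferInstance
      ⟨⟨fun a b => Subsingleton.elim _ _⟩⟩
    have hBe : Cfsg.IsElementaryAbelian p B := ⟨hBa, fun b _ => hQexp b⟩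
    have hB2 : Nat.card B ≤ p ^ 2 := hQr B hBa (fun b _ => hQexp b)
    have hQW : Nat.card Q = Nat.card (Abelianization Q) * Nat.card (commutator Q) :=
      Subgroup.card_eq_card_quotient_mul_card_subgroup _
    by_cases hBtop : B = ⊤
    · rw [hBtop, Subgroup.card_top] at hB2
      have : Nat.card (Abelianization Q) ≤ Nat.card Q :=
        hQW ▸ Nat.le_mul_of_pos_right _ Nat.card_pos
      omega
    · obtain ⟨m, hm⟩ := IsPGroup.iff_card.mp (hQp.to_subgroup B)
      have hm2 : m ≤ 2 := (Nat.pow_le_pow_iff_right hp.out.one_lt).mp (hm ▸ hB2)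
      have hcard : Nat.card Q ≤ p ^ 3 := by
        rcases hm2.lt_or_eq with hlt | rfl
        · exfalso
          apply hBtop
          have hcentral : B ≤ Subgroup.center Q := by
            by_contra hle
            obtain ⟨y, hy, hyZ, -⟩ := exists_central_step B (Subgroup.center Q) hle
            have hB1 : B ⊓ Subgroup.center Q ≠ ⊥ := by
              obtain ⟨z, hz, hz1, hzc⟩ := exists_central_step B ⊥ (fun h => hyZ (by
                rw [Subgroup.mem_bot.mp (h hy)]; exact one_mem _))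
              intro h
              refine hz1 ?_
              rw [← h]
              exact ⟨hz, Subgroup.mem_center_iff.mpr fun g =>
                (commutatorElement_eq_one_iff_commute.mp (Subgroup.mem_bot.mp (hzc g))).symm.eq⟩
            have hlt' : Nat.card ↥(B ⊓ Subgroup.center Q) < Nat.card B :=
              lt_of_le_of_ne (Subgroup.card_le_of_le inf_le_left) (fun h => hyZ
                ((Subgroup.eq_of_le_of_card_ge inf_le_left h.ge).symm ▸ hy : y ∈ B ⊓ Subgroup.center Q).2)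
            have h1 : 1 < Nat.card ↥(B ⊓ Subgroup.center Q) :=
              (Subgroup.one_lt_card_iff_ne_bot _).mpr hB1
            obtain ⟨k, hk⟩ := IsPGroup.iff_card.mp (hQp.to_subgroup (B ⊓ Subgroup.center Q))
            rw [hk] at h1 hlt'
            rw [hm] at hlt'
            have h01 : k ≠ 0 := fun h => by rw [h, pow_zero] at h1; omega
            have := (Nat.pow_lt_pow_iff_right hp.out.one_lt).mp hlt'
            omega
          rw [← hBc, Subgroup.centralizer_eq_top_iff_subset]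
          exact hcentral
        · have h1 := Nat.le_of_dvd hp.out.pos (index_centralizer_dvd_of_card_sq hQp B hBe hm)
          rw [hBc] at h1
          rw [← B.card_mul_index, hm, show p ^ 3 = p ^ 2 * p by ring]
          exact Nat.mul_le_mul_left _ h1
      have hne : commutator Q ≠ ⊥ := by
        intro h
        apply hBtop
        rw [← hBc, Subgroup.centralizer_eq_top_iff_subset]
        intro b _
        refine Subgroup.mem_center_iff.mpr fun g => ?_
        have : ⁅g, b⁆ ∈ commutator Q :=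
          Subgroup.commutator_mem_commutator (Subgroup.mem_top g) (Subgroup.mem_top b)
        rw [h] at this
        exact (commutatorElement_eq_one_iff_commute.mp (Subgroup.mem_bot.mp this)).eq
      obtain ⟨k, hk⟩ := IsPGroup.iff_card.mp (hQp.to_subgroup (commutator Q))
      have h1 : p ≤ Nat.card (commutator Q) := by
        rw [hk]
        refine Nat.le_self_pow ?_ p
        intro h0
        rw [h0, pow_zero] at hk
        exact hne (Subgroup.card_eq_one.mp hk)
      rw [hQW] at hcard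
      have := Nat.le_trans (Nat.mul_le_mul_left (Nat.card (Abelianization Q)) h1) hcard
      rw [show p ^ 3 = p ^ 2 * p by ring] at this
      exact Nat.le_of_mul_le_mul_right this hp.out.pos
  have hWexp : ∀ w : Abelianization Q, w ^ p = 1 := by
    intro w
    obtain ⟨q, rfl⟩ : ∃ q : Q, Abelianization.of q = w := QuotientGroup.mk'_surjective _ w
    rw [← map_pow, hQexp, map_one]
  let φ : A →* MulAut (Abelianization Q) :=
    { toFun := fun a => (conjHom Q A hAQ a).abelianizationCongr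
      map_one' := by
        ext w
        obtain ⟨q, rfl⟩ : ∃ q : Q, Abelianization.of q = w := QuotientGroup.mk'_surjective _ w
        simp
      map_mul' := fun a b => by
        ext w
        obtain ⟨q, rfl⟩ : ∃ q : Q, Abelianization.of q = w := QuotientGroup.mk'_surjective _ w
        simp }
  refine ⟨Q, φ, hWexp, hW, ?_⟩
  rintro ⟨a, haA⟩ hcop hφ
  -- `a` fixes `Q`
  have hzQ : ∀ q : Q, q⁻¹ * conjHom Q A hAQ ⟨a, haA⟩ q ∈ commutator Q := by
    intro q
    rw [← Abelianization.ker_of, MonoidHom.mem_ker, map_mul, map_inv, inv_mul_eq_one]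
    have := congrArg (fun f : MulAut (Abelianization Q) => f (Abelianization.of q)) hφ
    simpa [φ] using this.symm
  have hcommcen : commutator Q ≤ Subgroup.center Q := by
    rw [commutator_def, Subgroup.commutator_le]
    exact fun x _ y _ => hQcen x y
  have hfixcomm : ∀ z ∈ commutator Q, conjHom Q A hAQ ⟨a, haA⟩ z = z := by
    have hle : commutator Q ≤ MonoidHom.eqLocus (conjHom Q A hAQ ⟨a, haA⟩).toMonoidHom (MonoidHom.id Q) := by
      rw [commutator_def, Subgroup.commutator_le]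
      intro x _ y _
      show conjHom Q A hAQ ⟨a, haA⟩ ⁅x, y⁆ = ⁅x, y⁆
      rw [map_commutatorElement]
      obtain ⟨z, hz, hxz⟩ : ∃ z ∈ Subgroup.center Q, conjHom Q A hAQ ⟨a, haA⟩ x = x * z :=
        ⟨_, hcommcen (hzQ x), by group⟩
      obtain ⟨z', hz', hyz⟩ : ∃ z ∈ Subgroup.center Q, conjHom Q A hAQ ⟨a, haA⟩ y = y * z :=
        ⟨_, hcommcen (hzQ y), by group⟩
      rw [hxz, hyz]
      simp only [commutatorElement_def, mul_inv_rev]
      have c1 := Subgroup.mem_center_iff.mp hz
      have c2 := Subgroup.mem_center_iff.mp hz'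
      calc x * z * (y * z') * (z⁻¹ * x⁻¹) * (z'⁻¹ * y⁻¹)
          = x * (z * y) * (z' * z⁻¹) * (x⁻¹ * z'⁻¹) * y⁻¹ := by group
        _ = x * (y * z) * (z⁻¹ * z') * (z'⁻¹ * x⁻¹) * y⁻¹ := by
            rw [← c1 y, ← c2 z⁻¹, ← Subgroup.mem_center_iff.mp (inv_mem hz') x⁻¹]
        _ = x * y * x⁻¹ * y⁻¹ := by group
    exact fun z hz => hle hz
  have hfixQ : ∀ g ∈ Q, a * g = g * a := by
    intro g hg
    have hcopQ : (orderOf a).Coprime (Nat.card Q) := by
      obtain ⟨k, hk⟩ := hQp.exists_card_eq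
      rw [hk]; exact Nat.Coprime.pow_right _ hcop
    refine fixes_of_step_fixed hcopQ ((⟨g, hg⟩ : Q)⁻¹ * conjHom Q A hAQ ⟨a, haA⟩ ⟨g, hg⟩).2 ?_ ?_
    · simp
    · exact congrArg Subtype.val (hfixcomm _ (hzQ ⟨g, hg⟩))
  refine fixes_of_fixes_self_centralizing R hR a (hA haA) hcop C hCC ?_
  intro c hc
  refine fixes_of_fixes_exponent_p hp2 a hcop _ (C.map R.subtype) rfl (hR.to_le (Subgroup.map_subtype_le C)) ?_ ?_
    (c : G) ⟨c, hc, rfl⟩
  · rintro _ ⟨x, hx, rfl⟩
    have := hCc.fixed (conjHom R A hA ⟨a, haA⟩)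
    rw [← this] at hx
    exact ⟨_, hx, rfl⟩
  · rintro _ ⟨x, hx, rfl⟩ hxp
    exact hfixQ _ ((hmemQ _).mpr ⟨x.2, hx, hxp⟩)

/-- Every `p'`-element of the derived subgroup of a solvable odd group acting on a `p`-group of rank `≤ 2`
centralises it. -/
theorem rank_two_commutator_fixes [Finite G] {p : ℕ} [hp : Fact p.Prime] (hp2 : p ≠ 2) (R A : Subgroup G)
    (hR : IsPGroup p R) (hr : Cfsg.PRankLE p 2 R)
    (hA : A ≤ Subgroup.normalizer (R : Set G)) (hAs : Group.IsSolvable A) (hAodd : Odd (Nat.card A)) :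
    ∀ a ∈ ⁅A, A⁆, (orderOf a).Coprime p → ∀ r ∈ R, a * r = r * a := by
  obtain ⟨Q, φ, hWexp, hW, hfix⟩ := rank_two_small_quotient hp2 R A hR hr hA
  haveI : Finite (Abelianization Q) := Quotient.finite _
  intro a ha hcop
  have haA : a ∈ A :=
    (Subgroup.commutator_le.mpr fun g hg h hh =>
      A.mul_mem (A.mul_mem (A.mul_mem hg hh) (A.inv_mem hg)) (A.inv_mem hh)) ha
  have ha' : (⟨a, haA⟩ : A) ∈ commutator A := by
    rw [← Subgroup.map_subtype_commutator] at ha
    obtain ⟨b, hb, hba⟩ := ha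
    exact (Subtype.ext hba : b = ⟨a, haA⟩) ▸ hb
  obtain ⟨n, hn⟩ := exists_pow_eq_self_of_coprime (x := a) hcop.symm
  have hφ : φ ⟨a, haA⟩ = 1 := by
    have h1 := commutator_pow_acts_trivially hp2 hWexp hW hAodd φ _ ha'
    have e : (⟨a, haA⟩ : A) = ((⟨a, haA⟩ : A) ^ p) ^ n := Subtype.ext (by simpa using hn.symm)
    rw [e, map_pow, h1, one_pow]
  exact hfix ⟨a, haA⟩ hcop hφ

/-- BG 4.17: if the action is faithful, the derived subgroup is a `p`-group. -/
theorem derived_isPGroup_of_rank_two [Finite G] {p : ℕ} [hp : Fact p.Prime] (hp2 : p ≠ 2) (R A : Subgroup G)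
    (hR : IsPGroup p R) (hr : Cfsg.PRankLE p 2 R)
    (hA : A ≤ Subgroup.normalizer (R : Set G)) (hAs : Group.IsSolvable A) (hAodd : Odd (Nat.card A))
    (hfaith : A ⊓ Subgroup.centralizer (R : Set G) = ⊥) : IsPGroup p ↥⁅A, A⁆ := by
  rw [IsPGroup.iff_orderOf]
  intro x
  obtain ⟨k, m, hpm, hx⟩ := Nat.exists_eq_pow_mul_and_not_dvd (orderOf_pos (x : G)).ne' p hp.out.ne_one
  refine ⟨k, ?_⟩
  have hord : orderOf ((x : G) ^ p ^ k) = m := by
    rw [orderOf_pow' _ (pow_ne_zero _ hp.out.ne_zero), hx, Nat.gcd_eq_right (Dvd.intro m rfl),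
      Nat.mul_div_cancel_left _ (pow_pos hp.out.pos k)]
  have hfix := rank_two_commutator_fixes hp2 R A hR hr hA hAs hAodd _ (pow_mem x.2 (p ^ k))
    (by rw [hord]; exact ((Nat.Prime.coprime_iff_not_dvd hp.out).mpr hpm).symm)
  have hmem : (x : G) ^ p ^ k ∈ A ⊓ Subgroup.centralizer (R : Set G) := by
    refine ⟨pow_mem ((Subgroup.commutator_le.mpr fun g hg h hh =>
      A.mul_mem (A.mul_mem (A.mul_mem hg hh) (A.inv_mem hg)) (A.inv_mem hh)) x.2) _, ?_⟩
    exact Subgroup.mem_centralizer_iff.mpr fun r hr => (hfix r hr).symm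
  rw [hfaith, Subgroup.mem_bot] at hmem
  rw [← Subgroup.orderOf_coe, hx]
  have : m = 1 := by rw [← hord, hmem, orderOf_one]
  rw [this, mul_one]

end CfsgLib.OddOrder41
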