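import Cfsg.Agent.Lib.OddOrder41.FixedFormulaAbelian
import Cfsg.Agent.Lib.OddOrder41.RankTwoAction
import Cfsg.Agent.Lib.Frobenius.FPFThompson

set_option autoImplicit false

/-! Wielandt's fixed point formula for a solvable group acted on coprimely by a Frobenius group. -/

namespace CfsgLib.OddOrder41.FixedFormula

open scoped commutatorElement

variable {X : Type*} [Group X] [Finite X]

/-- The complement of a Frobenius action forces a solvable kernel. -/
theorem kernel_isSolvable {U E : Subgroup X} (hE1 : E ≠ ⊥) (hUn : E ≤ Subgroup.normalizer (U : Set X))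
    (hfpf : ∀ e ∈ E, e ≠ 1 → ∀ u ∈ U, e * u = u * e → u = 1) : Group.IsSolvable U := by
  have hcard : Nat.card E ≠ 1 := fun h => hE1 (Subgroup.card_eq_one.mp h)
  obtain ⟨p, hp, hpd⟩ := Nat.exists_prime_and_dvd hcard
  haveI := Fact.mk hp
  obtain ⟨e, he⟩ := exists_prime_orderOf_dvd_card' p hpd
  have hord : orderOf (e : X) = p := (Subgroup.orderOf_coe e).trans he
  haveI : Group.IsNilpotent U :=
    CfsgLib.Frobenius.Thompson.isNilpotent_of_element U (hUn e.2) hp (hord ▸ pow_orderOf_eq_one _)
      (hfpf e e.2 fun h => hp.ne_one (by rw [← hord, h, orderOf_one]))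
  infer_instance

/-- A fixed-point-free group of operators has order prime to that of the group acted on. -/
theorem coprime_of_fpf {U E : Subgroup X} (hEU : E ≤ Subgroup.normalizer (U : Set X))
    (hfpf : ∀ e ∈ E, e ≠ 1 → ∀ u ∈ U, e * u = u * e → u = 1) : (Nat.card U).Coprime (Nat.card E) := by
  refine Nat.coprime_of_dvd fun p hp hpU hpE => ?_
  haveI := Fact.mk hp
  obtain ⟨e, he⟩ := exists_prime_orderOf_dvd_card' p hpE
  haveI : Fintype U := Fintype.ofFinite U
  -- an element of order `p` of `E` would fix a point of `U`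
  have hord : orderOf (e : X) = p := (Subgroup.orderOf_coe e).trans he
  let c : Equiv.Perm U :=
    { toFun := fun u => ⟨(e : X) * u * (e : X)⁻¹, (Subgroup.mem_normalizer_iff.mp (hEU e.2) u).mp u.2⟩
      invFun := fun u => ⟨(e : X)⁻¹ * u * e, by simpa using (Subgroup.mem_normalizer_iff.mp (hEU (E.inv_mem e.2)) u).mp u.2⟩
      left_inv := fun u => Subtype.ext (by simp [mul_assoc])
      right_inv := fun u => Subtype.ext (by simp [mul_assoc]) }
  have hcpow : ∀ (k : ℕ) (u : U), (((c ^ k) u : U) : X) = (e : X) ^ k * u * ((e : X) ^ k)⁻¹ := by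
    intro k
    induction k with
    | zero => intro u; simp
    | succ k ih =>
      intro u
      rw [pow_succ', Equiv.Perm.mul_apply]
      show (e : X) * _ * (e : X)⁻¹ = _
      rw [ih, pow_succ']; group
  have hc : c ^ p ^ 1 = 1 := Equiv.ext fun u => Subtype.ext (by
    rw [hcpow, pow_one, ← hord, pow_orderOf_eq_one]; simp)
  have h1 : c 1 = 1 := Subtype.ext (by simp [c])
  obtain ⟨u, hu, hu1⟩ := Equiv.Perm.exists_fixed_point_of_prime' (n := 1)
    (by rw [← Nat.card_eq_fintype_card]; exact hpU) hc h1
  refine hu1 (Subtype.ext (hfpf e e.2 (fun h => hp.ne_one (by rw [← hord, h, orderOf_one])) u u.2 ?_))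
  exact mul_inv_eq_iff_eq_mul.mp (congrArg Subtype.val hu)

/-- The action on `H / H'` by conjugation. -/
noncomputable def abAction (L H : Subgroup X) (hL : L ≤ Subgroup.normalizer (H : Set X)) :
    L →* AddMonoid.End (Additive (Abelianization H)) where
  toFun g := MonoidHom.toAdditive (Abelianization.map (conjHom H L hL g : H →* H))
  map_one' := AddMonoidHom.ext fun v => by
    obtain ⟨h, hh⟩ := QuotientGroup.mk'_surjective _ (Additive.toMul v)
    obtain rfl : v = Additive.ofMul (Abelianization.of h) := congrArg Additive.ofMul hh.symm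
    show Additive.ofMul (Abelianization.of (conjHom H L hL 1 h)) = Additive.ofMul (Abelianization.of h)
    rw [map_one]; rfl
  map_mul' a b := AddMonoidHom.ext fun v => by
    obtain ⟨h, hh⟩ := QuotientGroup.mk'_surjective _ (Additive.toMul v)
    obtain rfl : v = Additive.ofMul (Abelianization.of h) := congrArg Additive.ofMul hh.symm
    show Additive.ofMul (Abelianization.of (conjHom H L hL (a * b) h)) =
      Additive.ofMul (Abelianization.of (conjHom H L hL a (conjHom H L hL b h)))
    rw [map_mul]; rfl

theorem abAction_of (L H : Subgroup X) (hL : L ≤ Subgroup.normalizer (H : Set X)) (g : L) (h : H) :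
    abAction L H hL g (Additive.ofMul (Abelianization.of h)) =
      Additive.ofMul (Abelianization.of (conjHom H L hL g h)) := rfl

/-- Every fixed point of `H / H'` lifts to a fixed point of `H`. -/
theorem exists_fixed_lift (L H S : Subgroup X) (hL : L ≤ Subgroup.normalizer (H : Set X))
    (hS : S ≤ L) (hcop : (Nat.card S).Coprime (Nat.card H)) (hH : Group.IsSolvable H)
    {v : Additive (Abelianization H)} (hv : v ∈ fixSet (abAction L H hL) (S.subgroupOf L)) :
    ∃ (c : X) (hc : c ∈ H ⊓ Subgroup.centralizer (S : Set X)),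
      Additive.ofMul (Abelianization.of (⟨c, hc.1⟩ : H)) = v := by
  obtain ⟨k, hk⟩ := QuotientGroup.mk'_surjective (commutator H) (Additive.toMul v)
  have hk' : v = Additive.ofMul (Abelianization.of k) := congrArg Additive.ofMul hk.symm
  have hDn : S ≤ Subgroup.normalizer ((⁅H, H⁆ : Subgroup X) : Set X) := by
    refine Subgroup.le_normalizer_iff.2 fun s hs x hx => ?_
    have hmap : H.map (MulAut.conj s).toMonoidHom = H := by
      refine le_antisymm ?_ fun h hh => ⟨s⁻¹ * h * s, ?_, by simp [mul_assoc]⟩
      · rintro _ ⟨h, hh, rfl⟩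
        exact (Subgroup.mem_normalizer_iff.mp (hL (hS hs)) h).mp hh
      · have := (Subgroup.mem_normalizer_iff.mp (hL (hS (S.inv_mem hs))) h).mp hh
        simpa using this
    have : MulAut.conj s x ∈ (⁅H, H⁆).map (MulAut.conj s).toMonoidHom := Subgroup.mem_map_of_mem _ hx
    rw [Subgroup.map_commutator, hmap] at this
    exact this
  have hfix : ∀ a ∈ S, (k : X)⁻¹ * (a * k * a⁻¹) ∈ ⁅H, H⁆ := by
    intro a ha
    have h := hv ⟨a, hS ha⟩ ha
    rw [hk', abAction_of] at h
    have h1 : Abelianization.of (k⁻¹ * conjHom H L hL ⟨a, hS ha⟩ k) = 1 := by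
      rw [map_mul, map_inv, show Abelianization.of (conjHom H L hL ⟨a, hS ha⟩ k) = Abelianization.of k from
        congrArg Additive.toMul h, inv_mul_cancel]
    rw [← MonoidHom.mem_ker, Abelianization.ker_of] at h1
    rw [← Subgroup.map_subtype_commutator]
    exact Subgroup.mem_map_of_mem H.subtype h1
  obtain ⟨c, hc, hcD⟩ := CfsgLib.Coprime.exists_centralizing_rep S H (hS.trans hL) hcop (Or.inr hH)
    ⁅H, H⁆ (Subgroup.commutator_le_self H) hDn k.2 hfix
  refine ⟨c, hc, ?_⟩
  rw [hk']
  refine congrArg Additive.ofMul (inv_mul_eq_one.mp ?_).symm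
  rw [← map_inv, ← map_mul, ← MonoidHom.mem_ker, Abelianization.ker_of]
  rw [← Subgroup.map_subtype_commutator] at hcD
  obtain ⟨d, hd, hdc⟩ := hcD
  have : d = k⁻¹ * (⟨c, hc.1⟩ : H) := Subtype.ext hdc
  exact this ▸ hd

/-- Coprime fixed points are multiplicative over the derived subgroup. -/
theorem card_inf_centralizer_eq_mul (L H S : Subgroup X) (hL : L ≤ Subgroup.normalizer (H : Set X))
    (hS : S ≤ L) (hcop : (Nat.card S).Coprime (Nat.card H)) (hH : Group.IsSolvable H) :
    Nat.card ↥(H ⊓ Subgroup.centralizer (S : Set X)) =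
      Nat.card (fixSet (abAction L H hL) (S.subgroupOf L)) *
        Nat.card ↥(⁅H, H⁆ ⊓ Subgroup.centralizer (S : Set X)) := by
  classical
  set C := H ⊓ Subgroup.centralizer (S : Set X) with hC
  set F := fixSet (abAction L H hL) (S.subgroupOf L) with hF
  have hmem : ∀ c : C, Additive.ofMul (Abelianization.of (Subgroup.inclusion inf_le_left c : H)) ∈ F := by
    intro c g hg
    rw [abAction_of]
    congr 2
    apply Subtype.ext
    show (g : X) * c * (g : X)⁻¹ = c
    rw [Subgroup.mem_centralizer_iff.mp c.2.2 g hg, mul_inv_cancel_right]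
  let f : C →* Multiplicative F := MonoidHom.mk' (fun c => Multiplicative.ofAdd ⟨_, hmem c⟩) fun a b => rfl
  have hsurj : Function.Surjective f := by
    intro v
    obtain ⟨⟨v, hv⟩, rfl⟩ := Multiplicative.ofAdd.surjective v
    obtain ⟨c, hc, hcv⟩ := exists_fixed_lift L H S hL hS hcop hH hv
    exact ⟨⟨c, hc⟩, congrArg Multiplicative.ofAdd (Subtype.ext hcv)⟩
  have hker : Nat.card f.ker = Nat.card ↥(⁅H, H⁆ ⊓ Subgroup.centralizer (S : Set X)) := by
    have hiff : ∀ c : C, c ∈ f.ker ↔ (c : X) ∈ ⁅H, H⁆ := by
      intro c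
      rw [← Subgroup.map_subtype_commutator]
      constructor
      · intro h
        refine ⟨Subgroup.inclusion inf_le_left c, ?_, rfl⟩
        show _ ∈ commutator H
        rw [← Abelianization.ker_of]
        exact congrArg (fun z : Multiplicative F => Additive.toMul ((Multiplicative.toAdd z : F) : Additive (Abelianization H))) h
      · rintro ⟨d, hd, hdc⟩
        have hd' : d = Subgroup.inclusion inf_le_left c := Subtype.ext hdc
        refine congrArg Multiplicative.ofAdd (Subtype.ext ?_)
        have : Abelianization.of d = 1 := by rw [← MonoidHom.mem_ker, Abelianization.ker_of]; exact hd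
        show Additive.ofMul (Abelianization.of (Subgroup.inclusion inf_le_left c : H)) = 0
        rw [← hd', this]; rfl
    exact Nat.card_congr
      { toFun := fun c => ⟨c.1.1, (hiff c.1).mp c.2, c.1.2.2⟩
        invFun := fun c => ⟨⟨c.1, Subgroup.commutator_le_self H c.2.1, c.2.2⟩, (hiff _).mpr c.2.1⟩
        left_inv := fun _ => rfl
        right_inv := fun _ => rfl }
  rw [← hker, ← f.ker.card_mul_index, Subgroup.index_ker, MonoidHom.range_eq_top.mpr hsurj, Subgroup.card_top,
    Nat.card_congr Multiplicative.toAdd, mul_comm]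

/-- Wielandt's fixed point formula. -/
theorem fixed_formula (U E : Subgroup X) (hE1 : E ≠ ⊥) (hEU : E ≤ Subgroup.normalizer (U : Set X))
    (hcopUE : (Nat.card U).Coprime (Nat.card E))
    (hfpf : ∀ e ∈ E, e ≠ 1 → ∀ u ∈ U, e * u = u * e → u = 1) (H : Subgroup X)
    (hH : U ⊔ E ≤ Subgroup.normalizer (H : Set X)) (hsolv : Group.IsSolvable H)
    (hcop : (Nat.card H).Coprime (Nat.card ↥(U ⊔ E))) :
    Nat.card ↥(H ⊓ Subgroup.centralizer ((U ⊔ E : Subgroup X) : Set X)) ^ Nat.card E * Nat.card H =
      Nat.card ↥(H ⊓ Subgroup.centralizer (E : Set X)) ^ Nat.card E *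
        Nat.card ↥(H ⊓ Subgroup.centralizer (U : Set X)) := by
  suffices key : ∀ n, ∀ H : Subgroup X, Nat.card H = n → U ⊔ E ≤ Subgroup.normalizer (H : Set X) →
      Group.IsSolvable H → (Nat.card H).Coprime (Nat.card ↥(U ⊔ E)) →
      Nat.card ↥(H ⊓ Subgroup.centralizer ((U ⊔ E : Subgroup X) : Set X)) ^ Nat.card E * Nat.card H =
        Nat.card ↥(H ⊓ Subgroup.centralizer (E : Set X)) ^ Nat.card E *
          Nat.card ↥(H ⊓ Subgroup.centralizer (U : Set X)) from key _ H rfl hH hsolv hcop
  clear hH hsolv hcop H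
  intro n
  induction n using Nat.strongRecOn with
  | _ n ih =>
  intro H hn hH hsolv hcop
  subst hn
  haveI := hsolv
  by_cases hH1 : H = ⊥
  · subst hH1
    simp
  haveI : Nontrivial H := (Subgroup.nontrivial_iff_ne_bot H).mpr hH1
  have hlt : Nat.card ↥⁅H, H⁆ < Nat.card H := by
    rw [← Subgroup.map_subtype_commutator, Subgroup.card_map_of_injective H.subtype_injective]
    refine lt_of_le_of_ne (Subgroup.card_le_card_group _) fun h => ?_
    exact (Group.IsSolvable.commutator_lt_top_of_nontrivial H).ne (Subgroup.eq_top_of_card_eq _ h)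
  set L := U ⊔ E with hL
  have hDn : L ≤ Subgroup.normalizer ((⁅H, H⁆ : Subgroup X) : Set X) := by
    refine Subgroup.le_normalizer_iff.2 fun s hs x hx => ?_
    have hmap : H.map (MulAut.conj s).toMonoidHom = H := by
      refine le_antisymm ?_ fun h hh => ⟨s⁻¹ * h * s, ?_, by simp [mul_assoc]⟩
      · rintro _ ⟨h, hh, rfl⟩
        exact (Subgroup.mem_normalizer_iff.mp (hH hs) h).mp hh
      · have := (Subgroup.mem_normalizer_iff.mp (hH (L.inv_mem hs)) h).mp hh
        simpa using this
    have : MulAut.conj s x ∈ (⁅H, H⁆).map (MulAut.conj s).toMonoidHom := Subgroup.mem_map_of_mem _ hx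
    rw [Subgroup.map_commutator, hmap] at this
    exact this
  have hDH : ⁅H, H⁆ ≤ H := Subgroup.commutator_le_self H
  have ih1 := ih _ hlt ⁅H, H⁆ rfl hDn (solvable_of_solvable_injective (Subgroup.inclusion_injective hDH))
    (hcop.coprime_dvd_left (Subgroup.card_dvd_of_le hDH))
  have hUL : U ≤ L := le_sup_left
  have hEL : E ≤ L := le_sup_right
  haveI : (U.subgroupOf L).Normal := Subgroup.normal_subgroupOf_of_le_normalizer
    (sup_le Subgroup.le_normalizer hEU)
  have hU' : Group.IsSolvable ↥(U.subgroupOf L) := by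
    haveI := kernel_isSolvable hE1 hEU hfpf
    exact solvable_of_surjective (f := (Subgroup.subgroupOfEquivOfLe hUL).symm.toMonoidHom)
      (Subgroup.subgroupOfEquivOfLe hUL).symm.surjective
  have hcUS : ∀ S : Subgroup X, S ≤ L → Nat.card ↥(S.subgroupOf L) = Nat.card S := fun S hS =>
    Nat.card_congr (Subgroup.subgroupOfEquivOfLe hS).toEquiv
  have hfpf' : ∀ e ∈ E.subgroupOf L, e ≠ 1 → ∀ u ∈ U.subgroupOf L, e * u = u * e → u = 1 :=
    fun e he he1 u hu h => Subtype.ext (hfpf _ he (fun h1 => he1 (Subtype.ext h1)) _ hu (congrArg Subtype.val h))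
  have hab : (Nat.card ↥(U.subgroupOf L)).Coprime (Nat.card (Additive (Abelianization H))) := by
    rw [hcUS U hUL]
    refine (hcop.symm.coprime_dvd_left (Subgroup.card_dvd_of_le hUL)).coprime_dvd_right ?_
    rw [Nat.card_congr Additive.toMul]
    exact Subgroup.card_quotient_dvd_card _
  have habf := abelian_fixed_formula (U.subgroupOf L) (E.subgroupOf L) hU'
    (by rw [hcUS U hUL, hcUS E hEL]; exact hcopUE) hfpf' (abAction L H hH) hab
  have hsup : fixSet (abAction L H hH) (U.subgroupOf L) ⊓ fixSet (abAction L H hH) (E.subgroupOf L) =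
      fixSet (abAction L H hH) (L.subgroupOf L) := by
    refine le_antisymm (fun v hv g _ => ?_)
      (fun v hv => ⟨fun g _ => hv g g.2, fun g _ => hv g g.2⟩)
    let St : Subgroup L :=
      { carrier := {g | abAction L H hH g v = v}
        one_mem' := by show abAction L H hH 1 v = v; rw [map_one]; rfl
        mul_mem' := fun {a b} ha hb => by
          show abAction L H hH (a * b) v = v
          rw [map_mul]
          show abAction L H hH a (abAction L H hH b v) = v
          rw [hb, ha]
        inv_mem' := fun {a} ha => by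
          show abAction L H hH a⁻¹ v = v
          conv_lhs => rw [← ha]
          simpa using mul_inv_apply (abAction L H hH) a⁻¹ v }
    have h1 : (L.subgroupOf L) ≤ St := by
      refine (Subgroup.subgroupOf_sup hUL hEL).trans_le ?_
      exact sup_le (fun a ha => hv.1 a ha) (fun a ha => hv.2 a ha)
    exact h1 g.2
  have hHdiv : Nat.card H = Nat.card (Additive (Abelianization H)) * Nat.card ↥⁅H, H⁆ := by
    rw [Nat.card_congr Additive.toMul, ← Subgroup.map_subtype_commutator,
      Subgroup.card_map_of_injective H.subtype_injective, mul_comm, ← (commutator H).card_mul_index,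
      Subgroup.index_eq_card]
    rfl
  rw [hsup, hcUS E hEL] at habf
  rw [card_inf_centralizer_eq_mul L H L hH le_rfl hcop.symm hsolv,
    card_inf_centralizer_eq_mul L H E hH hEL (hcop.symm.coprime_dvd_left (Subgroup.card_dvd_of_le hEL)) hsolv,
    card_inf_centralizer_eq_mul L H U hH hUL (hcop.symm.coprime_dvd_left (Subgroup.card_dvd_of_le hUL)) hsolv,
    mul_pow, mul_pow, hHdiv]
  calc _ = (Nat.card (fixSet (abAction L H hH) (L.subgroupOf L)) ^ Nat.card E *
          Nat.card (Additive (Abelianization H))) *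
        (Nat.card ↥(⁅H, H⁆ ⊓ Subgroup.centralizer (L : Set X)) ^ Nat.card E * Nat.card ↥⁅H, H⁆) := by ring
    _ = _ := by rw [habf, ih1]; ring

end CfsgLib.OddOrder41.FixedFormula
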