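import Mathlib.GroupTheory.SpecificGroups.Cyclic
import Mathlib.GroupTheory.QuotientGroup.Basic
import Mathlib.Algebra.BigOperators.Group.Finset.Basic
import Cfsg.Agent.Lib.OddOrder41.NormalElementary
import Cfsg.Agent.Lib.OddOrder41.RankTwoAction
import Cfsg.Agent.Lib.Coprime.Commutator
import Cfsg.Agent.Lib.Isolated.RankOne
import Cfsg.Agent.Lib.Metacyclic76.Subgroups
import Cfsg.Agent.Lib.Metacyclic76.Powers
import Cfsg.Agent.Lib.PGroup.Class2

set_option autoImplicit false

/-! BG 4.9/4.10: coprime operators on metacyclic `p`-groups, `p` odd. -/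

namespace CfsgLib.OddOrder41

open scoped commutatorElement

/-- A derived subgroup of prime order of a nilpotent group is central. -/
theorem commutator_le_center_of_prime_card {K : Type*} [Group K] [Finite K] [Group.IsNilpotent K]
    (hc : (Nat.card (commutator K)).Prime) : commutator K ≤ Subgroup.center K := by
  intro x hx
  by_contra hxZ
  obtain ⟨y, hy, hy1, hyc⟩ := exists_central_step (commutator K) ⊥ (fun h => hxZ (by
    rw [Subgroup.mem_bot.mp (h hx)]; exact one_mem _))
  have hyZ : y ∈ Subgroup.center K := Subgroup.mem_center_iff.mpr fun g =>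
    (commutatorElement_eq_one_iff_commute.mp (Subgroup.mem_bot.mp (hyc g))).symm.eq
  haveI := Fact.mk hc
  have h2 : Subgroup.zpowers (⟨y, hy⟩ : commutator K) = ⊤ :=
    zpowers_eq_top_of_prime_card rfl fun h => hy1 (by
      have : y = 1 := congrArg Subtype.val h
      rw [this]; exact one_mem _)
  obtain ⟨k, hk⟩ := Subgroup.mem_zpowers_iff.mp (h2 ▸ Subgroup.mem_top (⟨x, hx⟩ : commutator K))
  exact hxZ (by
    have : y ^ k = x := congrArg Subtype.val hk
    rw [← this]; exact zpow_mem hyZ k)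

/-- No coprime action moves everything on a `p`-group with derived group of order `p` whose `p`-th powers
form the centre, of index `p ^ 2`. -/
theorem moved_core {K : Type*} [Group K] [Finite K] {p : ℕ} [hp : Fact p.Prime] (hp2 : p ≠ 2)
    (hK : IsPGroup p K) (hc : Nat.card (commutator K) = p)
    (hpZ : ∀ g : K, g ^ p ∈ Subgroup.center K) (hZpow : ∀ g ∈ Subgroup.center K, ∃ y : K, y ^ p = g)
    (hidx : (Subgroup.center K).index = p ^ 2)
    {A : Type*} [Group A] [Finite A] (hcop : (Nat.card A).Coprime p) (φ : A →* MulAut K)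
    (hgen : Subgroup.closure {g : K | ∃ (a : A) (x : K), g = x⁻¹ * φ a x} = ⊤) : False := by
  classical
  set Z := Subgroup.center K with hZ
  have hK'Z : commutator K ≤ Z :=
    haveI : Group.IsNilpotent K := hK.isNilpotent
    commutator_le_center_of_prime_card (hc ▸ hp.out)
  have hcz : ∀ x y : K, ⁅x, y⁆ ∈ Z := fun x y =>
    hK'Z (Subgroup.commutator_mem_commutator (Subgroup.mem_top x) (Subgroup.mem_top y))
  have hK'exp : ∀ z ∈ commutator K, z ^ p = 1 := fun z hz => by
    apply orderOf_dvd_iff_pow_eq_one.mp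
    rw [← hc]; simpa using orderOf_dvd_natCard (⟨z, hz⟩ : commutator K)
  have hmulp : ∀ x y : K, (x * y) ^ p = x ^ p * y ^ p := fun x y =>
    CfsgLib.PGroup.mul_pow_odd_of_central (hp.out.odd_of_ne_two hp2) (hcz y x)
      (hK'exp _ (Subgroup.commutator_mem_commutator (Subgroup.mem_top y) (Subgroup.mem_top x)))
  let π : K →* K := MonoidHom.mk' (fun x => x ^ p) hmulp
  have hmule : ∀ (e : ℕ) (x y : K), (x * y) ^ p ^ e = x ^ p ^ e * y ^ p ^ e := by
    intro e
    induction e with
    | zero => simp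
    | succ e ih => intro x y; rw [pow_succ, pow_mul, ih, hmulp, ← pow_mul, ← pow_mul]
  obtain ⟨⟨c, hcm⟩, hcgen⟩ := (isCyclic_of_prime_card (p := p) hc).exists_generator
  have hgen' : ∀ z ∈ commutator K, ∃ i : ℕ, c ^ i = z := by
    intro z hz
    obtain ⟨i, hi⟩ := Submonoid.mem_powers_iff _ _ |>.mp
      (mem_powers_iff_mem_zpowers.mpr (hcgen ⟨z, hz⟩))
    exact ⟨i, congrArg Subtype.val hi⟩
  have hc1 : c ≠ 1 := by
    intro h
    have : commutator K = ⊥ := by
      rw [eq_bot_iff]
      intro z hz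
      obtain ⟨i, rfl⟩ := hgen' z hz
      simp [h]
    rw [this, Subgroup.card_bot] at hc
    exact hp.out.ne_one hc.symm
  have hcord : orderOf c = p := orderOf_eq_prime (hK'exp c hcm) hc1
  -- the largest power of `p` of which `c` is a power
  obtain ⟨e, u, hu, hmax⟩ : ∃ (e : ℕ) (u : K), u ^ p ^ e = c ∧ ∀ v : K, v ^ p ^ (e + 1) ≠ c := by
    by_contra hcon
    push Not at hcon
    have hall : ∀ e : ℕ, ∃ v : K, v ^ p ^ e = c := by
      intro e
      induction e with
      | zero => exact ⟨c, by simp⟩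
      | succ e ih => obtain ⟨v, hv⟩ := ih; exact hcon e v hv
    obtain ⟨N, hN⟩ := hK.exists_card_eq
    obtain ⟨v, hv⟩ := hall N
    rw [← hN, pow_card_eq_one'] at hv
    exact hc1 hv.symm
  have hZS : ∀ z ∈ Z, z ^ p ^ e ∈ commutator K → z ^ p ^ e = 1 := by
    intro z hz hze
    obtain ⟨y, rfl⟩ := hZpow z hz
    obtain ⟨i, hi⟩ := hgen' _ hze
    by_cases hpi : p ∣ i
    · rw [← hi]; exact orderOf_dvd_iff_pow_eq_one.mp (hcord ▸ hpi)
    · exfalso
      obtain ⟨j, hj⟩ := exists_pow_eq_self_of_coprime (x := c)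
        (hcord ▸ ((Nat.Prime.coprime_iff_not_dvd hp.out).mpr hpi).symm : i.Coprime (orderOf c))
      refine hmax (y ^ j) ?_
      rw [← pow_mul, mul_comm, pow_mul, pow_succ', pow_mul, ← hi, hj]
  let T : Subgroup K :=
    { carrier := {x | x ^ p ^ e = 1}
      one_mem' := one_pow _
      mul_mem' := fun {x y} hx hy => by
        show (x * y) ^ p ^ e = 1
        rw [hmule, hx, hy, one_mul]
      inv_mem' := fun {x} hx => by
        show x⁻¹ ^ p ^ e = 1
        rw [inv_pow, hx, inv_one] }
  have hZT : ∀ z ∈ Z, ∀ t ∈ T, (z * t) ^ p ^ e ∈ commutator K → (z * t) ^ p ^ e = 1 := by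
    intro z hz t ht hzt
    rw [hmule, (ht : t ^ p ^ e = 1), mul_one] at hzt ⊢
    exact hZS z hz hzt
  have huZT : u ∉ Z ⊔ T := by
    intro h
    rw [← SetLike.mem_coe, Subgroup.normal_mul Z T] at h
    obtain ⟨z, hz, t, ht, rfl⟩ := h
    exact hc1 (hu ▸ hZT z hz t ht (hu.symm ▸ hcm))
  -- two elements strictly enlarging `Z` generate
  have htop : ∀ x y : K, x ∉ Z → y ∉ Z ⊔ Subgroup.zpowers x →
      Z ⊔ Subgroup.zpowers x ⊔ Subgroup.zpowers y = ⊤ := by
    intro x y hx hy
    have hrel : ∀ H₁ H₂ : Subgroup K, H₁ < H₂ → p ∣ H₁.relIndex H₂ := by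
      intro H₁ H₂ hlt
      obtain ⟨k, hk⟩ := (hK.to_subgroup H₂).index (H₁.subgroupOf H₂)
      rw [Subgroup.relIndex, hk]
      refine dvd_pow_self p fun h0 => hlt.2 ?_
      rw [h0, pow_zero] at hk
      exact Subgroup.relIndex_eq_one.mp hk
    set M₁ := Z ⊔ Subgroup.zpowers x
    set M₂ := M₁ ⊔ Subgroup.zpowers y
    have h1 : Z < M₁ := SetLike.lt_iff_le_and_exists.mpr
      ⟨le_sup_left, x, (le_sup_right : Subgroup.zpowers x ≤ M₁) (Subgroup.mem_zpowers x), hx⟩
    have h2 : M₁ < M₂ := SetLike.lt_iff_le_and_exists.mpr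
      ⟨le_sup_left, y, (le_sup_right : Subgroup.zpowers y ≤ M₂) (Subgroup.mem_zpowers y), hy⟩
    have h3 : p * p * M₂.index ∣ p ^ 2 := by
      rw [← hidx, ← Subgroup.relIndex_mul_index (h1.le.trans h2.le), ← Subgroup.relIndex_mul_relIndex _ _ _ h1.le h2.le]
      exact mul_dvd_mul_right (mul_dvd_mul (hrel _ _ h1) (hrel _ _ h2)) _
    rw [← pow_two] at h3
    have h4 : M₂.index ∣ 1 :=
      Nat.dvd_of_mul_dvd_mul_left (pow_pos hp.out.pos 2) (by rw [mul_one]; exact h3)
    exact Subgroup.index_eq_one.mp (Nat.dvd_one.mp h4)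
  have hTab : ∀ t ∈ T, ∀ s ∈ T, t * s = s * t := by
    intro t ht s hs
    by_contra hne
    have hsZ : s ∉ Z := fun h => hne (Subgroup.mem_center_iff.mp h t)
    have hle : Z ⊔ Subgroup.zpowers s ≤ Subgroup.centralizer ({s} : Set K) :=
      sup_le (fun z hz => Subgroup.mem_centralizer_singleton_iff.mpr (Subgroup.mem_center_iff.mp hz s).symm)
        (Subgroup.zpowers_le.mpr (Subgroup.mem_centralizer_singleton_iff.mpr rfl))
    have htop' := htop s t hsZ (fun h => hne (Subgroup.mem_centralizer_singleton_iff.mp (hle h)))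
    apply huZT
    have : Z ⊔ Subgroup.zpowers s ⊔ Subgroup.zpowers t ≤ Z ⊔ T :=
      sup_le (sup_le le_sup_left ((Subgroup.zpowers_le.mpr hs).trans le_sup_right))
        ((Subgroup.zpowers_le.mpr ht).trans le_sup_right)
    exact this (htop' ▸ Subgroup.mem_top u)
  -- action on the commutators
  have hlam : ∀ a : A, ∃ l : ℕ, (φ a u) = u ^ l * ((u ^ l)⁻¹ * φ a u) ∧ ((u ^ l)⁻¹ * φ a u) ∈ T ∧
      ∀ x y : K, φ a ⁅x, y⁆ = ⁅x, y⁆ ^ l := by
    intro a
    have hcommap : φ a c ∈ commutator K := by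
      have := (inferInstance : (commutator K).Characteristic).fixed (φ a)
      rw [← this] at hcm
      exact hcm
    obtain ⟨l, hl⟩ := hgen' _ hcommap
    refine ⟨l, by group, ?_, ?_⟩
    · show ((u ^ l)⁻¹ * φ a u) ^ p ^ e = 1
      rw [hmule, inv_pow, ← map_pow, hu, ← pow_mul, mul_comm, pow_mul, hu, hl, inv_mul_cancel]
    · intro x y
      obtain ⟨i, hi⟩ := hgen' _ (Subgroup.commutator_mem_commutator (Subgroup.mem_top x) (Subgroup.mem_top y))
      rw [← hi, map_pow, ← hl, ← pow_mul, ← pow_mul, mul_comm]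
  have hfixu : ∀ (a : A) (v : K), (∀ t ∈ T, t * φ a v = φ a v * t) → ⁅u, φ a v⁆ = ⁅u, v⁆ := by
    intro a v hv
    obtain ⟨l, hul, htT, hl⟩ := hlam a
    apply (φ a).injective
    rw [hl u (φ a v)]
    rw [map_commutatorElement (φ a) u v, hul, CfsgLib.PGroup.commutatorElement_mul_left_of_central _ _ _ (hcz _ _),
      commutatorElement_eq_one_iff_commute.mpr (hv _ htT), mul_one,
      CfsgLib.PGroup.commutatorElement_pow_left_of_central (hcz _ _)]
  have hcomm_of : ∀ v w : K, ⁅u, v⁆ = ⁅u, w⁆ → v⁻¹ * w ∈ Subgroup.centralizer ({u} : Set K) := by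
    intro v w h
    rw [Subgroup.mem_centralizer_singleton_iff]
    have h1 : ⁅u, v⁆ * ⁅u, v⁻¹ * w⁆ = ⁅u, w⁆ := by
      rw [← CfsgLib.PGroup.commutatorElement_mul_right_of_central _ _ _ (hcz _ _), mul_inv_cancel_left]
    rw [h] at h1
    exact (commutatorElement_eq_one_iff_commute.mp (mul_eq_left.mp h1)).symm.eq
  by_cases hT : T ≤ Z
  · have hall : (⊤ : Subgroup K) ≤ Subgroup.centralizer ({u} : Set K) := by
      rw [← hgen, Subgroup.closure_le]
      rintro g ⟨a, x, rfl⟩
      exact hcomm_of _ _ (hfixu a x fun t ht => (Subgroup.mem_center_iff.mp (hT ht) _).symm).symm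
    refine huZT (Subgroup.mem_sup_left (Subgroup.mem_center_iff.mpr fun g => ?_))
    exact Subgroup.mem_centralizer_singleton_iff.mp (hall (Subgroup.mem_top g))
  obtain ⟨w, hwT, hwZ⟩ := SetLike.not_le_iff_exists.mp hT
  have hwfix : ∀ a : A, w⁻¹ * φ a w ∈ Z := by
    intro a
    have haw : φ a w ∈ T := by
      show (φ a w) ^ p ^ e = 1
      rw [← map_pow, (hwT : w ^ p ^ e = 1), map_one]
    have h1 := hcomm_of _ _ (hfixu a w fun t ht => hTab t ht _ haw).symm
    have h2 : w⁻¹ * φ a w ∈ T := T.mul_mem (T.inv_mem hwT) haw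
    have htop' : Z ⊔ Subgroup.zpowers w ⊔ Subgroup.zpowers u = ⊤ := htop w u hwZ fun h =>
      huZT ((sup_le le_sup_left ((Subgroup.zpowers_le.mpr hwT).trans le_sup_right) :
        Z ⊔ Subgroup.zpowers w ≤ Z ⊔ T) h)
    have hcen : Z ⊔ Subgroup.zpowers w ⊔ Subgroup.zpowers u ≤ Subgroup.centralizer ({w⁻¹ * φ a w} : Set K) := by
      refine sup_le (sup_le ?_ ?_) ?_
      · exact fun z hz => Subgroup.mem_centralizer_singleton_iff.mpr (Subgroup.mem_center_iff.mp hz _).symm
      · exact Subgroup.zpowers_le.mpr (Subgroup.mem_centralizer_singleton_iff.mpr (hTab w hwT _ h2))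
      · exact Subgroup.zpowers_le.mpr (Subgroup.mem_centralizer_singleton_iff.mpr
          (Subgroup.mem_centralizer_singleton_iff.mp h1).symm)
    exact Subgroup.mem_center_iff.mpr fun g =>
      Subgroup.mem_centralizer_singleton_iff.mp (hcen (htop' ▸ Subgroup.mem_top g))
  -- averaging
  haveI : Fintype A := Fintype.ofFinite A
  let ψ : K →* Abelianization K := ∏ a : A, Abelianization.of.comp (φ a).toMonoidHom
  have hψ : ∀ x : K, ψ x = ∏ a : A, Abelianization.of (φ a x) := fun x => by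
    simp [ψ, MonoidHom.finsetProd_apply]
  have hψ1 : ∀ x : K, ψ x = 1 := by
    intro x
    have : (⊤ : Subgroup K) ≤ ψ.ker := by
      rw [← hgen, Subgroup.closure_le]
      rintro g ⟨b, y, rfl⟩
      rw [SetLike.mem_coe, MonoidHom.mem_ker, map_mul, map_inv, inv_mul_eq_one, hψ, hψ]
      exact (Fintype.prod_equiv (Equiv.mulRight b) _ _ fun a => by simp [map_mul]).symm
    exact this (Subgroup.mem_top x)
  have hwn : Abelianization.of (w ^ Nat.card A) ∈ Z.map Abelianization.of := by
    have h1 : (∏ a : A, Abelianization.of (w⁻¹ * φ a w)) * Abelianization.of (w ^ Nat.card A) = 1 := by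
      rw [← hψ1 w, hψ, Nat.card_eq_fintype_card, map_pow]
      simp only [map_mul, map_inv, Finset.prod_mul_distrib, Finset.prod_const, Finset.card_univ]
      rw [inv_pow, mul_comm (_⁻¹), mul_assoc, inv_mul_cancel, mul_one]
    rw [eq_inv_of_mul_eq_one_right h1]
    exact inv_mem (Subgroup.prod_mem _ fun a _ => ⟨_, hwfix a, rfl⟩)
  obtain ⟨z, hz, hzw⟩ := hwn
  have hwnZ : w ^ Nat.card A ∈ Z := by
    have : z⁻¹ * w ^ Nat.card A ∈ commutator K := by
      rw [← Abelianization.ker_of, MonoidHom.mem_ker, map_mul, map_inv, hzw, inv_mul_cancel]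
    have := Z.mul_mem hz (hK'Z this)
    rwa [mul_inv_cancel_left] at this
  refine hwZ ?_
  rw [← QuotientGroup.eq_one_iff]
  have e1 : ((w : K ⧸ Z)) ^ Nat.card A = 1 := by
    rw [← QuotientGroup.mk_pow]; exact (QuotientGroup.eq_one_iff _).mpr hwnZ
  have e2 : ((w : K ⧸ Z)) ^ p = 1 := by
    rw [← QuotientGroup.mk_pow]; exact (QuotientGroup.eq_one_iff _).mpr (hpZ w)
  have := pow_gcd_eq_one.mpr ⟨e1, e2⟩
  rwa [hcop.gcd_eq_one, pow_one] at this

/-- No coprime action moves everything on a metacyclic group with derived group of order `p`. -/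
theorem metacyclic_core {K : Type*} [Group K] [Finite K] {p : ℕ} [hp : Fact p.Prime] (hp2 : p ≠ 2)
    (hK : IsPGroup p K) (hm : Cfsg.IsMetacyclic K) (hc : Nat.card (commutator K) = p)
    {A : Type*} [Group A] [Finite A] (hcop : (Nat.card A).Coprime p) (φ : A →* MulAut K)
    (hgen : Subgroup.closure {g : K | ∃ (a : A) (x : K), g = x⁻¹ * φ a x} = ⊤) : False := by
  obtain ⟨D⟩ := CfsgLib.Metacyclic76.exists_data hK hm
  have hn1 : D.n = 1 := Nat.pow_right_injective hp.out.two_le
    (show p ^ D.n = p ^ 1 by rw [← D.card_commutator, hc, pow_one])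
  refine moved_core hp2 hK hc (fun g => ?_) (fun g hg => ?_) ?_ hcop φ hgen
  · have := D.pow_card_center hp2 g
    rwa [hn1, pow_one] at this
  · have h1 : g ∈ Subgroup.closure {x : K | ∃ y : K, y ^ p ^ 1 = x} :=
      (D.mem_powers_closure_iff hp2 1 (by omega) g).mpr (by simpa [hn1] using hg)
    let π : K →* K := MonoidHom.mk' (fun x => x ^ p) fun x y => by
      refine CfsgLib.PGroup.mul_pow_odd_of_central (hp.out.odd_of_ne_two hp2) ?_ ?_
      · exact (haveI : Group.IsNilpotent K := hK.isNilpotent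
          commutator_le_center_of_prime_card (hc ▸ hp.out)) (Subgroup.commutator_mem_commutator (Subgroup.mem_top y) (Subgroup.mem_top x))
      · refine orderOf_dvd_iff_pow_eq_one.mp ?_
        rw [← hc]
        rw [show orderOf ⁅y, x⁆ = orderOf (⟨⁅y, x⁆, Subgroup.commutator_mem_commutator (Subgroup.mem_top y)
          (Subgroup.mem_top x)⟩ : commutator K) from (Subgroup.orderOf_mk _ _).symm]
        exact orderOf_dvd_natCard _
    have h2 : Subgroup.closure {x : K | ∃ y : K, y ^ p ^ 1 = x} ≤ π.range := by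
      rw [Subgroup.closure_le]
      rintro x ⟨y, rfl⟩
      exact ⟨y, by simp [π]⟩
    exact h2 h1
  · have h := D.card_center_mul hp2
    rw [hn1, ← (Subgroup.center K).card_mul_index] at h
    exact (Nat.eq_of_mul_eq_mul_left Nat.card_pos h).symm

/-- Quotients of metacyclic groups are metacyclic. -/
theorem isMetacyclic_of_surjective {K L : Type*} [Group K] [Group L] (f : K →* L) (hf : Function.Surjective f)
    (h : Cfsg.IsMetacyclic K) : Cfsg.IsMetacyclic L := by
  obtain ⟨N, hN, hNc, hQc⟩ := h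
  haveI := hN
  refine ⟨N.map f, hN.map f hf, isCyclic_of_surjective (f.subgroupMap N) (f.subgroupMap_surjective N), ?_⟩
  haveI : (N.map f).Normal := hN.map f hf
  refine isCyclic_of_surjective (QuotientGroup.map N (N.map f) f fun x hx => ⟨x, hx, rfl⟩) ?_
  intro y
  obtain ⟨z, rfl⟩ := QuotientGroup.mk'_surjective _ y
  obtain ⟨x, rfl⟩ := hf z
  exact ⟨QuotientGroup.mk x, rfl⟩

/-- Subgroups of metacyclic groups are metacyclic. -/
theorem isMetacyclic_of_injective {K L : Type*} [Group K] [Group L] (f : K →* L) (hf : Function.Injective f)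
    (h : Cfsg.IsMetacyclic L) : Cfsg.IsMetacyclic K := by
  obtain ⟨N, hN, hNc, hQc⟩ := h
  haveI := hN
  refine ⟨N.comap f, inferInstance, isCyclic_of_injective (f.subgroupComap N) ?_, ?_⟩
  · intro a b hab
    exact Subtype.ext (hf (congrArg Subtype.val hab))
  · refine isCyclic_of_injective (QuotientGroup.map (N.comap f) N f le_rfl) ?_
    rw [injective_iff_map_eq_one]
    intro a ha
    obtain ⟨x, rfl⟩ := QuotientGroup.mk'_surjective _ a
    exact (QuotientGroup.eq_one_iff x).mpr ((QuotientGroup.eq_one_iff (f x)).mp ha)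

/-- A metacyclic `p`-group moved entirely by a coprime operator group is abelian. -/
theorem metacyclic_moved_abelian {K : Type*} [Group K] [Finite K] {p : ℕ} [hp : Fact p.Prime] (hp2 : p ≠ 2)
    (hK : IsPGroup p K) (hm : Cfsg.IsMetacyclic K)
    {A : Type*} [Group A] [Finite A] (hcop : (Nat.card A).Coprime p) (φ : A →* MulAut K)
    (hgen : Subgroup.closure {g : K | ∃ (a : A) (x : K), g = x⁻¹ * φ a x} = ⊤) : IsMulCommutative K := by
  obtain ⟨D⟩ := CfsgLib.Metacyclic76.exists_data hK hm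
  obtain ⟨c, hc⟩ : ∃ c : K, commutator K = Subgroup.zpowers c := ⟨_, D.commutator_eq⟩
  have hchar : (commutator K).Characteristic := inferInstance
  have hmem : ∀ (f : MulAut K) (z : K), z ∈ commutator K → f z ∈ commutator K := fun f z hz => by
    rw [← hchar.fixed f] at hz
    exact hz
  -- commutators are central
  have hK'Z : commutator K ≤ Subgroup.center K := by
    have hgenC : (⊤ : Subgroup K) ≤ Subgroup.centralizer (commutator K : Set K) := by
      rw [← hgen, Subgroup.closure_le]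
      rintro g ⟨a, x, rfl⟩
      rw [SetLike.mem_coe, Subgroup.mem_centralizer_iff]
      intro z hz
      obtain ⟨i, hi⟩ := Subgroup.mem_zpowers_iff.mp
        (hc ▸ hmem (MulAut.conj x) c (hc.symm ▸ Subgroup.mem_zpowers c))
      obtain ⟨j, hj⟩ := Subgroup.mem_zpowers_iff.mp (hc ▸ hmem (φ a) c (hc.symm ▸ Subgroup.mem_zpowers c))
      have e1 : ∀ w ∈ commutator K, MulAut.conj x w = w ^ i := fun w hw => by
        obtain ⟨n, rfl⟩ := Subgroup.mem_zpowers_iff.mp (hc ▸ hw)
        rw [map_zpow, ← hi, ← zpow_mul, ← zpow_mul, mul_comm]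
      have e2 : ∀ w ∈ commutator K, φ a w = w ^ j := fun w hw => by
        obtain ⟨n, rfl⟩ := Subgroup.mem_zpowers_iff.mp (hc ▸ hw)
        rw [map_zpow, ← hj, ← zpow_mul, ← zpow_mul, mul_comm]
      -- conjugation by `φ a x` agrees with conjugation by `x`
      have e3 : φ a x * z * (φ a x)⁻¹ = x * z * x⁻¹ := by
        obtain ⟨z', hz', rfl⟩ : ∃ z' ∈ commutator K, φ a z' = z :=
          ⟨(φ a).symm z, hmem (φ a).symm z hz, (φ a).apply_symm_apply z⟩
        rw [← map_inv, ← map_mul, ← map_mul]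
        have h1 : x * z' * x⁻¹ = z' ^ i := e1 z' hz'
        rw [h1, map_zpow]
        exact (e1 _ (hmem (φ a) z' hz')).symm
      calc z * (x⁻¹ * φ a x) = x⁻¹ * (x * z * x⁻¹) * φ a x := by group
        _ = x⁻¹ * (φ a x * z * (φ a x)⁻¹) * φ a x := by rw [e3]
        _ = x⁻¹ * φ a x * z := by group
    exact fun z hz => Subgroup.mem_center_iff.mpr fun g =>
      (Subgroup.mem_centralizer_iff.mp (hgenC (Subgroup.mem_top g)) z hz).symm
  by_contra hna
  have hc1 : c ≠ 1 := by
    intro h
    apply hna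
    refine ⟨⟨fun x y => commutatorElement_eq_one_iff_commute.mp ?_⟩⟩
    have hxy : ⁅x, y⁆ ∈ commutator K := Subgroup.commutator_mem_commutator (Subgroup.mem_top x) (Subgroup.mem_top y)
    rw [hc, h, Subgroup.zpowers_one_eq_bot, Subgroup.mem_bot] at hxy
    exact hxy
  have hcZ : c ∈ Subgroup.center K := hK'Z (hc.symm ▸ Subgroup.mem_zpowers c)
  set N := Subgroup.zpowers (c ^ p) with hN
  have hNZ : N ≤ Subgroup.center K := Subgroup.zpowers_le.mpr (pow_mem hcZ p)
  haveI hNn : N.Normal := ⟨fun z hz g => by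
    rw [Subgroup.mem_center_iff.mp (hNZ hz) g]; simpa using hz⟩
  have hNφ : ∀ a : A, N.map (φ a).toMonoidHom = N := by
    intro a
    have hle : ∀ f : MulAut K, N.map f.toMonoidHom ≤ N := by
      intro f
      rw [hN, MonoidHom.map_zpowers, Subgroup.zpowers_le]
      obtain ⟨j, hj⟩ := Subgroup.mem_zpowers_iff.mp (hc ▸ hmem f c (hc.symm ▸ Subgroup.mem_zpowers c))
      show f (c ^ p) ∈ Subgroup.zpowers (c ^ p)
      rw [map_pow, ← hj, ← zpow_natCast (c ^ j), ← zpow_mul, mul_comm, zpow_mul, zpow_natCast]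
      exact zpow_mem (Subgroup.mem_zpowers _) j
    exact Subgroup.eq_of_le_of_card_ge (hle _) (by rw [Subgroup.card_map_of_injective (φ a).injective])
  let φq : A →* MulAut (K ⧸ N) :=
    { toFun := fun a => QuotientGroup.congr N N (φ a) (hNφ a)
      map_one' := by
        ext y
        obtain ⟨x, rfl⟩ := QuotientGroup.mk'_surjective N y
        show (QuotientGroup.mk (φ 1 x) : K ⧸ N) = QuotientGroup.mk x
        simp
      map_mul' := fun a b => by
        ext y
        obtain ⟨x, rfl⟩ := QuotientGroup.mk'_surjective N y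
        show (QuotientGroup.mk (φ (a * b) x) : K ⧸ N) = QuotientGroup.mk (φ a (φ b x))
        simp }
  have hmk : (commutator K).map (QuotientGroup.mk' N) = commutator (K ⧸ N) := by
    rw [commutator_def, Subgroup.map_commutator, Subgroup.map_top_of_surjective _ (QuotientGroup.mk'_surjective N),
      ← commutator_def]
  refine metacyclic_core (K := K ⧸ N) (p := p) hp2 (hK.to_quotient N)
    (isMetacyclic_of_surjective _ (QuotientGroup.mk'_surjective N) hm) ?_ hcop φq ?_
  · rw [← hmk, hc, MonoidHom.map_zpowers, Nat.card_zpowers]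
    refine orderOf_eq_prime ?_ fun h => ?_
    · rw [← map_pow]; exact (QuotientGroup.eq_one_iff _).mpr (Subgroup.mem_zpowers _)
    · obtain ⟨k, hk⟩ := Subgroup.mem_zpowers_iff.mp ((QuotientGroup.eq_one_iff c).mp h)
      have h1 : c ^ ((p : ℤ) * k - 1) = 1 := by
        rw [zpow_sub, zpow_mul, zpow_natCast, hk, zpow_one, mul_inv_cancel]
      obtain ⟨m, hm'⟩ := IsPGroup.iff_orderOf.mp hK c
      have h2 := orderOf_dvd_iff_zpow_eq_one.mpr h1
      rw [hm'] at h2
      rcases Nat.eq_zero_or_pos m with h0 | h0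
      · rw [h0, pow_zero, orderOf_eq_one_iff] at hm'; exact hc1 hm'
      · have h3 : (p : ℤ) ∣ 1 := by
          have := dvd_sub (dvd_mul_right (p : ℤ) k)
            (dvd_trans (by exact_mod_cast dvd_pow_self p h0.ne') h2)
          simpa using this
        exact hp.out.ne_one (by exact_mod_cast Int.eq_one_of_dvd_one (by positivity) h3)
  · rw [eq_top_iff, ← Subgroup.map_top_of_surjective _ (QuotientGroup.mk'_surjective N), ← hgen,
      MonoidHom.map_closure]
    refine Subgroup.closure_mono ?_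
    rintro _ ⟨g, ⟨a, x, rfl⟩, rfl⟩
    exact ⟨a, QuotientGroup.mk x, rfl⟩

end CfsgLib.OddOrder41
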