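import Mathlib.GroupTheory.Index
import Cfsg.Agent.Lib.OddOrder41.Metacyclic
import Cfsg.Agent.Lib.PLocal5.SmallRank
import Cfsg.Agent.Lib.PLocal5.Class3
import Cfsg.Agent.Lib.PGroup.Frattini
import Cfsg.Agent.Lib.PCore.Basic

set_option autoImplicit false

/-! `p ≥ 5`: a `p`-group without subgroup of exponent `p` and order `p ^ 3`, moved by a coprime group, is abelian. -/

namespace CfsgLib.OddOrder41

open scoped commutatorElement
open CfsgLib.Class3 (rc)

/-- Every subgroup of exponent `p` has order less than `p ^ 3`. -/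
def NoExpCube (p : ℕ) (R : Type*) [Group R] : Prop :=
  ∀ S : Subgroup R, (∀ x ∈ S, x ^ p = 1) → Nat.card S < p ^ 3

/-- In class three, commutators have order dividing `p` when the `p`-th powers are central of order `p`. -/
theorem commutator_pow_of_pow_central {S : Type*} [Group S] {p : ℕ} [hp : Fact p.Prime] (hp3 : 3 < p)
    (hcl : ⁅⁅commutator S, (⊤ : Subgroup S)⁆, (⊤ : Subgroup S)⁆ = ⊥)
    (hpow : ∀ x : S, x ^ p ∈ Subgroup.center S) (x y : S) : rc y x ^ p = 1 := by
  set u := rc y x with hu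
  have h1 : y * x = x * y * u := CfsgLib.Class3.mul_rc y x
  set w := rc u y with hw
  have hwc : w ∈ Subgroup.center S :=
    CfsgLib.Class3.rc_mem_center hcl (CfsgLib.Class3.rc_mem_commutator y x) y
  have h3 : u * y = y * u * w := CfsgLib.Class3.mul_rc u y
  have e := CfsgLib.Class3.pow_mul_comm_of_central hwc h3 p
  rw [Subgroup.mem_center_iff.mp (hpow u) y] at *
  have hwp : w ^ p = 1 := left_eq_mul.mp e
  have e2 := CfsgLib.Class3.pow_mul_swap hwc h1 h3 p
  obtain ⟨k, hk⟩ := hp.out.dvd_choose_self two_ne_zero (by omega : 2 < p)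
  rw [hk, pow_mul, hwp, one_pow, mul_one, ← Subgroup.mem_center_iff.mp (hpow y) x] at e2
  exact left_eq_mul.mp e2

/-- `NoExpCube` passes to quotients by central subgroups of order `p`. -/
theorem NoExpCube.quotient {R : Type*} [Group R] [Finite R] {p : ℕ} [hp : Fact p.Prime] (hp3 : 3 < p)
    (hR : IsPGroup p R) (h : NoExpCube p R) (N : Subgroup R) [N.Normal] (hN : N ≤ Subgroup.center R)
    (hNc : Nat.card N = p) : NoExpCube p (R ⧸ N) := by
  intro T hT
  by_contra hcon
  push Not at hcon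
  obtain ⟨n, hn⟩ := IsPGroup.iff_card.mp ((hR.to_quotient N).to_subgroup T)
  have hn3 : 3 ≤ n := (Nat.pow_le_pow_iff_right hp.out.one_lt).mp (hn ▸ hcon)
  obtain ⟨T', hT'⟩ := Sylow.exists_subgroup_card_pow_prime p
    (show p ^ 3 ∣ Nat.card T by rw [hn]; exact pow_dvd_pow p hn3)
  set U := T'.map T.subtype with hU
  have hUT : U ≤ T := Subgroup.map_subtype_le T'
  set S := U.comap (QuotientGroup.mk' N) with hS
  have hScard : Nat.card S = p ^ 4 := by
    rw [hS, CfsgLib.PCore.card_comap_mk', hU, Subgroup.card_map_of_injective T.subtype_injective, hT', hNc]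
    ring
  have hSp : IsPGroup p S := hR.to_subgroup S
  have hpowN : ∀ x : S, (x : R) ^ p ∈ N := fun x => by
    rw [← QuotientGroup.eq_one_iff]
    exact hT _ (hUT x.2)
  have hpowc : ∀ x : S, x ^ p ∈ Subgroup.center S := fun x => by
    rw [Subgroup.mem_center_iff]
    intro g
    exact Subtype.ext (Subgroup.mem_center_iff.mp (hN (hpowN x)) g)
  have hcl := CfsgLib.SmallRank.class_three_of_card_le hSp hScard.le
  have hder : commutator S ≤ Subgroup.closure {x : S | x ^ p = 1} := by
    rw [commutator_def, Subgroup.commutator_le]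
    intro a _ b _
    refine Subgroup.subset_closure ?_
    have : ⁅a, b⁆ = rc a⁻¹ b⁻¹ := by simp [rc, commutatorElement_def]
    rw [Set.mem_ofPred_eq, this]
    exact commutator_pow_of_pow_central hp3 hcl hpowc _ _
  let π : S →* N := MonoidHom.mk' (fun x => ⟨(x : R) ^ p, hpowN x⟩) fun x y => Subtype.ext (by
    simpa using congrArg Subtype.val
      (CfsgLib.Class3.mul_pow_of_commutator_le hp.out (Or.inr ⟨hp3, hcl⟩) hder x y))
  have hker : Nat.card (π.ker.map S.subtype) < p ^ 3 := h _ (by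
    rintro _ ⟨x, hx, rfl⟩
    exact congrArg Subtype.val (MonoidHom.mem_ker.mp hx))
  rw [Subgroup.card_map_of_injective S.subtype_injective] at hker
  have h1 := π.ker.card_mul_index
  rw [Subgroup.index_ker, hScard] at h1
  have h2 : Nat.card π.range ≤ p := hNc ▸ Subgroup.card_le_card_group π.range
  nlinarith [Nat.mul_lt_mul_of_lt_of_le hker h2 hp.out.pos]

/-- A normal nontrivial subgroup of a `p`-group has a central subgroup of order `p`. -/
theorem exists_central_order_p {R : Type*} [Group R] [Finite R] {p : ℕ} [hp : Fact p.Prime] (hR : IsPGroup p R)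
    (U : Subgroup R) [U.Normal] (hU : U ≠ ⊥) :
    ∃ N : Subgroup R, N ≤ U ∧ N ≤ Subgroup.center R ∧ Nat.card N = p := by
  haveI : Group.IsNilpotent R := hR.isNilpotent
  obtain ⟨y, hy, hy1, hyc⟩ := exists_central_step U ⊥ (fun h => hU (le_bot_iff.mp h))
  have hyZ : y ∈ Subgroup.center R := Subgroup.mem_center_iff.mpr fun g =>
    (commutatorElement_eq_one_iff_commute.mp (Subgroup.mem_bot.mp (hyc g))).symm.eq
  obtain ⟨k, hk⟩ := IsPGroup.iff_orderOf.mp hR y
  have hk0 : k ≠ 0 := fun h0 => hy1 (by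
    rw [h0, pow_zero, orderOf_eq_one_iff] at hk
    rw [hk]; exact one_mem _)
  refine ⟨Subgroup.zpowers (y ^ p ^ (k - 1)), Subgroup.zpowers_le.mpr (pow_mem hy _),
    Subgroup.zpowers_le.mpr (pow_mem hyZ _), ?_⟩
  obtain ⟨j, rfl⟩ := Nat.exists_eq_succ_of_ne_zero hk0
  rw [Nat.card_zpowers, Nat.succ_sub_one, orderOf_pow' y (pow_ne_zero _ hp.out.ne_zero), hk,
    Nat.gcd_eq_right (pow_dvd_pow p (Nat.le_succ j)), Nat.pow_div (Nat.le_succ j) hp.out.pos]
  simp

/-- The closure of the `p`-th powers. -/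
def powClosure (p : ℕ) (R : Type*) [Group R] : Subgroup R := Subgroup.closure {x : R | ∃ y : R, y ^ p = x}

theorem powClosure_normal {R : Type*} [Group R] (p : ℕ) : (powClosure p R).Normal := by
  refine ⟨fun n hn g => ?_⟩
  refine closure_conj_invariant (a := g) ?_ n hn
  rintro z ⟨y, rfl⟩
  exact Subgroup.subset_closure ⟨g * y * g⁻¹, by rw [conj_pow]⟩

theorem index_powClosure_le {p : ℕ} [hp : Fact p.Prime] (hp3 : 3 < p) :
    ∀ (n : ℕ) (R : Type*) [Group R] [Finite R], Nat.card R = n → IsPGroup p R → NoExpCube p R →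
      (powClosure p R).index ≤ p ^ 2 := by
  intro n
  induction n using Nat.strong_induction_on with
  | _ n ih =>
    intro R _ _ hn hR h
    haveI := powClosure_normal (R := R) p
    by_cases hbot : powClosure p R = ⊥
    · rw [hbot, Subgroup.index_bot]
      have hexp : ∀ x ∈ (⊤ : Subgroup R), x ^ p = 1 := fun x _ => by
        have : x ^ p ∈ powClosure p R := Subgroup.subset_closure ⟨x, rfl⟩
        rwa [hbot, Subgroup.mem_bot] at this
      have := h ⊤ hexp
      rw [Subgroup.card_top] at this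
      obtain ⟨m, hm⟩ := hR.exists_card_eq
      rw [hm] at this ⊢
      exact Nat.pow_le_pow_right hp.out.pos (Nat.le_of_lt_succ ((Nat.pow_lt_pow_iff_right hp.out.one_lt).mp this))
    obtain ⟨N, hNU, hNZ, hNc⟩ := exists_central_order_p hR _ hbot
    haveI : N.Normal := ⟨fun z hz g => by rw [Subgroup.mem_center_iff.mp (hNZ hz) g]; simpa using hz⟩
    have hlt : Nat.card (R ⧸ N) < n := by
      rw [← hn, ← Subgroup.index_eq_card, ← N.card_mul_index, hNc]
      exact lt_mul_of_one_lt_left (Nat.pos_of_ne_zero N.index_ne_zero_of_finite) hp.out.one_lt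
    have hle := ih _ hlt (R ⧸ N) rfl (hR.to_quotient N) (h.quotient hp3 hR N hNZ hNc)
    have heq : (powClosure p (R ⧸ N)).comap (QuotientGroup.mk' N) = powClosure p R := by
      have hmap : (powClosure p R).map (QuotientGroup.mk' N) = powClosure p (R ⧸ N) := by
        rw [powClosure, MonoidHom.map_closure, powClosure]
        congr 1
        ext z
        constructor
        · rintro ⟨_, ⟨y, rfl⟩, rfl⟩
          exact ⟨QuotientGroup.mk' N y, (map_pow _ _ _).symm⟩
        · rintro ⟨y, rfl⟩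
          obtain ⟨y, rfl⟩ := QuotientGroup.mk'_surjective N y
          exact ⟨y ^ p, ⟨y, rfl⟩, map_pow _ _ _⟩
      rw [← hmap, Subgroup.comap_map_eq, QuotientGroup.ker_mk', sup_eq_left.mpr hNU]
    rw [← heq, Subgroup.index_comap_of_surjective _ (QuotientGroup.mk'_surjective N)]
    exact hle

/-- `p ≥ 5`: a `p`-group with no exponent-`p` subgroup of order `p ^ 3`, moved entirely by a coprime operator
group, is abelian. -/
theorem moved_abelian_of_noExpCube {R : Type*} [Group R] [Finite R] {p : ℕ} [hp : Fact p.Prime] (hp3 : 3 < p)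
    (hR : IsPGroup p R) (h : NoExpCube p R)
    {A : Type*} [Group A] [Finite A] (hcop : (Nat.card A).Coprime p) (φ : A →* MulAut R)
    (hgen : Subgroup.closure {g : R | ∃ (a : A) (x : R), g = x⁻¹ * φ a x} = ⊤) : IsMulCommutative R := by
  haveI : Group.IsNilpotent R := hR.isNilpotent
  by_contra hna
  have hD : commutator R ≠ ⊥ := fun h0 => hna ⟨⟨fun x y => commutatorElement_eq_one_iff_commute.mp
    (Subgroup.mem_bot.mp (h0 ▸ Subgroup.commutator_mem_commutator (Subgroup.mem_top x) (Subgroup.mem_top y)))⟩⟩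
  set D := commutator R with hDdef
  let T : Set R := {z | ∃ (a : R) (g : R), a ∈ D ∧ z = ⁅a, g⁆} ∪ {z | ∃ a : R, a ∈ D ∧ z = a ^ p}
  set L := Subgroup.closure T with hL
  have hLD : L ≤ D := by
    rw [hL, Subgroup.closure_le]
    rintro z (⟨a, g, ha, rfl⟩ | ⟨a, ha, rfl⟩)
    · exact Subgroup.commutator_mem_commutator (Subgroup.mem_top a) (Subgroup.mem_top g)
    · exact D.pow_mem ha p
  have hLn : L.Normal := ⟨fun z hz g => closure_conj_invariant (a := g) (fun w hw => Subgroup.subset_closure (by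
    rcases hw with ⟨a, b, ha, rfl⟩ | ⟨a, ha, rfl⟩
    · exact Or.inl ⟨g * a * g⁻¹, g * b * g⁻¹, (inferInstance : D.Normal).conj_mem a ha g, by
        simp only [commutatorElement_def]; group⟩
    · exact Or.inr ⟨g * a * g⁻¹, (inferInstance : D.Normal).conj_mem a ha g, conj_pow.symm⟩)) z hz⟩
  have hLne : L ≠ D := by
    intro heq
    set M₀ := ⁅D, (⊤ : Subgroup R)⁆ with hM₀
    have hlt : M₀ < D := CfsgLib.Coprime.commutator_lt_of_isPGroup (p := p) (hR.to_subgroup D)
      (hR.to_subgroup ⊤) (by rw [Subgroup.normalizer_eq_top]) hD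
    have hne : M₀.subgroupOf D ≠ ⊤ := fun h => hlt.2 (Subgroup.subgroupOf_eq_top.mp h)
    obtain ⟨C, hC, hMC⟩ := (eq_top_or_exists_le_coatom (M₀.subgroupOf D)).resolve_left hne
    have : L ≤ C.map D.subtype := by
      rw [hL, Subgroup.closure_le]
      rintro z (⟨a, g, ha, rfl⟩ | ⟨a, ha, rfl⟩)
      · exact ⟨⟨_, Subgroup.commutator_mem_commutator (Subgroup.mem_top a) (Subgroup.mem_top g)⟩,
          hMC (Subgroup.commutator_mem_commutator ha (Subgroup.mem_top g)), rfl⟩
      · exact ⟨(⟨a, ha⟩ : D) ^ p, CfsgLib.PGroup.pow_mem_of_isCoatom (hR.to_subgroup D) hC ⟨a, ha⟩, rfl⟩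
    apply hC.1
    rw [eq_top_iff]
    intro d _
    obtain ⟨c, hc, hcd⟩ := this (show (d : R) ∈ L by rw [heq]; exact d.2)
    exact (Subtype.ext hcd : c = d) ▸ hc
  haveI := hLn
  have hLφ : ∀ a : A, L.map (φ a).toMonoidHom = L := by
    intro a
    refine Subgroup.eq_of_le_of_card_ge ?_ (by rw [Subgroup.card_map_of_injective (φ a).injective])
    rw [hL, MonoidHom.map_closure]
    refine Subgroup.closure_mono ?_
    have hDa : ∀ d ∈ D, φ a d ∈ D := fun d hd => by
      have := (inferInstance : D.Characteristic).fixed (φ a)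
      rw [← this] at hd
      exact hd
    rintro _ ⟨w, (⟨d, g, hd, rfl⟩ | ⟨d, hd, rfl⟩), rfl⟩
    · exact Or.inl ⟨φ a d, φ a g, hDa d hd, map_commutatorElement (φ a) d g⟩
    · exact Or.inr ⟨φ a d, hDa d hd, map_pow (φ a) d p⟩
  let φq : A →* MulAut (R ⧸ L) :=
    { toFun := fun a => QuotientGroup.congr L L (φ a) (hLφ a)
      map_one' := by
        ext y
        obtain ⟨x, rfl⟩ := QuotientGroup.mk'_surjective L y
        show (QuotientGroup.mk (φ 1 x) : R ⧸ L) = QuotientGroup.mk x
        simp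
      map_mul' := fun a b => by
        ext y
        obtain ⟨x, rfl⟩ := QuotientGroup.mk'_surjective L y
        show (QuotientGroup.mk (φ (a * b) x) : R ⧸ L) = QuotientGroup.mk (φ a (φ b x))
        simp }
  set q := QuotientGroup.mk' L with hq
  have hqsurj : Function.Surjective q := QuotientGroup.mk'_surjective L
  have hKder : D.map q = commutator (R ⧸ L) := by
    rw [hDdef, commutator_def, Subgroup.map_commutator, Subgroup.map_top_of_surjective _ hqsurj, commutator_def]
  -- class two, derived group of exponent `p`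
  have hcen : commutator (R ⧸ L) ≤ Subgroup.center (R ⧸ L) := by
    rw [← hKder]
    rintro _ ⟨d, hd, rfl⟩
    rw [Subgroup.mem_center_iff]
    intro g
    obtain ⟨g, rfl⟩ := hqsurj g
    have : q ⁅d, g⁆ = 1 :=
      (QuotientGroup.eq_one_iff _).mpr (Subgroup.subset_closure (Or.inl ⟨d, g, hd, rfl⟩))
    rw [map_commutatorElement, commutatorElement_eq_one_iff_commute] at this
    exact this.symm.eq
  have hexp : ∀ z ∈ commutator (R ⧸ L), z ^ p = 1 := by
    rw [← hKder]
    rintro _ ⟨d, hd, rfl⟩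
    rw [← map_pow]
    exact (QuotientGroup.eq_one_iff _).mpr (Subgroup.subset_closure (Or.inr ⟨d, hd, rfl⟩))
  set Z := Subgroup.center (R ⧸ L) with hZ
  have hcz : ∀ x y : R ⧸ L, ⁅x, y⁆ ∈ Z := fun x y =>
    hcen (Subgroup.commutator_mem_commutator (Subgroup.mem_top x) (Subgroup.mem_top y))
  have hce : ∀ x y : R ⧸ L, ⁅x, y⁆ ^ p = 1 := fun x y =>
    hexp _ (Subgroup.commutator_mem_commutator (Subgroup.mem_top x) (Subgroup.mem_top y))
  have hpZ : ∀ g : R ⧸ L, g ^ p ∈ Z := by
    intro g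
    rw [hZ, Subgroup.mem_center_iff]
    intro k
    refine (commutatorElement_eq_one_iff_commute.mp ?_).symm.eq
    rw [CfsgLib.PGroup.commutatorElement_pow_left_of_central (hcz g k), hce]
  let π : (R ⧸ L) →* (R ⧸ L) := MonoidHom.mk' (fun x => x ^ p) fun x y =>
    CfsgLib.PGroup.mul_pow_odd_of_central (hp.out.odd_of_ne_two (by omega)) (hcz y x) (hce y x)
  have hπZ : π.range ≤ Z := by rintro _ ⟨x, rfl⟩; exact hpZ x
  have hπidx : π.range.index ≤ p ^ 2 := by
    have h0 := index_powClosure_le hp3 _ R rfl hR h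
    have h1 : powClosure p R ≤ π.range.comap q := by
      rw [powClosure, Subgroup.closure_le]
      rintro _ ⟨y, rfl⟩
      exact ⟨q y, (map_pow q y p).symm⟩
    calc π.range.index = (π.range.comap q).index := (Subgroup.index_comap_of_surjective _ hqsurj).symm
      _ ≤ (powClosure p R).index :=
          Nat.le_of_dvd (Nat.pos_of_ne_zero Subgroup.index_ne_zero_of_finite) (Subgroup.index_dvd_of_le h1)
      _ ≤ p ^ 2 := h0
  have hDne : commutator (R ⧸ L) ≠ ⊥ := by
    intro h0
    apply hLne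
    refine le_antisymm hLD fun d hd => ?_
    have : q d ∈ commutator (R ⧸ L) := hKder ▸ ⟨d, hd, rfl⟩
    rw [h0, Subgroup.mem_bot] at this
    exact (QuotientGroup.eq_one_iff d).mp this
  have hKp : IsPGroup p (R ⧸ L) := hR.to_quotient L
  obtain ⟨i, hi⟩ := hKp.index Z
  have hi2 : i = 2 := by
    have hle : i ≤ 2 := (Nat.pow_le_pow_iff_right hp.out.one_lt).mp (hi ▸ le_trans
      (Nat.le_of_dvd (Nat.pos_of_ne_zero Subgroup.index_ne_zero_of_finite) (Subgroup.index_dvd_of_le hπZ)) hπidx)
    by_contra hne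
    apply hDne
    have hi1 : i ≤ 1 := by omega
    haveI : IsCyclic ((R ⧸ L) ⧸ Z) := by
      rcases Nat.le_one_iff_eq_zero_or_eq_one.mp hi1 with h0 | h0
      · haveI : Subsingleton ((R ⧸ L) ⧸ Z) :=
          (Nat.card_eq_one_iff_unique.mp (by rw [← Subgroup.index_eq_card, hi, h0, pow_zero])).1
        infer_instance
      · exact isCyclic_of_prime_card (p := p) (by rw [← Subgroup.index_eq_card, hi, h0, pow_one])
    rw [eq_bot_iff, commutator_def, Subgroup.commutator_le]
    intro x _ y _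
    rw [Subgroup.mem_bot, commutatorElement_eq_one_iff_commute]
    exact (commutative_of_cyclic_center_quotient (QuotientGroup.mk' Z) (by rw [QuotientGroup.ker_mk'])) x y
  have hrangeZ : π.range = Z := by
    refine le_antisymm hπZ (Subgroup.relIndex_eq_one.mp ?_)
    have h1 := Subgroup.relIndex_mul_index hπZ
    rw [hi, hi2] at h1
    have : π.range.relIndex Z * p ^ 2 ≤ 1 * p ^ 2 := by rw [one_mul]; exact le_of_eq_of_le h1 hπidx
    have h2 := Nat.le_of_mul_le_mul_right this (pow_pos hp.out.pos 2)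
    have h3 : π.range.relIndex Z ≠ 0 := Subgroup.index_ne_zero_of_finite
    omega
  refine moved_core (K := R ⧸ L) (p := p) (by omega) hKp ?_ hpZ (fun g hg => ?_) (by rw [hi, hi2]) hcop φq ?_
  · -- two generators modulo the centre
    haveI hZn : Z.Normal := inferInstance
    have hcard : Nat.card ((R ⧸ L) ⧸ Z) = p ^ 2 := by rw [← Subgroup.index_eq_card, hi, hi2]
    have hexpQ : ∀ w : (R ⧸ L) ⧸ Z, w ^ p = 1 := fun w => by
      obtain ⟨x, rfl⟩ := QuotientGroup.mk'_surjective Z w
      rw [← map_pow]; exact (QuotientGroup.eq_one_iff _).mpr (hpZ x)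
    obtain ⟨a, ha⟩ : ∃ a : (R ⧸ L) ⧸ Z, a ≠ 1 := by
      haveI : Nontrivial ((R ⧸ L) ⧸ Z) := Finite.one_lt_card_iff_nontrivial.mp (by
        rw [hcard]; exact Nat.one_lt_pow two_ne_zero hp.out.one_lt)
      exact exists_ne 1
    obtain ⟨b, hb⟩ : ∃ b, b ∉ Subgroup.zpowers a := by
      by_contra hcon
      push Not at hcon
      have : Subgroup.zpowers a = ⊤ := eq_top_iff.mpr fun x _ => hcon x
      have h1 := congrArg (fun H : Subgroup ((R ⧸ L) ⧸ Z) => Nat.card H) this
      simp only [Subgroup.card_top, Nat.card_zpowers, hcard, orderOf_eq_prime (hexpQ a) ha] at h1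
      nlinarith [hp.out.one_lt]
    obtain ⟨a, rfl⟩ := QuotientGroup.mk'_surjective Z a
    obtain ⟨b, rfl⟩ := QuotientGroup.mk'_surjective Z b
    set c := ⁅a, b⁆ with hc
    have hgen2 : Z ⊔ Subgroup.zpowers a ⊔ Subgroup.zpowers b = ⊤ := by
      rw [← Subgroup.index_eq_one]
      set M₁ := Z ⊔ Subgroup.zpowers a
      set M₂ := M₁ ⊔ Subgroup.zpowers b
      have hrel : ∀ H₁ H₂ : Subgroup (R ⧸ L), H₁ < H₂ → p ∣ H₁.relIndex H₂ := by
        intro H₁ H₂ hlt
        obtain ⟨k, hk⟩ := (hKp.to_subgroup H₂).index (H₁.subgroupOf H₂)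
        rw [Subgroup.relIndex, hk]
        refine dvd_pow_self p fun h0 => hlt.2 ?_
        rw [h0, pow_zero] at hk
        exact Subgroup.relIndex_eq_one.mp hk
      have h1 : Z < M₁ := SetLike.lt_iff_le_and_exists.mpr ⟨le_sup_left, a,
        (le_sup_right : Subgroup.zpowers a ≤ M₁) (Subgroup.mem_zpowers a),
        fun h => ha ((QuotientGroup.eq_one_iff a).mpr h)⟩
      have h2 : M₁ < M₂ := SetLike.lt_iff_le_and_exists.mpr ⟨le_sup_left, b,
        (le_sup_right : Subgroup.zpowers b ≤ M₂) (Subgroup.mem_zpowers b), fun h => hb (by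
          have : M₁.map (QuotientGroup.mk' Z) ≤ Subgroup.zpowers (QuotientGroup.mk' Z a) := by
            rw [Subgroup.map_sup, MonoidHom.map_zpowers]
            refine sup_le ?_ le_rfl
            rintro _ ⟨z, hz, rfl⟩
            rw [show QuotientGroup.mk' Z z = 1 from (QuotientGroup.eq_one_iff z).mpr hz]; exact one_mem _
          exact this ⟨b, h, rfl⟩)⟩
      have h3 : p * p * M₂.index ∣ p ^ 2 := by
        rw [← hi2, ← hi, ← Subgroup.relIndex_mul_index (h1.le.trans h2.le),
          ← Subgroup.relIndex_mul_relIndex _ _ _ h1.le h2.le]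
        exact mul_dvd_mul_right (mul_dvd_mul (hrel _ _ h1) (hrel _ _ h2)) _
      rw [← pow_two] at h3
      exact Nat.dvd_one.mp (Nat.dvd_of_mul_dvd_mul_left (pow_pos hp.out.pos 2) (by rw [mul_one]; exact h3))
    let f : (R ⧸ L) → (R ⧸ L) →* (R ⧸ L) := fun g => MonoidHom.mk' (fun x => ⁅x, g⁆)
      fun x y => CfsgLib.PGroup.commutatorElement_mul_left_of_central x y g (hcz y g)
    have key : ∀ g : R ⧸ L, ⁅a, g⁆ ∈ Subgroup.zpowers c → ⁅b, g⁆ ∈ Subgroup.zpowers c →
        ∀ x : R ⧸ L, ⁅x, g⁆ ∈ Subgroup.zpowers c := by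
      intro g h1 h2 x
      have : Z ⊔ Subgroup.zpowers a ⊔ Subgroup.zpowers b ≤ (Subgroup.zpowers c).comap (f g) := by
        refine sup_le (sup_le ?_ (Subgroup.zpowers_le.mpr h1)) (Subgroup.zpowers_le.mpr h2)
        intro z hz
        show ⁅z, g⁆ ∈ Subgroup.zpowers c
        rw [commutatorElement_eq_one_iff_commute.mpr (Subgroup.mem_center_iff.mp hz g).symm]
        exact one_mem _
      exact this (hgen2 ▸ Subgroup.mem_top x)
    have hxa : ∀ x, ⁅x, a⁆ ∈ Subgroup.zpowers c := key a
      (by rw [commutatorElement_self]; exact one_mem _)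
      (by rw [← commutatorElement_inv a b]; exact inv_mem (Subgroup.mem_zpowers c))
    have hxb : ∀ x, ⁅x, b⁆ ∈ Subgroup.zpowers c := key b (Subgroup.mem_zpowers c)
      (by rw [commutatorElement_self]; exact one_mem _)
    have hle : commutator (R ⧸ L) ≤ Subgroup.zpowers c := by
      rw [commutator_def, Subgroup.commutator_le]
      intro x _ g _
      exact key g (by rw [← commutatorElement_inv g a]; exact inv_mem (hxa g))
        (by rw [← commutatorElement_inv g b]; exact inv_mem (hxb g)) x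
    have hc1 : c ≠ 1 := fun h1 => hDne (by
      rw [eq_bot_iff]
      exact hle.trans (by rw [h1, Subgroup.zpowers_one_eq_bot]))
    refine le_antisymm ?_ ?_
    · calc Nat.card (commutator (R ⧸ L)) ≤ Nat.card (Subgroup.zpowers c) := Subgroup.card_le_of_le hle
        _ = p := by rw [Nat.card_zpowers, orderOf_eq_prime (hce a b) hc1]
    · obtain ⟨m, hm⟩ := IsPGroup.iff_card.mp (hKp.to_subgroup (commutator (R ⧸ L)))
      rw [hm]
      refine Nat.le_self_pow (fun h0 => hDne ?_) p
      rw [h0, pow_zero] at hm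
      exact Subgroup.card_eq_one.mp hm
  · replace hg : g ∈ π.range := hrangeZ.symm ▸ hg
    obtain ⟨y, hy⟩ := hg
    exact ⟨y, hy⟩
  · rw [eq_top_iff, ← Subgroup.map_top_of_surjective _ hqsurj, ← hgen, MonoidHom.map_closure]
    refine Subgroup.closure_mono ?_
    rintro _ ⟨g, ⟨a, x, rfl⟩, rfl⟩
    exact ⟨a, q x, rfl⟩

end CfsgLib.OddOrder41
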