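import Cfsg.Agent.Lib.OddOrder41.FpfLinear
import Cfsg.Agent.Lib.OddOrder41.FixedFormula
import Cfsg.Agent.Lib.PGroup.Frattini

set_option autoImplicit false

/-! BG 3.4 for groups: the fixed-point-free case of Hall–Higman in odd order. -/

namespace CfsgLib.OddOrder41

open Finset TensorProduct
open scoped commutatorElement

/-- BG 3.4 for a representation over the prime field. -/
theorem fpf_elementary {p q ℓ : ℕ} [hp : Fact p.Prime] [hq : Fact q.Prime] [hℓ : Fact ℓ.Prime] (hp2 : p ≠ 2)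
    (hq2 : q ≠ 2) (hpq : p ≠ q) (hpℓ : p ≠ ℓ) (hqℓ : q ≠ ℓ) {Q : Type*} [Group Q] [Finite Q] (hQ : IsPGroup q Q)
    {V : Type*} [AddCommGroup V] [Module (ZMod ℓ) V] [Finite V] (ρ : Q →* Module.End (ZMod ℓ) V) (σ : MulAut Q)
    (hσ : σ ^ p = 1) (U : Module.End (ZMod ℓ) V) (hU : ∀ x, U * ρ x = ρ (σ x) * U)
    (hsum : ∀ v, ∑ i ∈ range p, (U ^ i) v = 0) : ∀ x, ρ (σ x) = ρ x := by
  haveI : Module.Finite (ZMod ℓ) V := Module.Finite.of_finite
  let k := AlgebraicClosure (ZMod ℓ)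
  haveI : CharP k ℓ := charP_of_injective_algebraMap (algebraMap (ZMod ℓ) k).injective ℓ
  have hne : ∀ r : ℕ, r.Prime → r ≠ ℓ → (r : k) ≠ 0 := fun r hr hrℓ h =>
    hrℓ ((Nat.prime_dvd_prime_iff_eq hℓ.out hr).mp ((CharP.cast_eq_zero_iff k ℓ r).mp h)).symm
  let bc : Module.End (ZMod ℓ) V →ₐ[ZMod ℓ] Module.End k (k ⊗[ZMod ℓ] V) := Module.End.baseChangeHom (ZMod ℓ) k V
  have hbc : Function.Injective bc := by
    intro f g h
    refine LinearMap.ext fun v => ?_
    have hv : (1 : k) ⊗ₜ[ZMod ℓ] f v = (1 : k) ⊗ₜ[ZMod ℓ] g v := LinearMap.congr_fun h ((1 : k) ⊗ₜ[ZMod ℓ] v)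
    exact Module.Flat.tensorProduct_mk_injective (ZMod ℓ) V k hv
  have h0 : ∑ i ∈ range p, U ^ i = 0 := LinearMap.ext fun v => by rw [LinearMap.sum_apply]; exact hsum v
  intro x
  apply hbc
  exact SymplecticCount.fpf_linear (k := k) hp2 hq2 hpq (hne p hp.out hpℓ) (hne q hq.out hqℓ) hQ
    ((bc : Module.End (ZMod ℓ) V →* Module.End k (k ⊗[ZMod ℓ] V)).comp ρ) σ hσ (bc U)
    (fun y => by
      show bc U * bc (ρ y) = bc (ρ (σ y)) * bc U
      rw [← map_mul, ← map_mul, hU y])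
    (fun w => by
      rw [← LinearMap.sum_apply]
      simp only [← map_pow, ← map_sum, h0, map_zero]
      rfl) x

/-- `ℓ A` inside an abelian group `A`. -/
def modSub (ℓ : ℕ) (A : Type*) [AddCommGroup A] : AddSubgroup A := (nsmulAddMonoidHom ℓ).range

instance modSubModule (ℓ : ℕ) (A : Type*) [AddCommGroup A] : Module (ZMod ℓ) (A ⧸ modSub ℓ A) :=
  QuotientAddGroup.zmodModule fun x => ⟨x, rfl⟩

theorem modSub_le_comap (ℓ : ℕ) {A : Type*} [AddCommGroup A] (f : AddMonoid.End A) :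
    modSub ℓ A ≤ (modSub ℓ A).comap (f : A →+ A) := by
  rintro _ ⟨x, rfl⟩
  exact ⟨f x, (map_nsmul _ _ _).symm⟩

/-- The action on `A / ℓ A`. -/
def modAction (ℓ : ℕ) {G A : Type*} [Group G] [AddCommGroup A] (φ : G →* AddMonoid.End A) :
    G →* Module.End (ZMod ℓ) (A ⧸ modSub ℓ A) where
  toFun g := (QuotientAddGroup.map (modSub ℓ A) (modSub ℓ A) (φ g : A →+ A)
    (modSub_le_comap ℓ (φ g))).toZModLinearMap ℓ
  map_one' := LinearMap.ext fun v => QuotientAddGroup.induction_on v fun a =>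
    congrArg (QuotientAddGroup.mk (s := modSub ℓ A)) (DFunLike.congr_fun (map_one φ) a)
  map_mul' g h := LinearMap.ext fun v => QuotientAddGroup.induction_on v fun a =>
    congrArg (QuotientAddGroup.mk (s := modSub ℓ A)) (DFunLike.congr_fun (map_mul φ g h) a)

theorem modAction_mk (ℓ : ℕ) {G A : Type*} [Group G] [AddCommGroup A] (φ : G →* AddMonoid.End A) (g : G) (a : A) :
    modAction ℓ φ g (QuotientAddGroup.mk a) = QuotientAddGroup.mk (φ g a) := rfl

variable {X : Type*} [Group X] [Finite X]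

/-- BG 3.4: an operator group of odd prime order without fixed points on an `ℓ`-group `M` has
`⁅Q, R⁆` centralising `M` for every odd `q`-group `Q` that it normalises. -/
theorem commutator_le_centralizer_of_fpf {p q ℓ : ℕ} [hp : Fact p.Prime] [hq : Fact q.Prime]
    [hℓ : Fact ℓ.Prime] (hp2 : p ≠ 2) (hq2 : q ≠ 2) (hpq : p ≠ q) (hpℓ : p ≠ ℓ) (hqℓ : q ≠ ℓ)
    (Q R M : Subgroup X) (hQ : IsPGroup q Q) (hR : Nat.card R = p) (hM : IsPGroup ℓ M)
    (hRQ : R ≤ Subgroup.normalizer (Q : Set X)) (hL : Q ⊔ R ≤ Subgroup.normalizer (M : Set X))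
    (hfix : M ⊓ Subgroup.centralizer (R : Set X) = ⊥) :
    ⁅Q, R⁆ ≤ Subgroup.centralizer (M : Set X) := by
  classical
  set L := Q ⊔ R with hLdef
  have hQL : Q ≤ L := le_sup_left
  have hRL : R ≤ L := le_sup_right
  have hQR : ⁅Q, R⁆ ≤ Q := CfsgLib.Coprime.commutator_le_of_normalizes hRQ
  haveI : Group.IsNilpotent M := hM.isNilpotent
  have hcopQΦ : (Nat.card ↥⁅Q, R⁆).Coprime (Nat.card (frattini M)) := by
    obtain ⟨i, hi⟩ := (hQ.to_le hQR).exists_card_eq
    obtain ⟨j, hj⟩ := (hM.to_subgroup (frattini M)).exists_card_eq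
    rw [hi, hj]
    exact Nat.Coprime.pow _ _ ((Nat.coprime_primes hq.out hℓ.out).mpr hqℓ)
  refine CfsgLib.Coprime.le_centralizer_of_trivial_on_frattini _ M (hQR.trans (hQL.trans hL)) hcopQΦ ?_
  -- the module `M / M' M ^ ℓ`
  let ρ : L →* Module.End (ZMod ℓ) (Additive (Abelianization M) ⧸ modSub ℓ (Additive (Abelianization M))) :=
    modAction ℓ (FixedFormula.abAction L M hL)
  haveI : Finite (Additive (Abelianization M) ⧸ modSub ℓ (Additive (Abelianization M))) :=
    Finite.of_surjective _ QuotientAddGroup.mk_surjective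
  let mk : M → Additive (Abelianization M) ⧸ modSub ℓ (Additive (Abelianization M)) := fun m => QuotientAddGroup.mk (Additive.ofMul (Abelianization.of m))
  have hρmk : ∀ (g : L) (m : M), ρ g (mk m) = mk (conjHom M L hL g m) := fun g m => rfl
  -- the preimage of zero
  let M₁ : Subgroup M :=
    { carrier := {m | mk m = 0}
      one_mem' := by show mk 1 = 0; simp [mk]
      mul_mem' := fun {a b} (ha : mk a = 0) (hb : mk b = 0) => by
        show mk (a * b) = 0
        simp only [mk, map_mul, ofMul_mul, QuotientAddGroup.mk_add] at ha hb ⊢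
        rw [ha, hb, add_zero]
      inv_mem' := fun {a} (ha : mk a = 0) => by
        show mk a⁻¹ = 0
        simp only [mk, map_inv, ofMul_inv, QuotientAddGroup.mk_neg] at ha ⊢
        rw [ha, neg_zero] }
  have hM₁ : ∀ m : M, m ∈ M₁ ↔ mk m = 0 := fun m => Iff.rfl
  have hM₁Φ : M₁ ≤ frattini M := by
    intro m hm
    obtain ⟨x, hx⟩ := (QuotientAddGroup.eq_zero_iff _).mp hm
    obtain ⟨y, hy⟩ := QuotientGroup.mk'_surjective (commutator M) (Additive.toMul x)
    have h1 : Abelianization.of (y ^ ℓ)⁻¹ * Abelianization.of m = 1 := by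
      rw [map_inv, map_pow, inv_mul_eq_one]
      show (QuotientGroup.mk' (commutator M) y) ^ ℓ = _
      rw [hy]
      exact congrArg Additive.toMul hx
    rw [← map_mul, ← MonoidHom.mem_ker, Abelianization.ker_of] at h1
    have := (frattini M).mul_mem (CfsgLib.PGroup.pow_mem_frattini hM y) (CfsgLib.PGroup.commutator_le_frattini hM h1)
    rwa [mul_inv_cancel_left] at this
  -- the generator of `R` has no fixed point
  haveI : IsCyclic R := isCyclic_of_prime_card hR
  obtain ⟨⟨r, hr⟩, hrgen⟩ := IsCyclic.exists_generator (α := R)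
  have hrp : r ^ p = 1 := by
    have := congrArg Subtype.val (pow_card_eq_one' (x := (⟨r, hr⟩ : R)))
    rw [hR] at this; exact this
  set rL : L := ⟨r, hRL hr⟩ with hrL
  have hrLp : rL ^ p = 1 := Subtype.ext hrp
  have hsum : ∀ v, ∑ i ∈ range p, (ρ rL ^ i) v = 0 := by
    intro v
    set s := ∑ i ∈ range p, (ρ rL ^ i) v with hs
    have hfixs : ρ rL s = s := by
      have h : ∀ i, ρ rL ((ρ rL ^ i) v) = (ρ rL ^ (i + 1)) v := fun i => by
        rw [pow_succ', Module.End.mul_apply]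
      rw [hs, map_sum, Finset.sum_congr rfl fun i _ => h i]
      have h1 := Finset.sum_range_succ' (fun i => (ρ rL ^ i) v) p
      rw [Finset.sum_range_succ, ← map_pow, hrLp, map_one, pow_zero] at h1
      exact (add_right_cancel h1).symm
    obtain ⟨x, hx⟩ := QuotientAddGroup.mk_surjective s
    obtain ⟨m, hm⟩ := QuotientGroup.mk'_surjective (commutator M) (Additive.toMul x)
    have hsm : s = mk m := by rw [← hx]; exact congrArg QuotientAddGroup.mk (congrArg Additive.ofMul hm.symm)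
    have hMR : R ≤ Subgroup.normalizer (M : Set X) := hRL.trans hL
    have hM₁n : R ≤ Subgroup.normalizer ((M₁.map M.subtype : Subgroup X) : Set X) := by
      refine Subgroup.le_normalizer_iff.2 fun g hg y hy => ?_
      obtain ⟨y, hy, rfl⟩ := hy
      refine ⟨conjHom M L hL ⟨g, hRL hg⟩ y, ?_, rfl⟩
      show mk _ = 0
      rw [← hρmk, (hM₁ y).mp hy, map_zero]
    have hfixm : ∀ g ∈ R, (m : X)⁻¹ * (g * m * g⁻¹) ∈ M₁.map M.subtype := by
      intro g hg
      obtain ⟨i, hi⟩ := (Submonoid.mem_powers_iff _ _).mp (mem_powers_iff_mem_zpowers.mpr (hrgen ⟨g, hg⟩))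
      refine ⟨m⁻¹ * conjHom M L hL ⟨g, hRL hg⟩ m, ?_, rfl⟩
      show mk _ = 0
      have hgs : ρ ⟨g, hRL hg⟩ s = s := by
        have hgi : (⟨g, hRL hg⟩ : L) = rL ^ i := Subtype.ext (congrArg Subtype.val hi).symm
        rw [hgi, map_pow]
        clear hi hgi
        induction i with
        | zero => simp
        | succ i ih => rw [pow_succ, Module.End.mul_apply, hfixs, ih]
      rw [hsm, hρmk] at hgs
      simp only [mk, map_mul, map_inv, ofMul_mul, ofMul_inv, QuotientAddGroup.mk_add, QuotientAddGroup.mk_neg]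
      change -mk m + mk (conjHom M L hL ⟨g, hRL hg⟩ m) = 0
      rw [hgs, neg_add_cancel]
    have hcop : (Nat.card R).Coprime (Nat.card M) := by
      obtain ⟨j, hj⟩ := hM.exists_card_eq
      rw [hR, hj]; exact ((Nat.coprime_primes hp.out hℓ.out).mpr hpℓ).pow_right j
    obtain ⟨c, hc, hcm⟩ := CfsgLib.Coprime.exists_centralizing_rep R M hMR hcop (Or.inr inferInstance)
      (M₁.map M.subtype) (Subgroup.map_subtype_le _) hM₁n m.2 hfixm
    rw [hfix, Subgroup.mem_bot] at hc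
    subst hc
    obtain ⟨y, hy, hyc⟩ := hcm
    rw [mul_one] at hyc
    have : y = m⁻¹ := Subtype.ext hyc
    subst this
    rw [hsm]
    have := (hM₁ m).mp (inv_inv m ▸ M₁.inv_mem hy)
    exact this
  let σ : MulAut Q := conjHom Q R hRQ ⟨r, hr⟩
  have hσp : σ ^ p = 1 := by
    rw [← map_pow, show (⟨r, hr⟩ : R) ^ p = 1 from Subtype.ext hrp, map_one]
  have key := fpf_elementary (V := Additive (Abelianization M) ⧸ modSub ℓ (Additive (Abelianization M))) hp2 hq2 hpq hpℓ hqℓ hQ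
    (ρ.comp (Subgroup.inclusion hQL)) σ hσp (ρ rL)
    (fun y => by
      show ρ rL * ρ (Subgroup.inclusion hQL y) = ρ (Subgroup.inclusion hQL (σ y)) * ρ rL
      rw [← map_mul, ← map_mul]
      congr 1
      apply Subtype.ext
      show r * (y : X) = r * y * r⁻¹ * r
      group)
    hsum
  let T : Subgroup X :=
    { carrier := {g | ∃ h : g ∈ L, ρ ⟨g, h⟩ = 1}
      one_mem' := ⟨L.one_mem, map_one ρ⟩
      mul_mem' := fun {a b} ha hb => by
        obtain ⟨ha, ha'⟩ := ha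
        obtain ⟨hb, hb'⟩ := hb
        exact ⟨L.mul_mem ha hb, by
          rw [show (⟨a * b, L.mul_mem ha hb⟩ : L) = ⟨a, ha⟩ * ⟨b, hb⟩ from rfl, map_mul, ha', hb', mul_one]⟩
      inv_mem' := fun {a} ha => by
        obtain ⟨ha, ha'⟩ := ha
        refine ⟨L.inv_mem ha, ?_⟩
        have : ρ (⟨a, ha⟩⁻¹ * ⟨a, ha⟩) = 1 := by rw [inv_mul_cancel, map_one]
        rwa [map_mul, ha', mul_one] at this }
  have hTmem : ∀ g, g ∈ T ↔ ∃ h : g ∈ L, ρ ⟨g, h⟩ = 1 := fun g => Iff.rfl
  have hstep : ∀ (i : ℕ) (x : Q), ρ (Subgroup.inclusion hQL ((σ ^ i) x)) = ρ (Subgroup.inclusion hQL x) := by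
    intro i
    induction i with
    | zero => intro x; rfl
    | succ i ih => intro x; rw [pow_succ, MulAut.mul_apply, ih]; exact key x
  have hA : ⁅Q, R⁆ ≤ T := by
    rw [Subgroup.commutator_le]
    intro a ha g hg
    obtain ⟨i, hi⟩ := (Submonoid.mem_powers_iff _ _).mp (mem_powers_iff_mem_zpowers.mpr (hrgen ⟨g, hg⟩))
    refine (hTmem _).mpr ⟨hQL (hQR (Subgroup.commutator_mem_commutator ha hg)), ?_⟩
    have e : (⟨⁅a, g⁆, hQL (hQR (Subgroup.commutator_mem_commutator ha hg))⟩ : L) =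
        Subgroup.inclusion hQL ⟨a, ha⟩ * (Subgroup.inclusion hQL ((σ ^ i) ⟨a, ha⟩))⁻¹ := by
      apply Subtype.ext
      show ⁅a, g⁆ = a * ((((σ ^ i) ⟨a, ha⟩ : Q) : X))⁻¹
      rw [← map_pow, hi]
      show ⁅a, g⁆ = a * (g * a * g⁻¹)⁻¹
      rw [commutatorElement_def]; group
    rw [e, map_mul, ← hstep i ⟨a, ha⟩, ← map_mul, mul_inv_cancel, map_one]
  intro a ha m hm
  obtain ⟨haL, ha'⟩ := (hTmem a).mp (hA ha)
  refine ⟨conjHom M L hL ⟨a, haL⟩ ⟨m, hm⟩ * (⟨m, hm⟩ : M)⁻¹, hM₁Φ ((hM₁ _).mpr ?_), rfl⟩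
  show (QuotientAddGroup.mk (Additive.ofMul (Abelianization.of _)) : Additive (Abelianization M) ⧸ modSub ℓ (Additive (Abelianization M))) = 0
  rw [map_mul, map_inv, ofMul_mul, ofMul_inv, QuotientAddGroup.mk_add, QuotientAddGroup.mk_neg]
  show mk (conjHom M L hL ⟨a, haL⟩ ⟨m, hm⟩) + -mk ⟨m, hm⟩ = 0
  rw [← hρmk, ha']
  exact add_neg_cancel _

end CfsgLib.OddOrder41
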