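import Mathlib.GroupTheory.GroupAction.Quotient
import Mathlib.Data.Nat.Factorization.Basic
import Cfsg.Agent.Lib.OddOrder41.RankTwoAction
import Cfsg.Agent.Lib.PCore.PSolvable
import Cfsg.Agent.Lib.Transfer.NormalComplement

set_option autoImplicit false

/-! BG 4.18: solvable groups of odd order with `p`-rank at most 2. -/

namespace CfsgLib.OddOrder41

open scoped commutatorElement

variable {G : Type*} [Group G]

/-- An element of order a power of an odd prime `q > p` centralises a `p`-group of rank `≤ 2` it normalises. -/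
theorem big_prime_fixes_rank_two [Finite G] {p q : ℕ} [hp : Fact p.Prime] [hq : Fact q.Prime] (hp2 : p ≠ 2)
    (hpq : p < q) (R : Subgroup G) (hR : IsPGroup p R) (hr : Cfsg.PRankLE p 2 R) (a : G) (k : ℕ)
    (ha : orderOf a = q ^ k) (haR : a ∈ Subgroup.normalizer (R : Set G)) : ∀ r ∈ R, a * r = r * a := by
  obtain ⟨Q, φ, hWexp, hW, hfix⟩ :=
    rank_two_small_quotient hp2 R (Subgroup.zpowers a) hR hr (Subgroup.zpowers_le.mpr haR)
  haveI : Finite (Abelianization Q) := Quotient.finite _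
  refine hfix ⟨a, Subgroup.mem_zpowers a⟩ ?_ ?_
  · show (orderOf a).Coprime p
    rw [ha]
    exact Nat.Coprime.pow_left k ((Nat.coprime_primes hq.out hp.out).mpr hpq.ne')
  letI : MulAction (Subgroup.zpowers a) (Abelianization Q) :=
    MulAction.compHom (Abelianization Q) φ
  have hP : IsPGroup q (Subgroup.zpowers a) := IsPGroup.of_card (by rw [Nat.card_zpowers, ha])
  let F : Subgroup (Abelianization Q) :=
    { carrier := MulAction.fixedPoints (Subgroup.zpowers a) (Abelianization Q)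
      one_mem' := fun b => show φ b 1 = 1 from map_one _
      mul_mem' := fun {x y} hx hy b => show φ b (x * y) = x * y by
        rw [map_mul]; exact congrArg₂ (· * ·) (hx b) (hy b)
      inv_mem' := fun {x} hx b => show φ b x⁻¹ = x⁻¹ by rw [map_inv]; exact congrArg (·⁻¹) (hx b) }
  have hmod : Nat.card (Abelianization Q) ≡ Nat.card F [MOD q] := hP.card_modEq_card_fixedPoints _
  have hWp : IsPGroup p (Abelianization Q) := fun w => ⟨1, by rw [pow_one]; exact hWexp w⟩
  have hFtop : F = ⊤ := by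
    by_contra hne
    obtain ⟨i, hi⟩ := IsPGroup.iff_card.mp (hWp.to_subgroup F)
    obtain ⟨j, hj⟩ := IsPGroup.iff_card.mp hWp
    have hij : i < j := by
      rw [← Nat.pow_lt_pow_iff_right hp.out.one_lt, ← hi, ← hj]
      refine lt_of_le_of_ne (Subgroup.card_le_card_group F) fun h => hne ?_
      exact Subgroup.eq_top_of_card_eq F h
    have hj2 : j ≤ 2 := (Nat.pow_le_pow_iff_right hp.out.one_lt).mp (hj ▸ hW)
    rw [hi, hj] at hmod
    have hd : q ∣ p ^ j - p ^ i :=
      (Nat.modEq_iff_dvd' (Nat.pow_le_pow_right hp.out.pos hij.le)).mp hmod.symm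
    have hp1 : ¬ q ∣ p - 1 := fun h => by
      have := Nat.le_of_dvd (by have := hp.out.two_le; omega) h
      omega
    have hpq' : ¬ q ∣ p := fun h => by
      have := Nat.le_of_dvd hp.out.pos h
      omega
    have hp1' : ¬ q ∣ p + 1 := fun h => by
      have hle := Nat.le_of_dvd (by omega) h
      have hqe : q = p + 1 := by omega
      obtain ⟨m, hm⟩ := hp.out.odd_of_ne_two hp2
      exact absurd (hq.out.eq_one_or_self_of_dvd 2 ⟨m + 1, by omega⟩) (by
        have := hp.out.two_le
        omega)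
    interval_cases j <;> interval_cases i
    · exact hp1 (by simpa using hd)
    · have : q ∣ (p + 1) * (p - 1) := by
        rw [← Nat.sq_sub_sq]; simpa using hd
      rcases hq.out.dvd_mul.mp this with h | h
      · exact hp1' h
      · exact hp1 h
    · have : q ∣ p * (p - 1) := by
        rw [Nat.mul_sub, mul_one, ← pow_two]; simpa using hd
      rcases hq.out.dvd_mul.mp this with h | h
      · exact hpq' h
      · exact hp1 h
  refine MulEquiv.ext fun w => ?_
  have hw : w ∈ F := hFtop ▸ Subgroup.mem_top w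
  exact hw ⟨a, Subgroup.mem_zpowers a⟩

/-- A quotient by a normal `p'`-subgroup does not raise the `p`-rank. -/
theorem pRankLE_quotient_coprime [Finite G] {p k : ℕ} [hp : Fact p.Prime] (N : Subgroup G) [N.Normal]
    (hN : (Nat.card N).Coprime p) (h : Cfsg.PRankLE p k G) : Cfsg.PRankLE p k (G ⧸ N) := by
  intro A hAa hAp
  let M := A.comap (QuotientGroup.mk' N)
  obtain ⟨P⟩ := (inferInstance : Nonempty (Sylow p M))
  let P' : Subgroup G := (P : Subgroup M).map M.subtype
  have hP' : IsPGroup p P' := P.2.map _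
  have hPN : P' ⊓ N = ⊥ := CfsgLib.PCore.inf_eq_bot_of_isPGroup_coprime hP' hN
  have hinj : ∀ x ∈ P', QuotientGroup.mk' N x = 1 → x = 1 := fun x hx h1 => by
    have : x ∈ P' ⊓ N := ⟨hx, (QuotientGroup.eq_one_iff x).mp h1⟩
    rwa [hPN, Subgroup.mem_bot] at this
  have hPA : ∀ x ∈ P', QuotientGroup.mk' N x ∈ A := by
    rintro _ ⟨x, -, rfl⟩; exact x.2
  have hAcard : Nat.card A ∣ Nat.card P' := by
    have hM : Nat.card M = Nat.card A * Nat.card N := (CfsgLib.PCore.card_comap_mk' N A).trans (Nat.mul_comm _ _)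
    have hAp' : IsPGroup p A := fun a => ⟨1, by rw [pow_one]; exact Subtype.ext (hAp a a.2)⟩
    obtain ⟨n, hn⟩ := hAp'.exists_card_eq
    obtain ⟨m, hm⟩ := P.2.exists_card_eq
    have hPc : Nat.card P' = p ^ m := by
      rw [← hm, Subgroup.card_map_of_injective M.subtype_injective]
    have hd : Nat.card A ∣ Nat.card (P : Subgroup M) * (P : Subgroup M).index := by
      rw [Subgroup.card_mul_index, hM]; exact dvd_mul_right _ _
    rw [hPc, ← hm]
    refine Nat.Coprime.dvd_of_dvd_mul_right ?_ hd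
    rw [hn]
    exact Nat.Coprime.pow_left n ((Nat.Prime.coprime_iff_not_dvd hp.out).mpr P.not_dvd_index)
  have hPa : IsMulCommutative P' := by
    refine ⟨⟨fun x y => Subtype.ext ?_⟩⟩
    have h1 : QuotientGroup.mk' N ((x : G) * y * (x : G)⁻¹ * (y : G)⁻¹) = 1 := by
      rw [map_mul, map_mul, map_mul, map_inv, map_inv,
        show QuotientGroup.mk' N (x : G) * QuotientGroup.mk' N y = QuotientGroup.mk' N y * QuotientGroup.mk' N x from
          congrArg Subtype.val (hAa.is_comm.comm ⟨_, hPA x x.2⟩ ⟨_, hPA y y.2⟩)]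
      group
    have := hinj _ (mul_mem (mul_mem (mul_mem x.2 y.2) (inv_mem x.2)) (inv_mem y.2)) h1
    simp only [Subgroup.coe_mul]
    calc (x : G) * y = ((x : G) * y * (x : G)⁻¹ * (y : G)⁻¹) * (y * x) := by group
      _ = y * x := by rw [this, one_mul]
  have hPe : ∀ x ∈ P', x ^ p = 1 := fun x hx =>
    hinj _ (pow_mem hx p) (by rw [map_pow]; exact hAp _ (hPA x hx))
  exact le_trans (Nat.le_of_dvd Nat.card_pos hAcard) (h P' hPa hPe)

/-- BG 4.18 for a group without normal `p'`-subgroup: primes are `≤ p`, and `G' ≤ O_p(G)`. -/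
theorem rank_two_core_free [Finite G] [Group.IsSolvable G] (hodd : Odd (Nat.card G)) {p : ℕ}
    [hp : Fact p.Prime] (hp2 : p ≠ 2) (hr : Cfsg.PRankLE p 2 G) (hbot : Cfsg.pPrimeCore p G = ⊥) :
    (∀ q : ℕ, q.Prime → q ∣ Nat.card G → q ≤ p) ∧ commutator G ≤ Cfsg.pCore p G ∧
      ((Cfsg.pCore p G).index).Coprime p := by
  have hR : IsPGroup p (Cfsg.pCore p G) := CfsgLib.PCore.pCore_isPGroup
  have hC : Subgroup.centralizer (Cfsg.pCore p G : Set G) ≤ Cfsg.pCore p G :=
    CfsgLib.PCore.centralizer_pCore_le CfsgLib.PCore.isPSolvable_of_isSolvable hbot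
  have hrR : Cfsg.PRankLE p 2 (Cfsg.pCore p G) := CfsgLib.OddOrder.PRankLE.subgroup _ hr
  have hn : ∀ H : Subgroup G, H ≤ Subgroup.normalizer (Cfsg.pCore p G : Set G) := fun H => by
    rw [Subgroup.normalizer_eq_top (Cfsg.pCore p G)]; exact le_top
  have hfix1 : ∀ g : G, (orderOf g).Coprime p → (∀ r ∈ Cfsg.pCore p G, g * r = r * g) → g = 1 := by
    intro g hg hfix
    have hgR : g ∈ Cfsg.pCore p G := hC (Subgroup.mem_centralizer_iff.mpr fun r hr => (hfix r hr).symm)
    obtain ⟨k, hk⟩ := hR.exists_card_eq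
    have h1 : orderOf g ∣ p ^ k := hk ▸ by simpa using orderOf_dvd_natCard (⟨g, hgR⟩ : Cfsg.pCore p G)
    exact orderOf_eq_one_iff.mp (Nat.eq_one_of_dvd_coprimes (Nat.Coprime.pow_right k hg) dvd_rfl h1)
  have hder : commutator G ≤ Cfsg.pCore p G := by
    refine CfsgLib.PCore.le_pCore inferInstance ?_
    rw [IsPGroup.iff_orderOf]
    intro x
    obtain ⟨k, m, hpm, hx⟩ := Nat.exists_eq_pow_mul_and_not_dvd (orderOf_pos (x : G)).ne' p hp.out.ne_one
    refine ⟨k, ?_⟩
    have hord : orderOf ((x : G) ^ p ^ k) = m := by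
      rw [orderOf_pow' _ (pow_ne_zero _ hp.out.ne_zero), hx, Nat.gcd_eq_right (Dvd.intro m rfl),
        Nat.mul_div_cancel_left _ (pow_pos hp.out.pos k)]
    have hcop : (orderOf ((x : G) ^ p ^ k)).Coprime p := by
      rw [hord]; exact ((Nat.Prime.coprime_iff_not_dvd hp.out).mpr hpm).symm
    have hmem : (x : G) ^ p ^ k ∈ ⁅(⊤ : Subgroup G), (⊤ : Subgroup G)⁆ := by
      rw [← commutator_def]; exact pow_mem x.2 _
    have hs : Group.IsSolvable (⊤ : Subgroup G) := inferInstance
    have h1 := hfix1 _ hcop (rank_two_commutator_fixes hp2 _ ⊤ hR hrR (hn ⊤) hs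
      (by rw [Subgroup.card_top]; exact hodd) _ hmem hcop)
    rw [← Subgroup.orderOf_coe, hx]
    have : m = 1 := by rw [← hord, h1, orderOf_one]
    rw [this, mul_one]
  refine ⟨?_, hder, ?_⟩
  · intro q hq hqd
    by_contra hlt
    push Not at hlt
    haveI := Fact.mk hq
    obtain ⟨g, hg⟩ := exists_prime_orderOf_dvd_card' q hqd
    have hg' : orderOf g = q ^ 1 := by rw [hg, pow_one]
    have h1 := hfix1 g (by rw [hg]; exact (Nat.coprime_primes hq hp.out).mpr hlt.ne')
      (big_prime_fixes_rank_two hp2 hlt _ hR hrR g 1 hg' (hn ⊤ (Subgroup.mem_top g)))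
    rw [h1, orderOf_one] at hg
    exact hq.ne_one hg.symm
  · rw [Nat.coprime_comm, Nat.Prime.coprime_iff_not_dvd hp.out, Subgroup.index_eq_card]
    intro hd
    haveI := Fact.mk hp.out
    obtain ⟨g, hg⟩ := exists_prime_orderOf_dvd_card' p hd
    have hn' : (Subgroup.zpowers g).Normal := by
      refine ⟨fun y hy h => ?_⟩
      obtain ⟨a, rfl⟩ := QuotientGroup.mk'_surjective (Cfsg.pCore p G) h
      obtain ⟨b, rfl⟩ := QuotientGroup.mk'_surjective (Cfsg.pCore p G) y
      have : QuotientGroup.mk' (Cfsg.pCore p G) ⁅a, b⁆ = 1 :=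
        (QuotientGroup.eq_one_iff _).mpr (hder (Subgroup.commutator_mem_commutator (Subgroup.mem_top a) (Subgroup.mem_top b)))
      rw [map_commutatorElement, commutatorElement_eq_one_iff_commute] at this
      rw [this.eq]; simpa using hy
    have h1 : Subgroup.zpowers g ≤ Cfsg.pCore p (G ⧸ Cfsg.pCore p G) :=
      CfsgLib.PCore.le_pCore hn' (IsPGroup.of_card (n := 1) (by rw [Nat.card_zpowers, hg, pow_one]))
    rw [CfsgLib.PCore.pCore_quotient_pCore, le_bot_iff, Subgroup.zpowers_eq_bot] at h1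
    rw [h1, orderOf_one] at hg
    exact hp.out.ne_one hg.symm

/-- BG 4.18. -/
theorem odd_solvable_rank_two_structure [Finite G] [Group.IsSolvable G] (hodd : Odd (Nat.card G)) (p : ℕ)
    [hp : Fact p.Prime] (hpG : p ∣ Nat.card G) (hr : Cfsg.PRankLE p 2 G) :
    (∀ q : ℕ, q.Prime → q ∣ (Cfsg.pPrimeCore p G).index → q ≤ p) ∧
      ((p = 3 ∨ ∀ q : ℕ, q.Prime → q ∣ Nat.card G → p ≤ q) → Cfsg.HasNormalPComplement p G) ∧
      Cfsg.HasNormalPComplement p ↥(commutator G) ∧
      (∀ L : Subgroup ↥(commutator G), (Nat.card L).Coprime p → L ≤ Cfsg.pPrimeCore p ↥(commutator G)) ∧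
      commutator G ≤ Cfsg.pPrimePCore p G ∧ ((Cfsg.pPrimePCore p G).index).Coprime p := by
  have hp2 : p ≠ 2 := by
    rintro rfl
    exact Nat.not_odd_iff_even.mpr (even_iff_two_dvd.mpr hpG) hodd
  set N := Cfsg.pPrimeCore p G with hN
  have hNcop : (Nat.card N).Coprime p := CfsgLib.PCore.pPrimeCore_coprime
  have hNd : ¬ p ∣ Nat.card N := CfsgLib.PCore.not_dvd_card_pPrimeCore
  have hoddq : Odd (Nat.card (G ⧸ N)) := hodd.of_dvd_nat (Subgroup.card_quotient_dvd_card N)
  obtain ⟨hle, hder, hidx⟩ := rank_two_core_free hoddq hp2 (pRankLE_quotient_coprime N hNcop hr)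
    CfsgLib.PCore.pPrimeCore_quotient_pPrimeCore
  have hle' : ∀ q : ℕ, q.Prime → q ∣ N.index → q ≤ p := fun q hq hd =>
    hle q hq (by rwa [← Subgroup.index_eq_card])
  have hder' : commutator G ≤ Cfsg.pPrimePCore p G := by
    intro x hx
    show QuotientGroup.mk' N x ∈ Cfsg.pCore p (G ⧸ N)
    apply hder
    have h1 : (commutator G).map (QuotientGroup.mk' N) ≤ commutator (G ⧸ N) := by
      rw [commutator_def, Subgroup.map_commutator, commutator_def]
      exact Subgroup.commutator_mono le_top le_top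
    exact h1 ⟨x, hx, rfl⟩
  haveI hNn : (N.subgroupOf (commutator G)).Normal := inferInstance
  have hq' : IsPGroup p (↥(commutator G) ⧸ N.subgroupOf (commutator G)) := by
    intro y
    obtain ⟨x, rfl⟩ := QuotientGroup.mk'_surjective (N.subgroupOf (commutator G)) y
    obtain ⟨k, hk⟩ := CfsgLib.PCore.pCore_isPGroup (G := G ⧸ N) (p := p) ⟨_, hder' x.2⟩
    refine ⟨k, ?_⟩
    rw [← map_pow]
    refine (QuotientGroup.eq_one_iff _).mpr ?_
    rw [Subgroup.mem_subgroupOf, SubgroupClass.coe_pow, ← QuotientGroup.eq_one_iff]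
    simpa using congrArg Subtype.val hk
  have hN'd : ¬ p ∣ Nat.card (N.subgroupOf (commutator G)) := by
    intro hd
    refine hNd (hd.trans ?_)
    rw [← Subgroup.card_map_of_injective (commutator G).subtype_injective]
    exact Subgroup.card_dvd_of_le (by rw [Subgroup.subgroupOf_map_subtype]; exact inf_le_left)
  refine ⟨hle', ?_, ?_, ?_, hder', ?_⟩
  · intro hsmall
    refine CfsgLib.Transfer.hasNormalPComplement_of_coprime N hNd ?_
    refine IsPGroup.of_card (n := (Nat.card (G ⧸ N)).primeFactorsList.length)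
      (Nat.eq_prime_pow_of_unique_prime_dvd Nat.card_pos.ne' ?_)
    intro q hq hqd
    have h1 := hle q hq hqd
    have hq2 : q ≠ 2 := by
      rintro rfl
      exact Nat.not_odd_iff_even.mpr (even_iff_two_dvd.mpr hqd) hoddq
    rcases hsmall with rfl | hmin
    · have := hq.two_le; omega
    · have := hmin q hq (hqd.trans (Subgroup.card_quotient_dvd_card N)); omega
  · exact CfsgLib.Transfer.hasNormalPComplement_of_coprime _ hN'd hq'
  · intro L hL
    refine le_trans ?_ (CfsgLib.PCore.le_pPrimeCore_of_not_dvd hNn hN'd)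
    intro x hx
    rw [← QuotientGroup.eq_one_iff]
    obtain ⟨k, hk⟩ := IsPGroup.iff_orderOf.mp hq' (x : ↥(commutator G) ⧸ N.subgroupOf (commutator G))
    have h1 : orderOf (x : ↥(commutator G) ⧸ N.subgroupOf (commutator G)) ∣ Nat.card L :=
      (orderOf_map_dvd (QuotientGroup.mk' _) x).trans (by simpa using orderOf_dvd_natCard (⟨x, hx⟩ : L))
    exact orderOf_eq_one_iff.mp
      (Nat.eq_one_of_dvd_coprimes (Nat.Coprime.pow_right k hL) h1 (hk ▸ dvd_rfl))
  · rw [Cfsg.pPrimePCore, Subgroup.index_comap_of_surjective _ (QuotientGroup.mk'_surjective _)]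
    exact hidx

end CfsgLib.OddOrder41
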