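import Cfsg.Agent.Lib.OddOrder41.RankTwoStructure
import Cfsg.Agent.Lib.Solvable.Fitting
import Cfsg.Agent.Lib.Coprime.Commutator
import Cfsg.Agent.Lib.Hall.Pi
import Cfsg.Agent.Lib.OddOrder.PiCore

set_option autoImplicit false

/-! BG 4.20: solvable groups of odd order whose Fitting subgroup has rank at most 2. -/

namespace CfsgLib.OddOrder41

open scoped Pointwise commutatorElement

variable {G : Type*} [Group G]

/-- A `q`-element of a nilpotent normal subgroup lies in `O_q(G)`. -/
theorem mem_pCore_of_mem_nilpotent_normal [Finite G] {q : ℕ} [hq : Fact q.Prime] {N : Subgroup G} [N.Normal]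
    (hN : Group.IsNilpotent N) {x : G} (hx : x ∈ N) {k : ℕ} (hk : orderOf x = q ^ k) :
    x ∈ Cfsg.pCore q G := by
  have h1 : IsPGroup q (Subgroup.zpowers (⟨x, hx⟩ : N)) :=
    IsPGroup.of_card (n := k) (by rw [Nat.card_zpowers, Subgroup.orderOf_mk, hk])
  obtain ⟨P, hP⟩ := h1.exists_le_sylow
  exact CfsgLib.Fitting.sylow_of_nilpotent_normal_le_pCore hN P
    ⟨⟨x, hx⟩, hP (Subgroup.mem_zpowers _), rfl⟩

/-- A subgroup is inside `C` once all its elements of prime-power order are. -/
theorem le_of_forall_prime_pow_mem [Finite G] {A C : Subgroup G}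
    (h : ∀ (q k : ℕ), q.Prime → ∀ x ∈ A, orderOf x = q ^ k → x ∈ C) : A ≤ C := by
  refine CfsgLib.Coprime.le_of_forall_sylow_le fun q hq Q => ?_
  haveI := Fact.mk hq
  rintro _ ⟨a, ha, rfl⟩
  obtain ⟨k, hk⟩ := IsPGroup.iff_orderOf.mp Q.2 ⟨a, ha⟩
  exact h q k hq (a : G) a.2 (by rw [Subgroup.orderOf_coe, ← hk, Subgroup.orderOf_mk _ ha])

/-- The normal `2`-subgroups of a group of odd order are trivial. -/
theorem pCore_two_eq_bot [Finite G] (hodd : Odd (Nat.card G)) : Cfsg.pCore 2 G = ⊥ := by
  haveI := Fact.mk Nat.prime_two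
  refine Subgroup.eq_bot_of_card_eq _ ?_
  obtain ⟨n, hn⟩ := (CfsgLib.PCore.pCore_isPGroup (G := G) (p := 2)).exists_card_eq
  have h := hodd.of_dvd_nat (Subgroup.card_subgroup_dvd_card (Cfsg.pCore 2 G))
  rw [hn] at h ⊢
  rcases n with _ | n
  · rfl
  · exact absurd h (Nat.not_odd_iff_even.mpr ⟨2 ^ n, by rw [pow_succ]; ring⟩)

theorem rankLE_fitting [Finite G] (hr : Cfsg.RankLE 2 G ∨ Cfsg.RankLE 2 (Cfsg.fittingSubgroup G)) :
    Cfsg.RankLE 2 (Cfsg.fittingSubgroup G) := by
  rcases hr with h | h
  · exact CfsgLib.OddOrder.RankLE.of_injective _ (Cfsg.fittingSubgroup G).subtype_injective h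
  · exact h

theorem pCore_rank_two [Finite G] (hr : Cfsg.RankLE 2 (Cfsg.fittingSubgroup G)) {q : ℕ} (hq : q.Prime) :
    Cfsg.PRankLE q 2 (Cfsg.pCore q G) :=
  CfsgLib.OddOrder.PRankLE.of_le (CfsgLib.Fitting.pCore_le_fitting hq) (hr q hq)

/-- `p'`-elements of `G'` centralise `O_p(G)`, and so do `q`-elements for `q > p`. -/
theorem derived_fixes_pCore [Finite G] [Group.IsSolvable G] (hodd : Odd (Nat.card G))
    (hr : Cfsg.RankLE 2 (Cfsg.fittingSubgroup G)) {q : ℕ} (hq : q.Prime) {x : G} (hx : x ∈ commutator G)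
    (hcop : (orderOf x).Coprime q) : x ∈ Subgroup.centralizer (Cfsg.pCore q G : Set G) := by
  haveI := Fact.mk hq
  refine Subgroup.mem_centralizer_iff.mpr fun r hr' => ?_
  by_cases hq2 : q = 2
  · subst hq2
    have : r = 1 := Subgroup.mem_bot.mp (pCore_two_eq_bot hodd ▸ hr')
    simp [this]
  have hs : Group.IsSolvable (⊤ : Subgroup G) := inferInstance
  refine (rank_two_commutator_fixes hq2 _ ⊤ CfsgLib.PCore.pCore_isPGroup (pCore_rank_two hr hq)
    (by rw [Subgroup.normalizer_eq_top]) hs (by rw [Subgroup.card_top]; exact hodd) x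
    (by rw [← commutator_def]; exact hx) hcop r hr').symm

theorem derived_le_fitting [Finite G] [Group.IsSolvable G] (hodd : Odd (Nat.card G))
    (hr : Cfsg.RankLE 2 (Cfsg.fittingSubgroup G)) : commutator G ≤ Cfsg.fittingSubgroup G := by
  refine le_of_forall_prime_pow_mem fun q k hq x hx hk => ?_
  haveI := Fact.mk hq
  let D : Subgroup G := commutator G ⊓
    ⨅ r : {r : ℕ // r.Prime ∧ r ≠ q}, Subgroup.centralizer (Cfsg.pCore (r : ℕ) G : Set G)
  have hDn : D.Normal := by
    haveI : (⨅ r : {r : ℕ // r.Prime ∧ r ≠ q}, Subgroup.centralizer (Cfsg.pCore (r : ℕ) G : Set G)).Normal :=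
      Subgroup.normal_iInf_normal fun r => inferInstance
    exact inferInstance
  have hxD : x ∈ D := by
    refine ⟨hx, Subgroup.mem_iInf.mpr fun r => derived_fixes_pCore hodd hr r.2.1 hx ?_⟩
    rw [hk]
    exact Nat.Coprime.pow_left k ((Nat.coprime_primes hq r.2.1).mpr r.2.2.symm)
  have hDC : ∀ r : ℕ, r.Prime → r ≠ q → ∀ y ∈ Cfsg.pCore r G, ∀ d ∈ D, d * y = y * d := fun r hr1 hr2 y hy d hd =>
    (Subgroup.mem_centralizer_iff.mp (Subgroup.mem_iInf.mp hd.2 ⟨r, hr1, hr2⟩) y hy).symm
  have hquot : IsPGroup q (D ⧸ Subgroup.center D) := by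
    intro y
    obtain ⟨d, rfl⟩ := QuotientGroup.mk'_surjective (Subgroup.center D) y
    obtain ⟨i, m, hqm, hd⟩ := Nat.exists_eq_pow_mul_and_not_dvd (orderOf_pos (d : G)).ne' q hq.ne_one
    refine ⟨i, ?_⟩
    rw [← map_pow]
    refine (QuotientGroup.eq_one_iff _).mpr ?_
    set z : G := (d : G) ^ q ^ i with hz
    have hord : orderOf z = m := by
      rw [hz, orderOf_pow' _ (pow_ne_zero _ hq.ne_zero), hd, Nat.gcd_eq_right (Dvd.intro m rfl),
        Nat.mul_div_cancel_left _ (pow_pos hq.pos i)]
    have hzD : z ∈ D := pow_mem d.2 _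
    have hzF : z ∈ Cfsg.fittingSubgroup G := by
      refine CfsgLib.Fitting.centralizer_fitting_le (Subgroup.mem_centralizer_iff.mpr fun f hf => ?_)
      have : Cfsg.fittingSubgroup G ≤ Subgroup.centralizer ({z} : Set G) := by
        refine le_of_forall_prime_pow_mem fun r j hr1 y hy hyr => ?_
        haveI := Fact.mk hr1
        haveI := CfsgLib.Fitting.fitting_normal (G := G)
        have hyc := mem_pCore_of_mem_nilpotent_normal CfsgLib.Fitting.fitting_isNilpotent hy hyr
        rw [Subgroup.mem_centralizer_singleton_iff]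
        by_cases hrq : r = q
        · subst hrq
          refine (Subgroup.mem_centralizer_iff.mp (derived_fixes_pCore hodd hr hr1 hzD.1 ?_) y hyc)
          rw [hord]; exact ((Nat.Prime.coprime_iff_not_dvd hr1).mpr hqm).symm
        · exact (hDC r hr1 hrq y hyc z hzD).symm
      exact Subgroup.mem_centralizer_singleton_iff.mp (this hf)
    have hzC : Subgroup.zpowers z ≤ Subgroup.centralizer (D : Set G) := by
      refine le_of_forall_prime_pow_mem fun r j hr1 y hy hyr => ?_
      haveI := Fact.mk hr1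
      haveI := CfsgLib.Fitting.fitting_normal (G := G)
      refine Subgroup.mem_centralizer_iff.mpr fun e he => ?_
      by_cases hrq : r = q
      · have hdvd : orderOf y ∣ m := hord ▸ orderOf_dvd_of_mem_zpowers hy
        rw [hyr, hrq] at hdvd
        rcases Nat.eq_zero_or_pos j with hj | hj
        · rw [hj, pow_zero, orderOf_eq_one_iff] at hyr
          simp [hyr]
        · exact absurd (dvd_trans (dvd_pow_self q hj.ne') hdvd) hqm
      · exact hDC r hr1 hrq y (mem_pCore_of_mem_nilpotent_normal CfsgLib.Fitting.fitting_isNilpotent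
          ((Subgroup.zpowers_le.mpr hzF) hy) hyr) e he
    rw [Subgroup.mem_center_iff]
    intro e
    apply Subtype.ext
    have := Subgroup.mem_centralizer_iff.mp (hzC (Subgroup.mem_zpowers z)) e e.2
    simpa [hz] using this
  haveI : Finite (D ⧸ Subgroup.center D) := inferInstance
  haveI hq' : Group.IsNilpotent (D ⧸ Subgroup.center D) := hquot.isNilpotent
  have hDnil : Group.IsNilpotent D := Subgroup.isNilpotent_of_ker_le_center (QuotientGroup.mk' (Subgroup.center D))
    (QuotientGroup.ker_mk' _).le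
  exact CfsgLib.Fitting.le_fitting hDn hDnil hxD

/-- A normalising `π`-subgroup lies in a Hall `π`-subgroup. -/
theorem le_hall_of_normalizes [Finite G] {π : Set ℕ} {H K : Subgroup G} (hH : Cfsg.IsPiHall π H)
    (hK : ∀ r : ℕ, r.Prime → r ∣ Nat.card K → r ∈ π) (hn : K ≤ Subgroup.normalizer (H : Set G)) : K ≤ H := by
  have hd := CfsgLib.Coprime.card_sup_dvd hn
  have h1 : H.relIndex (K ⊔ H) = 1 := by
    refine Nat.eq_one_iff_not_exists_prime_dvd.mpr fun r hr hdvd => hH.2 r hr ?_ ?_
    · have h2 : Nat.card H * H.relIndex (K ⊔ H) ∣ Nat.card K * Nat.card H := by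
        rw [CfsgLib.OddOrder.card_mul_relIndex_of_le le_sup_right]; exact hd
      rcases hr.dvd_mul.mp (hdvd.trans ((dvd_mul_left _ _).trans h2)) with h | h
      · exact hK r hr h
      · exact hH.1 r hr h
    · exact hdvd.trans (Subgroup.relIndex_dvd_index_of_le le_sup_right)
  exact le_sup_left.trans (Subgroup.relIndex_eq_one.mp h1)

/-- BG 4.20. -/
theorem odd_solvable_rank_two_fitting [Finite G] [Group.IsSolvable G] (hodd : Odd (Nat.card G))
    (hr0 : Cfsg.RankLE 2 G ∨ Cfsg.RankLE 2 (Cfsg.fittingSubgroup G)) :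
    Group.IsNilpotent ↥(commutator G) ∧
      (∀ (q : ℕ) [Fact q.Prime] (S : Sylow q G) (T : Subgroup ↥(S : Subgroup G)), T.Characteristic → T.map (S : Subgroup G).subtype ≤ ⁅(S : Subgroup G), (S : Subgroup G)⁆ →
        (T.map (S : Subgroup G).subtype).Normal) ∧
      ∀ p : ℕ, ∃ N : Subgroup G, N.Characteristic ∧ Cfsg.IsPiHall {q | q.Prime ∧ p < q} N := by
  have hr := rankLE_fitting hr0
  haveI hFn := CfsgLib.Fitting.fitting_normal (G := G)
  have hle := derived_le_fitting hodd hr
  have hnil : Group.IsNilpotent ↥(commutator G) :=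
    CfsgLib.Fitting.isNilpotent_of_le CfsgLib.Fitting.fitting_isNilpotent hle
  refine ⟨hnil, ?_, ?_⟩
  · intro q hqf S T hTc hTle
    have hq := hqf.out
    set T' := T.map (S : Subgroup G).subtype with hT'
    have hT'G : T' ≤ commutator G := hTle.trans (by rw [commutator_def]; exact Subgroup.commutator_mono le_top le_top)
    have hT'S : T' ≤ (S : Subgroup G) := Subgroup.map_subtype_le T
    have hT'q : T' ≤ Cfsg.pCore q G := fun t ht => by
      obtain ⟨j, hj⟩ := IsPGroup.iff_orderOf.mp S.2 ⟨t, hT'S ht⟩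
      exact mem_pCore_of_mem_nilpotent_normal hnil (hT'G ht) (by rw [← hj, Subgroup.orderOf_mk])
    have hSnorm : Subgroup.normalizer ((S : Subgroup G) : Set G) ≤ Subgroup.normalizer (T' : Set G) := by
      intro g hg
      refine CfsgLib.Coprime.mem_normalizer_of_forall_conj ?_
      rintro _ ⟨t, ht, rfl⟩
      have := hTc.fixed (conjHom (S : Subgroup G) (Subgroup.normalizer ((S : Subgroup G) : Set G)) le_rfl ⟨g, hg⟩)
      rw [← this] at ht
      exact ⟨_, ht, rfl⟩
    have hCnorm : commutator G ≤ Subgroup.normalizer (T' : Set G) := by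
      refine le_of_forall_prime_pow_mem fun r j hr1 y hy hyr => ?_
      haveI := Fact.mk hr1
      have hyc := mem_pCore_of_mem_nilpotent_normal hnil hy hyr
      by_cases hrq : r = q
      · subst hrq
        exact hSnorm (Subgroup.le_normalizer (CfsgLib.PCore.pCore_le_sylow S hyc))
      · refine CfsgLib.Coprime.mem_normalizer_of_forall_conj fun t ht => ?_
        have : y * t * y⁻¹ = t := by
          rw [(CfsgLib.Fitting.commute_pCore_of_ne hr1 hq hrq hyc (hT'q ht)).eq]; group
        rw [this]; exact ht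
    set M := (S : Subgroup G) ⊔ commutator G with hM
    haveI hMn : M.Normal := Subgroup.Normal.of_commutator_le _ le_sup_right
    refine ⟨fun t ht g => ?_⟩
    have htop : Subgroup.normalizer (T' : Set G) = ⊤ := by
      rw [eq_top_iff, ← Sylow.normalizer_sup_eq_top (S.subtype (le_sup_left : (S : Subgroup G) ≤ M))]
      refine sup_le ?_ (sup_le (le_trans Subgroup.le_normalizer hSnorm) hCnorm)
      rw [Sylow.coe_subtype, Subgroup.subgroupOf_map_subtype, inf_eq_left.mpr le_sup_left]
      exact hSnorm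
    exact (Subgroup.mem_normalizer_iff.mp (htop ▸ Subgroup.mem_top g) t).mp ht
  · intro p
    set π : Set ℕ := {q | q.Prime ∧ p < q} with hπ
    obtain ⟨H, hH⟩ := CfsgLib.Hall.exists_isPiHall (G := G) π
    -- normal π-subgroups lie in H
    have hNH : ∀ N : Subgroup G, N.Normal → (∀ r : ℕ, r.Prime → r ∣ Nat.card N → r ∈ π) → N ≤ H := by
      intro N hN hNπ
      obtain ⟨g, hg⟩ := CfsgLib.Hall.exists_conj_le_isPiHall hH hNπ
      haveI := hN
      rwa [Subgroup.Normal.conj_smul_eq_self g N] at hg
    have hFnorm : Cfsg.fittingSubgroup G ≤ Subgroup.normalizer (H : Set G) := by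
      refine le_of_forall_prime_pow_mem fun r j hr1 y hy hyr => ?_
      haveI := Fact.mk hr1
      have hyc := mem_pCore_of_mem_nilpotent_normal CfsgLib.Fitting.fitting_isNilpotent hy hyr
      by_cases hrp : p < r
      · refine Subgroup.le_normalizer (hNH _ (Cfsg.pCore_normal r G) ?_ hyc)
        intro s hs hsd
        obtain ⟨n, hn⟩ := (CfsgLib.PCore.pCore_isPGroup (G := G) (p := r)).exists_card_eq
        rw [hn] at hsd
        rw [(Nat.prime_dvd_prime_iff_eq hs hr1).mp (hs.dvd_of_dvd_pow hsd)]
        exact ⟨hr1, hrp⟩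
      · push Not at hrp
        have hfix : H ≤ Subgroup.centralizer ({y} : Set G) := by
          refine le_of_forall_prime_pow_mem fun s i hs a ha hai => ?_
          haveI := Fact.mk hs
          rw [Subgroup.mem_centralizer_singleton_iff]
          rcases Nat.eq_zero_or_pos i with hi | hi
          · rw [hi, pow_zero, orderOf_eq_one_iff] at hai
            simp [hai]
          have hsd : s ∣ Nat.card H :=
            (dvd_pow_self s hi.ne').trans (hai ▸ by simpa using orderOf_dvd_natCard (⟨a, ha⟩ : H))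
          have hrs : r < s := lt_of_le_of_lt hrp (hH.1 s hs hsd).2
          by_cases hr2 : r = 2
          · subst hr2
            have : y = 1 := Subgroup.mem_bot.mp (pCore_two_eq_bot hodd ▸ hyc)
            simp [this]
          exact big_prime_fixes_rank_two hr2 hrs _ CfsgLib.PCore.pCore_isPGroup (pCore_rank_two hr hr1) a i hai
            (by rw [Subgroup.normalizer_eq_top]; exact Subgroup.mem_top a) y hyc
        refine CfsgLib.Coprime.mem_normalizer_of_forall_conj fun h hh => ?_
        have : y * h * y⁻¹ = h := by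
          rw [← Subgroup.mem_centralizer_singleton_iff.mp (hfix hh)]; group
        rw [this]; exact hh
    set M := Cfsg.fittingSubgroup G ⊔ H with hM
    haveI hMn : M.Normal := Subgroup.Normal.of_commutator_le _ (hle.trans le_sup_left)
    have hMnorm : M ≤ Subgroup.normalizer (H : Set G) := sup_le hFnorm Subgroup.le_normalizer
    have hHn : H.Normal := by
      refine ⟨fun h hh g => ?_⟩
      have h1 : H.map (MulAut.conj g).toMonoidHom ≤ H := by
        refine le_hall_of_normalizes hH ?_ ?_
        · intro r hr1 hd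
          rw [Subgroup.card_map_of_injective (MulAut.conj g).injective] at hd
          exact hH.1 r hr1 hd
        · refine le_trans ?_ hMnorm
          rintro _ ⟨a, ha, rfl⟩
          exact hMn.conj_mem a (le_sup_right (a := Cfsg.fittingSubgroup G) ha) g
      exact h1 ⟨h, hh, rfl⟩
    refine ⟨H, Subgroup.characteristic_iff_map_le.mpr fun φ => ?_, hH⟩
    refine le_hall_of_normalizes hH ?_ (by rw [Subgroup.normalizer_eq_top]; exact le_top)
    intro r hr1 hd
    rw [Subgroup.card_map_of_injective φ.injective] at hd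
    exact hH.1 r hr1 hd

end CfsgLib.OddOrder41
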