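import Cfsg.Agent.Lib.OddOrder41.Blackburn
import Cfsg.Agent.Lib.OddOrder41.RankTwoFitting

set_option autoImplicit false

/-! Blackburn's theorem (BG 4.16) for subgroups of an ambient finite group. -/

namespace CfsgLib.OddOrder41

open scoped commutatorElement

variable {G : Type*} [Group G] [Finite G]

/-- A coprime operator group of odd order moving all of a nontrivial rank two `p`-group forces `3 < p`. -/
theorem three_lt_of_moved_rank_two {p : ℕ} [hp : Fact p.Prime] (hp2 : p ≠ 2) (R A : Subgroup G)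
    (hR : IsPGroup p R) (hR1 : R ≠ ⊥) (hr : Cfsg.PRankLE p 2 R)
    (hA : A ≤ Subgroup.normalizer (R : Set G)) (hcop : (Nat.card A).Coprime p) (hAodd : Odd (Nat.card A))
    (hRA : ⁅R, A⁆ = R) : 3 < p := by
  by_contra h3
  have hp3 : p = 3 := by have := hp.out.two_le; omega
  have hAC : A ≤ Subgroup.centralizer (R : Set G) := by
    refine le_of_forall_prime_pow_mem fun q k hq a ha hord => ?_
    haveI := Fact.mk hq
    rcases Nat.eq_zero_or_pos k with rfl | hk
    · rw [pow_zero, orderOf_eq_one_iff] at hord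
      rw [hord]; exact one_mem _
    have hqA : q ∣ Nat.card A := (dvd_pow_self q hk.ne').trans (hord ▸ A.orderOf_dvd_natCard ha)
    have hq2 : q ≠ 2 := fun h => by
      subst h; exact (Nat.not_even_iff_odd.mpr hAodd) (even_iff_two_dvd.mpr hqA)
    have hq3 : q ≠ 3 := fun h => hp.out.ne_one
      (Nat.eq_one_of_dvd_coprimes hcop (by rw [hp3]; exact h ▸ hqA) dvd_rfl)
    have hpq : p < q := by have := hq.two_le; omega
    exact Subgroup.mem_centralizer_iff.mpr fun r hr' =>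
      (big_prime_fixes_rank_two hp2 hpq R hR hr a k hord (hA ha) r hr').symm
  exact hR1 (by rw [← hRA, Subgroup.commutator_eq_bot_iff_le_centralizer, Subgroup.le_centralizer_iff]; exact hAC)

/-- BG 4.16. -/
theorem rank_two_moved_structure {p : ℕ} [hp : Fact p.Prime] (hp2 : p ≠ 2) (R A : Subgroup G)
    (hR : IsPGroup p R) (hR1 : R ≠ ⊥) (hr : Cfsg.PRankLE p 2 R)
    (hA : A ≤ Subgroup.normalizer (R : Set G)) (hcop : (Nat.card A).Coprime p) (hAodd : Odd (Nat.card A))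
    (hRA : ⁅R, A⁆ = R) :
    3 < p ∧ (IsMulCommutative R ∨ ∃ R₁ R₂ : Subgroup G, R₁ ⊔ R₂ = R ∧ (∀ a ∈ R₁, ∀ b ∈ R₂, a * b = b * a) ∧
        ¬ IsMulCommutative R₁ ∧ Nat.card R₁ = p ^ 3 ∧ Monoid.exponent R₁ = p ∧ IsCyclic R₂ ∧
        Subgroup.closure {x : G | x ∈ R₂ ∧ x ^ p = 1} = ⁅R₁, R₁⁆) := by
  have hp3 := three_lt_of_moved_rank_two hp2 R A hR hR1 hr hA hcop hAodd hRA
  refine ⟨hp3, ?_⟩
  have hgen : Subgroup.closure {g : R | ∃ (a : A) (x : R), g = x⁻¹ * conjHom R A hA a x} = ⊤ := by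
    set S : Subgroup R := Subgroup.closure {g : R | ∃ (a : A) (x : R), g = x⁻¹ * conjHom R A hA a x}
    have hle : ⁅R, A⁆ ≤ S.map R.subtype := by
      rw [Subgroup.commutator_le]
      intro k hk a ha
      refine ⟨(⟨k, hk⟩ : R)⁻¹⁻¹ * conjHom R A hA ⟨a, ha⟩ (⟨k, hk⟩ : R)⁻¹,
        Subgroup.subset_closure ⟨⟨a, ha⟩, (⟨k, hk⟩ : R)⁻¹, rfl⟩, ?_⟩
      simp [commutatorElement_def, mul_assoc]
    rw [eq_top_iff]
    intro g _
    obtain ⟨g', hg', hgg⟩ := hle (show (g : G) ∈ ⁅R, A⁆ by rw [hRA]; exact g.2)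
    exact (Subtype.ext hgg : g' = g) ▸ hg'
  have hrk : ∀ E : Subgroup R, Cfsg.IsElementaryAbelian p E → Nat.card E ≤ p ^ 2 := fun E hE => hr E hE.1 hE.2
  rcases moved_rank_two_structure hp3 hR hrk hAodd hcop (conjHom R A hA) hgen with h | h
  · exact Or.inl h
  obtain ⟨R₁, R₂, hsup, hcomm, hna, hcard, hexp, hcyc, hom⟩ := h
  have hinj := R.subtype_injective
  refine Or.inr ⟨R₁.map R.subtype, R₂.map R.subtype, ?_, ?_, ?_, ?_, ?_, ?_, ?_⟩
  · rw [← Subgroup.map_sup, hsup, ← MonoidHom.range_eq_map, R.range_subtype]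
  · rintro _ ⟨a, ha, rfl⟩ _ ⟨b, hb, rfl⟩
    rw [← map_mul, ← map_mul, hcomm a ha b hb]
  · intro hc
    refine hna ⟨⟨fun a b => Subtype.ext (hinj ?_)⟩⟩
    have h := congrArg Subtype.val (hc.is_comm.comm ⟨_, Subgroup.mem_map_of_mem R.subtype a.2⟩
      ⟨_, Subgroup.mem_map_of_mem R.subtype b.2⟩)
    simpa using h
  · rw [Subgroup.card_map_of_injective hinj, hcard]
  · rw [← Monoid.exponent_eq_of_mulEquiv (R₁.equivMapOfInjective R.subtype hinj), hexp]
  · exact isCyclic_of_surjective (R₂.equivMapOfInjective R.subtype hinj).toMonoidHom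
      (R₂.equivMapOfInjective R.subtype hinj).surjective
  · rw [← Subgroup.map_commutator, ← hom, MonoidHom.map_closure]
    congr 1
    ext x
    constructor
    · rintro ⟨⟨y, hy, rfl⟩, hx⟩
      exact ⟨y, ⟨hy, hinj (by simpa using hx)⟩, rfl⟩
    · rintro ⟨y, ⟨hy, hyp⟩, rfl⟩
      exact ⟨Subgroup.mem_map_of_mem R.subtype hy, by rw [← map_pow, hyp, map_one]⟩

end CfsgLib.OddOrder41
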