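import Cfsg.Agent.Lib.OddOrder41.WeightSpaces
import Cfsg.Agent.Lib.Coprime.Commutator

set_option autoImplicit false
set_option linter.style.haveILetI false

/-! The representation used in BG 3.6: a one-dimensional fixed space survives extension of scalars. -/

namespace CfsgLib.OddOrder41

open Finset TensorProduct CfsgLib.OddOrder41.Weights
open scoped IsMulCommutative

theorem finrank_fix_baseChange_le {F : Type*} [Field F] (k : Type*) [Field k] [Algebra F k] {V : Type*}
    [AddCommGroup V] [Module F V] [FiniteDimensional F V] (U : Module.End F V) {s : ℕ} (hs : (s : F) ≠ 0)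
    (hUs : U ^ s = 1) (h : Module.finrank F (fix U) ≤ 1) :
    Module.finrank k (fix (Module.End.baseChangeHom F k V U)) ≤ 1 := by
  classical
  set bc := Module.End.baseChangeHom F k V with hbc
  obtain ⟨⟨v₀, hv₀⟩, hspan⟩ := finrank_le_one_iff.mp h
  set e : Module.End F V := (s : F)⁻¹ • ∑ i ∈ range s, U ^ i with he
  have heim : ∀ v, ∃ c : F, c • v₀ = e v := by
    intro v
    have hmem : e v ∈ fix U := by
      rw [he, LinearMap.smul_apply, LinearMap.sum_apply]
      exact Submodule.smul_mem _ _ (orbitSum_mem_fix hUs v)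
    obtain ⟨c, hc⟩ := hspan ⟨e v, hmem⟩
    exact ⟨c, congrArg Subtype.val hc⟩
  have hall : ∀ w : k ⊗[F] V, bc e w ∈ Submodule.span k {(1 : k) ⊗ₜ[F] v₀} := by
    intro w
    induction w using TensorProduct.induction_on with
    | zero => rw [map_zero]; exact Submodule.zero_mem _
    | tmul a v =>
      obtain ⟨c, hc⟩ := heim v
      refine Submodule.mem_span_singleton.mpr ⟨c • a, ?_⟩
      show (c • a) • ((1 : k) ⊗ₜ[F] v₀) = a ⊗ₜ[F] e v
      rw [← hc, TensorProduct.tmul_smul, TensorProduct.smul_tmul', smul_eq_mul, mul_one,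
        TensorProduct.smul_tmul']
    | add x y hx hy => rw [map_add]; exact Submodule.add_mem _ hx hy
  have hle : fix (bc U) ≤ Submodule.span k {(1 : k) ⊗ₜ[F] v₀} := by
    intro w hw
    rw [mem_fix] at hw
    have hfixw : ∀ i : ℕ, (bc U ^ i) w = w := fun i => by
      induction i with
      | zero => rfl
      | succ i ih => rw [pow_succ, Module.End.mul_apply, hw, ih]
    have : bc e w = w := by
      rw [he, map_smul, map_sum, LinearMap.smul_apply, LinearMap.sum_apply,
        Finset.sum_congr rfl fun i _ => show bc (U ^ i) w = w by rw [map_pow, hfixw], Finset.sum_const,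
        Finset.card_range, ← Nat.cast_smul_eq_nsmul F s w, smul_smul, inv_mul_cancel₀ hs, one_smul]
    exact this ▸ hall w
  exact (Submodule.finrank_mono hle).trans ((finrank_span_le_card _).trans (by simp))

/-- Conjugation on an elementary abelian normal subgroup, over the algebraic closure of the prime field. -/
theorem exists_conj_rep (k : Type*) [Field k] {G : Type*} [Group G] [Finite G] {p s : ℕ} [hp : Fact p.Prime] [hs : Fact s.Prime]
    (hps : p ≠ s) (V : Subgroup G) [V.Normal] [IsMulCommutative V] [Module (ZMod p) (Additive V)]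
    [Algebra (ZMod p) k] (r : G)
    (hrs : r ^ s = 1) (hcard : Nat.card ↥(V ⊓ Subgroup.centralizer ({r} : Set G)) ≤ p) :
    ∃ ρ : (G ⧸ V) →* Module.End k (k ⊗[ZMod p] Additive V),
      Module.finrank k (fix (ρ (QuotientGroup.mk' V r))) ≤ 1 ∧
        ∀ g : G, ρ (QuotientGroup.mk' V g) = 1 → g ∈ Subgroup.centralizer (V : Set G) := by
  classical
  haveI : Module.Finite (ZMod p) (Additive V) := Module.Finite.of_finite
  let φ : G →* Module.End (ZMod p) (Additive V) :=
    { toFun := fun g => (MonoidHom.toAdditive (MulAut.conjNormal (H := V) g).toMonoidHom).toZModLinearMap p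
      map_one' := LinearMap.ext fun v => Additive.toMul.injective (Subtype.ext
        (show (1 : G) * (v.toMul : G) * (1 : G)⁻¹ = (v.toMul : G) by simp))
      map_mul' := fun g h => LinearMap.ext fun v => Additive.toMul.injective (Subtype.ext
        (show g * h * (v.toMul : G) * (g * h)⁻¹ = g * (h * (v.toMul : G) * h⁻¹) * g⁻¹ by group)) }
  have hφ : ∀ (g : G) (v : Additive V), (((φ g v).toMul : V) : G) = g * (v.toMul : G) * g⁻¹ := fun g v => rfl
  have hker : V ≤ φ.ker := fun g hg => LinearMap.ext fun v => Additive.toMul.injective (Subtype.ext (by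
    rw [hφ]
    show g * (v.toMul : G) * g⁻¹ = (v.toMul : G)
    rw [show g * (v.toMul : G) = (v.toMul : G) * g from
      congrArg Subtype.val (mul_comm (⟨g, hg⟩ : V) v.toMul), mul_inv_cancel_right]))
  let bc := Module.End.baseChangeHom (ZMod p) k (Additive V)
  refine ⟨(bc : Module.End (ZMod p) (Additive V) →* _).comp (QuotientGroup.lift V φ hker), ?_, ?_⟩
  · show Module.finrank k (fix (bc (φ r))) ≤ 1
    refine finrank_fix_baseChange_le k (φ r) (s := s) ?_ (by rw [← map_pow, hrs, map_one]) ?_
    · rw [Ne, ZMod.natCast_eq_zero_iff]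
      exact fun hd => hps ((Nat.prime_dvd_prime_iff_eq hp.out hs.out).mp hd)
    · have hmem : ∀ v : fix (φ r), ((v.1.toMul : V) : G) ∈ V ⊓ Subgroup.centralizer ({r} : Set G) := fun v => by
        refine ⟨v.1.toMul.2, Subgroup.mem_centralizer_singleton_iff.mpr ?_⟩
        have h1 : r * (v.1.toMul : G) * r⁻¹ = (v.1.toMul : G) := by
          rw [← hφ]; exact congrArg (fun z : Additive V => ((z.toMul : V) : G)) (mem_fix.mp v.2)
        exact (mul_inv_eq_iff_eq_mul.mp h1).symm
      have hle : Nat.card (fix (φ r)) ≤ p := by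
        refine le_trans (Nat.card_le_card_of_injective (fun v => (⟨_, hmem v⟩ :
          ↥(V ⊓ Subgroup.centralizer ({r} : Set G)))) fun a b h => ?_) hcard
        exact Subtype.ext (Additive.toMul.injective (Subtype.ext (congrArg (fun z : ↥(V ⊓ Subgroup.centralizer ({r} : Set G)) => (z : G)) h)))
      rw [Module.natCard_eq_pow_finrank (K := ZMod p), Nat.card_zmod] at hle
      conv_rhs at hle => rw [← pow_one p]
      exact (Nat.pow_le_pow_iff_right hp.out.one_lt).mp hle
  · intro g hg
    have hg' : bc (φ g) = bc 1 := by rw [map_one]; exact hg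
    have hfg : φ g = 1 := LinearMap.ext fun v =>
      Module.Flat.tensorProduct_mk_injective (ZMod p) (Additive V) k
        (LinearMap.congr_fun hg' ((1 : k) ⊗ₜ[ZMod p] v))
    rw [Subgroup.mem_centralizer_iff]
    intro v hv
    have h1 : g * v * g⁻¹ = v := by
      have := hφ g (Additive.ofMul ⟨v, hv⟩)
      rw [hfg] at this
      exact this.symm
    exact (mul_inv_eq_iff_eq_mul.mp h1).symm

end CfsgLib.OddOrder41
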