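import Cfsg.Agent.Lib.OddOrder41.ZGroupConfig
import Cfsg.Agent.Lib.OddOrder41.ZGroupRep
import Cfsg.Agent.Lib.OddOrder.PLengthOne
import Cfsg.Agent.Lib.HallHigman.Setup
import Cfsg.Agent.Lib.HallHigman.SolvableCores
import Cfsg.Agent.Lib.Solvable.Fitting

set_option autoImplicit false
set_option linter.style.haveILetI false

/-! BG 3.6: the commutator with an operator group having a Z-group centraliser has `p`-length one. -/

namespace CfsgLib.OddOrder41.ZGroupPLength

open CfsgLib CfsgLib.OddOrder41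
open scoped IsMulCommutative commutatorElement

universe u

section general

variable {p : ℕ} [hp : Fact p.Prime] {X : Type*} [Group X] [Finite X]

theorem index_pCore_of_pLength (h0 : Cfsg.pPrimeCore p X = ⊥) (h : Cfsg.PLengthLE p 1 X) :
    ¬ p ∣ (Cfsg.pCore p X).index := by
  have h1 := HallHigman.pPrimeCore_eq_top_of_pLengthLE_zero (HallHigman.pLengthLE_quotient_pCore h0 h)
  rw [Subgroup.index_eq_card, ← Subgroup.card_top (G := X ⧸ Cfsg.pCore p X), ← h1]
  exact PCore.not_dvd_card_pPrimeCore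

theorem pLength_of_index_pCore (h : ¬ p ∣ (Cfsg.pCore p X).index) : Cfsg.PLengthLE p 1 X := by
  haveI : (Cfsg.pCore p X).Normal := CfsgLib.Fitting.pCore_normal p
  refine OddOrder.PLengthOne.of_series (K := ⊥) (N := Cfsg.pCore p X) (by simp) ?_ h
  rw [Subgroup.relIndex_bot_left]
  exact IsPGroup.iff_card.1 PCore.pCore_isPGroup

theorem pLength_of_pQuotient (N : Subgroup X) [N.Normal] (hN : IsPGroup p N)
    (h0 : Cfsg.pPrimeCore p (X ⧸ N) = ⊥) (h : Cfsg.PLengthLE p 1 (X ⧸ N)) : Cfsg.PLengthLE p 1 X := by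
  refine pLength_of_index_pCore ?_
  rw [← PCore.comap_pCore_quotient hN, Subgroup.index_comap_of_surjective _ (QuotientGroup.mk'_surjective N)]
  exact index_pCore_of_pLength h0 h

/-- A quotient of a subgroup as an image. -/
noncomputable def quotEquiv (H N : Subgroup X) [N.Normal] :
    ↥H ⧸ N.subgroupOf H ≃* ↥(H.map (QuotientGroup.mk' N)) :=
  (QuotientGroup.quotientMulEquivOfEq (show N.subgroupOf H = ((QuotientGroup.mk' N).subgroupMap H).ker by
    ext x
    rw [Subgroup.mem_subgroupOf, MonoidHom.mem_ker]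
    exact ⟨fun h => Subtype.ext ((QuotientGroup.eq_one_iff _).mpr h),
      fun h => (QuotientGroup.eq_one_iff _).mp (congrArg Subtype.val h)⟩)).trans
    (QuotientGroup.quotientKerEquivOfSurjective _ ((QuotientGroup.mk' N).subgroupMap_surjective H))

theorem frattiniCore_characteristic : (HallHigman.frattiniCore p X).Characteristic := by
  rw [Subgroup.characteristic_iff_map_le]
  intro φ
  have h1 : (Cfsg.pCore p X).map φ.toMonoidHom = Cfsg.pCore p X :=
    Subgroup.characteristic_iff_map_eq.mp inferInstance φ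
  rintro _ ⟨_, ⟨z, hz, rfl⟩, rfl⟩
  let e : ↥(Cfsg.pCore p X) ≃* ↥(Cfsg.pCore p X) :=
    (φ.subgroupMap (Cfsg.pCore p X)).trans (MulEquiv.subgroupCongr h1)
  refine ⟨e z, ?_, rfl⟩
  have h2 : (frattini ↥(Cfsg.pCore p X)).map e.toMonoidHom = frattini _ :=
    Subgroup.characteristic_iff_map_eq.mp inferInstance e
  exact h2 ▸ Subgroup.mem_map_of_mem _ hz

theorem le_map_pCore {D Y : Subgroup X} (hD : IsPGroup p D) (hDY : D ≤ Y)
    (hn : Y ≤ Subgroup.normalizer (D : Set X)) : D ≤ (Cfsg.pCore p ↥Y).map Y.subtype := by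
  haveI : (D.subgroupOf Y).Normal := Subgroup.normal_subgroupOf_of_le_normalizer hn
  have h := PCore.le_pCore (p := p) (N := D.subgroupOf Y) inferInstance
    (hD.comap_of_injective Y.subtype Y.subtype_injective)
  exact fun x hx => ⟨⟨x, hDY hx⟩, h hx, rfl⟩

theorem le_map_pPrimeCore {D Y : Subgroup X} (hD : (Nat.card D).Coprime p) (hDY : D ≤ Y)
    (hn : Y ≤ Subgroup.normalizer (D : Set X)) : D ≤ (Cfsg.pPrimeCore p ↥Y).map Y.subtype := by
  haveI : (D.subgroupOf Y).Normal := Subgroup.normal_subgroupOf_of_le_normalizer hn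
  have h := PCore.le_pPrimeCore (p := p) (N := D.subgroupOf Y) inferInstance
    (by rw [Coprime.card_subgroupOf hDY]; exact hD)
  exact fun x hx => ⟨⟨x, hDY hx⟩, h hx, rfl⟩

theorem le_normalizer_sup' {A B C : Subgroup X} (h1 : C ≤ Subgroup.normalizer (A : Set X))
    (h2 : C ≤ Subgroup.normalizer (B : Set X)) : C ≤ Subgroup.normalizer ((A ⊔ B : Subgroup X) : Set X) := by
  refine Subgroup.le_normalizer_iff.2 fun g hg x hx => ?_
  have h : MulAut.conj g x ∈ (A ⊔ B).map (MulAut.conj g).toMonoidHom := Subgroup.mem_map_of_mem _ hx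
  rw [Subgroup.map_sup] at h
  have hA : A.map (MulAut.conj g).toMonoidHom ≤ A := by
    rintro _ ⟨a, ha, rfl⟩; exact (Subgroup.mem_normalizer_iff.mp (h1 hg) a).mp ha
  have hB : B.map (MulAut.conj g).toMonoidHom ≤ B := by
    rintro _ ⟨a, ha, rfl⟩; exact (Subgroup.mem_normalizer_iff.mp (h2 hg) a).mp ha
  exact sup_le_sup hA hB h

theorem le_normalizer_centralizer {A S : Subgroup X} (h : A ≤ Subgroup.normalizer (S : Set X)) :
    A ≤ Subgroup.normalizer (Subgroup.centralizer (S : Set X) : Set X) := by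
  have := le_normalizer_inf_centralizer (Q := (⊤ : Subgroup X)) (A := A) (S := S)
    (by rw [Subgroup.normalizer_eq_top]; exact le_top) h
  rwa [top_inf_eq] at this

theorem isCyclic_of_pGroup {B C : Subgroup X} (hBC : B ≤ C) (hC : IsZGroup ↥C) {ℓ : ℕ} [Fact ℓ.Prime]
    (hB : IsPGroup ℓ B) : IsCyclic B := by
  haveI := hC
  haveI : IsCyclic ↥(B.subgroupOf C) :=
    (hB.comap_of_injective C.subtype C.subtype_injective).isCyclic_of_isZGroup
  exact isCyclic_of_surjective _ (Subgroup.subgroupOfEquivOfLe hBC).surjective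

end general

/-- The statement at a given order of `H`, for a group on which `R` merely acts. -/
def Holds (p n : ℕ) : Prop :=
  ∀ {G : Type u} [Group G] [Finite G] [Group.IsSolvable G], Odd (Nat.card G) → ∀ H R R₀ : Subgroup G,
    R ≤ Subgroup.normalizer (H : Set G) → Nat.card H = n → (Nat.card H).Coprime (Nat.card R) → R₀ ≤ R →
    (Nat.card R₀).Prime → IsZGroup ↥(H ⊓ Subgroup.centralizer (R₀ : Set G)) → Cfsg.PLengthLE p 1 ↥⁅H, R⁆

variable {p : ℕ} [hp : Fact p.Prime]

theorem quotient_step {n : ℕ} (ih : ∀ m < n, Holds.{u} p m) {G : Type u} [Group G] [Finite G] [Group.IsSolvable G]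
    (hodd : Odd (Nat.card G)) (H R R₀ : Subgroup G) [H.Normal] (hn : Nat.card H = n)
    (hcop : (Nat.card H).Coprime (Nat.card R)) (hR₀ : R₀ ≤ R) (hR₀p : (Nat.card R₀).Prime)
    (hZ : IsZGroup ↥(H ⊓ Subgroup.centralizer (R₀ : Set G))) (hHR : ⁅H, R⁆ = H) (N : Subgroup G) [N.Normal]
    (hNH : N ≤ H) (hN1 : N ≠ ⊥) : Cfsg.PLengthLE p 1 ↥(H.map (QuotientGroup.mk' N)) := by
  set f := QuotientGroup.mk' N with hf
  have hker : f.ker = N := QuotientGroup.ker_mk' N
  have hcop0 : (Nat.card R₀).Coprime (Nat.card H) := (hcop.symm.coprime_dvd_left (Subgroup.card_dvd_of_le hR₀))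
  have hcardR₀ : Nat.card (R₀.map f) = Nat.card R₀ := by
    refine Coprime.card_map_of_disjoint f ?_
    rw [hker]
    exact Coprime.inf_eq_bot_of_coprime_dvd (Subgroup.card_dvd_of_le hNH) dvd_rfl hcop0.symm
  have hlt : Nat.card (H.map f) < n := by
    rw [← hn, ← Coprime.card_map_mul_inf_ker f H, hker, inf_eq_left.mpr hNH]
    exact lt_mul_of_one_lt_right Nat.card_pos
      ((Subgroup.one_lt_card_iff_ne_bot N).mpr hN1)
  haveI : (H.map f).Normal := Subgroup.Normal.map inferInstance f (QuotientGroup.mk'_surjective N)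
  have hodd' : Odd (Nat.card (G ⧸ N)) := hodd.of_dvd_nat (Subgroup.card_quotient_dvd_card N)
  have hZ' : IsZGroup ↥(H.map f ⊓ Subgroup.centralizer (R₀.map f : Set (G ⧸ N))) := by
    rw [← Coprime.map_inf_centralizer f R₀ H Subgroup.le_normalizer_of_normal hcop0 (Or.inr inferInstance)]
    haveI := hZ
    exact IsZGroup.of_surjective (f.subgroupMap_surjective _)
  have h := ih _ hlt hodd' (H.map f) (R.map f) (R₀.map f) Subgroup.le_normalizer_of_normal rfl
    ((hcop.coprime_dvd_left (Subgroup.card_map_dvd _ f)).coprime_dvd_right (Subgroup.card_map_dvd _ f))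
    (Subgroup.map_mono hR₀) (by rw [hcardR₀]; exact hR₀p) hZ'
  rwa [← Subgroup.map_commutator, hHR] at h

/-- The hypotheses on the quotient by `O_p`: the step for proper invariant subgroups. -/
def Step (p : ℕ) {Γ : Type u} [Group Γ] (Hb Rb : Subgroup Γ) : Prop :=
  ∀ Xb : Subgroup Γ, Xb ≤ Hb → Rb ≤ Subgroup.normalizer (Xb : Set Γ) → Xb ≠ Hb →
    ∃ O : Subgroup Γ, IsPGroup p O ∧ O ≤ Xb ∧ Xb ≤ Subgroup.normalizer (O : Set Γ) ∧
      ∀ U : Subgroup Γ, U ≤ ⁅Xb, Rb⁆ → IsPGroup p U → U ≤ O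

/-- There is no normal `p`-subgroup. -/
def NoPCore (p : ℕ) {Γ : Type u} [Group Γ] (Hb : Subgroup Γ) : Prop :=
  ∀ D : Subgroup Γ, IsPGroup p D → D ≤ Hb → Hb ≤ Subgroup.normalizer (D : Set Γ) → D = ⊥

theorem pPrimePCore_eq_top {Γ : Type u} [Group Γ] [Finite Γ] [Group.IsSolvable Γ] (Hb Rb : Subgroup Γ) [Hb.Normal]
    (hHRb : ⁅Hb, Rb⁆ = Hb) (hnop : NoPCore p Hb) (hstep : Step p Hb Rb) : Cfsg.pPrimePCore p ↥Hb = ⊤ := by
  -- `Hb` is `p`-nilpotent
  set K := (Cfsg.pPrimeCore p ↥Hb).map Hb.subtype with hK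
  haveI hKn : K.Normal := ConjAct.normal_of_characteristic_of_normal
  have hKH : K ≤ Hb := Subgroup.map_subtype_le _
  have hKc : (Nat.card K).Coprime p := by
    rw [hK, Subgroup.card_map_of_injective Hb.subtype_injective]; exact PCore.pPrimeCore_coprime
  haveI : (Cfsg.pPrimePCore p ↥Hb).Characteristic := OddOrder.PLengthOne.pPrimePCore_characteristic
  set Xb := (Cfsg.pPrimePCore p ↥Hb).map Hb.subtype with hXb
  haveI hXbn : Xb.Normal := ConjAct.normal_of_characteristic_of_normal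
  have hXbH : Xb ≤ Hb := Subgroup.map_subtype_le _
  by_contra hne'
  have hXne : Xb ≠ Hb := fun h => hne' (Subgroup.map_injective Hb.subtype_injective (by
    rw [← hXb, h, ← MonoidHom.range_eq_map, Subgroup.range_subtype]))
  obtain ⟨O, hOp, hOX, hXO, hO⟩ := hstep Xb hXbH Subgroup.le_normalizer_of_normal hXne
  have hO1 : O = ⊥ := by
    set O' := (Cfsg.pCore p ↥Xb).map Xb.subtype with hO'
    haveI : O'.Normal := ConjAct.normal_of_characteristic_of_normal
    exact le_bot_iff.mp ((le_map_pCore hOp hOX hXO).trans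
      (hnop O' (PCore.pCore_isPGroup.map _) ((Subgroup.map_subtype_le _).trans hXbH)
        Subgroup.le_normalizer_of_normal).le)
  set C := ⁅Xb, Rb⁆ with hC
  have hCX : C ≤ Xb := Coprime.commutator_le_of_normalizes Subgroup.le_normalizer_of_normal
  have hCc : (Nat.card C).Coprime p := by
    refine PCore.coprime_of_not_dvd_card fun hd => ?_
    obtain ⟨z, hz⟩ := exists_prime_orderOf_dvd_card' p hd
    have hzO : Subgroup.zpowers (z : Γ) ≤ O := hO _ (Subgroup.zpowers_le.mpr z.2) (IsPGroup.of_card (n := 1) (by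
      rw [Nat.card_zpowers, Subgroup.orderOf_coe, hz, pow_one]))
    rw [hO1, le_bot_iff, Subgroup.zpowers_eq_bot] at hzO
    rw [show z = 1 from Subtype.ext hzO, orderOf_one] at hz
    exact hp.out.ne_one hz.symm
  have hCK : C ≤ K := by
    set O' := (Cfsg.pPrimeCore p ↥Xb).map Xb.subtype with hO'
    haveI : O'.Normal := ConjAct.normal_of_characteristic_of_normal
    refine (le_map_pPrimeCore hCc hCX (Coprime.le_normalizer_commutator_left Xb Rb)).trans ?_
    refine le_map_pPrimeCore ?_ ((Subgroup.map_subtype_le _).trans hXbH) Subgroup.le_normalizer_of_normal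
    rw [Subgroup.card_map_of_injective Xb.subtype_injective]; exact PCore.pPrimeCore_coprime
  set π := QuotientGroup.mk' K with hπ
  have hπs : Function.Surjective π := QuotientGroup.mk'_surjective K
  have hXR : ⁅Xb.map π, Rb.map π⁆ = ⊥ := by
    rw [← Subgroup.map_commutator, Subgroup.map_eq_bot_iff, QuotientGroup.ker_mk']; exact hCK
  haveI : (Xb.map π).Normal := Subgroup.Normal.map inferInstance π hπs
  have h1 : ⁅⁅Rb.map π, Xb.map π⁆, Hb.map π⁆ = ⊥ := by
    rw [Subgroup.commutator_comm (Rb.map π), hXR]; exact Subgroup.commutator_bot_left _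
  have h2 : ⁅⁅Xb.map π, Hb.map π⁆, Rb.map π⁆ = ⊥ :=
    le_bot_iff.mp (hXR ▸ Subgroup.commutator_mono (Subgroup.commutator_le_left _ _) le_rfl)
  have h3 := Subgroup.commutator_commutator_eq_bot_of_rotate h1 h2
  rw [← Subgroup.map_commutator, ← Subgroup.map_commutator, hHRb, Subgroup.map_eq_bot_iff,
    QuotientGroup.ker_mk'] at h3
  -- `O_p` of the quotient is central
  have hcent : Subgroup.centralizer ((Cfsg.pCore p (↥Hb ⧸ Cfsg.pPrimeCore p ↥Hb) : Subgroup (↥Hb ⧸ Cfsg.pPrimeCore p ↥Hb)) : Set (↥Hb ⧸ Cfsg.pPrimeCore p ↥Hb)) = ⊤ := by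
    refine top_le_iff.mp fun g _ => Subgroup.mem_centralizer_iff.mpr fun a ha => ?_
    obtain ⟨h, rfl⟩ := QuotientGroup.mk'_surjective (Cfsg.pPrimeCore p ↥Hb) g
    obtain ⟨x, rfl⟩ := QuotientGroup.mk'_surjective (Cfsg.pPrimeCore p ↥Hb) a
    symm
    rw [← commutatorElement_eq_one_iff_mul_comm, ← map_commutatorElement]
    refine (QuotientGroup.eq_one_iff _).mpr ?_
    have hx : (x : Γ) ∈ Xb := ⟨x, Subgroup.mem_comap.mpr ha, rfl⟩
    obtain ⟨z, hz, hz'⟩ := h3 (Subgroup.commutator_mem_commutator h.2 hx)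
    have : z = ⁅(h : ↥Hb), (x : ↥Hb)⁆ := Subtype.ext (hz'.trans (map_commutatorElement Hb.subtype h x).symm)
    exact this ▸ hz
  have h4 := PCore.centralizer_pCore_le (p := p) PCore.isPSolvable_of_isSolvable
    (PCore.pPrimeCore_quotient_pPrimeCore (G := ↥Hb))
  rw [hcent, top_le_iff] at h4
  exact hne' (by rw [Cfsg.pPrimePCore, h4, Subgroup.comap_top])

/-- The configuration in the quotient by `O_p` is impossible. -/
theorem reduced_false {Γ : Type u} [Group Γ] [Finite Γ] [Group.IsSolvable Γ] (hodd : Odd (Nat.card Γ))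
    (Hb Rb : Subgroup Γ) [Hb.Normal] (hcopb : (Nat.card Hb).Coprime (Nat.card Rb)) (hdvd : p ∣ Nat.card Hb)
    (hHRb : ⁅Hb, Rb⁆ = Hb) (hnop : NoPCore p Hb) (hstep : Step p Hb Rb) {s : ℕ} [hs : Fact s.Prime] {r : Γ}
    (hrR : r ∈ Rb) (hrs : r ^ s = 1) (hsR : s ∣ Nat.card Rb)
    (halt : Rb = Subgroup.zpowers r ∨ ∀ U : Subgroup Γ, U ≤ ⁅Hb, Subgroup.zpowers r⁆ → IsPGroup p U → U = ⊥)
    (hZ : IsZGroup ↥(Hb ⊓ Subgroup.centralizer ({r} : Set Γ))) {k : Type*} [Field k] [IsAlgClosed k] [CharP k p]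
    {W : Type*} [AddCommGroup W] [Module k W] [FiniteDimensional k W] (ρ : Γ →* Module.End k W)
    (hfix : Module.finrank k (Weights.fix (ρ r)) ≤ 1) (hinj : ∀ y ∈ Hb, ρ y = 1 → y = 1) : False := by
  classical
  set K := (Cfsg.pPrimeCore p ↥Hb).map Hb.subtype with hK
  haveI hKn : K.Normal := ConjAct.normal_of_characteristic_of_normal
  have hKH : K ≤ Hb := Subgroup.map_subtype_le _
  have hKc : (Nat.card K).Coprime p := by
    rw [hK, Subgroup.card_map_of_injective Hb.subtype_injective]; exact PCore.pPrimeCore_coprime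
  have htop := pPrimePCore_eq_top Hb Rb hHRb hnop hstep
  obtain ⟨m, hm⟩ := OddOrder.PLengthOne.relIndex_pPrimeCore_pPrimePCore (p := p) (G := ↥Hb)
  rw [htop, Subgroup.relIndex_top_right] at hm
  -- the invariant Sylow subgroup
  obtain ⟨Ps, hPs⟩ := Coprime.exists_invariant_sylow Rb Hb Subgroup.le_normalizer_of_normal hcopb.symm
    (Or.inl inferInstance) p
  set P := (Ps : Subgroup ↥Hb).map Hb.subtype with hP
  have hPp : IsPGroup p P := Ps.2.map _
  have hPH : P ≤ Hb := Subgroup.map_subtype_le _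
  have hPK : P ⊓ K = ⊥ := PCore.inf_eq_bot_of_isPGroup_coprime hPp hKc
  have hKP : K ⊔ P = Hb := by
    refine le_antisymm (sup_le hKH hPH) (Subgroup.relIndex_eq_one.mp ?_)
    refine Nat.eq_one_of_dvd_coprimes ((Nat.Prime.coprime_iff_not_dvd hp.out).mpr ?_ |>.pow_left m)
      ((Subgroup.relIndex_dvd_of_le_left Hb le_sup_left).trans (dvd_of_eq ?_))
      (Subgroup.relIndex_dvd_of_le_left Hb (le_sup_right : P ≤ K ⊔ P))
    · rw [Subgroup.relIndex, hP, Subgroup.subgroupOf, Subgroup.comap_map_eq_self_of_injective Hb.subtype_injective]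
      exact Ps.not_dvd_index
    · rw [Subgroup.relIndex, hK, Subgroup.subgroupOf, Subgroup.comap_map_eq_self_of_injective Hb.subtype_injective]
      exact hm
  have hP1 : P ≠ ⊥ := by
    intro h
    rw [h, sup_bot_eq] at hKP
    rw [← hKP] at hdvd
    exact (Nat.Prime.coprime_iff_not_dvd hp.out).mp hKc.symm hdvd
  have hPR : ⁅P, Rb⁆ = P := by
    refine le_antisymm (Coprime.commutator_le_of_normalizes hPs) fun x hx => ?_
    have hle : P ≤ ⁅P, Rb⁆ ⊔ K := by
      rw [← QuotientGroup.ker_mk' K, ← Subgroup.map_le_map_iff, Subgroup.map_commutator]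
      have hπK : K.map (QuotientGroup.mk' K) = ⊥ := QuotientGroup.map_mk'_self K
      have hPπ : P.map (QuotientGroup.mk' K) = Hb.map (QuotientGroup.mk' K) := by
        rw [← hKP, Subgroup.map_sup, hπK, bot_sup_eq]
      rw [hPπ, ← Subgroup.map_commutator, hHRb]
    obtain ⟨a, ha, b, hb, hab⟩ := Coprime.exists_mul_of_mem_sup Subgroup.le_normalizer_of_normal (hle hx)
    have hbP : b ∈ P := by
      have : a⁻¹ * x ∈ P := P.mul_mem (P.inv_mem (Coprime.commutator_le_of_normalizes hPs ha)) hx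
      rwa [hab, inv_mul_cancel_left] at this
    rw [show b = 1 from Subgroup.mem_bot.mp (hPK ▸ ⟨hbP, hb⟩), mul_one] at hab
    exact hab ▸ ha
  -- a minimal invariant subgroup of `K` not centralised by `P`
  have hPKc : ¬ K ≤ Subgroup.centralizer (P : Set (Γ)) := by
    intro h
    refine hP1 (hnop P hPp hPH ?_)
    rw [← hKP]
    exact sup_le (h.trans (Subgroup.centralizer_le_normalizer _)) Subgroup.le_normalizer
  have hcopA : (Nat.card ↥(Rb ⊔ P)).Coprime (Nat.card K) := by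
    refine Nat.Coprime.coprime_dvd_left (Coprime.card_sup_dvd hPs) (Nat.Coprime.mul_left ?_ ?_)
    · exact (hcopb.coprime_dvd_left (Subgroup.card_dvd_of_le hKH)).symm
    · obtain ⟨j, hj⟩ := hPp.exists_card_eq
      rw [hj]; exact hKc.symm.pow_left j
  obtain ⟨q, hqf, Qs, hQinv, hQc⟩ : ∃ (q : ℕ) (_ : Fact q.Prime) (Qs : Sylow q ↥K),
      Rb ⊔ P ≤ Subgroup.normalizer ((Qs : Subgroup ↥K).map K.subtype : Set (Γ)) ∧
      ¬ (Qs : Subgroup ↥K).map K.subtype ≤ Subgroup.centralizer (P : Set (Γ)) := by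
    by_contra hcon
    push Not at hcon
    refine hPKc fun z hz => ?_
    have ht : (Subgroup.centralizer (P : Set (Γ))).subgroupOf K = ⊤ := by
      apply CfsgLib.Fitting.eq_top_of_forall_sylow_le
      intro ℓ hℓ _
      haveI := Fact.mk hℓ
      obtain ⟨S, hS⟩ := Coprime.exists_invariant_sylow (Rb ⊔ P) K Subgroup.le_normalizer_of_normal hcopA
        (Or.inl inferInstance) ℓ
      exact ⟨S, fun y hy => hcon ℓ ⟨hℓ⟩ S hS ⟨y, hy, rfl⟩⟩
    exact Subgroup.mem_subgroupOf.mp (ht ▸ Subgroup.mem_top (⟨z, hz⟩ : K))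
  set Q₀ := (Qs : Subgroup ↥K).map K.subtype with hQ₀
  obtain ⟨Q, ⟨hQQ₀, hPQ, hRQ, hQnc⟩, hQmin⟩ : ∃ Q : Subgroup (Γ),
      (Q ≤ Q₀ ∧ P ≤ Subgroup.normalizer (Q : Set (Γ)) ∧ Rb ≤ Subgroup.normalizer (Q : Set (Γ)) ∧
        ¬ Q ≤ Subgroup.centralizer (P : Set (Γ))) ∧
      ∀ Q₁ : Subgroup (Γ), Q₁ ≤ Q → Q₁ ≠ Q → P ≤ Subgroup.normalizer (Q₁ : Set (Γ)) →
        Rb ≤ Subgroup.normalizer (Q₁ : Set (Γ)) → Q₁ ≤ Subgroup.centralizer (P : Set (Γ)) := by
    obtain ⟨Q, hQ, hmin⟩ := (Set.toFinite {Q : Subgroup (Γ) | Q ≤ Q₀ ∧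
      P ≤ Subgroup.normalizer (Q : Set (Γ)) ∧ Rb ≤ Subgroup.normalizer (Q : Set (Γ)) ∧
        ¬ Q ≤ Subgroup.centralizer (P : Set (Γ))}).exists_minimal
      ⟨Q₀, le_rfl, le_sup_right.trans hQinv, le_sup_left.trans hQinv, hQc⟩
    refine ⟨Q, hQ, fun Q₁ h1 h2 h3 h4 => ?_⟩
    by_contra hnc
    exact h2 (le_antisymm h1 (hmin ⟨h1.trans hQ.1, h3, h4, hnc⟩ h1))
  have hQK : Q ≤ K := hQQ₀.trans (Subgroup.map_subtype_le _)
  have hQq : IsPGroup q Q := (Qs.2.map K.subtype).to_le hQQ₀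
  have hQc' : (Nat.card Q).Coprime p := hKc.coprime_dvd_left (Subgroup.card_dvd_of_le hQK)
  have hQH : Q ≤ Hb := hQK.trans hKH
  have hQP0 : Q ⊓ P = ⊥ := by rw [inf_comm]; exact PCore.inf_eq_bot_of_isPGroup_coprime hPp hQc'
  have hQO : ∀ O : Subgroup (Γ), IsPGroup p O → Q ≤ Subgroup.normalizer (O : Set (Γ)) →
      ∀ U ≤ O, U ≤ Subgroup.normalizer (Q : Set (Γ)) → U ≤ Subgroup.centralizer (Q : Set (Γ)) := by
    intro O hO hQn U hU hUQ
    rw [← Subgroup.commutator_eq_bot_iff_le_centralizer, eq_bot_iff,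
      ← PCore.inf_eq_bot_of_isPGroup_coprime hO hQc']
    refine le_inf ((Subgroup.commutator_mono hU le_rfl).trans (Coprime.commutator_le_of_normalizes hQn)) ?_
    rw [Subgroup.commutator_comm]
    exact Coprime.commutator_le_of_normalizes hUQ
  have hQPH : Q ⊔ P = Hb := by
    by_contra hne'
    have hR' : Rb ≤ Subgroup.normalizer ((Q ⊔ P : Subgroup (Γ)) : Set (Γ)) := le_normalizer_sup' hRQ hPs
    obtain ⟨O, hOp, hOX, hXO, hO⟩ := hstep (Q ⊔ P) (sup_le hQH hPH) hR' hne'
    have hPO : P ≤ O := hO P (hPR.symm.le.trans (Subgroup.commutator_mono le_sup_right le_rfl)) hPp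
    exact hQnc (Subgroup.le_centralizer_iff.mp (hQO O hOp (le_sup_left.trans hXO) P hPO hPQ))
  have hfaith : P ⊓ Subgroup.centralizer (Q : Set (Γ)) = ⊥ := by
    refine hnop _ (hPp.to_le inf_le_left) (inf_le_left.trans hPH) ?_
    rw [← hQPH]
    refine sup_le (fun g hg => ?_) (le_normalizer_inf_centralizer Subgroup.le_normalizer hPQ)
    refine Subgroup.centralizer_le_normalizer _ (Subgroup.mem_centralizer_iff.mpr fun y hy => ?_)
    exact (Subgroup.mem_centralizer_iff.mp hy.2 g hg).symm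
  -- the primes
  have hQ1 : Q ≠ ⊥ := fun h => hQnc (h ▸ bot_le)
  have hqdvd : q ∣ Nat.card Q := by
    obtain ⟨j, hj⟩ := hQq.exists_card_eq
    rw [hj]
    exact dvd_pow_self q fun h0 => hQ1 (Subgroup.card_eq_one.mp (by rw [hj, h0, pow_zero]))
  have hqH : q ∣ Nat.card Hb := hqdvd.trans (Subgroup.card_dvd_of_le hQH)
  have hqp : q ≠ p := fun h => hp.out.coprime_iff_not_dvd.mp hQc'.symm (h ▸ hqdvd)
  have hqs : q ≠ s := fun h => hqf.out.ne_one (Nat.eq_one_of_dvd_coprimes hcopb hqH (h ▸ hsR))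
  have hps : p ≠ s := fun h => hp.out.ne_one (Nat.eq_one_of_dvd_coprimes hcopb hdvd (h ▸ hsR))
  have hodd2 : ∀ ℓ : ℕ, ℓ ∣ Nat.card Γ → ℓ ≠ 2 := fun ℓ hℓ h => by
    subst h; exact Nat.not_even_iff_odd.mpr hodd (even_iff_two_dvd.mpr hℓ)
  have hne0 : ∀ ℓ : ℕ, ℓ.Prime → ℓ ≠ p → (ℓ : k) ≠ 0 := fun ℓ hℓ hℓp h =>
    hℓp ((Nat.prime_dvd_prime_iff_eq hp.out hℓ).mp ((CharP.cast_eq_zero_iff k p ℓ).mp h)).symm
  haveI : NeZero (q : k) := ⟨hne0 q hqf.out hqp⟩
  haveI : NeZero (s : k) := ⟨hne0 s hs.out hps.symm⟩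
  obtain ⟨η, hη⟩ := HasEnoughRootsOfUnity.exists_primitiveRoot k q
  obtain ⟨ζ, hζ⟩ := HasEnoughRootsOfUnity.exists_primitiveRoot k s
  have hcentr : Subgroup.centralizer (Subgroup.zpowers r : Set Γ) = Subgroup.centralizer ({r} : Set Γ) := by
    rw [Subgroup.zpowers_eq_closure, Subgroup.centralizer_closure]
  refine config_false ρ (CharP.cast_eq_zero k p) (hne0 q hqf.out hqp) (hne0 s hs.out hps.symm)
    (hodd2 p (hdvd.trans (Subgroup.card_subgroup_dvd_card Hb)))
    (hodd2 q (hqH.trans (Subgroup.card_subgroup_dvd_card Hb)))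
    (hodd2 s (hsR.trans (Subgroup.card_subgroup_dvd_card Rb))) hqp hqs hps hη hζ Q P Rb hrR hrs hQq hPp hPQ hRQ hPs
    hPR hfaith hP1 hQmin (fun y hy => hinj y (hQH hy)) hfix
    (isCyclic_of_pGroup (inf_le_inf_right _ hQH) hZ (hQq.to_le inf_le_left)) ?_
  rcases halt with hR | hR
  · refine Or.inr ⟨hR, fun P₁ h1 hne' h3 => ?_⟩
    have hR1 : Rb ≤ Subgroup.normalizer (P₁ : Set (Γ)) := by
      rw [hR]; exact Subgroup.zpowers_le.mpr h3
    have hX : Rb ≤ Subgroup.normalizer ((Q ⊔ P₁ : Subgroup (Γ)) : Set (Γ)) := le_normalizer_sup' hRQ hR1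
    have hlt : Q ⊔ P₁ ≠ Hb := by
      intro h
      refine hne' (le_antisymm h1 fun x hx => ?_)
      have hx' : x ∈ P₁ ⊔ Q := by rw [sup_comm, h]; exact hPH hx
      obtain ⟨a, ha, b, hb, hab⟩ := Coprime.exists_mul_of_mem_sup (h1.trans hPQ) hx'
      have hbP : b ∈ P := by
        have : a⁻¹ * x ∈ P := P.mul_mem (P.inv_mem (h1 ha)) hx
        rwa [hab, inv_mul_cancel_left] at this
      rw [show b = 1 from Subgroup.mem_bot.mp (hQP0 ▸ ⟨hb, hbP⟩), mul_one] at hab
      exact hab ▸ ha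
    obtain ⟨O, hOp, hOX, hXO, hO⟩ := hstep (Q ⊔ P₁) (sup_le hQH (h1.trans hPH)) hX hlt
    have hC1 : ⁅P₁, Rb⁆ ≤ P₁ := Coprime.commutator_le_of_normalizes hR1
    have hb : ⁅P₁, Rb⁆ = ⊥ := le_bot_iff.mp (hfaith ▸ le_inf (hC1.trans h1)
      (hQO O hOp (le_sup_left.trans hXO) _ (hO _ (Subgroup.commutator_mono le_sup_right le_rfl)
        (hPp.to_le (hC1.trans h1))) ((hC1.trans h1).trans hPQ)))
    rw [Subgroup.commutator_eq_bot_iff_le_centralizer] at hb
    refine hb.trans ?_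
    rw [hR, hcentr]
  · refine Or.inl ?_
    have hRP : Subgroup.zpowers r ≤ Subgroup.normalizer (P : Set Γ) :=
      Subgroup.zpowers_le.mpr (hPs hrR)
    have hb : ⁅P, Subgroup.zpowers r⁆ = ⊥ := hR _ (Subgroup.commutator_mono hPH le_rfl)
      (hPp.to_le (Coprime.commutator_le_of_normalizes hRP))
    rw [Subgroup.commutator_eq_bot_iff_le_centralizer] at hb
    exact hb.trans hcentr.le

/-- An abelian group of exponent `p` is a vector space over the prime field. -/
@[reducible] def elemModule {G : Type u} [Group G] (V : Subgroup G) [IsMulCommutative V]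
    (hVexp : ∀ v ∈ V, v ^ p = 1) : Module (ZMod p) (Additive V) :=
  AddCommGroup.zmodModule (G := Additive V) (n := p) fun v => by
    apply Additive.toMul.injective
    rw [toMul_nsmul, toMul_zero]
    exact Subtype.ext (by rw [SubgroupClass.coe_pow]; exact hVexp _ v.toMul.2)

/-- The representation on `V` puts us in the impossible configuration. -/
theorem rep_false (k : Type) [Field k] [IsAlgClosed k] [Algebra (ZMod p) k] {G : Type u} [Group G] [Finite G]
    [Group.IsSolvable G] (hodd : Odd (Nat.card G)) (V : Subgroup G) [V.Normal] [IsMulCommutative V]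
    [Module (ZMod p) (Additive V)] {s : ℕ} [Fact s.Prime] (hps : p ≠ s) {r : G} (hrs : r ^ s = 1)
    (hVr : Nat.card ↥(V ⊓ Subgroup.centralizer ({r} : Set G)) ≤ p)
    (Hb Rb : Subgroup (G ⧸ V)) [Hb.Normal] (hcopb : (Nat.card Hb).Coprime (Nat.card Rb)) (hdvd : p ∣ Nat.card Hb)
    (hHRb : ⁅Hb, Rb⁆ = Hb) (hnop : NoPCore p Hb) (hstep : Step p Hb Rb)
    (hrR : QuotientGroup.mk' V r ∈ Rb) (hsR : s ∣ Nat.card Rb)
    (halt : Rb = Subgroup.zpowers (QuotientGroup.mk' V r) ∨ ∀ U : Subgroup (G ⧸ V),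
      U ≤ ⁅Hb, Subgroup.zpowers (QuotientGroup.mk' V r)⁆ → IsPGroup p U → U = ⊥)
    (hZ : IsZGroup ↥(Hb ⊓ Subgroup.centralizer ({QuotientGroup.mk' V r} : Set (G ⧸ V))))
    (hinj : ∀ g : G, g ∈ Subgroup.centralizer (V : Set G) → QuotientGroup.mk' V g ∈ Hb →
      QuotientGroup.mk' V g = 1) : False := by
  haveI : CharP k p := charP_of_injective_algebraMap (algebraMap (ZMod p) k).injective p
  haveI : Module.Finite (ZMod p) (Additive V) := Module.Finite.of_finite
  obtain ⟨ρ, hfix, hρ⟩ := exists_conj_rep k hps V r hrs hVr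
  refine reduced_false (hodd.of_dvd_nat (Subgroup.card_quotient_dvd_card V)) Hb Rb hcopb hdvd hHRb hnop hstep
    (s := s) (r := QuotientGroup.mk' V r) hrR (by rw [← map_pow, hrs, map_one]) hsR halt hZ ρ hfix fun y hy h1 => ?_
  obtain ⟨g, rfl⟩ := QuotientGroup.mk'_surjective V y
  exact hinj g (hρ g h1) hy

/-- The case where `O_p(H)` is elementary abelian and self-centralising. -/
theorem elementary_case {n : ℕ} (ih : ∀ m < n, Holds.{u} p m) {G : Type u} [Group G] [Finite G]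
    [Group.IsSolvable G] (hodd : Odd (Nat.card G)) (H R R₀ : Subgroup G) [H.Normal] (hn : Nat.card H = n)
    (hcop : (Nat.card H).Coprime (Nat.card R)) (hR₀ : R₀ ≤ R) (hR₀p : (Nat.card R₀).Prime)
    (hZ : IsZGroup ↥(H ⊓ Subgroup.centralizer (R₀ : Set G))) (hHR : ⁅H, R⁆ = H)
    (halt : R = R₀ ∨ ⁅H, R₀⁆ ≠ H) (h0 : Cfsg.pPrimeCore p ↥H = ⊥) (hΦ : HallHigman.frattiniCore p ↥H = ⊥) :
    Cfsg.PLengthLE p 1 ↥H := by
  classical
  refine pLength_of_index_pCore fun hdvd => ?_
  set P₀ := Cfsg.pCore p ↥H with hP₀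
  have hP₀p : IsPGroup p P₀ := PCore.pCore_isPGroup
  set V := P₀.map H.subtype with hV
  haveI : P₀.Characteristic := inferInstance
  haveI hVn : V.Normal := ConjAct.normal_of_characteristic_of_normal
  have hVH : V ≤ H := Subgroup.map_subtype_le _
  have hVp : IsPGroup p V := hP₀p.map _
  have hfr : frattini ↥P₀ = ⊥ := (Subgroup.map_eq_bot_iff_of_injective _ P₀.subtype_injective).mp hΦ
  have hP₀c : ∀ a b : P₀, a * b = b * a := fun a b => (commutatorElement_eq_one_iff_commute.mp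
    (Subgroup.mem_bot.mp (hfr ▸ CfsgLib.PGroup.commutator_le_frattini hP₀p
      (Subgroup.commutator_mem_commutator (Subgroup.mem_top a) (Subgroup.mem_top b))))).eq
  haveI : IsMulCommutative V := by
    refine ⟨⟨?_⟩⟩
    rintro ⟨_, a, ha, rfl⟩ ⟨_, b, hb, rfl⟩
    exact Subtype.ext (congrArg (fun z : P₀ => ((z : ↥H) : G)) (hP₀c ⟨a, ha⟩ ⟨b, hb⟩))
  have hVexp : ∀ v ∈ V, v ^ p = 1 := by
    rintro _ ⟨a, ha, rfl⟩
    have h1 : (⟨a, ha⟩ : P₀) ^ p = 1 := Subgroup.mem_bot.mp (hfr ▸ CfsgLib.PGroup.pow_mem_frattini hP₀p ⟨a, ha⟩)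
    exact congrArg (fun z : P₀ => ((z : ↥H) : G)) h1
  have hCV : H ⊓ Subgroup.centralizer (V : Set G) ≤ V := by
    intro g hg
    refine ⟨⟨g, hg.1⟩, PCore.centralizer_pCore_le PCore.isPSolvable_of_isSolvable h0
      (Subgroup.mem_centralizer_iff.mpr fun v hv => Subtype.ext
        (Subgroup.mem_centralizer_iff.mp hg.2 (v : G) ⟨v, hv, rfl⟩)), rfl⟩
  have hne : Nontrivial ↥H := by
    by_contra hcon
    rw [not_nontrivial_iff_subsingleton] at hcon
    refine hp.out.not_dvd_one (hdvd.trans (dvd_of_eq ?_))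
    rw [Subgroup.index_eq_one]
    exact Subsingleton.elim _ _
  have hV1 : V ≠ ⊥ := fun h => HallHigman.pCore_ne_bot_of_solvable hp.out h0
    ((Subgroup.map_eq_bot_iff_of_injective _ H.subtype_injective).mp h)
  have hlow : Cfsg.PLengthLE p 1 ↥(H.map (QuotientGroup.mk' V)) :=
    quotient_step ih hodd H R R₀ hn hcop hR₀ hR₀p hZ hHR V hVH hV1
  set f := QuotientGroup.mk' V with hf
  have hker : f.ker = V := QuotientGroup.ker_mk' V
  have hfsurj : Function.Surjective f := QuotientGroup.mk'_surjective V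
  set Hb := H.map f with hHb
  set Rb := R.map f with hRb
  haveI hHbn : Hb.Normal := Subgroup.Normal.map inferInstance f hfsurj
  have hcomapH : Hb.comap f = H := by
    rw [hHb, Subgroup.comap_map_eq, hker, sup_eq_left.mpr hVH]
  have hHRb : ⁅Hb, Rb⁆ = Hb := by rw [hHb, hRb, ← Subgroup.map_commutator, hHR]
  have hcopb : (Nat.card Hb).Coprime (Nat.card Rb) :=
    (hcop.coprime_dvd_left (Subgroup.card_map_dvd _ f)).coprime_dvd_right (Subgroup.card_map_dvd _ f)
  -- no normal `p`-subgroup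
  have hnop : ∀ D : Subgroup (G ⧸ V), IsPGroup p D → D ≤ Hb → Hb ≤ Subgroup.normalizer (D : Set (G ⧸ V)) →
      D = ⊥ := by
    intro D hD hDH hn'
    have h1 : D.comap f ≤ V := by
      refine le_map_pCore (hD.comap_of_ker_isPGroup f (by rw [hker]; exact hVp)) ?_ ?_
      · rw [← hcomapH]; exact Subgroup.comap_mono hDH
      · refine Subgroup.le_normalizer_iff.2 fun g hg x hx => ?_
        rw [Subgroup.mem_comap, map_mul, map_mul, map_inv]
        exact (Subgroup.mem_normalizer_iff.mp (hn' (Subgroup.mem_map_of_mem f hg)) _).mp hx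
    rw [← Subgroup.map_comap_eq_self_of_surjective hfsurj D, Subgroup.map_eq_bot_iff, hker]
    exact h1
  -- invariant subgroups whose commutator is proper
  have hstep : ∀ (Xb : Subgroup (G ⧸ V)) (R' : Subgroup G), Xb ≤ Hb → R₀ ≤ R' → R' ≤ R →
      R'.map f ≤ Subgroup.normalizer (Xb : Set (G ⧸ V)) → ⁅Xb.comap f, R'⁆ ≠ H →
      ∃ O : Subgroup (G ⧸ V), IsPGroup p O ∧ O ≤ Xb ∧ Xb ≤ Subgroup.normalizer (O : Set (G ⧸ V)) ∧
        ∀ U : Subgroup (G ⧸ V), U ≤ ⁅Xb, R'.map f⁆ → IsPGroup p U → U ≤ O := by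
    intro Xb R' hXb hR'0 hR' hRn hne'
    set X := Xb.comap f with hX
    have hXH : X ≤ H := by rw [← hcomapH]; exact Subgroup.comap_mono hXb
    have hR'X : R' ≤ Subgroup.normalizer (X : Set G) := Subgroup.le_normalizer_iff.2 fun g hg x hx => by
      rw [hX, Subgroup.mem_comap, map_mul, map_mul, map_inv]
      exact (Subgroup.mem_normalizer_iff.mp (hRn (Subgroup.mem_map_of_mem f hg)) _).mp hx
    set Y := ⁅X, R'⁆ with hY
    have hYX : Y ≤ X := Coprime.commutator_le_of_normalizes hR'X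
    have hcopY : (Nat.card Y).Coprime (Nat.card R') :=
      (hcop.coprime_dvd_left (Subgroup.card_dvd_of_le (hYX.trans hXH))).coprime_dvd_right
        (Subgroup.card_dvd_of_le hR')
    have hYY : ⁅Y, R'⁆ = Y := Coprime.commutator_commutator_eq R' X hR'X
      ((hcop.coprime_dvd_left (Subgroup.card_dvd_of_le hXH)).coprime_dvd_right
        (Subgroup.card_dvd_of_le hR')).symm (Or.inl inferInstance)
    have hZY : IsZGroup ↥(Y ⊓ Subgroup.centralizer (R₀ : Set G)) := by
      haveI := hZ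
      exact IsZGroup.of_injective (Subgroup.inclusion_injective (inf_le_inf_right _ (hYX.trans hXH)))
    have hlt : Nat.card Y < n := hn ▸ lt_of_le_of_ne (Subgroup.card_le_of_le (hYX.trans hXH))
      fun h => hne' (Subgroup.eq_of_le_of_card_ge (hYX.trans hXH) h.ge)
    have hpl := ih _ hlt hodd Y R' R₀ (Coprime.le_normalizer_commutator_right X R') rfl hcopY hR'0 hR₀p hZY
    rw [hYY] at hpl
    have hXY : X ≤ Subgroup.normalizer (Y : Set G) := Coprime.le_normalizer_commutator_left X R'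
    have hY0 : Cfsg.pPrimeCore p ↥Y = ⊥ := by
      set D := (Cfsg.pPrimeCore p ↥Y).map Y.subtype with hD
      have hDc : (Nat.card D).Coprime p := by
        rw [hD, Subgroup.card_map_of_injective Y.subtype_injective]; exact PCore.pPrimeCore_coprime
      have hXD : X ≤ Subgroup.normalizer (D : Set G) :=
        hXY.trans (Structure.normalizer_le_normalizer_map_subtype Y _)
      have hVX : V ≤ X := fun v hv => Subgroup.mem_comap.mpr (by
        rw [show f v = 1 from (QuotientGroup.eq_one_iff v).mpr hv]; exact one_mem _)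
      have hDY : D ≤ Y := Subgroup.map_subtype_le _
      have h1 : ⁅D, V⁆ = ⊥ := by
        rw [eq_bot_iff, ← PCore.inf_eq_bot_of_isPGroup_coprime hVp hDc]
        refine le_inf (Subgroup.commutator_le_right D V) (Coprime.commutator_le_of_normalizes (hVX.trans hXD))
      have h2 : D ≤ V := fun d hd => hCV ⟨hXH (hYX (hDY hd)),
        Subgroup.commutator_eq_bot_iff_le_centralizer.mp h1 hd⟩
      exact (Subgroup.map_eq_bot_iff_of_injective _ Y.subtype_injective).mp
        (PCore.eq_bot_of_isPGroup_coprime (hVp.to_le h2) hDc)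
    have hidx := index_pCore_of_pLength hY0 hpl
    refine ⟨((Cfsg.pCore p ↥Y).map Y.subtype).map f, (PCore.pCore_isPGroup.map _).map _, ?_, ?_, fun U hU hUp => ?_⟩
    · rw [Subgroup.map_le_iff_le_comap]; exact (Subgroup.map_subtype_le _).trans hYX
    · rw [← Subgroup.map_comap_eq_self_of_surjective hfsurj Xb]
      exact (Subgroup.map_mono (hXY.trans (Structure.normalizer_le_normalizer_map_subtype Y _))).trans
        (Subgroup.le_normalizer_map f)
    · rw [show ⁅Xb, R'.map f⁆ = Y.map f by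
        rw [hY, Subgroup.map_commutator, hX, Subgroup.map_comap_eq_self_of_surjective hfsurj]] at hU
      intro u hu
      obtain ⟨y, hy, rfl⟩ := hU hu
      refine Subgroup.mem_map_of_mem f ⟨⟨y, hy⟩, ?_, rfl⟩
      haveI : (Cfsg.pCore p ↥Y).Normal := inferInstance
      have hpg : IsPGroup p ((U.comap f).subgroupOf Y) :=
        (hUp.comap_of_ker_isPGroup f (by rw [hker]; exact hVp)).comap_of_injective Y.subtype Y.subtype_injective
      have hmem : (⟨y, hy⟩ : Y) ∈ (U.comap f).subgroupOf Y := hu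
      obtain ⟨j, hj⟩ := IsPGroup.iff_orderOf.mp hpg ⟨_, hmem⟩
      rw [Subgroup.orderOf_mk] at hj
      have hq : orderOf (QuotientGroup.mk' (Cfsg.pCore p ↥Y) ⟨y, hy⟩) = 1 := by
        refine Nat.eq_one_of_dvd_coprimes (((hp.out.coprime_iff_not_dvd).mpr hidx).pow_left j)
          ((orderOf_map_dvd _ _).trans hj.dvd) ?_
        rw [Subgroup.index_eq_card]
        exact orderOf_dvd_natCard _
      exact (QuotientGroup.eq_one_iff _).mp (orderOf_eq_one_iff.mp hq)
  -- the primes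
  have hpH : p ∣ Nat.card H := hdvd.trans (Subgroup.index_dvd_card _)
  have hdvdb : p ∣ Nat.card Hb := by
    refine hdvd.trans (dvd_of_eq ?_)
    refine Nat.eq_of_mul_eq_mul_right (show 0 < Nat.card P₀ from Nat.card_pos) ?_
    rw [Subgroup.index_mul_card, ← Coprime.card_map_mul_inf_ker f H, hker, inf_eq_left.mpr hVH,
      show Nat.card ↥V = Nat.card ↥P₀ from Subgroup.card_map_of_injective H.subtype_injective, ← hHb]
  set s := Nat.card R₀ with hsdef
  haveI : Fact s.Prime := ⟨hR₀p⟩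
  have hsR : s ∣ Nat.card R := Subgroup.card_dvd_of_le hR₀
  have hps : p ≠ s := fun h => hp.out.ne_one (Nat.eq_one_of_dvd_coprimes hcop hpH (h ▸ hsR))
  have hRbcard : Nat.card Rb = Nat.card R := by
    refine Coprime.card_map_of_disjoint f ?_
    rw [hker]
    exact Coprime.inf_eq_bot_of_coprime_dvd (Subgroup.card_dvd_of_le hVH) dvd_rfl hcop
  obtain ⟨⟨r, hr⟩, hrne⟩ : ∃ r : R₀, r ≠ 1 := by
    haveI : Nontrivial R₀ := Finite.one_lt_card_iff_nontrivial.mp hR₀p.one_lt
    exact exists_ne 1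
  have hrs : r ^ s = 1 := congrArg Subtype.val (pow_card_eq_one' (x := (⟨r, hr⟩ : R₀)))
  have hgen : Subgroup.zpowers r = R₀ := by
    refine Subgroup.eq_of_le_of_card_ge (Subgroup.zpowers_le.mpr hr) ?_
    rw [Nat.card_zpowers]
    rcases (Nat.dvd_prime hR₀p).mp (orderOf_dvd_of_pow_eq_one hrs) with h | h
    · exact absurd (Subtype.ext (orderOf_eq_one_iff.mp h)) hrne
    · rw [h]
  have hgenb : R₀.map f = Subgroup.zpowers (f r) := by rw [← hgen, MonoidHom.map_zpowers]
  have hstepR : Step p Hb Rb := fun Xb hXb hRn hne' => hstep Xb R hXb hR₀ le_rfl hRn fun h => hne'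
    (le_antisymm hXb (by
      rw [hHb, ← h, Subgroup.map_commutator, Subgroup.map_comap_eq_self_of_surjective hfsurj]
      exact Coprime.commutator_le_of_normalizes hRn))
  have haltb : Rb = Subgroup.zpowers (f r) ∨
      ∀ U : Subgroup (G ⧸ V), U ≤ ⁅Hb, Subgroup.zpowers (f r)⁆ → IsPGroup p U → U = ⊥ := by
    rcases halt with hR | hR
    · exact Or.inl (by rw [hRb, hR, hgenb])
    · refine Or.inr fun U hU hUp => ?_
      obtain ⟨O, hOp, hOX, hXO, hO⟩ := hstep Hb R₀ le_rfl le_rfl hR₀ Subgroup.le_normalizer_of_normal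
        (by rw [hcomapH]; exact hR)
      exact le_bot_iff.mp ((hO U (by rw [hgenb]; exact hU) hUp).trans (hnop O hOp hOX hXO).le)
  have hZb : IsZGroup ↥(Hb ⊓ Subgroup.centralizer ({f r} : Set (G ⧸ V))) := by
    rw [← Subgroup.centralizer_closure, ← Subgroup.zpowers_eq_closure, ← hgenb, hHb,
      ← Coprime.map_inf_centralizer f R₀ H Subgroup.le_normalizer_of_normal
        (hcop.symm.coprime_dvd_left (Subgroup.card_dvd_of_le hR₀)) (Or.inr inferInstance)]
    haveI := hZ
    exact IsZGroup.of_surjective (f.subgroupMap_surjective _)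
  -- the representation
  have hVr : Nat.card ↥(V ⊓ Subgroup.centralizer ({r} : Set G)) ≤ p := by
    haveI := isCyclic_of_pGroup (B := V ⊓ Subgroup.centralizer ({r} : Set G))
      (inf_le_inf hVH (le_of_eq (by rw [← hgen, Subgroup.zpowers_eq_closure, Subgroup.centralizer_closure])))
      hZ (hVp.to_le inf_le_left)
    refine Nat.le_of_dvd hp.out.pos ?_
    rw [← IsCyclic.exponent_eq_card]
    exact Monoid.exponent_dvd_of_forall_pow_eq_one fun y => Subtype.ext (by
      rw [SubgroupClass.coe_pow]; exact hVexp y y.2.1)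
  letI := elemModule V hVexp
  refine rep_false (AlgebraicClosure (ZMod p)) hodd V hps hrs hVr Hb Rb hcopb hdvdb hHRb hnop hstepR
    (Subgroup.mem_map_of_mem f (hR₀ hr)) (hRbcard ▸ hsR) haltb hZb fun g hgC hgH => ?_
  exact (QuotientGroup.eq_one_iff g).mpr (hCV ⟨hcomapH ▸ Subgroup.mem_comap.mpr hgH, hgC⟩)

theorem normal_case {n : ℕ} (ih : ∀ m < n, Holds.{u} p m) {G : Type u} [Group G] [Finite G]
    [Group.IsSolvable G] (hodd : Odd (Nat.card G)) (H R R₀ : Subgroup G) [H.Normal] (hn : Nat.card H = n)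
    (hcop : (Nat.card H).Coprime (Nat.card R)) (hR₀ : R₀ ≤ R) (hR₀p : (Nat.card R₀).Prime)
    (hZ : IsZGroup ↥(H ⊓ Subgroup.centralizer (R₀ : Set G))) (hHR : ⁅H, R⁆ = H)
    (halt : R = R₀ ∨ ⁅H, R₀⁆ ≠ H) : Cfsg.PLengthLE p 1 ↥H := by
  by_cases h0 : Cfsg.pPrimeCore p ↥H = ⊥
  swap
  · set N := (Cfsg.pPrimeCore p ↥H).map H.subtype with hN
    haveI : N.Normal := ConjAct.normal_of_characteristic_of_normal
    have h := quotient_step ih hodd H R R₀ hn hcop hR₀ hR₀p hZ hHR N (Subgroup.map_subtype_le _)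
      fun hb => h0 ((Subgroup.map_eq_bot_iff_of_injective _ H.subtype_injective).mp hb)
    have he : N.subgroupOf H = Cfsg.pPrimeCore p ↥H :=
      Subgroup.comap_map_eq_self_of_injective H.subtype_injective _
    exact HallHigman.pLengthLE_of_coprime_kernel (Cfsg.pPrimeCore p ↥H) PCore.pPrimeCore_coprime
      (HallHigman.pLengthLE_of_equiv ((quotEquiv H N).symm.trans (QuotientGroup.quotientMulEquivOfEq he)) h)
  by_cases hΦ : HallHigman.frattiniCore p ↥H = ⊥
  · exact elementary_case ih hodd H R R₀ hn hcop hR₀ hR₀p hZ hHR halt h0 hΦ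
  set Φ := HallHigman.frattiniCore p ↥H with hΦdef
  haveI : Φ.Characteristic := frattiniCore_characteristic
  set N := Φ.map H.subtype with hN
  haveI : N.Normal := ConjAct.normal_of_characteristic_of_normal
  have h := quotient_step ih hodd H R R₀ hn hcop hR₀ hR₀p hZ hHR N (Subgroup.map_subtype_le _)
    fun hb => hΦ ((Subgroup.map_eq_bot_iff_of_injective _ H.subtype_injective).mp hb)
  have he : N.subgroupOf H = Φ := Subgroup.comap_map_eq_self_of_injective H.subtype_injective _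
  refine pLength_of_pQuotient Φ (PCore.pCore_isPGroup.to_le (HallHigman.frattiniCore_le p ↥H)) ?_
    (HallHigman.pLengthLE_of_equiv ((quotEquiv H N).symm.trans (QuotientGroup.quotientMulEquivOfEq he)) h)
  have hprops := (HallHigman.frattini_quotient_props PCore.isPSolvable_of_isSolvable h0).2.2
  refine PCore.eq_bot_of_isPGroup_coprime (p := p) ?_ PCore.pPrimeCore_coprime
  refine (PCore.pCore_isPGroup (p := p) (G := ↥H ⧸ Φ)).to_le ?_
  refine PCore.pPrimeCore_le_centralizer_pCore.trans ?_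
  rw [← PCore.map_pCore_quotient (PCore.pCore_isPGroup.to_le (HallHigman.frattiniCore_le p ↥H)), hprops]

theorem holds : ∀ n, Holds.{u} p n := by
  intro n
  induction n using Nat.strongRecOn with
  | _ n ih =>
  intro G _ _ _ hodd H R R₀ hRH hn hcop hR₀ hR₀p hZ
  have hcomm := Coprime.commutator_commutator_eq R H hRH hcop.symm (Or.inl inferInstance)
  by_cases hHR : ⁅H, R⁆ = H
  swap
  · have hle := Coprime.commutator_le_of_normalizes hRH
    rw [← hcomm]
    refine ih _ (hn ▸ lt_of_le_of_ne (Subgroup.card_le_of_le hle) fun h => hHR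
      (Subgroup.eq_of_le_of_card_ge hle h.ge)) hodd _ R R₀ (Coprime.le_normalizer_commutator_right H R) rfl
      (hcop.coprime_dvd_left (Subgroup.card_dvd_of_le hle)) hR₀ hR₀p ?_
    haveI := hZ
    exact IsZGroup.of_injective (Subgroup.inclusion_injective (inf_le_inf_right _ hle))
  rw [hHR]
  obtain ⟨R₁, h01, h1R, hHR₁, halt⟩ : ∃ R₁, R₀ ≤ R₁ ∧ R₁ ≤ R ∧ ⁅H, R₁⁆ = H ∧ (R₁ = R₀ ∨ ⁅H, R₀⁆ ≠ H) := by
    by_cases h : ⁅H, R₀⁆ = H
    · exact ⟨R₀, le_rfl, hR₀, h, Or.inl rfl⟩
    · exact ⟨R, hR₀, le_rfl, hHR, Or.inr h⟩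
  set L := Subgroup.normalizer (H : Set G) with hL
  have hHL : H ≤ L := Subgroup.le_normalizer
  have hR1L : R₁ ≤ L := h1R.trans hRH
  haveI : (H.subgroupOf L).Normal := Subgroup.normal_subgroupOf_of_le_normalizer le_rfl
  have hcom : ∀ A : Subgroup G, A ≤ L → (⁅H.subgroupOf L, A.subgroupOf L⁆).map L.subtype = ⁅H, A⁆ := fun A hA => by
    rw [Subgroup.map_commutator, Subgroup.map_subgroupOf_eq_of_le hHL, Subgroup.map_subgroupOf_eq_of_le hA]
  refine HallHigman.pLengthLE_of_equiv (Subgroup.subgroupOfEquivOfLe hHL) ?_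
  refine normal_case (n := n) ih (hodd.of_dvd_nat (Subgroup.card_subgroup_dvd_card L)) (H.subgroupOf L)
    (R₁.subgroupOf L) (R₀.subgroupOf L) ((Coprime.card_subgroupOf hHL).trans hn) ?_ ?_ ?_ ?_ ?_ ?_
  · rw [Coprime.card_subgroupOf hHL, Coprime.card_subgroupOf hR1L]
    exact hcop.coprime_dvd_right (Subgroup.card_dvd_of_le h1R)
  · exact Subgroup.comap_mono h01
  · rw [Coprime.card_subgroupOf (h01.trans hR1L)]; exact hR₀p
  · haveI := hZ
    refine IsZGroup.of_injective (f := (L.subtype.comp (Subgroup.subtype _)).codRestrict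
      (H ⊓ Subgroup.centralizer (R₀ : Set G)) fun x => ⟨x.2.1, Subgroup.mem_centralizer_iff.mpr fun g hg =>
        congrArg Subtype.val (Subgroup.mem_centralizer_iff.mp x.2.2 ⟨g, hR1L (h01 hg)⟩ hg)⟩) fun a b h => ?_
    exact Subtype.ext (Subtype.ext (congrArg (fun z : ↥(H ⊓ Subgroup.centralizer (R₀ : Set G)) => (z : G)) h))
  · apply Subgroup.map_injective L.subtype_injective
    rw [hcom R₁ hR1L, hHR₁, Subgroup.map_subgroupOf_eq_of_le hHL]
  · rcases halt with h | h
    · exact Or.inl (by rw [h])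
    · refine Or.inr fun h' => h ?_
      have := congrArg (Subgroup.map L.subtype) h'
      rwa [hcom R₀ (h01.trans hR1L), Subgroup.map_subgroupOf_eq_of_le hHL] at this

end CfsgLib.OddOrder41.ZGroupPLength
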