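import Mathlib
import Cfsg.Agent.Lib.OddOrder.Sigma10Beta
import Cfsg.Agent.Lib.OddOrder.Sigma10Local
import Cfsg.Agent.Lib.Tech46.CoprimeGen

/-!
# Auxiliary facts for BG §12: only maximal subgroups, complements of `M_σ`, central quotient actions
-/

set_option autoImplicit false

namespace CfsgLib.OddOrder41

open Subgroup CfsgLib.OddOrder CfsgLib.OddOrder.Transitivity
open scoped commutatorElement

universe u

variable {G : Type u} [Group G]

/-- `M` is the only maximal subgroup containing `H`. -/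
def OnlyIn (H M : Subgroup G) : Prop :=
  H ≤ M ∧ ∀ L : Subgroup G, IsCoatom L → H ≤ L → L = M

theorem OnlyIn.eq {H M L : Subgroup G} (h : OnlyIn H M) (hL : IsCoatom L) (h' : OnlyIn H L) : L = M :=
  h.2 L hL h'.1

theorem OnlyIn.le_of_isCoatom {H M L : Subgroup G} (h : OnlyIn H M) (hL : IsCoatom L) (hle : H ≤ L) :
    M = L := (h.2 L hL hle).symm

theorem onlyIn_of_inUnique {H M : Subgroup G} (h : Cfsg.InUniqueMaximal H) (hM : IsCoatom M)
    (hle : H ≤ M) : OnlyIn H M :=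
  ⟨hle, fun _ hL hHL => Uniq.InUniqueMaximal.eq h hM hle hL hHL⟩

theorem inUnique_of_onlyIn {H M : Subgroup G} (h : OnlyIn H M) (hM : IsCoatom M) :
    Cfsg.InUniqueMaximal H :=
  ⟨M, ⟨hM, h.1⟩, fun L hL => h.2 L hL.1 hL.2⟩

theorem OnlyIn.cj {H M : Subgroup G} (h : OnlyIn H M) (g : G) :
    OnlyIn (cj g H) (Transitivity.cj g M) := by
  refine ⟨cj_mono h.1, fun L hL hle => ?_⟩
  have h2 := cj_mono (g := g⁻¹) hle
  rw [cj_mul, inv_mul_cancel, cj_one] at h2
  rw [← h.2 _ (isCoatom_map_conj hL g⁻¹) h2, cj_mul, mul_inv_cancel, cj_one]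

theorem cj_normalizer (g : G) (H : Subgroup G) :
    cj g (Subgroup.normalizer (H : Set G)) = Subgroup.normalizer ((cj g H : Subgroup G) : Set G) := by
  ext x
  rw [mem_cj]
  constructor
  · intro hx
    refine mem_normalizer_of_cj_eq ?_
    rw [cj_mul, show x * g = g * (g⁻¹ * x * g) by group, ← cj_mul, cj_eq_of_mem_normalizer hx]
  · intro hx
    refine mem_normalizer_of_cj_eq (cj_inj (g := g) ?_)
    rw [cj_mul, show g * (g⁻¹ * x * g) = x * g by group, ← cj_mul, cj_eq_of_mem_normalizer hx]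

theorem cj_centralizer (g : G) (H : Subgroup G) :
    cj g (Subgroup.centralizer (H : Set G)) = Subgroup.centralizer ((cj g H : Subgroup G) : Set G) := by
  ext x
  rw [mem_cj, Subgroup.mem_centralizer_iff, Subgroup.mem_centralizer_iff]
  constructor
  · intro h y hy
    have h1 := h _ (mem_cj.mp hy)
    calc y * x = g * ((g⁻¹ * y * g) * (g⁻¹ * x * g)) * g⁻¹ := by group
      _ = g * ((g⁻¹ * x * g) * (g⁻¹ * y * g)) * g⁻¹ := by rw [h1]
      _ = x * y := by group
  · intro h y hy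
    have h1 := h (g * y * g⁻¹) (mem_cj.mpr (by simpa [mul_assoc] using hy))
    calc y * (g⁻¹ * x * g) = g⁻¹ * ((g * y * g⁻¹) * x) * g := by group
      _ = g⁻¹ * (x * (g * y * g⁻¹)) * g := by rw [h1]
      _ = g⁻¹ * x * g * y := by group

theorem cj_eq_of_mem {g : G} {M : Subgroup G} (hg : g ∈ M) : cj g M = M :=
  cj_eq_of_mem_normalizer (Subgroup.le_normalizer hg)

theorem cj_zpowers (g x : G) : cj g (Subgroup.zpowers x) = Subgroup.zpowers (g * x * g⁻¹) := by
  rw [Transitivity.cj, MonoidHom.map_zpowers]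
  rfl

theorem centralizer_zpowers (x : G) :
    Subgroup.centralizer ((Subgroup.zpowers x : Subgroup G) : Set G) =
      Subgroup.centralizer ({x} : Set G) := by
  rw [Subgroup.zpowers_eq_closure, Subgroup.centralizer_closure]

theorem not_isCyclic_of_not_comm {H : Subgroup G} (h : ¬ IsMulCommutative H) : ¬ IsCyclic H :=
  fun hc => h (by have := hc; exact IsCyclic.isMulCommutative)

variable [Finite G]

/-- `M_σ` has a complement in `M`. -/
theorem exists_compl (hG : Cfsg.IsMinSimpleOddOrder G) {M : Subgroup G} (hM : IsCoatom M) :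
    ∃ E : Subgroup G, Cfsg.IsComplIn E (Cfsg.sigmaCore M) M := by
  set S := Cfsg.sigmaCore M with hS
  have hSM : S ≤ M := piCoreOf_le _ _
  have hall := (Sigma10.sigmaCore_hall hG hM).1
  have : (S.subgroupOf M).Normal :=
    (Subgroup.normal_subgroupOf_iff_le_normalizer hSM).mpr (piCoreOf_normal _ _)
  have hcop : (Nat.card (S.subgroupOf M)).Coprime (S.subgroupOf M).index := by
    rw [Nat.card_congr (Subgroup.subgroupOfEquivOfLe hSM).toEquiv]
    exact Nat.coprime_of_dvd fun q hq h1 h2 => hall.2.2 q hq (hall.2.1 q hq h1) h2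
  obtain ⟨E', hE'⟩ := Subgroup.exists_right_complement'_of_coprime hcop
  refine ⟨E'.map M.subtype, Subgroup.map_subtype_le _, hSM, ?_, fun m hm => ?_⟩
  · rw [eq_bot_iff]
    rintro _ ⟨⟨y, hy, rfl⟩, hyS⟩
    have h1 : y ∈ S.subgroupOf M ⊓ E' := ⟨hyS, hy⟩
    rw [hE'.disjoint.eq_bot, Subgroup.mem_bot] at h1
    rw [h1]; exact Subgroup.one_mem _
  · obtain ⟨a, ha, b, hb, he⟩ := Subgroup.mem_sup_of_normal_right.1
      ((sup_comm (S.subgroupOf M) E' ▸ hE'.sup_eq_top).ge (Subgroup.mem_top (⟨m, hm⟩ : M)))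
    exact ⟨a, ⟨a, ha, rfl⟩, b, hb, congrArg Subtype.val he.symm⟩

variable {p : ℕ} [hp : Fact p.Prime]

/-- A group with a normal `p`-complement is `O_{p'}` times any Sylow `p`-subgroup. -/
theorem le_oPrime_sup_sylowOf {X R : Subgroup G} (h : Cfsg.HasNormalPComplement p X)
    (hR : SylowOf p R X) : X ≤ oPrime p X ⊔ R := by
  obtain ⟨P, N, hN, hc⟩ := h
  obtain ⟨T, rfl⟩ := hR.toSylow
  have hcN : (Nat.card N).Coprime p := by
    rw [← hc.index_eq_card]
    exact ((hp.out.coprime_iff_not_dvd).mpr P.not_dvd_index).symm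
  have htop : N ⊔ (T : Subgroup X) = ⊤ := by
    have hTc : Nat.card (T : Subgroup X) = Nat.card (P : Subgroup X) := by
      rw [T.card_eq_multiplicity, P.card_eq_multiplicity]
    refine Subgroup.eq_top_of_le_card _ (Nat.le_of_dvd Nat.card_pos ?_)
    rw [← hc.card_mul, ← hTc]
    refine Nat.Coprime.mul_dvd_of_dvd_of_dvd ?_ (Subgroup.card_dvd_of_le le_sup_left)
      (Subgroup.card_dvd_of_le le_sup_right)
    obtain ⟨n, hn⟩ := T.isPGroup'.exists_card_eq
    rw [hn]
    exact hcN.pow_right n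
  intro x hx
  have h1 : (⟨x, hx⟩ : X) ∈ N ⊔ (T : Subgroup X) := htop ▸ Subgroup.mem_top _
  have h2 := Subgroup.mem_map_of_mem X.subtype h1
  rw [Subgroup.map_sup] at h2
  exact (sup_le_sup_right (Subgroup.map_mono (PCore.le_pPrimeCore hN hcN)) _) h2

/-- A group acting through a central quotient of type `(p, p)`: fixed points of the elements outside
the central subgroup generate. -/
theorem le_of_centralizers_mod {z s t : G} {X Y : Subgroup G} (hzp : z ^ p = 1)
    (hs : s ^ p = 1) (ht : t ^ p = 1) (hzs : z * s = s * z) (hzt : z * t = t * z)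
    (hst : s * t * s⁻¹ * t⁻¹ ∈ Subgroup.zpowers z)
    (hX : (Nat.card X).Coprime p) (hXz : X ≤ Subgroup.centralizer ({z} : Set G))
    (hsX : s ∈ Subgroup.normalizer (X : Set G)) (htX : t ∈ Subgroup.normalizer (X : Set G))
    (hY : ∀ i j : ℕ, (i < p ∧ j = 1) ∨ (i = 1 ∧ j = 0) →
      X ⊓ Subgroup.centralizer {s ^ i * t ^ j} ≤ Y) : X ≤ Y := by
  set H := Subgroup.centralizer ({z} : Set G) with hH
  have hzH : z ∈ H := Subgroup.mem_centralizer_singleton_iff.mpr rfl
  have hsH : s ∈ H := Subgroup.mem_centralizer_singleton_iff.mpr hzs.symm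
  have htH : t ∈ H := Subgroup.mem_centralizer_singleton_iff.mpr hzt.symm
  set N : Subgroup H := Subgroup.zpowers ⟨z, hzH⟩ with hN
  have hNn : N.Normal := by
    refine ⟨fun n hn g => ?_⟩
    obtain ⟨k, rfl⟩ := hn
    have hc : Commute g ⟨z, hzH⟩ := Subtype.ext (Subgroup.mem_centralizer_singleton_iff.mp g.2)
    change g * (⟨z, hzH⟩ : H) ^ k * g⁻¹ ∈ N
    rw [(hc.zpow_right k).eq, mul_inv_cancel_right]
    exact ⟨k, rfl⟩
  set f := QuotientGroup.mk' N with hf
  have hker : ∀ x : H, f x = 1 → (x : G) ∈ Subgroup.zpowers z := by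
    intro x hx
    obtain ⟨k, rfl⟩ := (QuotientGroup.eq_one_iff x).mp hx
    exact ⟨k, rfl⟩
  have hmemN : ∀ x : H, (x : G) ∈ Subgroup.zpowers z → f x = 1 := by
    rintro x ⟨k, hk⟩
    exact (QuotientGroup.eq_one_iff x).mpr ⟨k, Subtype.ext hk⟩
  have hzX : ∀ x ∈ X, x ∈ Subgroup.zpowers z → x = 1 := by
    intro x hx hxz
    refine Criteria.eq_one_of_pgroup_of_coprime ?_ hX hxz hx
    exact isPGroup_of_elemAb (elemAb_zpowers hzp)
  set X' := (X.subgroupOf H).map f with hX'
  set Y' := ((X ⊓ Y).subgroupOf H).map f with hY'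
  have hle : X' ≤ Y' := by
    refine Tech46.le_of_centralizers_le (p := p) (f ⟨s, hsH⟩) (f ⟨t, htH⟩) ?_ ?_ ?_ X' Y'
      ?_ ?_ ?_ fun i j hij => ?_
    · rw [← map_pow, show (⟨s, hsH⟩ : H) ^ p = 1 from Subtype.ext hs, map_one]
    · rw [← map_pow, show (⟨t, htH⟩ : H) ^ p = 1 from Subtype.ext ht, map_one]
    · refine commutatorElement_eq_one_iff_mul_comm.mp ?_
      rw [← map_commutatorElement]
      exact hmemN _ hst
    · intro hd
      refine (hp.out.coprime_iff_not_dvd).mp hX.symm (hd.trans ?_)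
      refine (Subgroup.card_map_dvd (X.subgroupOf H) f).trans ?_
      rw [Nat.card_congr (Subgroup.subgroupOfEquivOfLe hXz).toEquiv]
    · refine Subgroup.le_normalizer_map f ⟨⟨s, hsH⟩, ?_, rfl⟩
      rw [← Subgroup.subgroupOf_normalizer_eq hXz]
      exact hsX
    · refine Subgroup.le_normalizer_map f ⟨⟨t, htH⟩, ?_, rfl⟩
      rw [← Subgroup.subgroupOf_normalizer_eq hXz]
      exact htX
    · rintro _ ⟨⟨x, hx, rfl⟩, hxc⟩
      refine ⟨x, ⟨hx, hY i j hij ⟨hx, ?_⟩⟩, rfl⟩
      set w : H := ⟨s, hsH⟩ ^ i * ⟨t, htH⟩ ^ j with hw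
      have hwn : (w : G) ∈ Subgroup.normalizer (X : Set G) :=
        mul_mem (pow_mem hsX i) (pow_mem htX j)
      have h1 : f ⁅w, x⁆ = 1 := by
        rw [map_commutatorElement, commutatorElement_eq_one_iff_mul_comm]
        have hxc' := Subgroup.mem_centralizer_singleton_iff.mp hxc
        rw [hw, map_mul, map_pow, map_pow]
        exact hxc'.symm
      have h2 : (w : G) * x * (w : G)⁻¹ * (x : G)⁻¹ = 1 :=
        hzX _ (mul_mem ((Subgroup.mem_normalizer_iff.mp hwn x).mp hx) (inv_mem hx)) (hker _ h1)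
      refine Subgroup.mem_centralizer_singleton_iff.mpr (commutatorElement_eq_one_iff_mul_comm.mp ?_).symm
      simpa [commutatorElement_def, hw] using h2
  intro x hx
  obtain ⟨y, hy, hyx⟩ := hle (⟨⟨x, hXz hx⟩, hx, rfl⟩ : f ⟨x, hXz hx⟩ ∈ X')
  have h1 : (y : G)⁻¹ * x = 1 := by
    refine hzX _ (mul_mem (inv_mem hy.1) hx) ?_
    exact hker (y⁻¹ * ⟨x, hXz hx⟩) (by rw [map_mul, map_inv, hyx, inv_mul_cancel])
  rw [inv_mul_eq_one] at h1
  exact h1 ▸ hy.2

end CfsgLib.OddOrder41
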