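import Mathlib
import Cfsg.Agent.Lib.OddOrder41.Sigma12Props
import Cfsg.Agent.Lib.OddOrder41.Sigma12Aux
import Cfsg.Agent.Lib.OddOrder.Sigma10Rank
import Cfsg.Agent.Lib.OddOrder.Sigma10Main

/-!
# BG 12.13: nonabelian `p`-subgroups lie in a unique maximal subgroup

BG 12.2 and 12.11 are parameters.
-/

set_option autoImplicit false

namespace CfsgLib.OddOrder41

open Subgroup CfsgLib.OddOrder CfsgLib.OddOrder.Transitivity
open scoped commutatorElement

universe u

variable {G : Type u} [Group G] [Finite G] {p : ℕ} [hp : Fact p.Prime]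

/-- A nonabelian `p`-subgroup of a maximal `M`: `p ∈ σ(M)` and its normalizer lies in `M`. -/
theorem mem_sigma_and_normalizer_le (hG : Cfsg.IsMinSimpleOddOrder G) (h12 : PropSigmaPrimeNilpotent G)
    {M : Subgroup G} (hM : IsCoatom M) {P : Subgroup G} (hP : IsPGroup p P)
    (hna : ¬ IsMulCommutative P) (hPM : P ≤ M) :
    p ∈ Cfsg.sigma M ∧ Subgroup.normalizer (P : Set G) ≤ M := by
  obtain ⟨E, hE⟩ := exists_compl hG hM
  obtain ⟨h1, -, h3, -⟩ := h12 M hM E hE
  have hσ : p ∈ Cfsg.sigma M := by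
    by_contra hσ
    refine hna (h1 P hPM hP.isNilpotent fun q hq hd => ?_)
    obtain ⟨n, hn⟩ := hP.exists_card_eq
    rwa [(Nat.prime_dvd_prime_iff_eq hq hp.out).mp (hq.dvd_of_dvd_pow (hn ▸ hd))]
  exact ⟨hσ, h3 p P hσ hP hPM (not_isCyclic_of_not_comm hna)⟩

/-- A Sylow subgroup of a nilpotent `M_σ` is normal in `M`. -/
theorem le_normalizer_of_sigmaCore_nilpotent (hG : Cfsg.IsMinSimpleOddOrder G) {M : Subgroup G}
    (hM : IsCoatom M) (hpσ : p ∈ Cfsg.sigma M) {R : Subgroup G} (hR : SylowOf p R M)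
    (hnil : Group.IsNilpotent (Cfsg.sigmaCore M)) : M ≤ Subgroup.normalizer (R : Set G) := by
  set S := Cfsg.sigmaCore M with hS
  have hSM : S ≤ M := piCoreOf_le _ _
  have hRS : SylowOf p R S :=
    hR.mono hSM (Sigma10.sylow_le_piCore hG hM (Sigma10.alpha_subset_sigma hG hM) hpσ hpσ hR)
  have hSn : S ≤ Subgroup.normalizer (R : Set G) := by
    obtain ⟨T, rfl⟩ := hRS.toSylow
    have hn : (T : Subgroup S).Normal := inferInstance
    exact map_subtype_normalized _
  intro m hm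
  obtain ⟨s, hs, hle⟩ := Sigma10.exists_conj_le hRS
    (Q := cj m R) ((cj_mono hRS.1).trans
      (cj_eq_of_mem_normalizer (piCoreOf_normal _ _ hm)).le) (hR.2.1.map _)
  rw [cj_mul] at hle
  have h1 := mem_normalizer_of_cj_eq (Subgroup.eq_of_le_of_card_ge hle (card_cj (s * m) R).ge)
  simpa using mul_mem (inv_mem (hSn hs)) h1

section RankTwo

variable {P₁ : Subgroup G} {z : G}

/-- The hypotheses on a subgroup of order `p ^ 3` and exponent `p` with center `⟨z⟩`. -/
structure Extra (p : ℕ) (P₁ : Subgroup G) (z : G) : Prop where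
  exp : ∀ x ∈ P₁, x ^ p = 1
  mem : z ∈ P₁
  order : orderOf z = p
  central : ∀ x ∈ P₁, x * z = z * x
  comm : ∀ x ∈ P₁, ∀ y ∈ P₁, x * y * x⁻¹ * y⁻¹ ∈ Subgroup.zpowers z
  center : ∀ x ∈ P₁, (∀ y ∈ P₁, y * x = x * y) → x ∈ Subgroup.zpowers z

theorem extra_of_card (h3 : Nat.card P₁ = p ^ 3) (hna : ¬ IsMulCommutative P₁)
    (hexp : Monoid.exponent P₁ = p) : ∃ z, Extra p P₁ z := by
  set Z := P₁ ⊓ Subgroup.centralizer (P₁ : Set G) with hZ
  have hZc : Nat.card Z = p := Sigma10.card_inf_centralizer_self h3 hna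
  obtain ⟨z, hz⟩ := exists_prime_orderOf_dvd_card' (G := Z) p (by rw [hZc])
  have hzo : orderOf (z : G) = p := by rw [Subgroup.orderOf_coe, hz]
  have hZz : Z = Subgroup.zpowers (z : G) :=
    (Subgroup.eq_of_le_of_card_ge (Subgroup.zpowers_le.mpr z.2)
      (by rw [Nat.card_zpowers, hzo, hZc])).symm
  refine ⟨z, ⟨fun x hx => ?_, z.2.1, hzo, fun x hx => Subgroup.mem_centralizer_iff.mp z.2.2 x hx,
    fun x hx y hy => ?_, fun x hx hc => hZz ▸ ⟨hx, Subgroup.mem_centralizer_iff.mpr hc⟩⟩⟩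
  · have h := Monoid.pow_exponent_eq_one (⟨x, hx⟩ : P₁)
    rw [hexp] at h
    simpa using congrArg Subtype.val h
  · rw [← hZz]
    have hn : (Z.subgroupOf P₁).Normal := by
      refine ⟨fun n hn g => ?_⟩
      have h0 : (g : G) * n = n * g := Subgroup.mem_centralizer_iff.mp hn.2 g g.2
      have h1 : (g : G) * n * (g : G)⁻¹ = n := by rw [h0, mul_inv_cancel_right]
      show (g : G) * n * (g : G)⁻¹ ∈ Z
      rw [h1]; exact hn
    have hq : Nat.card (P₁ ⧸ Z.subgroupOf P₁) = p ^ 2 := by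
      have h1 := Subgroup.card_eq_card_quotient_mul_card_subgroup (Z.subgroupOf P₁)
      rw [Nat.card_congr (Subgroup.subgroupOfEquivOfLe (inf_le_left : Z ≤ P₁)).toEquiv, hZc, h3] at h1
      exact (Nat.eq_of_mul_eq_mul_right hp.out.pos (by rw [← h1]; ring)).symm
    have := IsPGroup.isMulCommutative_of_card_eq_prime_sq hq
    have h2 : QuotientGroup.mk' (Z.subgroupOf P₁) ⁅(⟨x, hx⟩ : P₁), ⟨y, hy⟩⁆ = 1 := by
      rw [map_commutatorElement, commutatorElement_eq_one_iff_mul_comm]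
      exact mul_comm' _ _
    have h3 := (QuotientGroup.eq_one_iff _).mp h2
    simpa [commutatorElement_def, Subgroup.mem_subgroupOf] using h3

variable (hE : Extra p P₁ z)
include hE

theorem Extra.ne_one : z ≠ 1 := fun h => hp.out.ne_one (by rw [← hE.order, h, orderOf_one])

theorem Extra.zpowers_le : Subgroup.zpowers z ≤ P₁ := Subgroup.zpowers_le.mpr hE.mem

/-- Noncentral elements of order `p` in the coset `⟨z⟩ x` are conjugate to `x`. -/
theorem Extra.exists_conj {x : G} (hx : x ∈ P₁) (hxz : x ∉ Subgroup.zpowers z) {c : G}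
    (hc : c ∈ Subgroup.zpowers z) : ∃ y ∈ P₁, y * x * y⁻¹ = c * x := by
  classical
  obtain ⟨y, hy, hyx⟩ : ∃ y ∈ P₁, y * x ≠ x * y := by
    by_contra h
    push Not at h
    exact hxz (hE.center x hx h)
  set d := y * x * y⁻¹ * x⁻¹ with hd
  have hdz : d ∈ Subgroup.zpowers z := hE.comm y hy x hx
  have hd1 : d ≠ 1 := fun h => hyx (by
    have h2 : y * x * y⁻¹ * x⁻¹ = 1 := h
    calc y * x = (y * x * y⁻¹ * x⁻¹) * x * y := by group
      _ = x * y := by rw [h2, one_mul])
  have hdo : orderOf d = p :=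
    ((Nat.dvd_prime hp.out).mp (hE.order ▸ (Nat.card_zpowers z ▸ Subgroup.orderOf_dvd_natCard _ hdz))).resolve_left
      (fun h => hd1 (orderOf_eq_one_iff.mp h))
  have heq : Subgroup.zpowers d = Subgroup.zpowers z :=
    Subgroup.eq_of_le_of_card_ge (Subgroup.zpowers_le.mpr hdz)
      (by rw [Nat.card_zpowers, Nat.card_zpowers, hdo, hE.order])
  rw [← heq, mem_zpowers_iff_mem_range_orderOf, Finset.mem_image] at hc
  obtain ⟨k, -, rfl⟩ := hc
  refine ⟨y ^ k, pow_mem hy k, ?_⟩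
  have hd' : y * x * y⁻¹ = d * x := by simp [hd]
  have hyd : y * d = d * y := by
    obtain ⟨i, hi⟩ := hdz
    rw [← hi]
    exact Commute.zpow_right (show Commute y z from hE.central y hy) i
  induction k with
  | zero => simp
  | succ k ih =>
    calc y ^ (k + 1) * x * (y ^ (k + 1))⁻¹ = y * (y ^ k * x * (y ^ k)⁻¹) * y⁻¹ := by
          rw [pow_succ']; group
      _ = (y * d ^ k) * x * y⁻¹ := by rw [ih]; group
      _ = d ^ k * (y * x * y⁻¹) := by rw [((show Commute y d from hyd).pow_right k).eq]; group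
      _ = d ^ k * (d * x) := by rw [hd']
      _ = d ^ (k + 1) * x := by rw [pow_succ, mul_assoc (d ^ k) d x]

theorem Extra.elemAb {x : G} (hx : x ∈ P₁) (hxz : x ∉ Subgroup.zpowers z) :
    Cfsg.IsElementaryAbelian p (Subgroup.zpowers z ⊔ Subgroup.zpowers x : Subgroup G) ∧
      Nat.card ↥(Subgroup.zpowers z ⊔ Subgroup.zpowers x : Subgroup G) = p ^ 2 := by
  have hxc : x ∈ Subgroup.centralizer ((Subgroup.zpowers z : Subgroup G) : Set G) := by
    rw [centralizer_zpowers, Subgroup.mem_centralizer_singleton_iff]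
    exact hE.central x hx
  refine ⟨elemAb_sup_zpowers (elemAb_zpowers (hE.exp z hE.mem)) (hE.exp x hx) hxc, ?_⟩
  have hx1 : x ≠ 1 := fun h => hxz (h ▸ Subgroup.one_mem _)
  have hxo : orderOf x = p := orderOf_eq_prime (hE.exp x hx) hx1
  have hbot : Subgroup.zpowers x ⊓ Subgroup.zpowers z = ⊥ := by
    rw [eq_bot_iff]
    rintro w ⟨h1, h2⟩
    by_contra hw
    have hwo : orderOf w = p :=
      ((Nat.dvd_prime hp.out).mp (hxo ▸ (Nat.card_zpowers x ▸ Subgroup.orderOf_dvd_natCard _ h1))).resolve_left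
        (fun h => hw (Subgroup.mem_bot.mpr (orderOf_eq_one_iff.mp h)))
    have h3 : Subgroup.zpowers w = Subgroup.zpowers x :=
      Subgroup.eq_of_le_of_card_ge (Subgroup.zpowers_le.mpr h1)
        (by rw [Nat.card_zpowers, Nat.card_zpowers, hwo, hxo])
    exact hxz (Subgroup.zpowers_le.mpr h2 (h3 ▸ Subgroup.mem_zpowers x))
  rw [sup_comm, Coprime.card_sup_of_disjoint
    (Subgroup.zpowers_le.mpr (Subgroup.centralizer_le_normalizer _ hxc)) (inf_comm (Subgroup.zpowers z) _ ▸ hbot),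
    Nat.card_zpowers, Nat.card_zpowers, hxo, hE.order, sq]

/-- The subgroups of order `p` of `⟨z, x⟩`. -/
theorem Extra.order_p_cases {x : G} (hx : x ∈ P₁) (hxz : x ∉ Subgroup.zpowers z) {A₀ : Subgroup G}
    (hA₀ : A₀ ≤ Subgroup.zpowers z ⊔ Subgroup.zpowers x) (hc : Nat.card A₀ = p) :
    A₀ = Subgroup.zpowers z ∨
      ∃ y ∈ P₁, A₀ = Subgroup.zpowers (y * x * y⁻¹) := by
  classical
  by_cases hle : A₀ ≤ Subgroup.zpowers z
  · exact Or.inl (Subgroup.eq_of_le_of_card_ge hle (by rw [hc, Nat.card_zpowers, hE.order]))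
  obtain ⟨a, ha, haz⟩ := SetLike.not_le_iff_exists.mp hle
  right
  have hxc : Subgroup.zpowers x ≤ Subgroup.normalizer ((Subgroup.zpowers z : Subgroup G) : Set G) := by
    refine Subgroup.zpowers_le.mpr (Subgroup.centralizer_le_normalizer _ ?_)
    rw [centralizer_zpowers, Subgroup.mem_centralizer_singleton_iff]
    exact hE.central x hx
  have ha' := hA₀ ha
  rw [sup_comm] at ha'
  obtain ⟨xj, hxj, c, hcz, hac⟩ := Coprime.exists_mul_of_mem_sup hxc ha'
  obtain ⟨j, rfl⟩ := hxj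
  have hxo : orderOf x = p := orderOf_eq_prime (hE.exp x hx) (fun h => hxz (h ▸ Subgroup.one_mem _))
  have hx1 : x ^ j ≠ 1 := fun h => haz (by
    rw [hac, show (fun k : ℤ => x ^ k) j = 1 from h, one_mul]; exact hcz)
  obtain ⟨m, hm⟩ : ∃ m : ℕ, (x ^ j) ^ m = x := by
    have h1 : x ∈ Subgroup.zpowers (x ^ j) := by
      have h2 : Subgroup.zpowers (x ^ j) = Subgroup.zpowers x := by
        refine Subgroup.eq_of_le_of_card_ge (Subgroup.zpowers_le.mpr ⟨j, rfl⟩) ?_
        rw [Nat.card_zpowers, Nat.card_zpowers, hxo,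
          orderOf_eq_prime (by rw [← zpow_natCast, ← zpow_mul, mul_comm, zpow_mul, zpow_natCast,
            hE.exp x hx, one_zpow]) hx1]
      rw [h2]; exact Subgroup.mem_zpowers x
    obtain ⟨m, -, hm⟩ := Finset.mem_image.mp (mem_zpowers_iff_mem_range_orderOf.mp h1)
    exact ⟨m, hm⟩
  have hcx : Commute (x ^ j) c := by
    obtain ⟨i, rfl⟩ := hcz
    exact Commute.zpow_zpow (show Commute x z from hE.central x hx) j i
  have ham : a ^ m = c ^ m * x := by
    rw [hac, show (fun k : ℤ => x ^ k) j = x ^ j from rfl, hcx.mul_pow, hm]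
    obtain ⟨i, rfl⟩ := hcz
    rw [← zpow_natCast (z ^ i), ← zpow_mul]
    exact (Commute.zpow_right (show Commute x z from hE.central x hx) _).eq
  obtain ⟨y, hy, hyx⟩ := hE.exists_conj hx hxz (pow_mem hcz m)
  refine ⟨y, hy, (Subgroup.eq_of_le_of_card_ge (Subgroup.zpowers_le.mpr (hyx ▸ ham ▸ pow_mem ha m)) ?_).symm⟩
  rw [hc, Nat.card_zpowers, orderOf_eq_prime (p := p)]
  · rw [conj_pow, hE.exp x hx, mul_one, mul_inv_cancel]
  · intro h
    exact hxz (by rw [conj_eq_one_iff.mp h]; exact Subgroup.one_mem _)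

end RankTwo

variable {M L : Subgroup G}

/-- The central element of `P₁` pins `M`, the noncentral elements pin `L`: then `M ≤ L`. -/
theorem le_of_orientation (hG : Cfsg.IsMinSimpleOddOrder G) (hM : IsCoatom M)
    (hpσ : p ∈ Cfsg.sigma M) {P P₁ : Subgroup G} (hP : SylowOf p P M) (hP₁P : P₁ ≤ P)
    (hnc : Cfsg.HasNormalPComplement p ↥(Cfsg.sigmaCore M)) {z : G} (hE : Extra p P₁ z)
    (hna : ¬ IsMulCommutative P₁) (hNL : Subgroup.normalizer (P : Set G) ≤ L)
    (hx : ∀ x ∈ P₁, x ∉ Subgroup.zpowers z → Subgroup.centralizer ({x} : Set G) ≤ L) : M ≤ L := by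
  set S := Cfsg.sigmaCore M with hS
  have hPS : SylowOf p P S := hP.mono (piCoreOf_le _ _)
    (Sigma10.sylow_le_piCore hG hM (Sigma10.alpha_subset_sigma hG hM) hpσ hpσ hP)
  have hPL : P ≤ L := Subgroup.le_normalizer.trans hNL
  set K := oPrime p S with hK
  have hP₁K : P₁ ≤ Subgroup.normalizer (K : Set G) := (hP₁P.trans hPS.1).trans (oPrime_normal S)
  -- two noncommuting elements
  obtain ⟨s, hs, t, ht, hst⟩ : ∃ s ∈ P₁, ∃ t ∈ P₁, s * t ≠ t * s := by
    by_contra h
    push Not at h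
    exact hna ⟨⟨fun a b => Subtype.ext (h a a.2 b b.2)⟩⟩
  have hcen : ∀ w ∈ P₁, w ∈ Subgroup.zpowers z → w * t = t * w := by
    rintro w - ⟨i, rfl⟩
    exact Commute.zpow_left (show Commute z t from (hE.central t ht).symm) i
  have hsz : s ∉ Subgroup.zpowers z := fun h => hst (hcen s hs h)
  -- the fixed points of `z` in `K`
  have hCz : K ⊓ Subgroup.centralizer ({z} : Set G) ≤ L := by
    have hn : P₁ ≤ Subgroup.normalizer ((K ⊓ Subgroup.centralizer ({z} : Set G) : Subgroup G) : Set G) := by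
      refine Subgroup.le_normalizer_iff.2 fun g hg k hk => ⟨(Subgroup.mem_normalizer_iff.mp (hP₁K hg) k).mp hk.1, ?_⟩
      refine Subgroup.mem_centralizer_singleton_iff.mpr ?_
      have h1 : Commute k z := Subgroup.mem_centralizer_singleton_iff.mp hk.2
      have h2 : Commute g z := hE.central g hg
      exact ((h2.mul_left h1).mul_left h2.inv_left).eq
    refine le_of_centralizers_mod (hE.exp z hE.mem) (hE.exp s hs) (hE.exp t ht)
      (hE.central s hs).symm (hE.central t ht).symm (hE.comm s hs t ht)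
      ((oPrime_coprime S).coprime_dvd_left (Subgroup.card_dvd_of_le inf_le_left)) inf_le_right
      (hn hs) (hn ht) fun i j hij => inf_le_right.trans (hx _ (mul_mem (pow_mem hs i) (pow_mem ht j)) ?_)
    intro hmem
    rcases hij with ⟨-, rfl⟩ | ⟨rfl, rfl⟩
    · rw [pow_one] at hmem
      obtain ⟨k, hk⟩ := hmem
      have h1 : Commute s t := by
        have h2 : t = (s ^ i)⁻¹ * z ^ k := by
          rw [show z ^ k = s ^ i * t from hk]; group
        rw [h2]
        exact (((Commute.refl s).pow_right i).inv_right).mul_right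
          (Commute.zpow_right (show Commute s z from hE.central s hs) k)
      exact hst h1.eq
    · exact hsz (by simpa using hmem)
  -- `K ≤ L`
  have hAe := hE.elemAb hs hsz
  have hKL : K ≤ L := by
    refine Uniq.le_of_centralizers_noncyclic hAe.1 ?_ (oPrime_coprime S)
      ((sup_le hE.zpowers_le (Subgroup.zpowers_le.mpr hs)).trans hP₁K) fun b hb hb1 => ?_
    · intro hc
      have h1 := IsCyclic.exponent_eq_card (α := ↥(Subgroup.zpowers z ⊔ Subgroup.zpowers s : Subgroup G))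
      rw [hAe.2] at h1
      have h2 : Monoid.exponent ↥(Subgroup.zpowers z ⊔ Subgroup.zpowers s : Subgroup G) ∣ p :=
        Monoid.exponent_dvd_of_forall_pow_eq_one fun a => Subtype.ext (by simpa using hAe.1.2 a a.2)
      rw [h1] at h2
      exact absurd (Nat.le_of_dvd hp.out.pos h2) (not_le.mpr (lt_self_pow₀ hp.out.one_lt one_lt_two))
    · by_cases hbz : b ∈ Subgroup.zpowers z
      · have hbo : orderOf b = p := orderOf_eq_prime (hAe.1.2 b hb) hb1
        have h3 : Subgroup.zpowers b = Subgroup.zpowers z :=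
          Subgroup.eq_of_le_of_card_ge (Subgroup.zpowers_le.mpr hbz)
            (by rw [Nat.card_zpowers, Nat.card_zpowers, hbo, hE.order])
        rw [← centralizer_zpowers b, h3, centralizer_zpowers]
        exact hCz
      · exact inf_le_right.trans
          (hx b ((sup_le hE.zpowers_le (Subgroup.zpowers_le.mpr hs)) hb) hbz)
  have hSL : S ≤ L := (le_oPrime_sup_sylowOf hnc hPS).trans (sup_le hKL hPL)
  intro m hm
  obtain ⟨c, hc, hle⟩ := Sigma10.exists_conj_le hPS (Q := cj m P)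
    ((cj_mono hPS.1).trans (cj_eq_of_mem_normalizer (piCoreOf_normal _ _ hm)).le) (hP.2.1.map _)
  rw [cj_mul] at hle
  have h1 := hNL (mem_normalizer_of_cj_eq (Subgroup.eq_of_le_of_card_ge hle (card_cj (c * m) P).ge))
  simpa using mul_mem (inv_mem (hSL hc)) h1

/-- **BG 12.13**. -/
theorem inUnique_of_not_comm (hG : Cfsg.IsMinSimpleOddOrder G) (h2 : PropRankTwoInMaximal G)
    (h12 : PropSigmaPrimeNilpotent G) {P : Subgroup G} (hP : IsPGroup p P)
    (hna : ¬ IsMulCommutative P) : Cfsg.InUniqueMaximal P := by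
  suffices key : ∀ k, ∀ P : Subgroup G, IsPGroup p P → ¬ IsMulCommutative P →
      Nat.card G - Nat.card P ≤ k → Cfsg.InUniqueMaximal P from key _ P hP hna le_rfl
  intro k
  induction k with
  | zero =>
    intro P hP _ hle
    exact absurd (Subgroup.eq_top_of_le_card P (Nat.le_of_sub_eq_zero (Nat.le_zero.mp hle)))
      (minSimple_pgroup_ne_top hG hP)
  | succ k ih =>
  intro P hP hna hcard
  obtain ⟨M, hM, hPM⟩ := exists_isCoatom_ge (minSimple_pgroup_ne_top hG hP)
  refine ⟨M, ⟨hM, hPM⟩, fun L ⟨hL, hPL⟩ => ?_⟩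
  by_contra hne
  obtain ⟨hσM, hNM⟩ := mem_sigma_and_normalizer_le hG h12 hM hP hna hPM
  obtain ⟨hσL, hNL⟩ := mem_sigma_and_normalizer_le hG h12 hL hP hna hPL
  -- `P` is a Sylow subgroup of `G`
  obtain ⟨T, hT⟩ := hP.exists_le_sylow
  rcases hT.eq_or_lt with hPT | hlt
  swap
  · set Q := Subgroup.normalizer (P : Set G) ⊓ (T : Subgroup G)
    have hgrow : Nat.card P < Nat.card Q := normalizer_grows T.isPGroup' hlt
    have hQna : ¬ IsMulCommutative Q := fun h => hna ⟨⟨fun a b => Subtype.ext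
      (show (a : G) * b = b * a from congrArg Subtype.val (h.is_comm.comm
        (⟨a, ⟨Subgroup.le_normalizer a.2, hT a.2⟩⟩ : Q) ⟨b, ⟨Subgroup.le_normalizer b.2, hT b.2⟩⟩))⟩⟩
    have hQ := ih Q (T.isPGroup'.to_le inf_le_right) hQna (by omega)
    exact hne (Uniq.InUniqueMaximal.eq hQ hM (inf_le_left.trans hNM) hL (inf_le_left.trans hNL))
  subst hPT
  have hPMs : SylowOf p (T : Subgroup G) M := sylowOf_of_sylow T hPM
  have hPLs : SylowOf p (T : Subgroup G) L := sylowOf_of_sylow T hPL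
  by_cases hr : Cfsg.PRankLE p 2 (T : Subgroup G)
  swap
  · exact hne (Uniq.InUniqueMaximal.eq
      (Sigma10.inUnique_of_rank_three hG hr (minSimple_pgroup_ne_top hG T.isPGroup')) hM hPM hL hPL)
  obtain ⟨P₁, P₂, hsup, -, hna₁, hc₁, hexp₁, -, -⟩ :=
    (Sigma10.rank_two_structure hG (Sigma10.pLengthLE_one_proper hG p) T hr).resolve_left hna
  obtain ⟨z, hE⟩ := extra_of_card hc₁ hna₁ hexp₁
  have hP₁T : P₁ ≤ (T : Subgroup G) := hsup ▸ le_sup_left
  -- neither `M_σ` nor `L_σ` is nilpotent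
  have hnnil : ∀ {M L : Subgroup G}, IsCoatom M → IsCoatom L → L ≠ M → p ∈ Cfsg.sigma M →
      SylowOf p (T : Subgroup G) M → Subgroup.normalizer ((T : Subgroup G) : Set G) ≤ L →
      ¬ Group.IsNilpotent (Cfsg.sigmaCore M) := fun {M L} hM hL hne hσ hs hN hnil =>
    hne ((hM.le_iff.mp ((le_normalizer_of_sigmaCore_nilpotent hG hM hσ hs hnil).trans hN)).resolve_left
      hL.1)
  have hnpc : ∀ {M : Subgroup G}, IsCoatom M → SylowOf p (T : Subgroup G) M → p ∈ Cfsg.sigma M →
      Cfsg.HasNormalPComplement p ↥(Cfsg.sigmaCore M) := fun {M} hM hs hσ =>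
    ((Sigma10.betaCore_hall hG hM (fun p _ => Sigma10.pLengthLE_one_proper hG p)
      (Sigma10.propFiveFive hG)).2.2.2.2 p hp.out hσ.2.1
      (fun hβ => hβ.1.2 (Sigma10.pRankLE_of_sylowOf hs hr))).2.1
  have hone : ∀ {M L : Subgroup G}, IsCoatom M → IsCoatom L → L ≠ M → p ∈ Cfsg.sigma M →
      SylowOf p (T : Subgroup G) M → Subgroup.normalizer ((T : Subgroup G) : Set G) ≤ L →
      ∀ x ∈ P₁, x ∉ Subgroup.zpowers z →
        OnlyIn (Subgroup.normalizer ((Subgroup.zpowers z : Subgroup G) : Set G)) M ∨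
          OnlyIn (Subgroup.normalizer ((Subgroup.zpowers x : Subgroup G) : Set G)) M := by
    intro M L hM hL hne hσ hs hN x hx hxz
    have hAe := hE.elemAb hx hxz
    have hAT : Subgroup.zpowers z ⊔ Subgroup.zpowers x ≤ M :=
      ((sup_le hE.zpowers_le (Subgroup.zpowers_le.mpr hx)).trans hP₁T).trans hs.1
    obtain ⟨-, h⟩ := h2 M hM p (Subgroup.zpowers z ⊔ Subgroup.zpowers x) ⟨hAT, hAe.1, hAe.2⟩
    by_contra hcon
    push Not at hcon
    refine hnnil hM hL hne hσ hs hN (h fun A₀ hA₀ hc => ?_).2.2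
    rcases hE.order_p_cases hx hxz hA₀ hc with rfl | ⟨y, hy, rfl⟩
    · exact hcon.1
    · intro hon
      have hyM : y ∈ M := hs.1 (hP₁T hy)
      have h3 := OnlyIn.cj (H := Subgroup.normalizer ((Subgroup.zpowers (y * x * y⁻¹) : Subgroup G) : Set G))
        hon y⁻¹
      rw [cj_normalizer, cj_zpowers, cj_eq_of_mem (inv_mem hyM),
        show y⁻¹ * (y * x * y⁻¹) * y⁻¹⁻¹ = x by group] at h3
      exact hcon.2 h3
  have hML : ∀ {M L : Subgroup G}, IsCoatom M → IsCoatom L → L ≠ M → p ∈ Cfsg.sigma M →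
      SylowOf p (T : Subgroup G) M → Subgroup.normalizer ((T : Subgroup G) : Set G) ≤ L →
      (∀ x ∈ P₁, x ∉ Subgroup.zpowers z →
        OnlyIn (Subgroup.normalizer ((Subgroup.zpowers x : Subgroup G) : Set G)) L) → False := by
    intro M L hM hL hne hσ hs hN hall
    refine hne ((hM.le_iff.mp (le_of_orientation hG hM hσ hs hP₁T (hnpc hM hs hσ) hE hna₁ hN
      fun x hx hxz => ?_)).resolve_left hL.1)
    rw [← centralizer_zpowers]
    exact (Subgroup.centralizer_le_normalizer _).trans (hall x hx hxz).1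
  have hM1 := hone hM hL hne hσM hPMs hNL
  have hL1 := hone hL hM (Ne.symm hne) hσL hPLs hNM
  by_cases hzM : OnlyIn (Subgroup.normalizer ((Subgroup.zpowers z : Subgroup G) : Set G)) M
  · exact hML hM hL hne hσM hPMs hNL fun x hx hxz =>
      (hL1 x hx hxz).resolve_left fun h => hne (hzM.eq hL h)
  · exact hML hL hM (Ne.symm hne) hσL hPLs hNM fun x hx hxz => (hM1 x hx hxz).resolve_left hzM

end CfsgLib.OddOrder41
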