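import Mathlib
import Cfsg.Agent.Lib.OddOrder41.Sigma12Uniq
import Cfsg.Agent.S1453

/-!
# BG 12.14: centralizers of subgroups of order `p`, `p ∈ σ(M)`
-/

set_option autoImplicit false

namespace CfsgLib.OddOrder41

open Subgroup CfsgLib.OddOrder CfsgLib.OddOrder.Transitivity
open scoped commutatorElement

universe u

variable {G : Type u} [Group G] [Finite G] {p : ℕ} [hp : Fact p.Prime]

/-- In a group with a normal `p`-complement, `P ∩ X' ≤ P'`. -/
theorem sylowOf_inf_derived_le {X P : Subgroup G} (h : Cfsg.HasNormalPComplement p X)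
    (hP : SylowOf p P X) : P ⊓ ⁅X, X⁆ ≤ ⁅P, P⁆ := by
  set K := oPrime p X with hK
  have hsup := le_oPrime_sup_sylowOf h hP
  have hXK : X ≤ Subgroup.normalizer (K : Set G) := oPrime_normal X
  set N := Subgroup.normalizer (K : Set G) with hN
  have hKN : K ≤ N := Subgroup.le_normalizer
  have hPN : P ≤ N := hP.1.trans hXK
  have : (K.subgroupOf N).Normal := (Subgroup.normal_subgroupOf_iff_le_normalizer hKN).mpr le_rfl
  set f := QuotientGroup.mk' (K.subgroupOf N) with hf
  have hmap : (X.subgroupOf N).map f ≤ (P.subgroupOf N).map f := by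
    rintro _ ⟨x, hx, rfl⟩
    have hx' := hsup hx
    rw [sup_comm] at hx'
    obtain ⟨a, ha, k, hk, hxe⟩ := Coprime.exists_mul_of_mem_sup hPN hx'
    refine ⟨⟨a, hPN ha⟩, ha, ?_⟩
    have : x = ⟨a, hPN ha⟩ * ⟨k, hKN hk⟩ := Subtype.ext hxe
    rw [this, map_mul]
    rw [show f ⟨k, hKN hk⟩ = 1 from (QuotientGroup.eq_one_iff _).mpr hk, mul_one]
  rintro x ⟨hxP, hxX⟩
  have h1 : f ⟨x, hPN hxP⟩ ∈ (⁅X.subgroupOf N, X.subgroupOf N⁆).map f := by
    refine Subgroup.mem_map_of_mem f ?_
    have h2 : ((⟨x, hPN hxP⟩ : N) : G) ∈ (⁅X.subgroupOf N, X.subgroupOf N⁆).map N.subtype := by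
      rw [Subgroup.map_commutator, Subgroup.map_subgroupOf_eq_of_le hXK]
      exact hxX
    obtain ⟨w, hw, hwe⟩ := h2
    exact Subtype.coe_injective hwe ▸ hw
  rw [Subgroup.map_commutator] at h1
  have h3 := Subgroup.commutator_mono hmap hmap h1
  rw [← Subgroup.map_commutator] at h3
  obtain ⟨d, hd, hde⟩ := h3
  have hdP : (d : G) ∈ ⁅P, P⁆ := by
    have h4 := Subgroup.mem_map_of_mem N.subtype hd
    rwa [Subgroup.map_commutator, Subgroup.map_subgroupOf_eq_of_le hPN] at h4
  have h5 : (d⁻¹ * ⟨x, hPN hxP⟩ : N) ∈ K.subgroupOf N := by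
    rw [← QuotientGroup.eq_one_iff]
    change f _ = 1
    rw [map_mul, map_inv, hde, inv_mul_cancel]
  have h6 : (d : G)⁻¹ * x = 1 :=
    Criteria.eq_one_of_pgroup_of_coprime hP.2.1 (oPrime_coprime X)
      (mul_mem (inv_mem (Subgroup.commutator_le_self P hdP)) hxP) h5
  rw [inv_mul_eq_one] at h6
  exact h6 ▸ hdP

theorem inUnique_centralizer_of_rank_three (hG : Cfsg.IsMinSimpleOddOrder G) {M : Subgroup G}
    {X U : Subgroup G} (hU : Cfsg.InUniqueMaximal U) (hM : IsCoatom M) (hUM : U ≤ M)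
    (hUX : U ≤ Subgroup.centralizer (X : Set G)) (hX : X ≠ ⊥) :
    OnlyIn (Subgroup.centralizer (X : Set G)) M := by
  obtain ⟨L, hL, hle⟩ := exists_isCoatom_ge (minSimple_centralizer_subgroup_ne_top hG hX)
  have huniq : ∀ L : Subgroup G, IsCoatom L → Subgroup.centralizer (X : Set G) ≤ L → L = M :=
    fun L hL hle => Uniq.InUniqueMaximal.eq hU hM hUM hL (hUX.trans hle)
  exact ⟨huniq L hL hle ▸ hle, huniq⟩

/-- **BG 12.14**, with `X` inside the Sylow subgroup. -/
theorem centralizer_unique_of_le (hG : Cfsg.IsMinSimpleOddOrder G) (h2 : PropRankTwoInMaximal G)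
    (h12 : PropSigmaPrimeNilpotent G) {M : Subgroup G} (hM : IsCoatom M) (hpσ : p ∈ Cfsg.sigma M)
    {P X : Subgroup G} (hP : SylowOf p P M) (hXP : X ≤ P) (hX : Nat.card X = p)
    (h : p ∈ Cfsg.beta M ∨ X ≤ ⁅Cfsg.sigmaCore M, Cfsg.sigmaCore M⁆) :
    OnlyIn (Subgroup.centralizer (X : Set G)) M ∧ Cfsg.InUniqueMaximal P := by
  classical
  set S := Cfsg.sigmaCore M with hS
  have hPS : SylowOf p P S := hP.mono (piCoreOf_le _ _)
    (Sigma10.sylow_le_piCore hG hM (Sigma10.alpha_subset_sigma hG hM) hpσ hpσ hP)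
  have hX1 : X ≠ ⊥ := fun h => by rw [h, Subgroup.card_bot] at hX; exact hp.out.ne_one hX.symm
  have hPtop := minSimple_pgroup_ne_top hG hP.2.1
  have hPne : P ≠ ⊥ := fun h => hX1 (le_bot_iff.mp (h ▸ hXP))
  have hXd : p ∉ Cfsg.beta M → X ≤ ⁅P, P⁆ := fun hβ => by
    have hnc := ((Sigma10.betaCore_hall hG hM (fun p _ => Sigma10.pLengthLE_one_proper hG p)
      (Sigma10.propFiveFive hG)).2.2.2.2 p hp.out hpσ.2.1 hβ).2.1
    exact (le_inf hXP (h.resolve_left hβ)).trans (sylowOf_inf_derived_le hnc hPS)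
  by_cases hr : Cfsg.PRankLE p 2 P
  · have hβ : p ∉ Cfsg.beta M := fun hβ => hβ.1.2 (Sigma10.pRankLE_of_sylowOf hP hr)
    have hXP' := hXd hβ
    have hna : ¬ IsMulCommutative P := fun hc => hX1 (le_bot_iff.mp (hXP'.trans (le_of_eq
      (Subgroup.commutator_eq_bot_iff_le_centralizer.mpr fun a ha =>
        Subgroup.mem_centralizer_iff.mpr fun b hb =>
          congrArg Subtype.val (hc.is_comm.comm (⟨b, hb⟩ : P) ⟨a, ha⟩)))))
    have hU := inUnique_of_not_comm hG h2 h12 hP.2.1 hna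
    obtain ⟨T, rfl⟩ := Sigma10.exists_sylow_of_mem_sigma hpσ hP
    obtain ⟨P₁, P₂, hsup, hcomm, hna₁, hc₁, hexp₁, hcyc, -⟩ :=
      (Sigma10.rank_two_structure hG (Sigma10.pLengthLE_one_proper hG p) T hr).resolve_left hna
    obtain ⟨z, hE⟩ := extra_of_card hc₁ hna₁ hexp₁
    have hP₂n : P₂ ≤ Subgroup.normalizer (P₁ : Set G) := fun b hb =>
      Subgroup.centralizer_le_normalizer (P₁ : Set G)
        (Subgroup.mem_centralizer_iff.mpr fun a ha => hcomm a ha b hb)
    have hdec : ∀ x ∈ (T : Subgroup G), ∃ a ∈ P₁, ∃ b ∈ P₂, x = a * b := by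
      intro x hx
      rw [← hsup] at hx
      obtain ⟨a, ha, b, hb, he⟩ := (Set.ext_iff.mp
        (Subgroup.coe_mul_of_right_le_normalizer_left P₁ P₂ hP₂n) x).mp hx
      exact ⟨a, ha, b, hb, he.symm⟩
    have hder : ⁅(T : Subgroup G), (T : Subgroup G)⁆ ≤ Subgroup.zpowers z := by
      refine Subgroup.commutator_le.mpr fun x hx y hy => ?_
      obtain ⟨a, ha, b, hb, rfl⟩ := hdec x hx
      obtain ⟨a', ha', b', hb', rfl⟩ := hdec y hy
      have hbb : Commute b b' := by
        have := hcyc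
        exact congrArg Subtype.val
          (IsCyclic.isMulCommutative.is_comm.comm (⟨b, hb⟩ : P₂) ⟨b', hb'⟩)
      have h1 : Commute a' b := hcomm a' ha' b hb
      have h2 : Commute a b' := hcomm a ha b' hb'
      have h3 : Commute b (a' * b') := h1.symm.mul_right hbb
      rw [show ⁅a * b, a' * b'⁆ = ⁅a, a'⁆ by
        calc ⁅a * b, a' * b'⁆ = a * (b * (a' * b') * b⁻¹) * a⁻¹ * (a' * b')⁻¹ := by
              rw [commutatorElement_def]; group
          _ = a * (a' * b') * a⁻¹ * (a' * b')⁻¹ := by rw [h3.eq, mul_inv_cancel_right]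
          _ = a * a' * (b' * a⁻¹ * b'⁻¹) * a'⁻¹ := by group
          _ = ⁅a, a'⁆ := by
            rw [h2.inv_left.symm.eq, mul_inv_cancel_right, commutatorElement_def]]
      rw [commutatorElement_def]
      exact hE.comm a ha a' ha'
    have hXz : X ≤ Subgroup.zpowers z := hXP'.trans hder
    refine ⟨inUnique_centralizer_of_rank_three hG hU hM hP.1 (fun x hx => ?_) hX1, hU⟩
    rw [Subgroup.mem_centralizer_iff]
    intro w hw
    obtain ⟨a, ha, b, hb, rfl⟩ := hdec x hx
    obtain ⟨i, rfl⟩ := hXz hw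
    exact Commute.zpow_left ((show Commute z a from (hE.central a ha).symm).mul_right
      (hcomm z hE.mem b hb)) i
  · refine ⟨?_, Sigma10.inUnique_of_rank_three hG hr hPtop⟩
    set C := P ⊓ Subgroup.centralizer (X : Set G) with hC
    by_cases hrC : Cfsg.PRankLE p 2 C
    swap
    · exact inUnique_centralizer_of_rank_three hG (Sigma10.inUnique_of_rank_three hG hrC
        (minSimple_pgroup_ne_top hG (hP.2.1.to_le inf_le_left))) hM
        (inf_le_left.trans hP.1) inf_le_right hX1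
    exfalso
    obtain ⟨z, hzP, hzc, hzo⟩ := Sigma10.exists_central_orderOf hP.2.1 hPne
    have hXe : Cfsg.IsElementaryAbelian p X := by
      have : IsCyclic X := isCyclic_of_prime_card hX
      exact ⟨IsCyclic.isMulCommutative, fun a ha => by
        simpa [hX] using congrArg Subtype.val (pow_card_eq_one' (x := (⟨a, ha⟩ : X)))⟩
    have hzX : z ∉ X := fun hzX => by
      have hXz : X = Subgroup.zpowers z :=
        (Subgroup.eq_of_le_of_card_ge (Subgroup.zpowers_le.mpr hzX)
          (by rw [Nat.card_zpowers, hzo, hX])).symm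
      refine hr (PRankLE.of_le (le_inf le_rfl fun w hw => ?_) hrC)
      rw [hXz, centralizer_zpowers, Subgroup.mem_centralizer_singleton_iff]
      exact hzc w hw
    set A := X ⊔ Subgroup.zpowers z with hA
    have hzcX : z ∈ Subgroup.centralizer (X : Set G) :=
      Subgroup.mem_centralizer_iff.mpr fun w hw => hzc w (hXP hw)
    have hAe : Cfsg.IsElementaryAbelian p A :=
      elemAb_sup_zpowers hXe (hzo ▸ pow_orderOf_eq_one z) hzcX
    have hAP : A ≤ P := sup_le hXP (Subgroup.zpowers_le.mpr hzP)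
    have hAlt : p < Nat.card A := by
      by_contra hle
      have h1 := Subgroup.eq_of_le_of_card_ge (le_sup_left : X ≤ A) (hX.symm ▸ not_lt.mp hle)
      exact hzX (h1.symm ▸ (le_sup_right : Subgroup.zpowers z ≤ A) (Subgroup.mem_zpowers z))
    have hmax : ∀ B : Subgroup G, B ≤ P → Cfsg.IsElementaryAbelian p B → A ≤ B →
        Nat.card B ≤ p ^ 2 := by
      intro B hBP hBe hAB
      have hBC : B ≤ C := le_inf hBP fun b hb => Subgroup.mem_centralizer_iff.mpr fun w hw =>
        elemAb_commute hBe (hAB (Subgroup.mem_sup_left hw)) hb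
      rw [← Nat.card_congr (Subgroup.subgroupOfEquivOfLe hBC).toEquiv]
      exact pRankLE_iff.mp hrC _ (elemAb_comap hBe _ C.subtype_injective)
    have hA2 : Nat.card A = p ^ 2 := by
      obtain ⟨n, hn⟩ := elemAb_card hAe
      have h1 := hmax A hAP hAe le_rfl
      rw [hn] at h1 hAlt ⊢
      rw [Nat.pow_le_pow_iff_right hp.out.one_lt] at h1
      conv_lhs at hAlt => rw [← pow_one p]
      rw [Nat.pow_lt_pow_iff_right hp.out.one_lt] at hAlt
      rw [show n = 2 by omega]
    have hAmax : ∀ B : Subgroup G, B ≤ P → Cfsg.IsElementaryAbelian p B → A ≤ B → B = A :=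
      fun B hBP hBe hAB =>
        (Subgroup.eq_of_le_of_card_ge hAB (hA2 ▸ hmax B hBP hBe hAB)).symm
    by_cases hβ : p ∈ Cfsg.beta M
    · obtain ⟨T, rfl⟩ := Sigma10.exists_sylow_of_mem_sigma hpσ hP
      obtain ⟨B, hBP, hBe, hAB⟩ := hβ.2.2.2 T A hAP hAe hA2
      exact hAB.ne (hAmax B hBP hBe hAB.le).symm
    · have hXP' := hXd hβ
      have hp2 : p ≠ 2 := Uniq.prime_ne_two hG hP.2.1 hPne
      set A' := A.subgroupOf P with hA'
      have hA'max : ∀ B : Subgroup P, Cfsg.IsElementaryAbelian p B → A' ≤ B → B = A' := by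
        intro B hBe hAB
        have h1 := hAmax (B.map P.subtype) (Subgroup.map_subtype_le B) (elemAb_map hBe _)
          (by rw [← Subgroup.map_subgroupOf_eq_of_le hAP]; exact Subgroup.map_mono hAB)
        rw [hA', ← h1, Subgroup.subgroupOf, Subgroup.comap_map_eq_self_of_injective P.subtype_injective]
      obtain ⟨hnle, -, -, hchar, hidx⟩ := Cfsg.Agent.S1453.result (R := P) p hp2 hP.2.1 hr A'
        (elemAb_comap hAe _ P.subtype_injective)
        (by rw [Nat.card_congr (Subgroup.subgroupOfEquivOfLe hAP).toEquiv, hA2]) hA'max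
      set T := Subgroup.centralizer ((Subgroup.closure {x : P | x ∈ Subgroup.upperCentralSeries P 2 ∧
        x ^ p = 1} : Subgroup P) : Set P) with hT
      have hTn : T.Normal := inferInstance
      have hT' : commutator P ≤ T := by
        rw [commutator_def]
        refine Subgroup.commutator_le.mpr fun a _ b _ => ?_
        rw [← QuotientGroup.eq_one_iff]
        change QuotientGroup.mk' T _ = 1
        have : IsCyclic (P ⧸ T) := isCyclic_of_prime_card (p := p) (by rw [← Subgroup.index_eq_card, hidx])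
        rw [map_commutatorElement, commutatorElement_eq_one_iff_mul_comm]
        exact IsCyclic.isMulCommutative.is_comm.comm _ _
      refine hnle fun a ha => ?_
      have ha' : (a : G) ∈ X ⊔ Subgroup.zpowers z := ha
      have hle : X ⊔ Subgroup.zpowers z ≤ T.map P.subtype := by
        refine sup_le (hXP'.trans ?_) (Subgroup.zpowers_le.mpr ⟨⟨z, hzP⟩, ?_, rfl⟩)
        · rw [← Subgroup.map_subtype_commutator]
          exact Subgroup.map_mono hT'
        · refine Subgroup.mem_centralizer_iff.mpr fun w _ => Subtype.ext ?_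
          exact hzc w w.2
      obtain ⟨t, ht, hte⟩ := hle ha'
      exact Subtype.coe_injective hte ▸ ht

/-- **BG 12.14**. -/
theorem centralizer_unique (hG : Cfsg.IsMinSimpleOddOrder G) (h2 : PropRankTwoInMaximal G)
    (h12 : PropSigmaPrimeNilpotent G) {M : Subgroup G} (hM : IsCoatom M) (hpσ : p ∈ Cfsg.sigma M)
    {X : Subgroup G} (hXM : X ≤ M) (hX : Nat.card X = p) {P : Subgroup G}
    (hP : SylowOf p P (Cfsg.sigmaCore M))
    (h : p ∈ Cfsg.beta M ∨ X ≤ ⁅Cfsg.sigmaCore M, Cfsg.sigmaCore M⁆) :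
    OnlyIn (Subgroup.centralizer (X : Set G)) M ∧ Cfsg.InUniqueMaximal P ∧ P ≤ M := by
  have hSM : Cfsg.sigmaCore M ≤ M := piCoreOf_le _ _
  have hPM : P ≤ M := hP.1.trans hSM
  obtain ⟨R, hR, hPR⟩ := exists_sylowOf_ge hPM hP.2.1
  obtain rfl : R = P := hP.2.2 R
    (Sigma10.sylow_le_piCore hG hM (Sigma10.alpha_subset_sigma hG hM) hpσ hpσ hR) hR.2.1 hPR
  obtain ⟨m, hm, hle⟩ := Sigma10.exists_conj_le hR hXM
    (IsPGroup.of_card (n := 1) (by rw [hX, pow_one]))
  have h' : p ∈ Cfsg.beta M ∨ cj m X ≤ ⁅Cfsg.sigmaCore M, Cfsg.sigmaCore M⁆ := by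
    refine h.imp id fun hd => ?_
    have hmap : cj m (Cfsg.sigmaCore M) = Cfsg.sigmaCore M :=
      cj_eq_of_mem_normalizer (piCoreOf_normal _ _ hm)
    rw [← hmap, Transitivity.cj, ← Subgroup.map_commutator]
    exact cj_mono hd
  obtain ⟨h1, h2⟩ := centralizer_unique_of_le hG h2 h12 hM hpσ hR hle ((card_cj m X).trans hX) h'
  refine ⟨?_, h2, hPM⟩
  have h3 := h1.cj m⁻¹
  rwa [cj_centralizer, cj_eq_of_mem (inv_mem hm), cj_mul, inv_mul_cancel, cj_one] at h3

end CfsgLib.OddOrder41
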