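import Mathlib
import Cfsg.Agent.Lib.OddOrder41.Sigma12Props
import Cfsg.Agent.Lib.OddOrder41.Sigma12Aux

/-!
# BG 12.15: a second maximal subgroup over the normalizer of a `σ`-subgroup
-/

set_option autoImplicit false

namespace CfsgLib.OddOrder41

open Subgroup CfsgLib.OddOrder CfsgLib.OddOrder.Transitivity

universe u

variable {G : Type u} [Group G] [Finite G] {q : ℕ} [hq : Fact q.Prime]

omit hq in
/-- A subgroup of a cyclic group contains all elements killed by its order. -/
theorem mem_of_pow_card_eq_one {S X : Subgroup G} [IsCyclic S] (hXS : X ≤ S) {y : G} (hy : y ∈ S)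
    (hp : y ^ Nat.card X = 1) : y ∈ X := by
  classical
  have := Fintype.ofFinite S
  by_contra hyX
  have h1 := IsCyclic.card_pow_eq_one_le (α := S) (n := Nat.card X) Nat.card_pos
  have h2 : insert (⟨y, hy⟩ : S) (Finset.univ.filter fun a : S => (a : G) ∈ X) ⊆
      Finset.univ.filter fun a : S => a ^ Nat.card X = 1 := by
    intro a ha
    rw [Finset.mem_insert] at ha
    refine Finset.mem_filter.mpr ⟨Finset.mem_univ _, Subtype.ext ?_⟩
    rcases ha with rfl | ha
    · exact hp
    · show ((a : G)) ^ Nat.card X = 1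
      exact congrArg (fun w : X => (w : G))
        (pow_card_eq_one' (x := (⟨(a : G), (Finset.mem_filter.mp ha).2⟩ : X)))
  have h3 : (Finset.univ.filter fun a : S => (a : G) ∈ X).card = Nat.card X := by
    rw [← Fintype.card_subtype, ← Nat.card_eq_fintype_card]
    exact Nat.card_congr ⟨fun a => ⟨a.1.1, a.2⟩, fun x => ⟨⟨x.1, hXS x.2⟩, x.2⟩,
      fun _ => rfl, fun _ => rfl⟩
  have h4 := (Finset.card_le_card h2).trans h1
  rw [Finset.card_insert_of_notMem (by simpa using hyX), h3] at h4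
  omega

omit hq in
theorem normalizer_le_normalizer_of_cyclic {S X : Subgroup G} (hS : IsCyclic S) (hXS : X ≤ S) :
    Subgroup.normalizer (S : Set G) ≤ Subgroup.normalizer (X : Set G) := by
  refine Subgroup.le_normalizer_iff.2 fun n hn x hx =>
    mem_of_pow_card_eq_one hXS ((Subgroup.mem_normalizer_iff.mp hn x).mp (hXS hx)) ?_
  have h1 : x ^ Nat.card X = 1 := congrArg Subtype.val (pow_card_eq_one' (x := (⟨x, hx⟩ : X)))
  rw [conj_pow, h1, mul_one, mul_inv_cancel]

variable (hG : Cfsg.IsMinSimpleOddOrder G) {M : Subgroup G} (hM : IsCoatom M) (hqσ : q ∈ Cfsg.sigma M)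
  {X : Subgroup G} (hXq : IsPGroup q X) (hX1 : X ≠ ⊥) (hXM : X ≤ M)
  {Mstar : Subgroup G} (hne : Mstar ≠ M) (hNX : Subgroup.normalizer (X : Set G) ≤ Mstar)

include hG hM hqσ hXq hX1 hXM hne hNX in
/-- **BG 12.15 (a)**. -/
theorem partner_not_conj (g : G) : Mstar ≠ cj g M := by
  intro heq
  have h1 : cj g⁻¹ X ≤ M := by
    have h := cj_mono (g := g⁻¹) (Subgroup.le_normalizer.trans hNX)
    rwa [heq, cj_mul, inv_mul_cancel, cj_one] at h
  obtain ⟨m, hm, c, hc, he⟩ := Sigma10.conjFactor hG hM hqσ hXq hX1 hXM g⁻¹ h1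
  have hcM : c ∈ Mstar := hNX (Subgroup.centralizer_le_normalizer _ hc)
  have hg : g = c⁻¹ * m⁻¹ := by rw [← mul_inv_rev, ← he, inv_inv]
  have h2 : Mstar = cj c⁻¹ M := by rw [heq, hg, ← cj_mul, cj_eq_of_mem (inv_mem hm)]
  have h3 : cj c Mstar = M := by rw [h2, cj_mul, mul_inv_cancel, cj_one]
  exact hne (by rwa [cj_eq_of_mem hcM] at h3)

include hG hM hqσ hNX in
/-- **BG 12.15 (b), (c)**. -/
theorem partner_sylow (h12 : PropSigmaPrimeNilpotent G) {S : Subgroup G}
    (hS : SylowOf q S (M ⊓ Mstar)) (hXS : X ≤ S) :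
    Subgroup.normalizer (S : Set G) ≤ M ∧ SylowOf q S Mstar := by
  have hN : Subgroup.normalizer (S : Set G) ≤ M := by
    obtain ⟨E, hE⟩ := exists_compl hG hM
    by_cases hc : IsCyclic S
    · have hNS : Subgroup.normalizer (S : Set G) ≤ Mstar :=
        (normalizer_le_normalizer_of_cyclic hc hXS).trans hNX
      obtain ⟨R, hR, hSR⟩ := exists_sylowOf_ge (hS.1.trans inf_le_left) hS.2.1
      rcases hSR.eq_or_lt with rfl | hlt
      · exact Sigma10.normalizer_le_of_mem_sigma hqσ hR
      · exfalso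
        have hgrow := normalizer_grows hR.2.1 hlt
        have h2 := hS.2.2 (Subgroup.normalizer (S : Set G) ⊓ R)
          (le_inf (inf_le_right.trans hR.1) (inf_le_left.trans hNS))
          (hR.2.1.to_le inf_le_right) (le_inf Subgroup.le_normalizer hSR)
        rw [h2] at hgrow
        exact lt_irrefl _ hgrow
    · exact (h12 M hM E hE).2.2.1 q S hqσ hS.2.1 (hS.1.trans inf_le_left) hc
  refine ⟨hN, hS.1.trans inf_le_right, hS.2.1, fun Q hQ hQq hle => ?_⟩
  by_contra hne'
  have hgrow := normalizer_grows hQq (lt_of_le_of_ne hle (Ne.symm hne'))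
  have h2 := hS.2.2 (Subgroup.normalizer (S : Set G) ⊓ Q)
    (le_inf (inf_le_left.trans hN) (inf_le_right.trans hQ))
    (hQq.to_le inf_le_right) (le_inf Subgroup.le_normalizer hle)
  rw [h2] at hgrow
  exact lt_irrefl _ hgrow

theorem not_dvd_relIndex_of_sylowOf {S L : Subgroup G} (h : SylowOf q S L) : ¬ q ∣ S.relIndex L := by
  obtain ⟨T, rfl⟩ := h.toSylow
  rw [Subgroup.relIndex, Subgroup.subgroupOf,
    Subgroup.comap_map_eq_self_of_injective L.subtype_injective]
  exact T.not_dvd_index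

end CfsgLib.OddOrder41
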