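import Mathlib
import Cfsg.Agent.Lib.OddOrder41.Sigma12Partner
import Cfsg.Agent.Lib.OddOrder41.Sigma12Uniq
import Cfsg.Agent.Lib.OddOrder.Sigma10Main
import Cfsg.Agent.Lib.Hall.Pi
import Cfsg.Agent.Lib.Coprime.SchurZassenhaus

/-!
# BG 12.16: `σ(M)`-subgroups are conjugate into `M_σ`
-/

set_option autoImplicit false

namespace CfsgLib.OddOrder41

open Subgroup CfsgLib.OddOrder CfsgLib.OddOrder.Transitivity
open scoped Pointwise

universe u

variable {G : Type u} [Group G] [Finite G]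

/-- A `π`-subgroup of a solvable `L` has a conjugate in a subgroup of `π'`-index. -/
theorem exists_conj_into {L W Y : Subgroup G} [Group.IsSolvable L] {π : Set ℕ} (hW : W ≤ L)
    (hidx : ∀ r : ℕ, r.Prime → r ∈ π → ¬ r ∣ W.relIndex L) (hY : Y ≤ L)
    (hYπ : ∀ r : ℕ, r.Prime → r ∣ Nat.card Y → r ∈ π) : ∃ g ∈ L, cj g Y ≤ W := by
  set W' := W.subgroupOf L with hW'
  have hsW : Group.IsSolvable W' := inferInstance
  obtain ⟨H, hH⟩ := CfsgLib.Hall.exists_isPiHall (G := W') π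
  have hH2 : Cfsg.IsPiHall π (H.map W'.subtype) := by
    refine ⟨fun r hr hd => hH.1 r hr (by rwa [Subgroup.card_map_of_injective W'.subtype_injective] at hd),
      fun r hr hrπ hd => ?_⟩
    rw [Subgroup.index_map_subtype] at hd
    rcases hr.dvd_mul.mp hd with h | h
    · exact hH.2 r hr hrπ h
    · exact hidx r hr hrπ h
  obtain ⟨g, hg⟩ := CfsgLib.Hall.exists_conj_le_isPiHall hH2 (U := Y.subgroupOf L) fun r hr hd =>
    hYπ r hr (by rwa [Nat.card_congr (Subgroup.subgroupOfEquivOfLe hY).toEquiv] at hd)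
  refine ⟨g, g.2, ?_⟩
  rintro _ ⟨y, hy, rfl⟩
  exact Subgroup.map_subtype_le H (Coprime.conj_smul_le.mp hg ⟨y, hY hy⟩ hy)

theorem relIndex_dvd_card_of_le_sup {B W M : Subgroup G} (hBM : B ≤ M) (hWM : W ≤ M)
    (hn : M ≤ Subgroup.normalizer (B : Set G)) (h : M ≤ B ⊔ W) : W.relIndex M ∣ Nat.card B := by
  have h1 : M = W ⊔ B := le_antisymm (sup_comm B W ▸ h) (sup_le hWM hBM)
  have h2 : Nat.card M ∣ Nat.card W * Nat.card B := h1 ▸ Coprime.card_sup_dvd (hWM.trans hn)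
  rw [← card_mul_relIndex_of_le hWM] at h2
  exact Nat.dvd_of_mul_dvd_mul_left Nat.card_pos h2

/-- Two subgroups with no common prime in their indices generate. -/
theorem le_sup_of_relIndex {B H S : Subgroup G} (hB : B ≤ S) (hH : H ≤ S)
    (h : ∀ r : ℕ, r.Prime → r ∣ B.relIndex S → r ∣ H.relIndex S → False) : S ≤ B ⊔ H := by
  rw [← Subgroup.relIndex_eq_one]
  by_contra hne
  obtain ⟨r, hr, hd⟩ := Nat.exists_prime_and_dvd hne
  have key : ∀ {K : Subgroup G}, K ≤ B ⊔ H → r ∣ K.relIndex S := fun {K} hK => by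
    rw [← Subgroup.relIndex_mul_relIndex K (B ⊔ H) S hK (sup_le hB hH)]
    exact hd.mul_left _
  exact h r hr (key le_sup_left) (key le_sup_right)

variable (hG : Cfsg.IsMinSimpleOddOrder G)

include hG in
theorem exists_conj_eq_of_sylow {r : ℕ} [Fact r.Prime] {M : Subgroup G} (hrσ : r ∈ Cfsg.sigma M)
    (R : Sylow r G) : ∃ g : G, (R : Subgroup G) ≤ cj g M ∧
      Subgroup.normalizer ((R : Subgroup G) : Set G) ≤ cj g M := by
  obtain ⟨T⟩ : Nonempty (Sylow r M) := inferInstance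
  have hR := sylowOf_map T
  obtain ⟨P, hP⟩ := Sigma10.exists_sylow_of_mem_sigma hrσ hR
  have hN := Sigma10.normalizer_le_of_mem_sigma hrσ hR
  rw [← hP] at hN
  obtain ⟨g, hg⟩ := MulAction.exists_smul_eq G P R
  refine ⟨g, ?_, ?_⟩
  · rw [← hg, Sylow.coe_subgroup_smul]
    exact cj_mono (Subgroup.le_normalizer.trans hN)
  · rw [← hg, Sylow.coe_subgroup_smul]
    exact (cj_normalizer g (P : Subgroup G)).ge.trans (cj_mono hN)

include hG in
/-- A complement of `M_σ` containing a given `σ(M)'`-subgroup. -/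
theorem exists_compl_ge {M A : Subgroup G} (hM : IsCoatom M) (hAM : A ≤ M)
    (hA : ∀ r : ℕ, r.Prime → r ∣ Nat.card A → r ∉ Cfsg.sigma M) :
    ∃ E : Subgroup G, Cfsg.IsComplIn E (Cfsg.sigmaCore M) M ∧ A ≤ E := by
  obtain ⟨E, hE⟩ := exists_compl hG hM
  have := minSimple_solvable hG hM.1
  have hidx : ∀ r : ℕ, r.Prime → r ∈ (Cfsg.sigma M)ᶜ → ¬ r ∣ E.relIndex M := fun r hr hrσ hd => by
    rw [IsComplIn.relIndex_left hE] at hd
    exact hrσ (piNat_card_piCoreOf (Cfsg.sigma M) M r hr hd)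
  obtain ⟨g, hg, hle⟩ := exists_conj_into hE.1 hidx hAM (fun r hr hd => hA r hr hd)
  have hS : cj g⁻¹ (Cfsg.sigmaCore M) = Cfsg.sigmaCore M :=
    cj_eq_of_mem_normalizer (piCoreOf_normal _ _ (inv_mem hg))
  refine ⟨cj g⁻¹ E, ⟨?_, hE.2.1, ?_, fun m hm => ?_⟩, ?_⟩
  · exact (cj_mono hE.1).trans (cj_eq_of_mem (inv_mem hg)).le
  · rw [← hS, Transitivity.cj, Transitivity.cj, ← Subgroup.map_inf _ _ _ (MulAut.conj g⁻¹).injective,
      hE.2.2.1, Subgroup.map_bot]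
  · obtain ⟨a, ha, b, hb, he⟩ := hE.2.2.2 (g * m * g⁻¹) (mul_mem (mul_mem hg hm) (inv_mem hg))
    refine ⟨g⁻¹ * a * g, mem_cj.mpr (by simpa [mul_assoc] using ha), g⁻¹ * b * g, ?_, ?_⟩
    · rw [← hS]
      exact mem_cj.mpr (by simpa [mul_assoc] using hb)
    · calc m = g⁻¹ * (g * m * g⁻¹) * g := by group
        _ = _ := by rw [he]; group
  · have h := cj_mono (g := g⁻¹) hle
    rwa [cj_mul, inv_mul_cancel, cj_one] at h

variable {q : ℕ} [hq : Fact q.Prime]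

include hG in
/-- `M* = M*_β (M ∩ M*)` when `q ∈ σ(M*)`. -/
theorem le_betaCore_sup_inf {M Mstar S : Subgroup G} (hM : IsCoatom M) (hMs : IsCoatom Mstar)
    (hne : Mstar ≠ M) (hqσ : q ∈ Cfsg.sigma Mstar)
    (hSM : S ≤ M) (hNS : Subgroup.normalizer (S : Set G) ≤ M) (hS : SylowOf q S Mstar) :
    q ∉ Cfsg.beta Mstar ∧ Mstar ≤ Cfsg.piCoreOf (Cfsg.beta Mstar) Mstar ⊔ (M ⊓ Mstar) := by
  have hβ : q ∉ Cfsg.beta Mstar := by
    intro hβ
    obtain ⟨P, hP⟩ := Sigma10.exists_sylow_of_mem_sigma hqσ hS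
    have hU := Sigma10.inUnique_of_rank_three hG (fun h => hβ.1.2 (Sigma10.pRankLE_of_sylowOf hS h))
      (minSimple_pgroup_ne_top hG hS.2.1)
    exact hne (Uniq.InUniqueMaximal.eq hU hM hSM hMs hS.1)
  obtain ⟨hBhall, -, -, ⟨H, hH, hHnil⟩, -⟩ := Sigma10.betaCore_hall hG hMs
    (fun p _ => Sigma10.pLengthLE_one_proper hG p) (Sigma10.propFiveFive hG)
  set B := Cfsg.piCoreOf (Cfsg.beta Mstar) Mstar with hB
  set C := Cfsg.sigmaCore Mstar with hC
  have hβσ : Cfsg.beta Mstar ⊆ Cfsg.sigma Mstar := fun t ht => Sigma10.alpha_subset_sigma hG hMs ht.1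
  have hBC : B ≤ C := Subgroup.map_mono (piCore_mono hβσ)
  have hCM : C ≤ Mstar := piCoreOf_le _ _
  have hSC : SylowOf q S C :=
    hS.mono hCM (Sigma10.sylow_le_piCore hG hMs (Sigma10.alpha_subset_sigma hG hMs) hqσ hqσ hS)
  -- a nilpotent Hall subgroup of `C` containing `S`
  obtain ⟨S₁, hS₁, -⟩ := exists_sylowOf_ge (bot_le : ⊥ ≤ H) (IsPGroup.of_bot (p := q))
  obtain ⟨c, hc, hcle⟩ := Sigma10.exists_conj_le hSC (hS₁.1.trans hH.1) hS₁.2.1
  have hdvd : Nat.card S ≤ Nat.card S₁ := by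
    refine Nat.le_of_dvd Nat.card_pos ?_
    obtain ⟨T, hT⟩ := hS₁.toSylow
    obtain ⟨n, hn⟩ := hS.2.1.exists_card_eq
    have h1 : Nat.card S ∣ Nat.card C := Subgroup.card_dvd_of_le hSC.1
    rw [← card_mul_relIndex_of_le hH.1, hn] at h1
    have hcop : (q ^ n).Coprime (H.relIndex C) :=
      ((hq.out.coprime_iff_not_dvd).mpr fun h => hH.2.2 q hq.out ⟨hq.out, hβ⟩ h).pow_left n
    have h2 := hcop.dvd_of_dvd_mul_right h1
    rw [hn, ← hT, Subgroup.card_map_of_injective H.subtype_injective]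
    exact T.pow_dvd_card_of_pow_dvd_card h2
  have hcS : cj c S₁ = S := Subgroup.eq_of_le_of_card_ge hcle (by rw [card_cj]; exact hdvd)
  set H' := cj c H with hH'
  have hH'C : H' ≤ C := (cj_mono hH.1).trans (cj_eq_of_mem hc).le
  have hH'N : H' ≤ Subgroup.normalizer (S : Set G) := by
    have hHN : H ≤ Subgroup.normalizer (S₁ : Set G) := by
      obtain ⟨T, hT⟩ := hS₁.toSylow
      have hn : (T : Subgroup H).Normal := inferInstance
      rw [← hT]
      exact map_subtype_normalized _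
    rw [← hcS, ← cj_normalizer]
    exact cj_mono hHN
  have hCsup : C ≤ B ⊔ H' := by
    refine le_sup_of_relIndex hBC hH'C fun t ht h1 h2 => ?_
    have h1' : t ∉ Cfsg.beta Mstar := fun htβ => hBhall.2.2 t ht htβ
      (h1.trans (by
        rw [← Subgroup.relIndex_mul_relIndex B C Mstar hBC hCM]; exact Dvd.intro _ rfl))
    refine hH.2.2 t ht ⟨ht, h1'⟩ ?_
    have he : H'.relIndex C = H.relIndex C := by
      have e1 := card_mul_relIndex_of_le hH'C
      have e2 := card_mul_relIndex_of_le hH.1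
      rw [hH', card_cj] at e1
      rw [hH']
      exact Nat.eq_of_mul_eq_mul_left Nat.card_pos (e1.trans e2.symm)
    rwa [he] at h2
  have hBn : Mstar ≤ Subgroup.normalizer (B : Set G) := piCoreOf_normal _ _
  have hfr : Mstar ≤ B ⊔ (M ⊓ Mstar) := by
    have hCle : C ≤ B ⊔ (M ⊓ Mstar) :=
      hCsup.trans (sup_le_sup_left (le_inf (hH'N.trans hNS) (hH'C.trans hCM)) B)
    intro m hm
    obtain ⟨s, hs, hle⟩ := Sigma10.exists_conj_le hSC (Q := cj m S)
      ((cj_mono hSC.1).trans (cj_eq_of_mem_normalizer (piCoreOf_normal _ _ hm)).le) (hS.2.1.map _)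
    rw [cj_mul] at hle
    have h1 := mem_normalizer_of_cj_eq (Subgroup.eq_of_le_of_card_ge hle (card_cj (s * m) S).ge)
    have h2 : s * m ∈ B ⊔ (M ⊓ Mstar) :=
      Subgroup.mem_sup_right ⟨hNS h1, mul_mem (hCM hs) hm⟩
    simpa using mul_mem (inv_mem (hCle hs)) h2
  exact ⟨hβ, hfr⟩

include hG in
/-- The case `q ∈ σ(M*)` of BG 12.16. -/
theorem relIndex_inf_of_mem_sigma {M Mstar S : Subgroup G} (hM : IsCoatom M) (hMs : IsCoatom Mstar)
    (hne : Mstar ≠ M) (hnc : ∀ g : G, Mstar ≠ cj g M) (hqσ : q ∈ Cfsg.sigma Mstar)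
    (hSM : S ≤ M) (hNS : Subgroup.normalizer (S : Set G) ≤ M) (hS : SylowOf q S Mstar) :
    ∀ r : ℕ, r.Prime → r ∈ Cfsg.sigma M → ¬ r ∣ (M ⊓ Mstar).relIndex Mstar := by
  intro r hr hrσ hd
  have := Fact.mk hr
  obtain ⟨-, hfr⟩ := le_betaCore_sup_inf hG hM hMs hne hqσ hSM hNS hS
  obtain ⟨hBhall, -⟩ := Sigma10.betaCore_hall hG hMs
    (fun p _ => Sigma10.pLengthLE_one_proper hG p) (Sigma10.propFiveFive hG)
  have hBn : Mstar ≤ Subgroup.normalizer ((Cfsg.piCoreOf (Cfsg.beta Mstar) Mstar : Subgroup G) : Set G) :=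
    piCoreOf_normal _ _
  have hβσ : Cfsg.beta Mstar ⊆ Cfsg.sigma Mstar := fun t ht => Sigma10.alpha_subset_sigma hG hMs ht.1
  have hrβ : r ∈ Cfsg.beta Mstar := piNat_card_piCoreOf (Cfsg.beta Mstar) Mstar r hr
    (hd.trans (relIndex_dvd_card_of_le_sup hBhall.1 inf_le_right hBn hfr))
  obtain ⟨T⟩ : Nonempty (Sylow r Mstar) := inferInstance
  obtain ⟨R, hR⟩ := Sigma10.exists_sylow_of_mem_sigma (hβσ hrβ) (sylowOf_map T)
  obtain ⟨g, hg, -⟩ := exists_conj_eq_of_sylow hG hrσ R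
  have hU := Sigma10.inUnique_of_rank_three (p := r) hG (R := (R : Subgroup G))
    (fun h => hrβ.1.2 (Sigma10.pRankLE_of_sylowOf (hR ▸ sylowOf_map T) h))
    (minSimple_pgroup_ne_top hG R.isPGroup')
  exact hnc g (Uniq.InUniqueMaximal.eq hU (isCoatom_map_conj hM g) hg hMs
    (hR ▸ Subgroup.map_subtype_le _))

include hG in
/-- The structure of `M*` when `q ∉ σ(M*)`. -/
theorem exists_compl_le_inf (h5 : PropTauTwoStructure G) (h6 : PropTauTwoInComplement G)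
    (h12 : PropSigmaPrimeNilpotent G) {M Mstar X S : Subgroup G} (hM : IsCoatom M)
    (hMs : IsCoatom Mstar) (hne : Mstar ≠ M) (hqM : q ∈ Cfsg.sigma M)
    (hqσ : q ∉ Cfsg.sigma Mstar) (hNX : Subgroup.normalizer (X : Set G) ≤ Mstar) (hXS : X ≤ S)
    (hX1 : X ≠ ⊥) (hSM : S ≤ M) (hS : SylowOf q S Mstar) :
    q ∈ Cfsg.tau2 Mstar ∧ Group.IsNilpotent (Cfsg.sigmaCore Mstar) ∧
      Cfsg.sigmaCore Mstar ⊓ M = ⊥ ∧
      ∃ E : Subgroup G, Cfsg.IsComplIn E (Cfsg.sigmaCore Mstar) Mstar ∧ E ≤ M ⊓ Mstar := by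
  have hSne : S ≠ ⊥ := fun h => hX1 (le_bot_iff.mp (h ▸ hXS))
  have hqd : q ∣ Nat.card Mstar := (Uniq.prime_dvd_card hS.2.1 hSne).trans (Subgroup.card_dvd_of_le hS.1)
  have hr2 : Cfsg.PRankLE q 2 Mstar := by
    by_contra h
    exact Sigma10.not_mem_alpha_of_not_mem_sigma hG hMs hqσ ⟨hq.out, h⟩
  have hr1 : ¬ Cfsg.PRankLE q 1 S := by
    intro h
    have hcyc : IsCyclic S := Isolated.isCyclic_of_small_abelian
      (Uniq.prime_ne_two hG hS.2.1 hSne) hS.2.1 fun A hA hAe => by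
        simpa using pRankLE_iff.mp h A ⟨hA, hAe⟩
    exact hqσ (Sigma10.mem_sigma_of_normalizer_le hq.out hqd hS
      ((normalizer_le_normalizer_of_cyclic hcyc hXS).trans hNX))
  obtain ⟨A, hAS, hAe, hA2⟩ := not_pRankLE_subgroup_iff.mp hr1
  have hA2' : Nat.card A = q ^ 2 := hA2
  have hAq : IsPGroup q A := isPGroup_of_elemAb hAe
  have hτ : q ∈ Cfsg.tau2 Mstar :=
    ⟨hq.out, hqσ, hr2, fun h => hr1 (PRankLE.of_le hS.1 h)⟩
  obtain ⟨E, hE, hAE⟩ := exists_compl_ge hG hMs (hAS.trans hS.1) fun t ht htd => by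
    rw [hA2'] at htd
    rwa [(Nat.prime_dvd_prime_iff_eq ht hq.out).mp (ht.dvd_of_dvd_pow htd)]
  have hAnc : ¬ IsCyclic A := fun hc => by
    have h1 := IsCyclic.exponent_eq_card (α := A)
    rw [hA2'] at h1
    have h2 : Monoid.exponent A ∣ q :=
      Monoid.exponent_dvd_of_forall_pow_eq_one fun a => Subtype.ext (by simpa using hAe.2 a a.2)
    rw [h1] at h2
    exact absurd (Nat.le_of_dvd hq.out.pos h2) (not_le.mpr (lt_self_pow₀ hq.out.one_lt one_lt_two))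
  obtain ⟨E₀, hE₀⟩ := exists_compl hG hM
  have hNA : Subgroup.normalizer (A : Set G) ≤ M :=
    (h12 M hM E₀ hE₀).2.2.1 q A hqM hAq (hAS.trans hSM) hAnc
  have hEW : E ≤ M ⊓ Mstar :=
    le_inf ((h6 Mstar hMs E hE q hτ A ⟨hAE, hAe, hA2'⟩).1.1.trans hNA) hE.1
  obtain ⟨hnil, -, -, -, hdisj, -⟩ := h5 Mstar hMs q hτ A ⟨hAS.trans hS.1, hAe, hA2'⟩
  exact ⟨hτ, hnil, hdisj M hM (Ne.symm hne) (hAS.trans hSM), E, hE, hEW⟩

include hG in
/-- The case `q ∉ σ(M*)` of BG 12.16. -/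
theorem relIndex_inf_of_not_mem_sigma (h5 : PropTauTwoStructure G) (h6 : PropTauTwoInComplement G)
    (h12 : PropSigmaPrimeNilpotent G) {M Mstar X S : Subgroup G} (hM : IsCoatom M)
    (hMs : IsCoatom Mstar) (hnc : ∀ g : G, Mstar ≠ cj g M) (hqM : q ∈ Cfsg.sigma M)
    (hqσ : q ∉ Cfsg.sigma Mstar) (hNX : Subgroup.normalizer (X : Set G) ≤ Mstar) (hXS : X ≤ S)
    (hX1 : X ≠ ⊥) (hSM : S ≤ M) (hS : SylowOf q S Mstar) :
    ∀ r : ℕ, r.Prime → r ∈ Cfsg.sigma M → ¬ r ∣ (M ⊓ Mstar).relIndex Mstar := by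
  intro r hr hrσ hd
  have := Fact.mk hr
  obtain ⟨-, hnil, -, E, hE, hEW⟩ := exists_compl_le_inf hG h5 h6 h12 hM hMs
    (fun h => hnc 1 (by rw [cj_one]; exact h)) hqM hqσ hNX hXS hX1 hSM hS
  have hrC : r ∣ Nat.card (Cfsg.sigmaCore Mstar) := by
    rw [← IsComplIn.relIndex_left hE,
      ← Subgroup.relIndex_mul_relIndex E (M ⊓ Mstar) Mstar hEW inf_le_right]
    exact hd.mul_left _
  have hrσs : r ∈ Cfsg.sigma Mstar := piNat_card_piCoreOf (Cfsg.sigma Mstar) Mstar r hr hrC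
  obtain ⟨T⟩ : Nonempty (Sylow r Mstar) := inferInstance
  have hRs := sylowOf_map T
  obtain ⟨R, hR⟩ := Sigma10.exists_sylow_of_mem_sigma hrσs hRs
  rw [← hR] at hRs
  have hRne : (R : Subgroup G) ≠ ⊥ :=
    R.ne_bot_of_dvd_card (hrC.trans (Subgroup.card_subgroup_dvd_card _))
  have hn := le_normalizer_of_sigmaCore_nilpotent hG hMs hrσs hRs hnil
  obtain ⟨g, -, hg⟩ := exists_conj_eq_of_sylow hG hrσ R
  rw [normalizer_eq_of_isCoatom hG hMs hRs.1 hRne hn] at hg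
  exact hnc g (((hMs.le_iff.mp hg).resolve_left (isCoatom_map_conj hM g).1).symm)

omit hq in
include hG in
/-- **BG 12.16**. -/
theorem sigma_subgroup_conj (h5 : PropTauTwoStructure G) (h6 : PropTauTwoInComplement G)
    (h12 : PropSigmaPrimeNilpotent G) {M Y : Subgroup G} (hM : IsCoatom M) (hY1 : Y ≠ ⊥)
    (hY : ∀ p : ℕ, p.Prime → p ∣ Nat.card Y → p ∈ Cfsg.sigma M) :
    ∃ g : G, cj g Y ≤ Cfsg.sigmaCore M := by
  have hhall := Sigma10.sigmaCore_hall hG hM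
  have hYtop : Y ≠ ⊤ := by
    intro h
    subst h
    rw [Subgroup.card_top] at hY
    have hidx : (Cfsg.sigmaCore M).index = 1 := by
      by_contra hne
      obtain ⟨p, hp, hd⟩ := Nat.exists_prime_and_dvd hne
      exact hhall.2.2 p hp (hY p hp (hd.trans (Subgroup.index_dvd_card _))) hd
    exact hM.1 (top_le_iff.mp ((Subgroup.index_eq_one.mp hidx).ge.trans (piCoreOf_le _ _)))
  have hinto : ∀ {g : G}, cj g Y ≤ M → cj g Y ≤ Cfsg.sigmaCore M := by
    intro g hg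
    have := minSimple_solvable hG hM.1
    obtain ⟨m, hm, hle⟩ := exists_conj_into (π := Cfsg.sigma M) hhall.1.1
      (fun r hr hrσ => hhall.1.2.2 r hr hrσ) hg (fun r hr hd => hY r hr (by rwa [card_cj] at hd))
    have h := cj_mono (g := m⁻¹) hle
    rw [cj_mul m⁻¹ m, inv_mul_cancel, cj_one] at h
    exact h.trans (cj_eq_of_mem_normalizer (piCoreOf_normal _ _ (inv_mem hm))).le
  have : Nontrivial Y := Subgroup.nontrivial_iff_ne_bot Y |>.mpr hY1
  obtain ⟨q, hq', X₀, hX₀n, hX₀q, hX₀1⟩ :=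
    Coprime.exists_normal_pgroup_of_solvable Y (minSimple_solvable hG hYtop)
  have := Fact.mk hq'
  have hXq : IsPGroup q (X₀.map Y.subtype) := hX₀q.map _
  have hXY : Y ≤ Subgroup.normalizer ((X₀.map Y.subtype : Subgroup G) : Set G) := map_subtype_normalized _
  have hX1 : X₀.map Y.subtype ≠ ⊥ := fun h =>
    hX₀1 ((Subgroup.map_eq_bot_iff_of_injective _ Y.subtype_injective).mp h)
  have hqM : q ∈ Cfsg.sigma M := hY q hq'
    ((Uniq.prime_dvd_card hXq hX1).trans (Subgroup.card_dvd_of_le (Subgroup.map_subtype_le _)))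
  obtain ⟨P, hP⟩ := hXq.exists_le_sylow
  obtain ⟨g, hg, -⟩ := exists_conj_eq_of_sylow hG hqM P
  set X := cj g⁻¹ (X₀.map Y.subtype) with hX
  have hXM : X ≤ M := by
    have h := cj_mono (g := g⁻¹) (hP.trans hg)
    rwa [cj_mul, inv_mul_cancel, cj_one] at h
  have hXp : IsPGroup q X := hXq.map _
  have hXne : X ≠ ⊥ := fun h =>
    hX1 ((Subgroup.map_eq_bot_iff_of_injective _ (MulAut.conj g⁻¹).injective).mp h)
  set Y' := cj g⁻¹ Y with hY'
  have hY'N : Y' ≤ Subgroup.normalizer (X : Set G) :=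
    (cj_mono hXY).trans (cj_normalizer g⁻¹ _).le
  have hY'σ : ∀ r : ℕ, r.Prime → r ∣ Nat.card Y' → r ∈ Cfsg.sigma M := fun r hr hd =>
    hY r hr (by rwa [hY', card_cj] at hd)
  by_cases hNX : Subgroup.normalizer (X : Set G) ≤ M
  · exact ⟨g⁻¹, hinto (hY'N.trans hNX)⟩
  obtain ⟨L, hL, hle⟩ := exists_isCoatom_ge
    (minSimple_normalizer_ne_top hG hXne (minSimple_pgroup_ne_top hG hXp))
  have hLM : L ≠ M := fun h => hNX (h ▸ hle)
  have hnc := partner_not_conj hG hM hqM hXp hXne hXM hLM hle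
  obtain ⟨S, hS, hXS⟩ := exists_sylowOf_ge (M := M ⊓ L)
    (le_inf hXM (Subgroup.le_normalizer.trans hle)) hXp
  obtain ⟨hNS, hSL⟩ := partner_sylow hG hM hqM hle h12 hS hXS
  have hidx : ∀ r : ℕ, r.Prime → r ∈ Cfsg.sigma M → ¬ r ∣ (M ⊓ L).relIndex L := by
    by_cases hqL : q ∈ Cfsg.sigma L
    · exact relIndex_inf_of_mem_sigma hG hM hL hLM hnc hqL (hS.1.trans inf_le_left) hNS hSL
    · exact relIndex_inf_of_not_mem_sigma hG h5 h6 h12 hM hL hnc hqM hqL hle hXS hXne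
        (hS.1.trans inf_le_left) hSL
  have := minSimple_solvable hG hL.1
  obtain ⟨l, -, hlle⟩ := exists_conj_into inf_le_right hidx (hY'N.trans hle) hY'σ
  refine ⟨l * g⁻¹, hinto ?_⟩
  rw [← cj_mul]
  exact hlle.trans inf_le_left

end CfsgLib.OddOrder41
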