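import Mathlib
import Cfsg.Agent.Lib.OddOrder41.Sigma12Conj
import Cfsg.Agent.Lib.OddOrder41.Sigma12Central

/-!
# BG §13: a maximal subgroup over the normalizer of a `σ(M)`-element, and its consequences
-/

set_option autoImplicit false

namespace CfsgLib.OddOrder41

open Subgroup CfsgLib.OddOrder CfsgLib.OddOrder.Transitivity
open scoped commutatorElement Pointwise

universe u

variable {G : Type u} [Group G] [Finite G]

omit [Finite G] in
theorem not_isCyclic_of_le {A B : Subgroup G} (h : A ≤ B) (hA : ¬ IsCyclic A) : ¬ IsCyclic B :=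
  fun hB => hA (haveI := hB; Subgroup.isCyclic_of_le h)

/-- The rank of a cyclic group is at most one. -/
theorem pRankLE_one_of_isCyclic {p : ℕ} [hp : Fact p.Prime] {S : Subgroup G} (hS : IsCyclic S) :
    Cfsg.PRankLE p 1 S := by
  rw [pRankLE_iff]
  intro A hA
  have := hS
  have hAc : IsCyclic A := isCyclic_of_injective A.subtype A.subtype_injective
  have h1 := IsCyclic.exponent_eq_card (α := A)
  have h2 : Monoid.exponent A ∣ p :=
    Monoid.exponent_dvd_of_forall_pow_eq_one fun a => Subtype.ext (by simpa using hA.2 a a.2)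
  rw [h1] at h2
  rw [pow_one]
  exact Nat.le_of_dvd hp.out.pos h2

omit [Finite G] in
/-- `L' ≤ B W'` when `L = B W`. -/
theorem derived_le_of_le_sup {L B W : Subgroup G} (hBL : B ≤ L) (hWL : W ≤ L)
    (hn : L ≤ Subgroup.normalizer (B : Set G)) (h : L ≤ B ⊔ W) :
    ⁅L, L⁆ ≤ B ⊔ ⁅W, W⁆ := by
  refine Subgroup.commutator_le.mpr fun a ha b hb => ?_
  have hWn : W ≤ Subgroup.normalizer (B : Set G) := hWL.trans hn
  have dec : ∀ c ∈ L, ∃ w ∈ W, ∃ v ∈ B, c = w * v := by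
    intro c hc
    exact Coprime.exists_mul_of_mem_sup hWn (sup_comm B W ▸ h hc)
  set N := Subgroup.normalizer (B : Set G) with hN
  have : (B.subgroupOf N).Normal :=
    (Subgroup.normal_subgroupOf_iff_le_normalizer Subgroup.le_normalizer).mpr le_rfl
  obtain ⟨w, hw, v, hv, rfl⟩ := dec a ha
  obtain ⟨w', hw', v', hv', rfl⟩ := dec b hb
  set f := QuotientGroup.mk' (B.subgroupOf N)
  have hvN : v ∈ N := Subgroup.le_normalizer hv
  have hv'N : v' ∈ N := Subgroup.le_normalizer hv'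
  have hf : ∀ {y : N}, (y : G) ∈ B → f y = 1 := fun {y} hy => (QuotientGroup.eq_one_iff y).mpr hy
  have h1 : f ⁅(⟨w, hWn hw⟩ : N) * ⟨v, hvN⟩, ⟨w', hWn hw'⟩ * ⟨v', hv'N⟩⁆ =
      f ⁅(⟨w, hWn hw⟩ : N), (⟨w', hWn hw'⟩ : N)⁆ := by
    rw [map_commutatorElement, map_commutatorElement, map_mul, map_mul,
      hf (y := ⟨v, hvN⟩) hv, hf (y := ⟨v', hv'N⟩) hv', mul_one, mul_one]
  have h2 := QuotientGroup.eq.mp h1.symm
  have e : ⁅w * v, w' * v'⁆ = ⁅w, w'⁆ * (⁅w, w'⁆⁻¹ * ⁅w * v, w' * v'⁆) := by group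
  rw [e]
  refine mul_mem (Subgroup.mem_sup_right (Subgroup.commutator_mem_commutator hw hw')) (Subgroup.mem_sup_left ?_)
  simpa [commutatorElement_def, Subgroup.mem_subgroupOf] using h2

/-- A `p'` number cannot divide. -/
theorem not_dvd_card_derived {L B W M : Subgroup G} {p : ℕ} [hp : Fact p.Prime] (hBL : B ≤ L) (hWL : W ≤ L)
    (hn : L ≤ Subgroup.normalizer (B : Set G)) (h : L ≤ B ⊔ W) (hWM : W ≤ M)
    (hB : ¬ p ∣ Nat.card B) (hM : ¬ p ∣ Nat.card ↥⁅M, M⁆) : ¬ p ∣ Nat.card ↥⁅L, L⁆ := by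
  intro hd
  have h1 := hd.trans (Subgroup.card_dvd_of_le (derived_le_of_le_sup hBL hWL hn h))
  rw [sup_comm] at h1
  have h2 : ⁅W, W⁆ ≤ Subgroup.normalizer (B : Set G) :=
    (Subgroup.commutator_le_self W).trans (hWL.trans hn)
  rcases hp.out.dvd_mul.mp (h1.trans (Coprime.card_sup_dvd h2)) with h3 | h3
  · exact hM (h3.trans (Subgroup.card_dvd_of_le (Subgroup.commutator_mono hWM hWM)))
  · exact hB h3

/-- The data of a maximal subgroup `L ≥ N(⟨x⟩)` covered by `M` up to a normal `{p,q}'`-subgroup `B`. -/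
def Covered (M L B : Subgroup G) (p q : ℕ) (x : G) : Prop :=
  IsCoatom L ∧ Subgroup.normalizer ((Subgroup.zpowers x : Subgroup G) : Set G) ≤ L ∧ B ≤ L ∧
    L ≤ Subgroup.normalizer (B : Set G) ∧ ¬ p ∣ Nat.card B ∧ ¬ q ∣ Nat.card B ∧ L ≤ B ⊔ (M ⊓ L)

theorem Covered.centralizer_le {M L B : Subgroup G} {p q : ℕ} {x : G} (h : Covered M L B p q x) :
    Subgroup.centralizer ({x} : Set G) ≤ L := by
  rw [← centralizer_zpowers]
  exact (Subgroup.centralizer_le_normalizer _).trans h.2.1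

/-- A `p`- or `q`-subgroup of `L` has an `L`-conjugate in `M`. -/
theorem Covered.exists_conj_le (hG : Cfsg.IsMinSimpleOddOrder G) {M L B : Subgroup G} {p q : ℕ} {x : G}
    (h : Covered M L B p q x) {t : ℕ} [ht : Fact t.Prime] (htpq : t = p ∨ t = q) {U : Subgroup G}
    (hU : IsPGroup t U) (hUL : U ≤ L) : ∃ k ∈ L, cj k U ≤ M := by
  obtain ⟨hL, -, hBL, hn, hp, hq, hle⟩ := h
  have := minSimple_solvable hG hL.1
  obtain ⟨k, hk, hkle⟩ := exists_conj_into (π := {t}) (W := M ⊓ L) inf_le_right (fun r hr hrt hd => by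
    rw [Set.mem_singleton_iff] at hrt
    subst hrt
    have hB := hd.trans (relIndex_dvd_card_of_le_sup hBL inf_le_right hn hle)
    rcases htpq with rfl | rfl
    · exact hp hB
    · exact hq hB) hUL (fun r hr hd => by
    obtain ⟨n, hn⟩ := hU.exists_card_eq
    exact (Nat.prime_dvd_prime_iff_eq hr ht.out).mp (hr.dvd_of_dvd_pow (hn ▸ hd)))
  exact ⟨k, hk, hkle.trans inf_le_left⟩

theorem Covered.not_dvd_derived {M L B : Subgroup G} {p q : ℕ} [Fact p.Prime] {x : G}
    (h : Covered M L B p q x) (hM : ¬ p ∣ Nat.card ↥⁅M, M⁆) : ¬ p ∣ Nat.card ↥⁅L, L⁆ :=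
  not_dvd_card_derived h.2.2.1 inf_le_right h.2.2.2.1 h.2.2.2.2.2.2 inf_le_left h.2.2.2.2.1 hM

variable (hG : Cfsg.IsMinSimpleOddOrder G) (h5 : PropTauTwoStructure G) (h6 : PropTauTwoInComplement G)
  (h12 : PropSigmaPrimeNilpotent G) {p q : ℕ} [hp : Fact p.Prime] [hq : Fact q.Prime]

include hG h5 h6 h12 in
theorem exists_covered {M : Subgroup G} (hM : IsCoatom M) {x : G} (hxM : x ∈ M) (hxo : orderOf x = q)
    (hqσ : q ∈ Cfsg.sigma M) (hni : ¬ Cfsg.IsIdealPrime p G)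
    {y : G} (hy : y ∈ M) (hyx : y ∈ Subgroup.centralizer ({x} : Set G)) (hyo : orderOf y = p) :
    ∃ L B : Subgroup G, Covered M L B p q x := by
  set X := Subgroup.zpowers x with hX
  have hXq : IsPGroup q X := IsPGroup.of_card (n := 1) (by rw [hX, Nat.card_zpowers, hxo, pow_one])
  have hX1 : X ≠ ⊥ := Subgroup.zpowers_ne_bot.mpr fun h =>
    hq.out.ne_one (by rw [← hxo, h, orderOf_one])
  have hXM : X ≤ M := Subgroup.zpowers_le.mpr hxM
  by_cases hle : Subgroup.normalizer (X : Set G) ≤ M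
  · exact ⟨M, ⊥, hM, hle, bot_le,
      Subgroup.le_normalizer_iff.2 fun g _ b hb => by simp [Subgroup.mem_bot.mp hb],
      by rw [Subgroup.card_bot]; exact hp.out.not_dvd_one,
      by rw [Subgroup.card_bot]; exact hq.out.not_dvd_one,
      by rw [inf_idem]; exact le_sup_right⟩
  obtain ⟨L, hL, hNL⟩ := exists_isCoatom_ge
    (minSimple_normalizer_ne_top hG hX1 (minSimple_pgroup_ne_top hG hXq))
  have hne : L ≠ M := fun h => hle (h ▸ hNL)
  obtain ⟨S, hS, hXS⟩ := exists_sylowOf_ge (M := M ⊓ L)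
    (le_inf hXM (Subgroup.le_normalizer.trans hNL)) hXq
  obtain ⟨hNS, hSL⟩ := partner_sylow hG hM hqσ hNL h12 hS hXS
  have hSM : S ≤ M := hS.1.trans inf_le_left
  by_cases hqL : q ∈ Cfsg.sigma L
  · obtain ⟨hβ, hfr⟩ := le_betaCore_sup_inf hG hM hL hne hqL hSM hNS hSL
    exact ⟨L, _, hL, hNL, piCoreOf_le _ _, piCoreOf_normal _ _,
      fun hd => hni (piNat_card_piCoreOf (Cfsg.beta L) L p hp.out hd).2,
      fun hd => hβ (piNat_card_piCoreOf (Cfsg.beta L) L q hq.out hd), hfr⟩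
  · obtain ⟨-, -, hbot, E, hE, hEW⟩ := exists_compl_le_inf hG h5 h6 h12 hM hL hne hqσ hqL hNL hXS hX1 hSM hSL
    have hyL : y ∈ L := (Subgroup.centralizer_le_normalizer _).trans hNL (by rwa [hX, centralizer_zpowers])
    refine ⟨L, Cfsg.sigmaCore L, hL, hNL, piCoreOf_le _ _, piCoreOf_normal _ _, fun hd => ?_,
      fun hd => hqL (piNat_card_piCoreOf (Cfsg.sigma L) L q hq.out hd), fun l hl => ?_⟩
    · have hpσ : p ∈ Cfsg.sigma L := piNat_card_piCoreOf (Cfsg.sigma L) L p hp.out hd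
      obtain ⟨R, hR, hyR⟩ := exists_sylowOf_ge (Subgroup.zpowers_le.mpr hyL)
        (IsPGroup.of_card (n := 1) (by rw [Nat.card_zpowers, hyo, pow_one]) : IsPGroup p (Subgroup.zpowers y))
      have hyσ : y ∈ Cfsg.sigmaCore L :=
        Sigma10.sylow_le_piCore hG hL (Sigma10.alpha_subset_sigma hG hL) hpσ hpσ hR
          (hyR (Subgroup.mem_zpowers y))
      have hy1 : y ∈ Cfsg.sigmaCore L ⊓ M := ⟨hyσ, hy⟩
      rw [hbot, Subgroup.mem_bot] at hy1
      exact hp.out.ne_one (by rw [← hyo, hy1, orderOf_one])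
    · obtain ⟨a, ha, b, hb, rfl⟩ := hE.2.2.2 l hl
      exact mul_mem (Subgroup.mem_sup_right (hEW ha)) (Subgroup.mem_sup_left hb)

include hG h5 h6 h12 in
/-- A `σ(M)`-element centralizing an elementary abelian `p ^ 2` forces `p`-rank two in `M`. -/
theorem not_pRankLE_one_of_centralizes {M : Subgroup G} (hM : IsCoatom M) {x : G} (hxM : x ∈ M)
    (hxo : orderOf x = q) (hqσ : q ∈ Cfsg.sigma M) (hni : ¬ Cfsg.IsIdealPrime p G)
    {y : G} (hy : y ∈ M) (hyx : y ∈ Subgroup.centralizer ({x} : Set G)) (hyo : orderOf y = p)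
    {A : Subgroup G} (hAx : A ≤ Subgroup.centralizer ({x} : Set G))
    (hAe : Cfsg.IsElementaryAbelian p A) (hA2 : Nat.card A = p ^ 2) : ¬ Cfsg.PRankLE p 1 M := by
  obtain ⟨L, B, hcov⟩ := exists_covered hG h5 h6 h12 hM hxM hxo hqσ hni hy hyx hyo
  obtain ⟨k, -, hk⟩ := hcov.exists_conj_le hG (t := p) (Or.inl rfl) (isPGroup_of_elemAb hAe)
    (hAx.trans hcov.centralizer_le)
  exact not_pRankLE_subgroup_iff.mpr ⟨cj k A, hk, elemAb_map hAe _, (card_cj k A).trans hA2⟩

include hG in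
/-- Burnside: a nontrivial Sylow subgroup is not centralized by its normalizer. -/
theorem false_of_normalizer_le_centralizer (T : Sylow p G) (hT : (T : Subgroup G) ≠ ⊥)
    (h : Subgroup.normalizer ((T : Subgroup G) : Set G) ≤ Subgroup.centralizer ((T : Subgroup G) : Set G)) :
    False := by
  have hc := MonoidHom.ker_transferSylow_isComplement' T h
  rcases minSimple_eq_bot_or_top hG (inferInstance : (MonoidHom.transferSylow T h).ker.Normal) with hb | hb
  · rw [hb] at hc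
    exact minSimple_pgroup_ne_top hG T.isPGroup' (Subgroup.isComplement'_bot_left.mp hc)
  · rw [hb] at hc
    exact hT (Subgroup.isComplement'_top_left.mp hc)

include hG in
/-- Frattini argument in `C(T)`: the action of `N(T)` on `T` comes from an `L` with `p ∤ |L'|`. -/
theorem false_of_frattini (T : Sylow p G) (hT : (T : Subgroup G) ≠ ⊥) {L Q : Subgroup G}
    (hQ : SylowOf q Q (Subgroup.centralizer ((T : Subgroup G) : Set G)))
    (hNQ : Subgroup.normalizer (Q : Set G) ≤ L) (hTL : (T : Subgroup G) ≤ L)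
    (hpL : ¬ p ∣ Nat.card ↥⁅L, L⁆) : False := by
  refine false_of_normalizer_le_centralizer hG T hT fun n hn => ?_
  have hC : Subgroup.normalizer ((T : Subgroup G) : Set G) ≤
      Subgroup.normalizer ((Subgroup.centralizer ((T : Subgroup G) : Set G) : Subgroup G) : Set G) :=
    fun g hg => mem_normalizer_of_cj_eq (by rw [cj_centralizer, cj_eq_of_mem_normalizer hg])
  obtain ⟨c, hc, hle⟩ := Sigma10.exists_conj_le hQ (Q := cj n Q)
    ((cj_mono hQ.1).trans (cj_eq_of_mem_normalizer (hC hn)).le) (hQ.2.1.map _)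
  rw [cj_mul] at hle
  have hcn : c * n ∈ L := hNQ (mem_normalizer_of_cj_eq (Subgroup.eq_of_le_of_card_ge hle (card_cj (c * n) Q).ge))
  have hcnT : c * n ∈ Subgroup.normalizer ((T : Subgroup G) : Set G) :=
    mul_mem (Subgroup.centralizer_le_normalizer _ hc) hn
  have hcent : c * n ∈ Subgroup.centralizer ((T : Subgroup G) : Set G) := by
    refine Subgroup.mem_centralizer_iff.mpr fun t ht => ?_
    have hdisj : Disjoint ⁅L, L⁆ (T : Subgroup G) := by
      refine Subgroup.disjoint_of_coprime_natCard ?_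
      obtain ⟨k, hk⟩ := T.isPGroup'.exists_card_eq
      rw [hk]
      exact ((hp.out.coprime_iff_not_dvd).mpr hpL).symm.pow_right k
    have h1 : ⁅c * n, t⁆ ∈ ⁅L, L⁆ ⊓ (T : Subgroup G) := by
      refine ⟨Subgroup.commutator_mem_commutator hcn (hTL ht), ?_⟩
      rw [commutatorElement_def]
      exact (T : Subgroup G).mul_mem ((Subgroup.mem_normalizer_iff.mp hcnT t).mp ht) ((T : Subgroup G).inv_mem ht)
    rw [hdisj.eq_bot, Subgroup.mem_bot] at h1
    exact (commutatorElement_eq_one_iff_mul_comm.mp h1).symm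
  simpa using mul_mem (inv_mem hc) hcent

include hG h12 in
/-- A noncyclic `q`-subgroup of `M`, `q ∈ σ(M)`, centralizes no Sylow `p`-subgroup if `p ∤ |M'|`. -/
theorem false_of_noncyclic_centralizes {M : Subgroup G} (hM : IsCoatom M) (hqσ : q ∈ Cfsg.sigma M)
    (hpM : ¬ p ∣ Nat.card ↥⁅M, M⁆) (T : Sylow p G) (hT : (T : Subgroup G) ≠ ⊥) {Q₁ : Subgroup G}
    (hQ₁M : Q₁ ≤ M) (hQ₁ : IsPGroup q Q₁) (hnc : ¬ IsCyclic Q₁)
    (hQ₁T : Q₁ ≤ Subgroup.centralizer ((T : Subgroup G) : Set G)) : False := by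
  obtain ⟨E, hE⟩ := exists_compl hG hM
  obtain ⟨-, -, h3, -⟩ := h12 M hM E hE
  obtain ⟨Q, hQ, hQQ⟩ := exists_sylowOf_ge hQ₁T hQ₁
  have hQM : Q ≤ M := by
    by_contra hcon
    have hlt : M ⊓ Q < Q := lt_of_le_of_ne inf_le_right fun h => hcon (h ▸ inf_le_left)
    have hN := h3 q (M ⊓ Q) hqσ (hQ.2.1.to_le inf_le_right) inf_le_left
      (not_isCyclic_of_le (le_inf hQ₁M hQQ) hnc)
    have hgrow := normalizer_grows hQ.2.1 hlt
    have hle : Subgroup.normalizer ((M ⊓ Q : Subgroup G) : Set G) ⊓ Q ≤ M ⊓ Q :=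
      le_inf (inf_le_left.trans hN) inf_le_right
    exact absurd (Subgroup.card_le_of_le hle) (not_le.mpr hgrow)
  have hNQ := h3 q Q hqσ hQ.2.1 hQM (not_isCyclic_of_le hQQ hnc)
  exact false_of_frattini hG T hT hQ hNQ
    ((Subgroup.le_centralizer_iff.mp hQ.1).trans ((Subgroup.centralizer_le_normalizer _).trans hNQ)) hpM

include hG h5 h6 h12 in
/-- **BG 13.1 (c)**, in the form used: no element of prime order `q ∈ σ(M)` of `M` centralizes a Sylow
`p`-subgroup of `G` when `p ∤ |M'|`, `p` is not ideal and `p` divides `|C_M(x)|`. -/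
theorem false_of_centralizes_sylow {M : Subgroup G} (hM : IsCoatom M) {x : G} (hxM : x ∈ M)
    (hxo : orderOf x = q) (hqσ : q ∈ Cfsg.sigma M) (hni : ¬ Cfsg.IsIdealPrime p G)
    {y : G} (hy : y ∈ M) (hyx : y ∈ Subgroup.centralizer ({x} : Set G)) (hyo : orderOf y = p)
    (hpM : ¬ p ∣ Nat.card ↥⁅M, M⁆) (T : Sylow p G)
    (hTx : (T : Subgroup G) ≤ Subgroup.centralizer ({x} : Set G)) : False := by
  obtain ⟨L, B, hcov⟩ := exists_covered hG h5 h6 h12 hM hxM hxo hqσ hni hy hyx hyo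
  have hT : (T : Subgroup G) ≠ ⊥ := T.ne_bot_of_dvd_card (hyo ▸ orderOf_dvd_natCard y)
  have hxT : x ∈ Subgroup.centralizer ((T : Subgroup G) : Set G) :=
    Subgroup.mem_centralizer_iff.mpr fun t ht => (Subgroup.mem_centralizer_singleton_iff.mp (hTx ht))
  obtain ⟨Q, hQ, hxQ⟩ := exists_sylowOf_ge (Subgroup.zpowers_le.mpr hxT)
    (IsPGroup.of_card (n := 1) (by rw [Nat.card_zpowers, hxo, pow_one]) : IsPGroup q (Subgroup.zpowers x))
  by_cases hcyc : IsCyclic Q
  · exact false_of_frattini hG T hT hQ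
      ((normalizer_le_normalizer_of_cyclic hcyc hxQ).trans hcov.2.1) (hTx.trans hcov.centralizer_le)
      (hcov.not_dvd_derived hpM)
  set Q₂ := Q ⊓ Subgroup.centralizer ({x} : Set G) with hQ₂
  have hQne : Q ≠ ⊥ := fun h => hcyc (by rw [h]; infer_instance)
  have hQ₂nc : ¬ IsCyclic Q₂ := by
    intro hc
    obtain ⟨z, hzQ, hzc, hzo⟩ := Sigma10.exists_central_orderOf hQ.2.1 hQne
    have hxQ' : x ∈ Q := hxQ (Subgroup.mem_zpowers x)
    have hzQ₂ : z ∈ Q₂ := ⟨hzQ, Subgroup.mem_centralizer_singleton_iff.mpr (hzc x hxQ').symm⟩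
    have hxQ₂ : x ∈ Q₂ := ⟨hxQ', Subgroup.mem_centralizer_singleton_iff.mpr rfl⟩
    have := hc
    have hxz : x ∈ Subgroup.zpowers z := mem_of_pow_card_eq_one (Subgroup.zpowers_le.mpr hzQ₂) hxQ₂
      (by rw [Nat.card_zpowers, hzo, ← hxo, pow_orderOf_eq_one])
    refine hcyc ?_
    have : Q₂ = Q := inf_eq_left.mpr fun w hw => by
      obtain ⟨i, hi⟩ := hxz
      rw [Subgroup.mem_centralizer_singleton_iff, ← hi]
      exact Commute.zpow_right (show Commute w z from hzc w hw) i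
    rwa [this] at hc
  obtain ⟨k, -, hk⟩ := hcov.exists_conj_le hG (t := q) (Or.inr rfl) (hQ.2.1.to_le inf_le_left : IsPGroup q Q₂)
    (inf_le_right.trans hcov.centralizer_le)
  refine false_of_noncyclic_centralizes hG h12 hM hqσ hpM (k • T)
    ?_ hk ((hQ.2.1.to_le inf_le_left).map _) ?_ ?_
  · exact (k • T).ne_bot_of_dvd_card (hyo ▸ orderOf_dvd_natCard y)
  · intro hc
    refine hQ₂nc ?_
    have := hc
    exact isCyclic_of_injective (Q₂.equivMapOfInjective (MulAut.conj k).toMonoidHom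
      (MulAut.conj k).injective).toMonoidHom (MulEquiv.injective _)
  · rw [Sylow.coe_subgroup_smul]
    refine (cj_mono (inf_le_left.trans hQ.1)).trans ?_
    exact (cj_centralizer k (T : Subgroup G)).le

end CfsgLib.OddOrder41
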