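import Mathlib
import Cfsg.Agent.Lib.OddOrder41.Sigma13Factor
import Cfsg.Agent.Lib.Coprime.Action

/-!
# BG §13: pairs of nonconjugate maximal subgroups
-/

set_option autoImplicit false

namespace CfsgLib.OddOrder41

open Subgroup CfsgLib.OddOrder CfsgLib.OddOrder.Transitivity
open scoped commutatorElement Pointwise

universe u

variable {G : Type u} [Group G] [Finite G]

theorem le_of_exists_sylow_le {A C : Subgroup G}
    (h : ∀ (p : ℕ), p.Prime → ∃ Q : Sylow p A, (Q : Subgroup A).map A.subtype ≤ C) : A ≤ C := by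
  have hdvd : Nat.card A ∣ Nat.card (A ⊓ C : Subgroup G) := by
    rw [← Nat.factorization_le_iff_dvd Nat.card_pos.ne' Nat.card_pos.ne']
    intro p
    by_cases hp : p.Prime
    · haveI := Fact.mk hp
      obtain ⟨Q, hQ⟩ := h p hp
      have h1 : p ^ (Nat.card A).factorization p ∣ Nat.card (A ⊓ C : Subgroup G) := by
        rw [← Q.card_eq_multiplicity, ← Subgroup.card_subtype A]
        exact Subgroup.card_dvd_of_le (le_inf (Subgroup.map_subtype_le _) hQ)
      exact (hp.pow_dvd_iff_le_factorization Nat.card_pos.ne').1 h1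
    · simp [Nat.factorization_eq_zero_of_not_prime _ hp]
  exact (Subgroup.eq_of_le_of_card_ge inf_le_left (Nat.le_of_dvd Nat.card_pos hdvd)) ▸ inf_le_right

/-- `σ` is only met at Sylow normalizers, so it is invariant under conjugation. -/
theorem not_conj_of_mem_sigma {p : ℕ} [hp : Fact p.Prime] {M L : Subgroup G}
    (hpL : p ∈ Cfsg.sigma L) (hpM : p ∉ Cfsg.sigma M) (g : G) : L ≠ cj g M := by
  intro heq
  obtain ⟨T⟩ : Nonempty (Sylow p L) := inferInstance
  have hT := sylowOf_map T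
  obtain ⟨P, hP⟩ := Sigma10.exists_sylow_of_mem_sigma hpL hT
  have hN := Sigma10.normalizer_le_of_mem_sigma hpL hT
  rw [← hP] at hN hT
  have hN' := cj_mono (g := g⁻¹) hN
  rw [cj_normalizer, heq, cj_mul, inv_mul_cancel, cj_one] at hN'
  have hd : p ∣ Nat.card M := by
    rw [← card_cj g M, ← heq]
    exact hpL.2.1
  refine hpM (Sigma10.mem_sigma_of_normalizer_le hp.out hd (R := ((g⁻¹ • P : Sylow p G) : Subgroup G))
    (sylowOf_of_sylow _ ?_) ?_)
  · rw [Sylow.coe_subgroup_smul]; exact Subgroup.le_normalizer.trans hN'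
  · rw [Sylow.coe_subgroup_smul]; exact hN'

variable (hG : Cfsg.IsMinSimpleOddOrder G)

include hG in
theorem le_sigmaCore_of_isPGroup {p : ℕ} [hp : Fact p.Prime] {M U : Subgroup G} (hM : IsCoatom M)
    (hpσ : p ∈ Cfsg.sigma M) (hUM : U ≤ M) (hU : IsPGroup p U) : U ≤ Cfsg.sigmaCore M := by
  obtain ⟨R, hR, hUR⟩ := exists_sylowOf_ge hUM hU
  exact hUR.trans (Sigma10.sylow_le_piCore hG hM (Sigma10.alpha_subset_sigma hG hM) hpσ hpσ hR)

include hG in
theorem mem_sigma_of_le_sigmaCore {q : ℕ} [hq : Fact q.Prime] {M U : Subgroup G}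
    (hU : IsPGroup q U) (hU1 : U ≠ ⊥) (hle : U ≤ Cfsg.sigmaCore M) : q ∈ Cfsg.sigma M :=
  piNat_card_piCoreOf (Cfsg.sigma M) M q hq.out
    ((Uniq.prime_dvd_card hU hU1).trans (Subgroup.card_dvd_of_le hle))

include hG in
/-- Two nonconjugate maximal subgroups have no common `σ` prime if one core is nilpotent. -/
theorem not_mem_sigma_of_nilpotent {q : ℕ} [hq : Fact q.Prime] {M L : Subgroup G} (hM : IsCoatom M)
    (hL : IsCoatom L) (hnc : ∀ g : G, L ≠ cj g M) (hnil : Group.IsNilpotent (Cfsg.sigmaCore L))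
    (hqM : q ∈ Cfsg.sigma M) : q ∉ Cfsg.sigma L := by
  intro hqL
  obtain ⟨T⟩ : Nonempty (Sylow q L) := inferInstance
  have hR := sylowOf_map T
  obtain ⟨P, hP⟩ := Sigma10.exists_sylow_of_mem_sigma hqL hR
  rw [← hP] at hR
  have hn := le_normalizer_of_sigmaCore_nilpotent hG hL hqL hR hnil
  obtain ⟨g, -, hg⟩ := exists_conj_eq_of_sylow hG hqM P
  have hPne : (P : Subgroup G) ≠ ⊥ :=
    P.ne_bot_of_dvd_card (hqL.2.1.trans (Subgroup.card_subgroup_dvd_card L))
  rw [normalizer_eq_of_isCoatom hG hL hR.1 hPne hn] at hg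
  exact hnc g (((hL.le_iff.mp hg).resolve_left (isCoatom_map_conj hM g).1).symm)

variable (h2 : PropRankTwoInMaximal G) (h12 : PropSigmaPrimeNilpotent G)

include hG h2 h12 in
/-- For nonconjugate `M`, `L` and `q ∈ σ(M) ∩ σ(L)`: `q ∉ β(L)` and `L_σ'` is a `q'`-group. -/
theorem sigma_inter {q : ℕ} [hq : Fact q.Prime] {M L : Subgroup G} (hM : IsCoatom M) (hL : IsCoatom L)
    (hnc : ∀ g : G, L ≠ cj g M) (hqM : q ∈ Cfsg.sigma M) (hqL : q ∈ Cfsg.sigma L) :
    q ∉ Cfsg.beta L ∧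
      ∀ Q : Subgroup G, IsPGroup q Q → Q ≤ ⁅Cfsg.sigmaCore L, Cfsg.sigmaCore L⁆ → Q = ⊥ := by
  obtain ⟨T⟩ : Nonempty (Sylow q L) := inferInstance
  have hR := sylowOf_map T
  obtain ⟨P, hP⟩ := Sigma10.exists_sylow_of_mem_sigma hqL hR
  rw [← hP] at hR
  obtain ⟨g, hg, -⟩ := exists_conj_eq_of_sylow hG hqM P
  have hnotU : ¬ Cfsg.InUniqueMaximal (P : Subgroup G) := fun hU =>
    hnc g (Uniq.InUniqueMaximal.eq hU (isCoatom_map_conj hM g) hg hL hR.1)
  have hr : Cfsg.PRankLE q 2 (P : Subgroup G) := by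
    by_contra h
    exact hnotU (Sigma10.inUnique_of_rank_three hG h (minSimple_pgroup_ne_top hG P.isPGroup'))
  have hβ : q ∉ Cfsg.beta L := fun hβ => hβ.1.2 (Sigma10.pRankLE_of_sylowOf hR hr)
  refine ⟨hβ, fun Q hQ hQD => ?_⟩
  have hab : IsMulCommutative (P : Subgroup G) := by
    by_contra h
    exact hnotU (inUnique_of_not_comm hG h2 h12 P.isPGroup' h)
  set S := Cfsg.sigmaCore L with hS
  have hPS : SylowOf q (P : Subgroup G) S :=
    hR.mono (piCoreOf_le _ _) (le_sigmaCore_of_isPGroup hG hL hqL hR.1 P.isPGroup')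
  have hnc' := ((Sigma10.betaCore_hall hG hL (fun p _ => Sigma10.pLengthLE_one_proper hG p)
    (Sigma10.propFiveFive hG)).2.2.2.2 q hq.out hqL.2.1 hβ).2.1
  obtain ⟨s, hs, hle⟩ := Sigma10.exists_conj_le hPS (hQD.trans (Subgroup.commutator_le_self S)) hQ
  have hD : cj s Q ≤ ⁅S, S⁆ := by
    refine (cj_mono hQD).trans ?_
    rw [Transitivity.cj, Subgroup.map_commutator]
    exact le_of_eq (by rw [show S.map (MulAut.conj s).toMonoidHom = S from cj_eq_of_mem hs])
  have h0 := (le_inf hle hD).trans (sylowOf_inf_derived_le hnc' hPS)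
  have hPd : ⁅(P : Subgroup G), (P : Subgroup G)⁆ = ⊥ :=
    Subgroup.commutator_eq_bot_iff_le_centralizer.mpr fun a ha =>
      Subgroup.mem_centralizer_iff.mpr fun b hb =>
        congrArg Subtype.val (hab.is_comm.comm (⟨b, hb⟩ : (P : Subgroup G)) ⟨a, ha⟩)
  rw [hPd, le_bot_iff] at h0
  exact (Subgroup.map_eq_bot_iff_of_injective _ (MulAut.conj s).injective).mp h0

include hG h2 h12 in
/-- **BG 13.1 (a)**: a subgroup of `L_σ` acting coprimely centralizes a `q`-subgroup of `L`, `q ∈ σ(M)`. -/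
theorem centralizes_of_le_sigmaCore {q : ℕ} [hq : Fact q.Prime] {M L : Subgroup G} (hM : IsCoatom M)
    (hL : IsCoatom L) (hnc : ∀ g : G, L ≠ cj g M) (hqM : q ∈ Cfsg.sigma M) {R Q : Subgroup G}
    (hR : R ≤ Cfsg.sigmaCore L) (hQ : IsPGroup q Q) (hQL : Q ≤ L)
    (hRQ : R ≤ Subgroup.normalizer (Q : Set G)) (hcop : (Nat.card R).Coprime q) :
    R ≤ Subgroup.centralizer (Q : Set G) := by
  set Q₀ := ⁅Q, R⁆ with hQ₀
  have hQ₀Q : Q₀ ≤ Q := Coprime.commutator_le_of_normalizes hRQ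
  have hQ₀σ : Q₀ ≤ Cfsg.sigmaCore L := by
    refine Subgroup.commutator_le.mpr fun a ha r hr => ?_
    rw [commutatorElement_def]
    exact mul_mem ((Subgroup.mem_normalizer_iff.mp
      ((piCoreOf_normal (Cfsg.sigma L) L) (hQL ha)) r).mp (hR hr)) (inv_mem (hR hr))
  have hcop' : (Nat.card R).Coprime (Nat.card Q) := by
    obtain ⟨n, hn⟩ := hQ.exists_card_eq
    rw [hn]; exact hcop.pow_right n
  have hsQ : Group.IsSolvable Q := by
    have := hQ.isNilpotent
    infer_instance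
  have h0 : Q₀ = ⊥ := by
    by_contra hne
    have hqL := mem_sigma_of_le_sigmaCore hG (hQ.to_le hQ₀Q) hne hQ₀σ
    refine hne ((sigma_inter hG h2 h12 hM hL hnc hqM hqL).2 Q₀ (hQ.to_le hQ₀Q) ?_)
    rw [hQ₀, ← Coprime.commutator_commutator_eq R Q hRQ hcop' (Or.inr hsQ)]
    exact Subgroup.commutator_mono hQ₀σ hR
  exact Subgroup.le_centralizer_iff.mp (Subgroup.commutator_eq_bot_iff_le_centralizer.mp h0)

end CfsgLib.OddOrder41
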