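import Mathlib
import Cfsg.Agent.Lib.OddOrder41.Sigma13Basic

/-!
# BG 13.3 (a): cyclic Sylow subgroups of a complement act in a prime manner on `M_σ`
-/

set_option autoImplicit false

namespace CfsgLib.OddOrder41

open Subgroup CfsgLib.OddOrder CfsgLib.OddOrder.Transitivity
open scoped commutatorElement Pointwise

universe u

variable {G : Type u} [Group G] [Finite G]

theorem cyclic_isPGroup_of_card {p : ℕ} {X : Subgroup G} (h : Nat.card X = p) : IsPGroup p X :=
  IsPGroup.of_card (n := 1) (by rw [h, pow_one])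

variable (hG : Cfsg.IsMinSimpleOddOrder G) {p : ℕ} [hp : Fact p.Prime]

include hG in
/-- Sylow subgroups of a complement of `M_σ` are Sylow subgroups of `M`. -/
theorem sylowOf_of_compl {M E S : Subgroup G} (hM : IsCoatom M)
    (hE : Cfsg.IsComplIn E (Cfsg.sigmaCore M) M) (hS : SylowOf p S E) (hpσ : p ∉ Cfsg.sigma M) :
    SylowOf p S M := by
  refine ⟨hS.1.trans hE.1, hS.2.1, fun Q hQM hQ hle => ?_⟩
  have := minSimple_solvable hG hM.1
  have hidx : ∀ r : ℕ, r.Prime → r ∈ ({p} : Set ℕ) → ¬ r ∣ E.relIndex M := fun r hr hrp hd => by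
    rw [Set.mem_singleton_iff] at hrp
    subst hrp
    rw [IsComplIn.relIndex_left hE] at hd
    exact hpσ (piNat_card_piCoreOf (Cfsg.sigma M) M _ hr hd)
  obtain ⟨g, -, hg⟩ := exists_conj_into hE.1 hidx hQM (fun r hr hd => by
    obtain ⟨n, hn⟩ := hQ.exists_card_eq
    exact (Nat.prime_dvd_prime_iff_eq hr hp.out).mp (hr.dvd_of_dvd_pow (hn ▸ hd)))
  have h1 := Nat.le_of_dvd Nat.card_pos (hS.card_dvd hg (hQ.map _))
  rw [card_cj] at h1
  exact (Subgroup.eq_of_le_of_card_ge hle h1).symm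

variable (h2 : PropRankTwoInMaximal G) (h5 : PropTauTwoStructure G) (h6 : PropTauTwoInComplement G)
  (h12 : PropSigmaPrimeNilpotent G)

include hG h2 h5 h6 h12 in
/-- **BG 13.2 and 13.3 (a)**: the fixed points of a subgroup of order `p` of a cyclic Sylow subgroup `S`
of `M`, `p ∉ σ(M)`, are fixed by `S`. -/
theorem centralizes_of_cyclic_sylow {M S : Subgroup G} (hM : IsCoatom M) (hpσ : p ∉ Cfsg.sigma M)
    (hS : SylowOf p S M) (hSc : IsCyclic S) {X : Subgroup G} (hXS : X ≤ S) (hX : Nat.card X = p) :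
    Cfsg.sigmaCore M ⊓ Subgroup.centralizer (X : Set G) ≤ Subgroup.centralizer (S : Set G) := by
  have hXp := cyclic_isPGroup_of_card hX
  have hX1 : X ≠ ⊥ := fun h => by rw [h, Subgroup.card_bot] at hX; exact hp.out.ne_one hX.symm
  have hrank : Cfsg.PRankLE p 1 M := Sigma10.pRankLE_of_sylowOf hS (pRankLE_one_of_isCyclic hSc)
  have hXM : X ≤ M := hXS.trans hS.1
  have hpd : p ∣ Nat.card M := hX ▸ Subgroup.card_dvd_of_le hXM
  obtain ⟨L, hL, hNL⟩ := exists_isCoatom_ge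
    (minSimple_normalizer_ne_top hG hX1 (minSimple_pgroup_ne_top hG hXp))
  have hne : L ≠ M := fun h =>
    (Sigma10.rank_two_of_normalizer_le hG hM hpσ hX (h ▸ hNL)).1.2 hrank
  have hSX : S ≤ Subgroup.centralizer (X : Set G) := fun s hs => Subgroup.mem_centralizer_iff.mpr fun x hx => by
    have := hSc
    exact congrArg Subtype.val (IsCyclic.isMulCommutative.is_comm.comm (⟨x, hXS hx⟩ : S) ⟨s, hs⟩)
  have hCL : Subgroup.centralizer (X : Set G) ≤ L := (Subgroup.centralizer_le_normalizer _).trans hNL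
  have hSL : S ≤ L := hSX.trans hCL
  set W := Cfsg.sigmaCore M ⊓ Subgroup.centralizer (X : Set G) with hW
  have hWσ : ∀ r : ℕ, r.Prime → r ∣ Nat.card W → r ∈ Cfsg.sigma M := fun r hr hd =>
    piNat_card_piCoreOf (Cfsg.sigma M) M r hr (hd.trans (Subgroup.card_dvd_of_le inf_le_left))
  have hSW : S ≤ Subgroup.normalizer (W : Set G) := by
    refine Subgroup.le_normalizer_iff.2 fun s hs w hw =>
      ⟨(Subgroup.mem_normalizer_iff.mp (piCoreOf_normal (Cfsg.sigma M) M (hS.1 hs)) w).mp hw.1,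
        Subgroup.mul_mem _ (Subgroup.mul_mem _ (hSX hs) hw.2) (Subgroup.inv_mem _ (hSX hs))⟩
  have hcop : (Nat.card S).Coprime (Nat.card W) := by
    obtain ⟨n, hn⟩ := hS.2.1.exists_card_eq
    rw [hn]
    exact ((hp.out.coprime_iff_not_dvd).mpr fun hd => hpσ (hWσ p hp.out hd)).pow_left n
  refine le_of_exists_sylow_le fun q hq => ?_
  have := Fact.mk hq
  by_cases hqW : q ∣ Nat.card W
  swap
  · obtain ⟨T⟩ : Nonempty (Sylow q W) := inferInstance
    refine ⟨T, fun x hx => ?_⟩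
    obtain ⟨y, hy, rfl⟩ := hx
    have : (T : Subgroup W) = ⊥ := by
      by_contra h
      exact hqW ((Uniq.prime_dvd_card T.isPGroup' h).trans (Subgroup.card_subgroup_dvd_card _))
    have hy' : y ∈ (T : Subgroup W) := hy
    rw [this, Subgroup.mem_bot] at hy'
    rw [hy', map_one]; exact Subgroup.one_mem _
  have hqM := hWσ q hq hqW
  have hqp : (Nat.card S).Coprime q := hcop.coprime_dvd_right hqW
  have hsW : Group.IsSolvable W :=
    minSimple_solvable hG fun h => hM.1 (top_le_iff.mp (h ▸ inf_le_left.trans (piCoreOf_le _ _)))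
  obtain ⟨T, -, hST⟩ := Coprime.exists_invariant_sylow_ge S W hSW hcop (Or.inr hsW) q ⊥ bot_le
    IsPGroup.of_bot (Subgroup.le_normalizer_iff.2 fun g _ b hb => by simp [Subgroup.mem_bot.mp hb])
  refine ⟨T, ?_⟩
  set Q := (T : Subgroup W).map W.subtype with hQ
  have hQq : IsPGroup q Q := T.isPGroup'.map _
  have hQW : Q ≤ W := Subgroup.map_subtype_le _
  have hQL : Q ≤ L := (hQW.trans inf_le_right).trans hCL
  rw [Subgroup.le_centralizer_iff]
  by_cases hpL : p ∈ Cfsg.sigma L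
  · exact centralizes_of_le_sigmaCore hG h2 h12 hM hL (not_conj_of_mem_sigma hpL hpσ) hqM
      (le_sigmaCore_of_isPGroup hG hL hpL hSL hS.2.1) hQq hQL hST hqp
  · -- `p ∈ τ₂(L)`: a `q`-element of `C(X)` would centralize an elementary abelian `p ^ 2`
    by_contra hQ1
    have hQ1' : ⁅Q, S⁆ ≠ ⊥ := fun h =>
      hQ1 (Subgroup.le_centralizer_iff.mp (Subgroup.commutator_eq_bot_iff_le_centralizer.mp h))
    obtain ⟨⟨hr2, hr1⟩, hni, -⟩ := Sigma10.rank_two_of_normalizer_le hG hL hpL hX hNL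
    have hτ : p ∈ Cfsg.tau2 L := ⟨hp.out, hpL, hr2, hr1⟩
    obtain ⟨A', hA'L, hA'e, hA'2⟩ := not_pRankLE_subgroup_iff.mp hr1
    have hnc : ∀ g : G, L ≠ cj g M := fun g heq => by
      have hA'' := cj_mono (g := g⁻¹) (heq ▸ hA'L)
      rw [cj_mul, inv_mul_cancel, cj_one] at hA''
      exact not_pRankLE_subgroup_iff.mpr ⟨_, hA'', elemAb_map hA'e _, (card_cj g⁻¹ A').trans hA'2⟩ hrank
    have hqL := not_mem_sigma_of_nilpotent hG hM hL hnc (h5 L hL p hτ A' ⟨hA'L, hA'e, hA'2⟩).1 hqM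
    -- a complement of `L_σ` containing `Q S`
    have hσ' : ∀ r : ℕ, r.Prime → r ∣ Nat.card ↥(S ⊔ Q) → r ∉ Cfsg.sigma L := by
      intro r hr hd
      obtain ⟨n, hn⟩ := hS.2.1.exists_card_eq
      obtain ⟨m, hm⟩ := hQq.exists_card_eq
      have h1 := hd.trans (Coprime.card_sup_dvd hST)
      rw [hn, hm] at h1
      rcases hr.dvd_mul.mp h1 with h | h
      · rwa [(Nat.prime_dvd_prime_iff_eq hr hp.out).mp (hr.dvd_of_dvd_pow h)]
      · rwa [(Nat.prime_dvd_prime_iff_eq hr hq).mp (hr.dvd_of_dvd_pow h)]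
    obtain ⟨EL, hEL, hle⟩ := exists_compl_ge hG hL (sup_le hSL hQL) hσ'
    obtain ⟨T', hT', hST'⟩ := exists_sylowOf_ge (le_sup_left.trans hle) hS.2.1
    have hT'L := sylowOf_of_compl hG hL hEL hT' hpL
    obtain ⟨A, hAT, hAe, hA2⟩ := not_pRankLE_subgroup_iff.mp
      (fun h => hr1 (Sigma10.pRankLE_of_sylowOf hT'L h))
    have hA2' : Nat.card A = p ^ 2 := hA2
    have hXA : X ≤ A :=
      ((h6 L hL EL hEL p hτ A ⟨hAT.trans hT'.1, hAe, hA2'⟩).1.2 X (hXS.trans (le_sup_left.trans hle)) hX)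
    have hEA : EL ≤ Subgroup.normalizer (A : Set G) :=
      (h6 L hL EL hEL p hτ A ⟨hAT.trans hT'.1, hAe, hA2'⟩).1.1
    -- `[Q, S]` centralizes `A`
    obtain ⟨P', hP'⟩ : ∃ P' : Sylow p L, (P' : Subgroup L).map L.subtype = T' := hT'L.toSylow
    have hT'c : IsMulCommutative T' := by
      obtain ⟨hab, -⟩ := (h5 L hL p hτ A ⟨(hAT.trans hT'.1).trans hEL.1, hAe, hA2'⟩).2.1 P'
      rw [← hP']
      exact ⟨⟨fun a b => by
        obtain ⟨_, x, hx, rfl⟩ := a
        obtain ⟨_, y, hy, rfl⟩ := b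
        exact Subtype.ext (congrArg (fun w : (P' : Subgroup L) => ((w : L) : G))
          (hab.is_comm.comm ⟨x, hx⟩ ⟨y, hy⟩))⟩⟩
    have hSA : S ≤ Subgroup.centralizer (A : Set G) := fun s hs => Subgroup.mem_centralizer_iff.mpr fun a ha =>
      congrArg Subtype.val (hT'c.is_comm.comm (⟨a, hAT ha⟩ : T') ⟨s, hST' hs⟩)
    have hQ0 : ⁅Q, S⁆ ≤ Subgroup.centralizer (A : Set G) := by
      refine Subgroup.commutator_le.mpr fun a ha s hs => ?_
      rw [commutatorElement_def]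
      refine mul_mem ?_ (inv_mem (hSA hs))
      have h := hEA (hle (Subgroup.mem_sup_right ha))
      have h' : a * s * a⁻¹ ∈ cj a (Subgroup.centralizer (A : Set G)) :=
        mem_cj.mpr (by simpa [mul_assoc] using hSA hs)
      rwa [cj_centralizer, cj_eq_of_mem_normalizer h] at h'
    have hQ0le : ⁅Q, S⁆ ≤ Q := Coprime.commutator_le_of_normalizes hST
    obtain ⟨x, hx⟩ := exists_prime_orderOf_dvd_card' (G := ↥⁅Q, S⁆) q
      (Uniq.prime_dvd_card (hQq.to_le hQ0le) hQ1')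
    have hxo : orderOf (x : G) = q := by rw [Subgroup.orderOf_coe, hx]
    have hAx : A ≤ Subgroup.centralizer ({(x : G)} : Set G) := fun a ha =>
      Subgroup.mem_centralizer_singleton_iff.mpr (Subgroup.mem_centralizer_iff.mp (hQ0 x.2) a ha)
    obtain ⟨y, hy⟩ := exists_prime_orderOf_dvd_card' (G := X) p (hX ▸ dvd_rfl)
    exact not_pRankLE_one_of_centralizes hG h5 h6 h12 hM
      ((piCoreOf_le _ _) ((hQW (hQ0le x.2)).1)) hxo hqM hni (hXM y.2)
      (Subgroup.mem_centralizer_singleton_iff.mpr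
        (Subgroup.mem_centralizer_iff.mp (hQW (hQ0le x.2)).2 y y.2))
      (by rw [Subgroup.orderOf_coe, hy]) hAx hAe hA2' hrank

end CfsgLib.OddOrder41
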