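import Mathlib
import Cfsg.Agent.Lib.OddOrder41.Sigma13Cyclic

/-!
# BG §13: coprime operators fixing a line of an elementary abelian `p ^ 2`, cyclic fixed points
-/

set_option autoImplicit false

namespace CfsgLib.OddOrder41

open Subgroup CfsgLib.OddOrder CfsgLib.OddOrder.Transitivity
open scoped commutatorElement Pointwise

universe u

variable {G : Type u} [Group G] [Finite G] {p : ℕ} [hp : Fact p.Prime]

/-- Commutators of operators of order prime to `p` fixing `P` pointwise centralize `A ⊇ P`,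
`|A : P| = p`. -/
theorem commutator_centralizes_line {A P : Subgroup G} (hAe : Cfsg.IsElementaryAbelian p A)
    (hA2 : Nat.card A = p ^ 2) (hPA : P ≤ A) (hP : Nat.card P = p) {g h : G}
    (hgA : g ∈ Subgroup.normalizer (A : Set G)) (hhA : h ∈ Subgroup.normalizer (A : Set G))
    (hgP : g ∈ Subgroup.centralizer (P : Set G)) (hhP : h ∈ Subgroup.centralizer (P : Set G))
    (hcop : (orderOf ⁅g, h⁆).Coprime p) : ⁅g, h⁆ ∈ Subgroup.centralizer (A : Set G) := by
  obtain ⟨b, hb, hbP⟩ : ∃ b ∈ A, b ∉ P := by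
    by_contra hcon
    push Not at hcon
    have h1 := Subgroup.card_le_of_le (show A ≤ P from hcon)
    rw [hA2, hP] at h1
    exact absurd h1 (not_le.mpr (lt_self_pow₀ hp.out.one_lt one_lt_two))
  have hbA : Subgroup.zpowers b ≤ A := Subgroup.zpowers_le.mpr hb
  have hPn : Subgroup.zpowers b ≤ Subgroup.normalizer (P : Set G) :=
    fun c hc => Subgroup.centralizer_le_normalizer (P : Set G)
      (Subgroup.mem_centralizer_iff.mpr fun v hv => elemAb_commute hAe (hPA hv) (hbA hc))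
  have hsup : Subgroup.zpowers b ⊔ P = A := by
    refine Subgroup.eq_of_le_of_card_ge (sup_le hbA hPA) ?_
    have h1 : Subgroup.zpowers b ⊓ P = ⊥ := by
      rw [eq_bot_iff]
      rintro w ⟨h1, h2⟩
      by_contra hw
      have hbo : orderOf b = p := orderOf_eq_prime (hAe.2 b hb) fun e => hbP (e ▸ P.one_mem)
      have hwo : orderOf w = p := orderOf_eq_prime (hAe.2 w (hPA h2)) hw
      have h3 : Subgroup.zpowers w = Subgroup.zpowers b :=
        Subgroup.eq_of_le_of_card_ge (Subgroup.zpowers_le.mpr h1)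
          (by rw [Nat.card_zpowers, Nat.card_zpowers, hwo, hbo])
      exact hbP (Subgroup.zpowers_le.mpr h2 (h3 ▸ Subgroup.mem_zpowers b))
    rw [Coprime.card_sup_of_disjoint hPn (inf_comm P _ ▸ h1), Nat.card_zpowers,
      orderOf_eq_prime (hAe.2 b hb) (fun e => hbP (e ▸ P.one_mem)), hP, hA2, sq]
  -- each operator acts on `A / P` as a power map
  have act : ∀ c : G, c ∈ Subgroup.normalizer (A : Set G) → c ∈ Subgroup.centralizer (P : Set G) →
      ∃ i : ℤ, ∀ a ∈ A, c * a * c⁻¹ * (a ^ i)⁻¹ ∈ P := by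
    intro c hcA hcP
    have hcb := (Subgroup.mem_normalizer_iff.mp hcA b).mp hb
    rw [← hsup] at hcb
    obtain ⟨_, ⟨i, rfl⟩, u, hu, hbu⟩ := Coprime.exists_mul_of_mem_sup hPn hcb
    refine ⟨i, fun a ha => ?_⟩
    rw [← hsup] at ha
    obtain ⟨_, ⟨k, rfl⟩, v, hv, rfl⟩ := Coprime.exists_mul_of_mem_sup hPn ha
    have hvc : c * v * c⁻¹ = v := Coprime.conj_eq_of_mem_centralizer
      (A := Subgroup.zpowers c) (Subgroup.mem_centralizer_iff.mpr (fun w hw => by
        obtain ⟨j, rfl⟩ := hw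
        exact (Commute.zpow_left (show Commute c v from
          (Subgroup.mem_centralizer_iff.mp hcP v hv).symm) j).eq)) (Subgroup.mem_zpowers c)
    have hbv : Commute (b ^ k) v := elemAb_commute hAe (A.zpow_mem hb k) (hPA hv)
    have hbiu : Commute (b ^ i) u := elemAb_commute hAe (A.zpow_mem hb i) (hPA hu)
    have h1 : c * (b ^ k * v) * c⁻¹ = (b ^ i * u) ^ k * v := by
      have e : c * b ^ k * c⁻¹ = (c * b * c⁻¹) ^ k := by
        simp only [← MulAut.conj_apply, map_zpow]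
      calc c * (b ^ k * v) * c⁻¹ = (c * b ^ k * c⁻¹) * (c * v * c⁻¹) := by group
        _ = _ := by rw [e, hvc, hbu]
    show c * (b ^ k * v) * c⁻¹ * ((b ^ k * v) ^ i)⁻¹ ∈ P
    rw [h1, hbiu.mul_zpow, hbv.mul_zpow, ← zpow_mul, ← zpow_mul, mul_comm k i]
    have hcu : Commute (b ^ (i * k)) (u ^ k * v * (v ^ i)⁻¹) :=
      elemAb_commute hAe (A.zpow_mem hb _) (hPA (mul_mem (mul_mem (P.zpow_mem hu k) hv) (inv_mem (P.zpow_mem hv i))))
    rw [mul_inv_rev, ← mul_assoc, show b ^ (i * k) * u ^ k * v * (v ^ i)⁻¹ = b ^ (i * k) * (u ^ k * v * (v ^ i)⁻¹) by group,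
      hcu.eq, mul_inv_cancel_right]
    exact mul_mem (mul_mem (P.zpow_mem hu k) hv) (inv_mem (P.zpow_mem hv i))
  have hPcom : ∀ {a : G}, a ∈ A → ∀ {v : G}, v ∈ P → Commute a v := fun {a} ha {v} hv =>
    elemAb_commute hAe ha (hPA hv)
  have hcA : ⁅g, h⁆ ∈ Subgroup.normalizer (A : Set G) := by
    rw [commutatorElement_def]
    exact mul_mem (mul_mem (mul_mem hgA hhA) (inv_mem hgA)) (inv_mem hhA)
  have hcP : ⁅g, h⁆ ∈ Subgroup.centralizer (P : Set G) := by
    rw [commutatorElement_def]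
    exact mul_mem (mul_mem (mul_mem hgP hhP) (inv_mem hgP)) (inv_mem hhP)
  have htriv : ∀ a ∈ A, a⁻¹ * (⁅g, h⁆ * a * ⁅g, h⁆⁻¹) ∈ P := by
    obtain ⟨i, hi⟩ := act g hgA hgP
    obtain ⟨j, hj⟩ := act h hhA hhP
    have comp : ∀ {c d : G} {m n : ℤ}, c ∈ Subgroup.centralizer (P : Set G) →
        d ∈ Subgroup.normalizer (A : Set G) →
        (∀ a ∈ A, c * a * c⁻¹ * (a ^ m)⁻¹ ∈ P) → (∀ a ∈ A, d * a * d⁻¹ * (a ^ n)⁻¹ ∈ P) →
        ∀ a ∈ A, (c * d) * a * (c * d)⁻¹ * (a ^ (n * m))⁻¹ ∈ P := by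
      intro c d m n hc hd hm hn a ha
      set v := d * a * d⁻¹ * (a ^ n)⁻¹ with hv
      have hcv : c * v * c⁻¹ = v := by
        rw [← Subgroup.mem_centralizer_iff.mp hc v (hn a ha), mul_inv_cancel_right]
      have e : (c * d) * a * (c * d)⁻¹ * (a ^ (n * m))⁻¹ =
          (c * v * c⁻¹) * (c * a ^ n * c⁻¹ * ((a ^ n) ^ m)⁻¹) := by
        rw [hv, zpow_mul]; group
      rw [e, hcv]
      exact mul_mem (hn a ha) (hm _ (A.zpow_mem ha n))
    intro a ha
    set a' := (h * g)⁻¹ * a * (h * g) with ha'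
    have ha'A : a' ∈ A := (Subgroup.mem_normalizer_iff''.mp (mul_mem hhA hgA) a).mp ha
    have h1 := comp hgP hhA hi hj a' ha'A
    have h2 := comp hhP hgA hj hi a' ha'A
    rw [mul_comm i j] at h2
    have e1 : h * g * a' * (h * g)⁻¹ = a := by rw [ha']; group
    have e2 : g * h * a' * (g * h)⁻¹ = ⁅g, h⁆ * a * ⁅g, h⁆⁻¹ := by
      rw [ha', commutatorElement_def]; group
    rw [e1] at h2
    rw [e2] at h1
    have h3 := mul_mem (inv_mem h2) h1
    rw [mul_inv_rev, inv_inv] at h3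
    have hx := A.zpow_mem ha'A (j * i)
    have hy := (Subgroup.mem_normalizer_iff.mp hcA a).mp ha
    have e3 : a ^ (1 : ℤ) = a := zpow_one a
    have : a' ^ (j * i) * a⁻¹ * (⁅g, h⁆ * a * ⁅g, h⁆⁻¹ * (a' ^ (j * i))⁻¹) =
        a⁻¹ * (⁅g, h⁆ * a * ⁅g, h⁆⁻¹) := by
      rw [show a' ^ (j * i) * a⁻¹ * (⁅g, h⁆ * a * ⁅g, h⁆⁻¹ * (a' ^ (j * i))⁻¹) =
        a' ^ (j * i) * (a⁻¹ * (⁅g, h⁆ * a * ⁅g, h⁆⁻¹)) * (a' ^ (j * i))⁻¹ by group,
        elemAb_commute hAe hx (mul_mem (inv_mem ha) hy), mul_inv_cancel_right]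
    rwa [this] at h3
  have hAp := isPGroup_of_elemAb hAe
  have hle : Subgroup.zpowers ⁅g, h⁆ ≤ Subgroup.centralizer (A : Set G) := by
    refine Coprime.le_centralizer_of_trivial_on_series _ A (Subgroup.zpowers_le.mpr hcA) ?_
      (Or.inr (by have := hAp.isNilpotent; infer_instance)) P hPA (Subgroup.zpowers_le.mpr hcP) ?_
    · rw [Nat.card_zpowers, hA2]; exact hcop.pow_right 2
    · intro w hw a ha
      let D : Subgroup G :=
        { carrier := {w | w ∈ Subgroup.normalizer (A : Set G) ∧ w ∈ Subgroup.centralizer (P : Set G) ∧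
            ∀ a ∈ A, a⁻¹ * (w * a * w⁻¹) ∈ P}
          one_mem' := ⟨one_mem _, one_mem _, fun a _ => by simp⟩
          mul_mem' := fun {c d} hc hd => ⟨mul_mem hc.1 hd.1, mul_mem hc.2.1 hd.2.1, fun a ha => by
            have h1 := hd.2.2 a ha
            have h2 : c * (a⁻¹ * (d * a * d⁻¹)) * c⁻¹ = a⁻¹ * (d * a * d⁻¹) := by
              rw [← Subgroup.mem_centralizer_iff.mp hc.2.1 _ h1, mul_inv_cancel_right]
            have h3 := mul_mem (hc.2.2 a ha) (h2.symm ▸ h1 : c * (a⁻¹ * (d * a * d⁻¹)) * c⁻¹ ∈ P)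
            rwa [show a⁻¹ * (c * a * c⁻¹) * (c * (a⁻¹ * (d * a * d⁻¹)) * c⁻¹) =
              a⁻¹ * ((c * d) * a * (c * d)⁻¹) by group] at h3⟩
          inv_mem' := fun {c} hc => ⟨inv_mem hc.1, inv_mem hc.2.1, fun a ha => by
            have ha'' : c⁻¹ * a * c ∈ A := (Subgroup.mem_normalizer_iff''.mp hc.1 a).mp ha
            have h1 := hc.2.2 _ ha''
            rw [show c * (c⁻¹ * a * c) * c⁻¹ = a by group] at h1
            rw [inv_inv]
            have h2 := inv_mem h1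
            rwa [mul_inv_rev, inv_inv] at h2⟩ }
      exact ((Subgroup.zpowers_le.mpr (show ⁅g, h⁆ ∈ D from ⟨hcA, hcP, htriv⟩)) hw).2.2 a ha
  exact hle (Subgroup.mem_zpowers _)

theorem isCyclic_of_pRankLE_one (hp2 : p ≠ 2) {S : Subgroup G} (hS : IsPGroup p S)
    (h : Cfsg.PRankLE p 1 S) : IsCyclic S :=
  Isolated.isCyclic_of_small_abelian hp2 hS fun A hA hAe => by
    simpa using pRankLE_iff.mp h A ⟨hA, hAe⟩

/-- For `p ∈ β(L)` the `p`-part of the centralizer of a subgroup of prime order `r`, `r ∉ σ(L)`,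
of rank one, is cyclic. -/
theorem isCyclic_inf_centralizer (hG : Cfsg.IsMinSimpleOddOrder G) {L T R : Subgroup G}
    (hL : IsCoatom L) (hideal : Cfsg.IsIdealPrime p G) (hp2 : p ≠ 2) (hT : IsPGroup p T) (hTL : T ≤ L)
    {r : ℕ} [Fact r.Prime] (hR : Nat.card R = r) (hrσ : r ∉ Cfsg.sigma L)
    (hr1 : Cfsg.PRankLE r 1 L) : IsCyclic ↥(T ⊓ Subgroup.centralizer (R : Set G)) := by
  refine isCyclic_of_pRankLE_one hp2 (hT.to_le inf_le_left) ?_
  by_contra h
  obtain ⟨A, hA, hAe, hA2⟩ := not_pRankLE_subgroup_iff.mp h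
  obtain ⟨P, hP⟩ := (isPGroup_of_elemAb hAe).exists_le_sylow
  obtain ⟨B, -, hBe, hAB⟩ := hideal.2.2 P A hP hAe hA2
  have hB3 : ¬ Cfsg.PRankLE p 2 B := fun h3 => by
    have h4 := pRankLE_iff.mp h3 ⊤ (elemAb_mono (elemAb_comap hBe B.subtype B.subtype_injective)
      (fun x _ => x.2))
    rw [Subgroup.card_top] at h4
    have h5 : Nat.card A < Nat.card B := by
      by_contra h6
      exact hAB.ne (Subgroup.eq_of_le_of_card_ge hAB.le (not_lt.mp h6))
    rw [hA2] at h5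
    exact absurd h4 (not_le.mpr h5)
  obtain ⟨Y, hYB, hYe, hYc⟩ := not_pRankLE_subgroup_iff.mp hB3
  have hAU : Cfsg.InUniqueMaximal A := Uniq.inUniqueMaximal_of_centralizes hG
    (CubeUnique.inUniqueMaximal_cube hG hYe hYc)
    (fun a ha => Subgroup.mem_centralizer_iff.mpr fun y hy => elemAb_commute hBe (hYB hy) (hAB.le ha))
    (Uniq.not_rankLE_one_of_elemAb (k := 0) le_rfl hAe hA2)
  have hR1 : R ≠ ⊥ := fun h0 => by
    rw [h0, Subgroup.card_bot] at hR
    exact (Fact.out : r.Prime).ne_one hR.symm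
  obtain ⟨L₂, hL₂, hle⟩ := exists_isCoatom_ge
    (minSimple_normalizer_ne_top hG hR1 (minSimple_pgroup_ne_top hG (cyclic_isPGroup_of_card hR)))
  have hAL₂ : A ≤ L₂ := (hA.trans inf_le_right).trans ((Subgroup.centralizer_le_normalizer _).trans hle)
  obtain rfl := Uniq.InUniqueMaximal.eq hAU hL ((hA.trans inf_le_left).trans hTL) hL₂ hAL₂
  exact (Sigma10.rank_two_of_normalizer_le hG hL₂ hrσ hR hle).1.2 hr1

omit [Finite G] hp in
theorem isComplIn_cj {E S L : Subgroup G} (hE : Cfsg.IsComplIn E S L)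
    (hS : L ≤ Subgroup.normalizer (S : Set G)) {g : G} (hg : g ∈ L) :
    Cfsg.IsComplIn (cj g E) S L := by
  have hS' : cj g S = S := cj_eq_of_mem_normalizer (hS hg)
  refine ⟨(cj_mono hE.1).trans (cj_eq_of_mem hg).le, hE.2.1, ?_, fun m hm => ?_⟩
  · rw [← hS', Transitivity.cj, Transitivity.cj, ← Subgroup.map_inf _ _ _ (MulAut.conj g).injective,
      hE.2.2.1, Subgroup.map_bot]
  · obtain ⟨a, ha, b, hb, he⟩ := hE.2.2.2 (g⁻¹ * m * g) (mul_mem (mul_mem (inv_mem hg) hm) hg)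
    refine ⟨g * a * g⁻¹, mem_cj.mpr (by simpa [mul_assoc] using ha), g * b * g⁻¹, ?_, ?_⟩
    · rw [← hS']
      exact mem_cj.mpr (by simpa [mul_assoc] using hb)
    · calc m = g * (g⁻¹ * m * g) * g⁻¹ := by group
        _ = _ := by rw [he]; group

end CfsgLib.OddOrder41
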