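import Cfsg.Agent.Lib.OddOrder41.SymplecticCount

set_option autoImplicit false

/-! The centralizer bound in the symplectic configuration. -/

namespace CfsgLib.OddOrder41.SymplecticCount

open Finset CfsgLib.OddOrder41.RootProj
open scoped commutatorElement

variable {k : Type*} [Field k] {W : Type*} [AddCommGroup W] [Module k W] [FiniteDimensional k W] [Nontrivial W]
  {Q : Type*} [Group Q] [Finite Q] {ρ : Q →* Module.End k W}

/-- The endomorphisms commuting with `U`. -/
def commSub (U : Module.End k W) : Submodule k (Module.End k W) where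
  carrier := {f | U * f = f * U}
  add_mem' := fun {f g} (hf : U * f = f * U) (hg : U * g = g * U) => by
    show U * (f + g) = (f + g) * U
    rw [mul_add, add_mul, hf, hg]
  zero_mem' := by show U * 0 = 0 * U; rw [mul_zero, zero_mul]
  smul_mem' := fun a f (hf : U * f = f * U) => by
    show U * (a • f) = (a • f) * U
    rw [mul_smul_comm, smul_mul_assoc, hf]

/-- The centralizer of an operator of prime order, fixed-point-free modulo the centre, is small. -/
theorem centralizer_bound (S : ScalarCentre ρ) (hQk : (Nat.card Q : k) ≠ 0)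
    (hQodd : Odd (Nat.card Q)) (hna : Subgroup.center Q ≠ ⊤) {p : ℕ} [hp : Fact p.Prime]
    (σ : MulAut Q) (hσp : σ ^ p = 1)
    (hσfix : ∀ x, x⁻¹ * σ x ∈ Subgroup.center Q → x ∈ Subgroup.center Q)
    (U : Module.End k W) (hU : ∀ x, U * ρ x = ρ (σ x) * U) (hUp : U ^ p = 1) :
    ∃ N b o : ℕ, (Subgroup.center Q).index = N * N ∧ 1 < N ∧ Odd N ∧ p * o = N * N + (p - 1) ∧
      Module.finrank k W * Module.finrank k W = N * N * b ∧ Module.finrank k (commSub U) ≤ o * b := by
  classical
  haveI := Fintype.ofFinite Q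
  set Z := Subgroup.center Q with hZ
  haveI := Fintype.ofFinite Z
  -- the conjugation action of `Q` on endomorphisms, and its averaging map
  let cj : Q → Module.End k W →ₗ[k] Module.End k W := fun u =>
    { toFun := fun f => ρ u * f * ρ u⁻¹
      map_add' := fun f g => by rw [mul_add, add_mul]
      map_smul' := fun a f => by rw [mul_smul_comm, smul_mul_assoc]; rfl }
  have hcj : ∀ u f, cj u f = ρ u * f * ρ u⁻¹ := fun u f => rfl
  have hcjmul : ∀ u v f, cj u (cj v f) = cj (u * v) f := fun u v f => by
    simp only [hcj, map_mul, mul_inv_rev, mul_assoc]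
  let B : Submodule k (Module.End k W) :=
    { carrier := {f | ∀ u, cj u f = f}
      add_mem' := fun {f g} hf hg u => by rw [map_add, hf u, hg u]
      zero_mem' := fun u => map_zero _
      smul_mem' := fun a f hf u => by rw [map_smul, hf u] }
  let avg : Module.End k W →ₗ[k] Module.End k W := (Nat.card Q : k)⁻¹ • ∑ u, cj u
  have havg : ∀ f, avg f = (Nat.card Q : k)⁻¹ • ∑ u, cj u f := fun f => by
    show ((Nat.card Q : k)⁻¹ • ∑ u, cj u) f = _
    rw [LinearMap.smul_apply, LinearMap.sum_apply]
  have havgB : ∀ f, avg f ∈ B := fun f u => by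
    rw [havg, map_smul, map_sum]
    congr 1
    exact Fintype.sum_equiv (Equiv.mulLeft u) _ _ fun v => by rw [hcjmul]; rfl
  have havgfix : ∀ b ∈ B, avg b = b := fun b hb => by
    rw [havg, Finset.sum_congr rfl fun u _ => hb u, Finset.sum_const, Finset.card_univ,
      ← Nat.card_eq_fintype_card, ← Nat.cast_smul_eq_nsmul k, smul_smul, inv_mul_cancel₀ hQk, one_smul]
  have hZk : (Nat.card Z : k) ≠ 0 := fun h => hQk (by
    obtain ⟨d, hd⟩ := Z.card_subgroup_dvd_card
    rw [hd, Nat.cast_mul, h, zero_mul])
  -- components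
  let M := Q ⧸ Z
  haveI := Fintype.ofFinite M
  let comp : M → Module.End k W →ₗ[k] B := fun c =>
    LinearMap.codRestrict B (avg.comp (LinearMap.mulLeft k (ρ c.out⁻¹))) fun f => havgB _
  have hcomp : ∀ c f, (comp c f : Module.End k W) = avg (ρ c.out⁻¹ * f) := fun c f => rfl
  have hterm : ∀ (x : Q) f, ρ (QuotientGroup.mk x : M).out * avg (ρ (QuotientGroup.mk x : M).out⁻¹ * f) =
      ρ x * avg (ρ x⁻¹ * f) := by
    intro x f
    obtain ⟨⟨z, hz⟩, hzx⟩ := QuotientGroup.mk_out_eq_mul Z x
    rw [hzx]
    show ρ (x * z) * avg (ρ (x * z)⁻¹ * f) = _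
    have h1 : ρ (x * z) = S.χ z • ρ x := by rw [map_mul, S.hχ z hz, mul_smul_comm, mul_one]
    have h2 : ρ (x * z)⁻¹ = S.χ z⁻¹ • ρ x⁻¹ := by
      rw [mul_inv_rev, map_mul, S.hχ z⁻¹ (Z.inv_mem hz), smul_mul_assoc, one_mul]
    have h3 : S.χ z * S.χ z⁻¹ = 1 := scalar_inj (W := W) (by
      rw [one_smul, show (S.χ z * S.χ z⁻¹) • (1 : Module.End k W) = (S.χ z • 1) * (S.χ z⁻¹ • 1) by
        rw [smul_mul_smul_comm, one_mul], ← S.hχ z hz, ← S.hχ _ (Z.inv_mem hz), rho_cancel])
    rw [h1, h2, smul_mul_assoc, smul_mul_assoc, map_smul, mul_smul_comm, smul_smul, h3, one_smul]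
  have hfib : ∀ c : M, (Finset.univ.filter fun x : Q => (QuotientGroup.mk x : M) = c).card = Nat.card Z := by
    intro c
    rw [Nat.card_eq_fintype_card, ← Finset.card_univ]
    refine Finset.card_bij' (fun x hx => ⟨c.out⁻¹ * x, ?_⟩) (fun z _ => c.out * (z : Q)) ?_ ?_ ?_ ?_
    · rw [← QuotientGroup.eq, QuotientGroup.out_eq', (Finset.mem_filter.mp hx).2]
    · exact fun x _ => Finset.mem_univ _
    · intro z _
      refine Finset.mem_filter.mpr ⟨Finset.mem_univ _, ?_⟩
      rw [QuotientGroup.mk_mul_of_mem _ z.2, QuotientGroup.out_eq']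
    · exact fun x _ => mul_inv_cancel_left _ _
    · exact fun z _ => Subtype.ext (inv_mul_cancel_left _ _)
  have hrecon : ∀ f, f = ∑ c : M, ρ c.out * (comp c f : Module.End k W) := by
    intro f
    have hall : ∑ x : Q, ρ x * avg (ρ x⁻¹ * f) = (Nat.card Z : k) • f := by
      have h1 : ∀ x : Q, ρ x * avg (ρ x⁻¹ * f) =
          (Nat.card Q : k)⁻¹ • ∑ u, pairing S x u • cj u f := by
        intro x
        rw [havg, mul_smul_comm, Finset.mul_sum]
        congr 1
        refine Finset.sum_congr rfl fun u _ => ?_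
        rw [hcj, hcj, ← smul_mul_assoc, ← smul_mul_assoc, ← conj_rho S x u]
        simp only [mul_assoc]
      rw [Finset.sum_congr rfl fun x _ => h1 x, ← Finset.smul_sum, Finset.sum_comm]
      have h2 : ∀ u : Q, ∑ x, pairing S x u • cj u f = if u ∈ Z then (Nat.card Q : k) • f else 0 := by
        intro u
        rw [← Finset.sum_smul]
        split_ifs with hu
        · rw [Finset.sum_congr rfl fun x _ => (pairing_eq_one_iff S x u).mpr (Subgroup.mem_center_iff.mp hu x),
            Finset.sum_const, Finset.card_univ, ← Nat.card_eq_fintype_card, nsmul_one]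
          congr 1
          rw [hcj, S.hχ u hu, S.hχ u⁻¹ (Z.inv_mem hu), smul_mul_assoc, one_mul, mul_smul_comm, mul_one, smul_smul]
          have : S.χ u⁻¹ * S.χ u = 1 := scalar_inj (W := W) (by
            rw [one_smul, show (S.χ u⁻¹ * S.χ u) • (1 : Module.End k W) = (S.χ u⁻¹ • 1) * (S.χ u • 1) by
              rw [smul_mul_smul_comm, one_mul], ← S.hχ u hu, ← S.hχ _ (Z.inv_mem hu), rho_cancel'])
          rw [this, one_smul]
        · rw [sum_pairing_left S hu, zero_smul]
      rw [Finset.sum_congr rfl fun u _ => h2 u, ← Finset.sum_filter, Finset.sum_const, ← Nat.cast_smul_eq_nsmul k,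
        smul_smul, smul_smul]
      congr 1
      rw [Nat.card_eq_fintype_card (α := Z), Fintype.card_subtype]
      field_simp
    rw [← Finset.sum_fiberwise Finset.univ (fun x : Q => (QuotientGroup.mk x : M))] at hall
    have h3 : ∀ c : M, ∑ x ∈ (Finset.univ.filter fun x : Q => (QuotientGroup.mk x : M) = c), ρ x * avg (ρ x⁻¹ * f) =
        (Nat.card Z : k) • (ρ c.out * (comp c f : Module.End k W)) := by
      intro c
      rw [Finset.sum_congr rfl fun x hx => show ρ x * avg (ρ x⁻¹ * f) = ρ c.out * avg (ρ c.out⁻¹ * f) by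
        rw [← hterm x f, (Finset.mem_filter.mp hx).2], Finset.sum_const, hfib, ← Nat.cast_smul_eq_nsmul k]
      rfl
    rw [Finset.sum_congr rfl fun c _ => h3 c, ← Finset.smul_sum] at hall
    exact (smul_right_injective _ hZk hall).symm
  -- uniqueness of components
  have hdelta : ∀ (c d : M) (b : B), comp c (ρ d.out * (b : Module.End k W)) = if c = d then b else 0 := by
    intro c d b
    apply Subtype.ext
    rw [hcomp, ← mul_assoc, ← map_mul]
    set y := c.out⁻¹ * d.out with hy
    have hcjy : ∀ u, cj u (ρ y * (b : Module.End k W)) = pairing S u y • (ρ y * (b : Module.End k W)) := by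
      intro u
      rw [← smul_mul_assoc, ← conj_rho S u y, hcj]
      conv_rhs => rw [← b.2 u, hcj]
      simp only [mul_assoc]
      rw [← mul_assoc (ρ u⁻¹) (ρ u), rho_cancel', one_mul]
    rw [havg, Finset.sum_congr rfl fun u _ => hcjy u, ← Finset.sum_smul]
    split_ifs with hcd
    · subst hcd
      rw [hy, inv_mul_cancel, map_one, one_mul,
        Finset.sum_congr rfl fun u _ => pairing_one_right S u, Finset.sum_const, Finset.card_univ,
        ← Nat.card_eq_fintype_card, nsmul_one, smul_smul, inv_mul_cancel₀ hQk, one_smul]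
    · have hyZ : y ∉ Z := fun h => hcd (by
        rw [← QuotientGroup.out_eq' c, ← QuotientGroup.out_eq' d]; exact QuotientGroup.eq.mpr h)
      rw [sum_pairing_left S hyZ, zero_smul, smul_zero, Submodule.coe_zero]
  let Φ : Module.End k W ≃ₗ[k] (M → B) :=
    { toFun := fun f c => comp c f
      map_add' := fun f g => funext fun c => map_add _ _ _
      map_smul' := fun a f => funext fun c => map_smul _ _ _
      invFun := fun g => ∑ c, ρ c.out * (g c : Module.End k W)
      left_inv := fun f => (hrecon f).symm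
      right_inv := fun g => funext fun c => by
        show comp c (∑ d, ρ d.out * (g d : Module.End k W)) = g c
        rw [map_sum, Finset.sum_eq_single c (fun d _ hd => by rw [hdelta, if_neg (Ne.symm hd)])
          (fun h => absurd (Finset.mem_univ c) h), hdelta, if_pos rfl] }
  set b := Module.finrank k B with hb
  set d := Module.finrank k W with hd
  have hdim : d * d = Nat.card M * b := by
    rw [← Module.finrank_linearMap k k W W, show Module.finrank k (W →ₗ[k] W) = Module.finrank k (M → B) from
      Φ.finrank_eq, Module.finrank_pi_fintype, Finset.sum_const, Finset.card_univ, smul_eq_mul,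
      Nat.card_eq_fintype_card]
  have hUinv : U * U ^ (p - 1) = 1 := by rw [← pow_succ', Nat.sub_add_cancel hp.out.pos, hUp]
  have hUinv' : U ^ (p - 1) * U = 1 := by rw [← pow_succ, Nat.sub_add_cancel hp.out.pos, hUp]
  -- the permutation induced on cosets
  have hσZ : ∀ z ∈ Z, σ z ∈ Z := fun z hz => Subgroup.mem_center_iff.mpr fun g => by
    have h := congrArg σ (Subgroup.mem_center_iff.mp hz (σ.symm g))
    rwa [map_mul, map_mul, MulEquiv.apply_symm_apply] at h
  have hσZ' : Z.map σ.toMonoidHom = Z := by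
    refine Subgroup.eq_of_le_of_card_ge ?_ ?_
    · rintro _ ⟨z, hz, rfl⟩; exact hσZ z hz
    · rw [Subgroup.card_map_of_injective σ.injective]
  let π : Equiv.Perm M := (QuotientGroup.congr Z Z σ hσZ').toEquiv
  have hπ : ∀ x : Q, π (QuotientGroup.mk x) = QuotientGroup.mk (σ x) := fun x => rfl
  have hπk : ∀ (i : ℕ) (x : Q), (π ^ i) (QuotientGroup.mk x) = QuotientGroup.mk ((σ ^ i) x) := by
    intro i
    induction i with
    | zero => intro x; rfl
    | succ i ih => intro x; rw [pow_succ', pow_succ', Equiv.Perm.mul_apply, ih, hπ]; rfl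
  have hπp : π ^ p = 1 := Equiv.ext fun c => by
    rw [← QuotientGroup.out_eq' c, hπk, hσp]; rfl
  have hπfix : ∀ c, π c = c → c = (QuotientGroup.mk (1 : Q) : M) := by
    intro c hc
    rw [← QuotientGroup.out_eq' c] at hc ⊢
    rw [hπ] at hc
    refine QuotientGroup.eq.mpr ?_
    rw [mul_one]
    exact Z.inv_mem (hσfix _ (QuotientGroup.eq.mp hc.symm))
  obtain ⟨x₁, hx₁⟩ : ∃ x, x ∉ Z := by
    by_contra hcon
    push Not at hcon
    exact hna (eq_top_iff.mpr fun x _ => hcon x)
  have hπ1 : π ≠ 1 := fun h => hx₁ (by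
    have := hπfix (QuotientGroup.mk x₁) (by rw [h]; rfl)
    have h2 := QuotientGroup.eq.mp this
    rwa [mul_one, inv_mem_iff] at h2)
  have hPcard : Nat.card (Subgroup.zpowers π) = p := by rw [Nat.card_zpowers, orderOf_eq_prime hπp hπ1]
  let P := Subgroup.zpowers π
  haveI := Fintype.ofFinite P
  let O := Quotient (MulAction.orbitRel P M)
  haveI : Fintype O := Fintype.ofFinite _
  have horb : p * Nat.card O = Nat.card M + (p - 1) := by
    haveI : ∀ a : P, Fintype ↑(MulAction.fixedBy M a) := fun a => Fintype.ofFinite _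
    have h := MulAction.sum_card_fixedBy_eq_card_orbits_mul_card_group P M
    rw [← Nat.card_eq_fintype_card, ← Nat.card_eq_fintype_card, hPcard] at h
    rw [mul_comm, ← h, ← Finset.add_sum_erase _ _ (Finset.mem_univ (1 : P))]
    congr 1
    · rw [← Nat.card_eq_fintype_card]
      refine Nat.card_congr (Equiv.subtypeUnivEquiv (p := fun c => c ∈ MulAction.fixedBy M (1 : P)) fun c => ?_)
      exact one_smul P c
    · have hone : ∀ a ∈ Finset.univ.erase (1 : P), Fintype.card ↑(MulAction.fixedBy M a) = 1 := by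
        intro a ha
        have ha1 : a ≠ 1 := (Finset.mem_erase.mp ha).1
        rw [Fintype.card_eq_one_iff]
        obtain ⟨i, hi⟩ := Subgroup.mem_zpowers_iff.mp a.2
        have hgen : π ∈ Subgroup.zpowers (a : Equiv.Perm M) := by
          have h1 : Subgroup.zpowers (a : Equiv.Perm M) = P := by
            refine Subgroup.eq_of_le_of_card_ge (Subgroup.zpowers_le.mpr a.2) ?_
            have haord : orderOf (a : Equiv.Perm M) = p := orderOf_eq_prime (by
              rw [← hi, ← zpow_natCast, ← zpow_mul, mul_comm, zpow_mul, zpow_natCast, hπp, one_zpow])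
              (fun h => ha1 (Subtype.ext h))
            rw [hPcard, Nat.card_zpowers, haord]
          rw [h1]; exact Subgroup.mem_zpowers π
        refine ⟨⟨QuotientGroup.mk 1, ?_⟩, fun c => Subtype.ext ?_⟩
        · show (a : Equiv.Perm M) _ = _
          have hfix1 : π (QuotientGroup.mk 1) = QuotientGroup.mk 1 := by rw [hπ, map_one]
          rw [← hi]
          exact Equiv.Perm.zpow_apply_eq_self_of_apply_eq_self hfix1 i
        · obtain ⟨j, hj⟩ := Subgroup.mem_zpowers_iff.mp hgen
          refine hπfix _ ?_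
          rw [← hj]
          exact Equiv.Perm.zpow_apply_eq_self_of_apply_eq_self c.2 j
      rw [Finset.sum_congr rfl hone, Finset.sum_const, Finset.card_erase_of_mem (Finset.mem_univ _),
        Finset.card_univ, smul_eq_mul, mul_one, ← Nat.card_eq_fintype_card, hPcard]
  let CU := commSub U
  have hprop : ∀ f ∈ CU, ∀ c : M, comp c f = 0 → comp (π c) f = 0 := by
    intro f hf c hc
    apply Subtype.ext
    have h0 : ρ c.out * avg (ρ c.out⁻¹ * f) = 0 := by
      rw [← hcomp, hc, Submodule.coe_zero, mul_zero]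
    have hUavg : ∀ g : Module.End k W, avg (U * g * U ^ (p - 1)) = U * avg g * U ^ (p - 1) := by
      intro g
      rw [havg, havg, mul_smul_comm, smul_mul_assoc, Finset.mul_sum, Finset.sum_mul]
      congr 1
      refine (Fintype.sum_equiv σ.toEquiv _ _ fun u => ?_).symm
      show U * cj u g * U ^ (p - 1) = cj (σ u) (U * g * U ^ (p - 1))
      rw [hcj, hcj, ← map_inv σ]
      calc U * (ρ u * g * ρ u⁻¹) * U ^ (p - 1)
          = (U * ρ u) * g * (ρ u⁻¹ * U ^ (p - 1)) := by simp only [mul_assoc]
        _ = (ρ (σ u) * U) * g * (U ^ (p - 1) * ρ (σ u⁻¹)) := by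
          rw [hU]
          congr 1
          calc ρ u⁻¹ * U ^ (p - 1) = (U ^ (p - 1) * U) * ρ u⁻¹ * U ^ (p - 1) := by rw [hUinv', one_mul]
            _ = U ^ (p - 1) * (ρ (σ u⁻¹) * U) * U ^ (p - 1) := by rw [mul_assoc (U ^ (p - 1)) U, hU]
            _ = U ^ (p - 1) * ρ (σ u⁻¹) := by simp only [mul_assoc]; rw [hUinv, mul_one]
        _ = _ := by simp only [mul_assoc]
    have h1 : ρ (σ c.out) * avg (ρ (σ c.out)⁻¹ * f) = 0 := by
      have e : ρ (σ c.out)⁻¹ * f = U * (ρ c.out⁻¹ * f) * U ^ (p - 1) := by
        rw [← map_inv σ]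
        calc ρ (σ c.out⁻¹) * f = ρ (σ c.out⁻¹) * f * (U * U ^ (p - 1)) := by rw [hUinv, mul_one]
          _ = ρ (σ c.out⁻¹) * (f * U) * U ^ (p - 1) := by simp only [mul_assoc]
          _ = (ρ (σ c.out⁻¹) * U) * f * U ^ (p - 1) := by rw [← (hf : U * f = f * U)]; simp only [mul_assoc]
          _ = _ := by rw [← hU]; simp only [mul_assoc]
      rw [e, hUavg]
      calc ρ (σ c.out) * (U * avg (ρ c.out⁻¹ * f) * U ^ (p - 1))
          = (ρ (σ c.out) * U) * avg (ρ c.out⁻¹ * f) * U ^ (p - 1) := by simp only [mul_assoc]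
        _ = U * (ρ c.out * avg (ρ c.out⁻¹ * f)) * U ^ (p - 1) := by rw [← hU]; simp only [mul_assoc]
        _ = 0 := by rw [h0, mul_zero, zero_mul]
    have h2 : π c = QuotientGroup.mk (σ c.out) := by rw [← hπ, QuotientGroup.out_eq']
    rw [← hterm (σ c.out) f, ← h2] at h1
    rw [hcomp, Submodule.coe_zero, ← one_mul (avg _), ← rho_cancel' ρ (π c).out, mul_assoc, h1, mul_zero]
  let Ψ : CU →ₗ[k] (O → B) :=
    { toFun := fun f o => comp o.out f
      map_add' := fun f g => funext fun o => map_add (comp o.out) (f : Module.End k W) g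
      map_smul' := fun a f => funext fun o => map_smul (comp o.out) a (f : Module.End k W) }
  have hΨ : Function.Injective Ψ := by
    rw [← LinearMap.ker_eq_bot, Submodule.eq_bot_iff]
    intro f hf
    apply Subtype.ext
    rw [hrecon (f : Module.End k W), Submodule.coe_zero]
    refine Finset.sum_eq_zero fun c _ => ?_
    have hrel : c ∈ MulAction.orbit P (Quotient.mk (MulAction.orbitRel P M) c).out := by
      rw [← MulAction.orbitRel_apply]
      exact (MulAction.orbitRel P M).symm (Quotient.mk_out c)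
    obtain ⟨a, ha⟩ := hrel
    obtain ⟨i, hi⟩ := (Submonoid.mem_powers_iff _ _).mp (mem_powers_iff_mem_zpowers.mpr a.2)
    have hall : ∀ i : ℕ, comp ((π ^ i) (Quotient.mk (MulAction.orbitRel P M) c).out) f = 0 := by
      intro i
      induction i with
      | zero => exact congrFun hf _
      | succ i ih => rw [pow_succ', Equiv.Perm.mul_apply]; exact hprop _ f.2 _ ih
    have h := hall i
    rw [hi] at h
    change comp (a • _) f = 0 at h
    rw [show a • (Quotient.mk (MulAction.orbitRel P M) c).out = c from ha] at h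
    rw [h, Submodule.coe_zero, mul_zero]
  have hup : Module.finrank k CU ≤ Nat.card O * b := by
    refine le_of_le_of_eq (LinearMap.finrank_le_finrank_of_injective hΨ) ?_
    rw [Module.finrank_pi_fintype, Finset.sum_const, Finset.card_univ, smul_eq_mul, Nat.card_eq_fintype_card]
  obtain ⟨i, hi⟩ := exists_sq_index_center S
  have hMi : Nat.card M = i * i := by rw [← hi]; exact (Subgroup.index_eq_card _).symm
  have hi1 : 1 < i := by
    by_contra h
    have : i ≤ 1 := by omega
    have h1 : Z.index ≤ 1 := by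
      rw [hi]; exact (Nat.mul_le_mul this this).trans (le_of_eq (one_mul 1))
    have h2 : Z.index ≠ 0 := Subgroup.index_ne_zero_of_finite
    have h3 : Z.index = 1 := by omega
    exact hna (Subgroup.index_eq_one.mp h3)
  have hiodd : Odd i := by
    have hd : i * i ∣ Nat.card Q := hi ▸ Subgroup.index_dvd_card _
    exact hQodd.of_dvd_nat ((dvd_mul_right i i).trans hd)
  exact ⟨i, b, Nat.card O, hi, hi1, hiodd, hMi ▸ horb, hMi ▸ hdim, hup⟩

omit [Nontrivial W] in
/-- The eigenspaces of `U` bound its centralizer from below. -/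
theorem eigen_blocks_le {p : ℕ} {ζ : k} (hζ : IsPrimitiveRoot ζ p) (hpk : (p : k) ≠ 0)
    (U : Module.End k W) (hUp : U ^ p = 1) :
    Module.finrank k W ≤ ∑ i : Fin p, Module.finrank k (eigen ζ U i) ∧
      ∑ i : Fin p, Module.finrank k (eigen ζ U i) * Module.finrank k (eigen ζ U i) ≤
        Module.finrank k (commSub U) := by
  classical
  set d := Module.finrank k W with hd
  let m : Fin p → ℕ := fun i => Module.finrank k (eigen ζ U i)
  let CU := commSub U
  have hpr : ∀ (i : Fin p) w, proj p ζ U i w ∈ eigen ζ U i := fun i w =>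
    mem_eigen.mpr (apply_proj hζ hpk hUp i w)
  let split : W →ₗ[k] ((i : Fin p) → eigen ζ U i) :=
    LinearMap.pi fun i => LinearMap.codRestrict _ (proj p ζ U i) (hpr i)
  have hd1 : d ≤ ∑ i, m i := by
    refine le_of_le_of_eq (LinearMap.finrank_le_finrank_of_injective (f := split) ?_) (Module.finrank_pi_fintype k)
    rw [← LinearMap.ker_eq_bot, Submodule.eq_bot_iff]
    intro w hw
    rw [eq_sum_proj (T := U) hζ hpk w, ← Fin.sum_univ_eq_sum_range (fun i => proj p ζ U i w) p]
    exact Finset.sum_eq_zero fun i _ => congrArg Subtype.val (congrFun hw i)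
  let blk : ((i : Fin p) → Module.End k (eigen ζ U i)) →ₗ[k] CU :=
    { toFun := fun g => ⟨∑ i : Fin p, (eigen ζ U i).subtype ∘ₗ (g i) ∘ₗ LinearMap.codRestrict _ (proj p ζ U i) (hpr i), by
        refine LinearMap.ext fun w => ?_
        rw [Module.End.mul_apply, Module.End.mul_apply, LinearMap.sum_apply, LinearMap.sum_apply, map_sum]
        refine Finset.sum_congr rfl fun i _ => ?_
        show U ((g i ⟨proj p ζ U i w, hpr i w⟩ : eigen ζ U i) : W) = ((g i ⟨proj p ζ U i (U w), hpr i _⟩ : eigen ζ U i) : W)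
        have h1 : (⟨proj p ζ U i (U w), hpr i _⟩ : eigen ζ U i) = ζ ^ (i : ℕ) • ⟨proj p ζ U i w, hpr i w⟩ :=
          Subtype.ext (by
            show proj p ζ U i (U w) = ζ ^ (i : ℕ) • proj p ζ U i w
            rw [← apply_proj hζ hpk hUp]
            exact (LinearMap.congr_fun (proj_commute (Commute.refl U) (i : ℕ)).eq w).symm)
        rw [h1, map_smul]
        exact mem_eigen.mp (g i ⟨proj p ζ U i w, hpr i w⟩).2⟩
      map_add' := fun g g' => Subtype.ext (LinearMap.ext fun w => by simp [Finset.sum_add_distrib])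
      map_smul' := fun a g => Subtype.ext (LinearMap.ext fun w => by simp [Finset.smul_sum]) }
  have hd2 : ∑ i, m i * m i ≤ Module.finrank k CU := by
    refine le_of_eq_of_le ?_ (LinearMap.finrank_le_finrank_of_injective (f := blk) ?_)
    · rw [Module.finrank_pi_fintype]
      exact Finset.sum_congr rfl fun i _ => (Module.finrank_linearMap k k _ _).symm
    rw [← LinearMap.ker_eq_bot, Submodule.eq_bot_iff]
    intro g hg
    refine funext fun i => LinearMap.ext fun v => Subtype.ext ?_
    have h := LinearMap.congr_fun (congrArg Subtype.val hg) (v : W)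
    change (∑ j : Fin p, _ : Module.End k W) (v : W) = 0 at h
    rw [LinearMap.sum_apply, Finset.sum_eq_single i] at h
    · have e : (LinearMap.codRestrict _ (proj p ζ U i) (hpr i)) (v : W) = v :=
        Subtype.ext (proj_apply_of_eigen hζ hpk (mem_eigen.mp v.2))
      simpa [e] using h
    · intro j _ hji
      have e : proj p ζ U j (v : W) = 0 := by
        have h1 : U (proj p ζ U j (v : W)) = ζ ^ (i : ℕ) • proj p ζ U j (v : W) := by
          rw [← map_smul, ← mem_eigen.mp v.2]
          exact LinearMap.congr_fun (proj_commute (Commute.refl U) (j : ℕ)).eq (v : W)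
        rw [apply_proj hζ hpk hUp, ← sub_eq_zero, ← sub_smul] at h1
        refine (smul_eq_zero.mp h1).resolve_left fun h2 => hji (Fin.ext ?_)
        exact hζ.pow_inj j.2 i.2 (sub_eq_zero.mp h2)
      have e' : (LinearMap.codRestrict _ (proj p ζ U j) (hpr j)) (v : W) = 0 := Subtype.ext e
      simp [e']
    · exact fun h => absurd (Finset.mem_univ i) h
  exact ⟨hd1, hd2⟩

end CfsgLib.OddOrder41.SymplecticCount
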