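import Cfsg.Agent.Lib.OddOrder41.Metacyclic

set_option autoImplicit false

/-! Consequences for a coprime operator group on a metacyclic `p`-subgroup (BG 4.10). -/

namespace CfsgLib.OddOrder41

open scoped commutatorElement

variable {K : Type*} [Group K] [Finite K]

/-- Exponent-`p` subgroups of a metacyclic group have order at most `p ^ 2`. -/
theorem metacyclic_exponent_card_le {p : ℕ} [hp : Fact p.Prime] (hm : Cfsg.IsMetacyclic K) (E : Subgroup K)
    (hE : ∀ x ∈ E, x ^ p = 1) : Nat.card E ≤ p ^ 2 := by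
  obtain ⟨N, hN, hNc, hQc⟩ := hm
  haveI := hN
  let f : E →* K ⧸ N := (QuotientGroup.mk' N).comp E.subtype
  have hle : ∀ {C : Type _} [Group C] [Finite C] [IsCyclic C], (∀ c : C, c ^ p = 1) → Nat.card C ≤ p := by
    intro C _ _ _ h
    rw [← IsCyclic.exponent_eq_card]
    exact Nat.le_of_dvd hp.out.pos (Monoid.exponent_dvd_of_forall_pow_eq_one h)
  have h1 : Nat.card f.range ≤ p := by
    refine hle fun c => ?_
    obtain ⟨⟨x, hx⟩, hxc⟩ := c.2
    apply Subtype.ext
    rw [SubgroupClass.coe_pow, ← hxc, ← map_pow]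
    simp [Subtype.ext_iff, hE x hx, f]
  have h2 : Nat.card f.ker ≤ p := by
    haveI : IsCyclic f.ker := by
      refine isCyclic_of_injective (f := ({
        toFun := fun x => ⟨((x : E) : K), (QuotientGroup.eq_one_iff _).mp x.2⟩
        map_one' := rfl
        map_mul' := fun _ _ => rfl } : f.ker →* N)) ?_
      intro a b hab
      exact Subtype.ext (Subtype.ext (congrArg (fun z : N => (z : K)) hab))
    exact hle fun c => Subtype.ext (Subtype.ext (by simpa using hE _ (c : E).2))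
  rw [← Subgroup.card_mul_index f.ker, Subgroup.index_ker, pow_two]
  exact Nat.mul_le_mul h2 h1

/-- In a metacyclic `p`-group, `p` odd, the elements of order `p` lie in an abelian subgroup of order `≤ p ^ 2`. -/
theorem metacyclic_omega {p : ℕ} [hp : Fact p.Prime] (hp2 : p ≠ 2) (hK : IsPGroup p K)
    (hm : Cfsg.IsMetacyclic K) :
    ∃ E : Subgroup K, Cfsg.IsElementaryAbelian p E ∧ Nat.card E ≤ p ^ 2 ∧ ∀ x : K, x ^ p = 1 → x ∈ E := by
  haveI : Group.IsNilpotent K := hK.isNilpotent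
  obtain ⟨E, ⟨hEn, hEe⟩, hmax⟩ := Set.Finite.exists_maximal
    (s := {E : Subgroup K | E.Normal ∧ Cfsg.IsElementaryAbelian p E}) (Set.toFinite _)
    ⟨⊥, inferInstance, ⟨⟨fun a b => Subsingleton.elim _ _⟩⟩, fun a ha => by rw [Subgroup.mem_bot.mp ha, one_pow]⟩
  have hEcard := metacyclic_exponent_card_le hm E hEe.2
  refine ⟨E, hEe, hEcard, fun x hx => ?_⟩
  by_contra hxE
  haveI := hEn
  have hxC : x ∉ Subgroup.centralizer (E : Set K) := fun hxC => by
    obtain ⟨F, hFn, hFe, hlt⟩ := exists_normal_elementary_gt hp2 hK E hEe x hxC hx hxE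
    exact hlt.not_ge (hmax ⟨hFn, hFe⟩ hlt.le)
  obtain ⟨i, hi⟩ := IsPGroup.iff_card.mp (hK.to_subgroup E)
  have hi2 : i = 2 := by
    have hle : i ≤ 2 := (Nat.pow_le_pow_iff_right hp.out.one_lt).mp (hi ▸ hEcard)
    by_contra hne
    apply hxC
    rw [Subgroup.mem_centralizer_iff]
    intro e he
    suffices e ∈ Subgroup.center K from (Subgroup.mem_center_iff.mp this x).symm
    by_cases hbot : E = ⊥
    · rw [hbot, SetLike.mem_coe, Subgroup.mem_bot] at he
      rw [he]; exact one_mem _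
    obtain ⟨y, hy, hy1, hyc⟩ := exists_central_step E ⊥ (fun h => hbot (le_bot_iff.mp h))
    have hyZ : y ∈ Subgroup.center K := Subgroup.mem_center_iff.mpr fun g =>
      (commutatorElement_eq_one_iff_commute.mp (Subgroup.mem_bot.mp (hyc g))).symm.eq
    have hy' : y ≠ 1 := fun h => hy1 (h ▸ one_mem _)
    have : Subgroup.zpowers y = E := Subgroup.eq_of_le_of_card_ge (Subgroup.zpowers_le.mpr hy) (by
      rw [Nat.card_zpowers, orderOf_eq_prime (hEe.2 y hy) hy', hi]
      calc p ^ i ≤ p ^ 1 := Nat.pow_le_pow_right hp.out.pos (by omega)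
        _ = p := pow_one p)
    exact (Subgroup.zpowers_le.mpr hyZ : Subgroup.zpowers y ≤ _) (this ▸ he)
  rw [hi2] at hi
  set Z := Subgroup.center K with hZ
  -- `E` lies in the second centre
  have hE2 : ∀ e ∈ E, ∀ g : K, ⁅g, e⁆ ∈ Z := by
    intro e he g
    have hq : E ≤ (Subgroup.center (K ⧸ Z)).comap (QuotientGroup.mk' Z) := by
      by_cases hEZ : E ≤ Z
      · intro u hu
        have : QuotientGroup.mk' Z u = 1 := (QuotientGroup.eq_one_iff u).mpr (hEZ hu)
        rw [Subgroup.mem_comap, this]; exact one_mem _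
      obtain ⟨y, hy, hy1, hyc⟩ := exists_central_step E ⊥ (fun h => hEZ (h.trans bot_le))
      obtain ⟨v, hv, hvZ, hvc⟩ := exists_central_step E Z hEZ
      have hgenE : E ⊓ Z ⊔ Subgroup.zpowers v = E := by
        refine Subgroup.eq_of_le_of_card_ge (sup_le inf_le_left (Subgroup.zpowers_le.mpr hv)) ?_
        obtain ⟨m, hm'⟩ := IsPGroup.iff_card.mp (hK.to_subgroup (E ⊓ Z ⊔ Subgroup.zpowers v))
        have hlt : Nat.card ↥(E ⊓ Z) < Nat.card ↥(E ⊓ Z ⊔ Subgroup.zpowers v) :=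
          lt_of_le_of_ne (Subgroup.card_le_of_le le_sup_left) fun h => hvZ
            (((Subgroup.eq_of_le_of_card_ge le_sup_left h.ge).symm ▸
              (le_sup_right (a := E ⊓ Z) (Subgroup.mem_zpowers v)) : v ∈ E ⊓ Z)).2
        have hge : p ≤ Nat.card ↥(E ⊓ Z) := by
          have hy' : y ∈ E ⊓ Z := ⟨hy, Subgroup.mem_center_iff.mpr fun g =>
            (commutatorElement_eq_one_iff_commute.mp (Subgroup.mem_bot.mp (hyc g))).symm.eq⟩
          have h := Subgroup.card_le_of_le (Subgroup.zpowers_le.mpr hy')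
          rwa [Nat.card_zpowers, orderOf_eq_prime (hEe.2 y hy) (fun h => hy1 (h ▸ one_mem _))] at h
        rw [hi, hm']
        rw [hm'] at hlt
        refine Nat.pow_le_pow_right hp.out.pos ?_
        by_contra h3
        have h4 : p ^ m ≤ p ^ 1 := Nat.pow_le_pow_right hp.out.pos (by omega)
        rw [pow_one] at h4
        omega
      rw [← hgenE]
      refine sup_le ?_ (Subgroup.zpowers_le.mpr ?_)
      · intro u hu
        have : QuotientGroup.mk' Z u = 1 := (QuotientGroup.eq_one_iff u).mpr hu.2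
        rw [Subgroup.mem_comap, this]; exact one_mem _
      · rw [Subgroup.mem_comap, Subgroup.mem_center_iff]
        intro g
        obtain ⟨g, rfl⟩ := QuotientGroup.mk'_surjective _ g
        have : QuotientGroup.mk' Z ⁅v, g⁆ = 1 := (QuotientGroup.eq_one_iff _).mpr (hvc g)
        rw [map_commutatorElement, commutatorElement_eq_one_iff_commute] at this
        exact this.symm.eq
    refine (QuotientGroup.eq_one_iff _).mp ?_
    show QuotientGroup.mk' Z ⁅g, e⁆ = 1
    rw [map_commutatorElement, commutatorElement_eq_one_iff_commute]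
    exact (Subgroup.mem_center_iff.mp (hq he) _)
  set F := E ⊔ Subgroup.zpowers x with hF
  have hFexp : ∀ f ∈ F, f ^ p = 1 := by
    intro f hf
    rw [← SetLike.mem_coe, Subgroup.normal_mul E (Subgroup.zpowers x)] at hf
    obtain ⟨e, he, z, hz, rfl⟩ := hf
    have hzp : z ^ p = 1 := by
      obtain ⟨k, rfl⟩ := Subgroup.mem_zpowers_iff.mp hz
      rw [← zpow_natCast, ← zpow_mul, mul_comm, zpow_mul, zpow_natCast, hx, one_zpow]
    have hc : ⁅z, e⁆ ∈ Z := hE2 e he z
    exact CfsgLib.PGroup.mul_pow_eq_one_of_central (hp.out.odd_of_ne_two hp2) hc (hEe.2 e he) hzp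
  have hFcard := metacyclic_exponent_card_le hm F hFexp
  have hlt : Nat.card E < Nat.card F := by
    refine lt_of_le_of_ne (Subgroup.card_le_of_le le_sup_left) fun h => hxE ?_
    exact (Subgroup.eq_of_le_of_card_ge le_sup_left h.ge).symm ▸ (le_sup_right (a := E) (Subgroup.mem_zpowers x))
  omega

end CfsgLib.OddOrder41

namespace CfsgLib.OddOrder41

open scoped commutatorElement

variable {G : Type*} [Group G] [Finite G]

/-- BG 4.10. -/
theorem metacyclic_coprime_action (p : ℕ) [hp : Fact p.Prime] (hp2 : p ≠ 2) (R A : Subgroup G)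
    (hR : IsPGroup p R) (hRm : Cfsg.IsMetacyclic R)
    (hA : A ≤ Subgroup.normalizer (R : Set G)) (hcop : (Nat.card A).Coprime p) :
    IsMulCommutative ↥⁅R, A⁆ ∧ ⁅R, A⁆ ⊔ (R ⊓ Subgroup.centralizer (A : Set G)) = R ∧
      ⁅R, A⁆ ⊓ (R ⊓ Subgroup.centralizer (A : Set G)) = ⊥ ∧
      (¬ IsMulCommutative R → ¬ A ≤ Subgroup.centralizer (R : Set G) →
        ⁅R, A⁆ ≠ ⊥ ∧ IsCyclic ↥⁅R, A⁆ ∧ (R ⊓ Subgroup.centralizer (A : Set G)) ≠ ⊥ ∧
          IsCyclic ↥(R ⊓ Subgroup.centralizer (A : Set G)) ∧ ⁅R, R⁆ ≤ ⁅R, A⁆) := by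
  have hcop' : (Nat.card A).Coprime (Nat.card R) := by
    obtain ⟨n, hn⟩ := hR.exists_card_eq
    rw [hn]; exact Nat.Coprime.pow_right _ hcop
  haveI : Group.IsNilpotent R := hR.isNilpotent
  have hsolv : Group.IsSolvable A ∨ Group.IsSolvable R := Or.inr inferInstance
  set K := ⁅R, A⁆ with hKdef
  set C := R ⊓ Subgroup.centralizer (A : Set G) with hCdef
  have hKR : K ≤ R := CfsgLib.Coprime.commutator_le_of_normalizes hA
  have hKA : A ≤ Subgroup.normalizer (K : Set G) := CfsgLib.Coprime.le_normalizer_commutator_right R A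
  have hKK : ⁅K, A⁆ = K := CfsgLib.Coprime.commutator_commutator_eq A R hA hcop' hsolv
  have hjoin : K ⊔ C = R := CfsgLib.Coprime.commutator_sup_centralizer A R hA hcop' hsolv
  have hKp : IsPGroup p K := hR.to_le hKR
  have hKab : IsMulCommutative K := by
    refine metacyclic_moved_abelian hp2 hKp
      (isMetacyclic_of_injective (Subgroup.inclusion hKR) (Subgroup.inclusion_injective hKR) hRm)
      hcop (conjHom K A hKA) ?_
    set S : Subgroup K := Subgroup.closure {g : K | ∃ (a : A) (x : K), g = x⁻¹ * conjHom K A hKA a x}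
    have hle : ⁅K, A⁆ ≤ S.map K.subtype := by
      rw [Subgroup.commutator_le]
      intro k hk a ha
      refine ⟨(⟨k, hk⟩ : K)⁻¹⁻¹ * conjHom K A hKA ⟨a, ha⟩ (⟨k, hk⟩ : K)⁻¹,
        Subgroup.subset_closure ⟨⟨a, ha⟩, (⟨k, hk⟩ : K)⁻¹, rfl⟩, ?_⟩
      simp [commutatorElement_def, mul_assoc]
    rw [eq_top_iff]
    intro g _
    obtain ⟨g', hg', hgg⟩ := hle (show (g : G) ∈ ⁅K, A⁆ by rw [hKK]; exact g.2)
    exact (Subtype.ext hgg : g' = g) ▸ hg'
  have hmeet : K ⊓ C = ⊥ := by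
    haveI := hKab
    have hcK : (Nat.card A).Coprime (Nat.card K) := hcop'.coprime_dvd_right (Subgroup.card_dvd_of_le hKR)
    have h0 := CfsgLib.Coprime.commutator_inf_centralizer_eq_bot A K hKA hcK
    rw [hKK] at h0
    rw [eq_bot_iff, ← h0]
    exact inf_le_inf le_rfl inf_le_right
  refine ⟨hKab, hjoin, hmeet, fun hna hnc => ?_⟩
  have hK1 : K ≠ ⊥ := fun h => hnc (by
    rw [Subgroup.le_centralizer_iff, ← Subgroup.commutator_eq_bot_iff_le_centralizer]; exact h)
  have hC1 : C ≠ ⊥ := fun h => hna (by rw [← hjoin, h, sup_bot_eq]; exact hKab)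
  obtain ⟨E, hE, hE2, hEall⟩ := metacyclic_omega hp2 hR hRm
  set E' := E.map R.subtype with hE'
  have hE'2 : Nat.card E' ≤ p ^ 2 := by rwa [hE', Subgroup.card_map_of_injective R.subtype_injective]
  have hE'all : ∀ x ∈ R, x ^ p = 1 → x ∈ E' := fun x hx hxp =>
    ⟨⟨x, hx⟩, hEall _ (Subtype.ext (by simpa using hxp)), rfl⟩
  have hcyc : ∀ L M : Subgroup G, L ≤ R → M ≤ R → L ⊓ M = ⊥ → M ≠ ⊥ → IsCyclic L := by
    intro L M hL hM hLM hM1
    refine CfsgLib.Isolated.isCyclic_of_small_abelian hp2 (hR.to_le hL) ?_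
    intro B hBa hBp
    obtain ⟨b, hb⟩ : ∃ b : M, orderOf b = p := by
      haveI : Nontrivial M := (Subgroup.nontrivial_iff_ne_bot M).mpr hM1
      obtain ⟨n, hn0, hn⟩ := ((hR.to_le hM).nontrivial_iff_card).mp inferInstance
      exact exists_prime_orderOf_dvd_card' p (hn ▸ dvd_pow_self p hn0.ne')
    have hB'E : B.map L.subtype ≤ E' := by
      rintro _ ⟨z, hz, rfl⟩
      exact hE'all _ (hL z.2) (congrArg Subtype.val (hBp z hz))
    have hbE : (b : G) ∈ E' := hE'all _ (hM b.2) (by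
      rw [← hb, ← Subgroup.orderOf_coe]; exact pow_orderOf_eq_one _)
    have hlt : B.map L.subtype < E' := SetLike.lt_iff_le_and_exists.mpr ⟨hB'E, (b : G), hbE, fun hmem => by
      have : (b : G) ∈ L ⊓ M := ⟨Subgroup.map_subtype_le B hmem, b.2⟩
      rw [hLM, Subgroup.mem_bot] at this
      rw [← Subgroup.orderOf_coe, this, orderOf_one] at hb
      exact hp.out.ne_one hb.symm⟩
    have hc : Nat.card (B.map L.subtype) < Nat.card E' :=
      lt_of_le_of_ne (Subgroup.card_le_of_le hlt.le) fun h => hlt.ne (Subgroup.eq_of_le_of_card_ge hlt.le h.ge)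
    rw [Subgroup.card_map_of_injective L.subtype_injective] at hc
    obtain ⟨m, hm⟩ := IsPGroup.iff_card.mp ((hR.to_le hL).to_subgroup B)
    have hm2 : m < 2 := (Nat.pow_lt_pow_iff_right hp.out.one_lt).mp (hm ▸ lt_of_lt_of_le hc hE'2)
    rw [hm]
    exact (Nat.pow_le_pow_right hp.out.pos (Nat.le_of_lt_succ hm2)).trans_eq (pow_one p)
  have hCR : C ≤ R := inf_le_left
  have hCcyc : IsCyclic C := hcyc C K hCR hKR (by rw [inf_comm]; exact hmeet) hK1
  refine ⟨hK1, hcyc K C hKR hCR hmeet hC1, hC1, hCcyc, ?_⟩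
  have hRn : R ≤ Subgroup.normalizer (K : Set G) := CfsgLib.Coprime.le_normalizer_commutator_left R A
  rw [Subgroup.commutator_le]
  intro r hr s hs
  have hCn : C ≤ Subgroup.normalizer (K : Set G) := hCR.trans hRn
  obtain ⟨c₁, hc₁, k₁, hk₁, rfl⟩ := CfsgLib.Coprime.exists_mul_of_mem_sup hCn (show r ∈ C ⊔ K by rwa [sup_comm, hjoin])
  obtain ⟨c₂, hc₂, k₂, hk₂, rfl⟩ := CfsgLib.Coprime.exists_mul_of_mem_sup hCn (show s ∈ C ⊔ K by rwa [sup_comm, hjoin])
  have hn' : ∀ c ∈ C, ∀ k ∈ K, c * k * c⁻¹ ∈ K := fun c hc k hk => CfsgLib.Coprime.mem_normalizer_conj (hCn hc) hk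
  haveI := hCcyc
  letI : CommGroup C := IsCyclic.commGroup
  have hcomm : c₁ * c₂ = c₂ * c₁ := congrArg Subtype.val (mul_comm (⟨c₁, hc₁⟩ : C) ⟨c₂, hc₂⟩)
  have : ⁅c₁ * k₁, c₂ * k₂⁆ = (c₁ * k₁ * c₁⁻¹) * ((c₁ * c₂) * k₂ * (c₁ * c₂)⁻¹) *
      ((c₁ * c₂) * k₁⁻¹ * (c₁ * c₂)⁻¹) * (c₁ * c₂ * c₁⁻¹ * k₂⁻¹ * c₂⁻¹) := by
    rw [commutatorElement_def]; group
  rw [this]
  refine K.mul_mem (K.mul_mem (K.mul_mem (hn' _ hc₁ _ hk₁) (hn' _ (mul_mem hc₁ hc₂) _ hk₂))
    (hn' _ (mul_mem hc₁ hc₂) _ (inv_mem hk₁))) ?_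
  rw [hcomm, mul_inv_cancel_right]
  exact hn' _ hc₂ _ (inv_mem hk₂)

end CfsgLib.OddOrder41
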