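import Mathlib
import Cfsg.Agent.Lib.OddOrder41.FixOmega
import Cfsg.Agent.Lib.OddOrder41.FpfHallHigman
import Cfsg.Agent.Lib.Coprime.Commutator
import Cfsg.Agent.Lib.Coprime.Action

/-!
# The fixed points of order `p` of a prime order operator

If `⁅Q, R⁆ = Q` and every element of order `p` of `T` fixed by `R` is fixed by `Q`, then `Q` centralizes
`T` (a consequence of BG 3.4).
-/

set_option autoImplicit false

namespace CfsgLib.OddOrder41

open scoped commutatorElement

variable {X : Type*} [Group X]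

theorem le_normalizer_commutator_of_normalizes {R U V : Subgroup X}
    (hU : R ≤ Subgroup.normalizer (U : Set X)) (hV : R ≤ Subgroup.normalizer (V : Set X)) :
    R ≤ Subgroup.normalizer ((⁅U, V⁆ : Subgroup X) : Set X) := by
  have key : ∀ (W : Subgroup X), R ≤ Subgroup.normalizer (W : Set X) → ∀ g ∈ R,
      W.map (MulAut.conj g).toMonoidHom = W := by
    intro W hW g hg
    ext x
    constructor
    · rintro ⟨w, hw, rfl⟩
      exact (Subgroup.mem_normalizer_iff.mp (hW hg) w).mp hw
    · intro hx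
      exact ⟨g⁻¹ * x * g, (Subgroup.mem_normalizer_iff''.mp (hW hg) x).mp hx, by simp [mul_assoc]⟩
  refine Subgroup.le_normalizer_iff.2 fun g hg x hx => ?_
  have h := Subgroup.mem_map_of_mem (MulAut.conj g).toMonoidHom hx
  rw [Subgroup.map_commutator, key U hU g hg, key V hV g hg] at h
  exact h

variable [Finite X]

/-- If `⁅Q, R⁆ = Q` for an operator group `R` of prime order and `Q` fixes every element of order `p`
of the `p`-group `T` fixed by `R`, then `Q` centralizes `T`. -/
theorem le_centralizer_of_fixed_order_p {p q r : ℕ} [hp : Fact p.Prime] [hq : Fact q.Prime]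
    [hr : Fact r.Prime] (hp2 : p ≠ 2) (hq2 : q ≠ 2) (hr2 : r ≠ 2) (hrq : r ≠ q) (hrp : r ≠ p)
    (hqp : q ≠ p) (Q R : Subgroup X) (hQ : IsPGroup q Q) (hR : Nat.card R = r)
    (hRQ : R ≤ Subgroup.normalizer (Q : Set X)) (hQR : ⁅Q, R⁆ = Q) :
    ∀ T : Subgroup X, IsPGroup p T → Q ⊔ R ≤ Subgroup.normalizer (T : Set X) →
      (∀ x ∈ T, x ∈ Subgroup.centralizer (R : Set X) → x ^ p = 1 → x ∈ Subgroup.centralizer (Q : Set X)) →
      Q ≤ Subgroup.centralizer (T : Set X) := by
  suffices H : ∀ n, ∀ T : Subgroup X, Nat.card T = n → IsPGroup p T →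
      Q ⊔ R ≤ Subgroup.normalizer (T : Set X) →
      (∀ x ∈ T, x ∈ Subgroup.centralizer (R : Set X) → x ^ p = 1 → x ∈ Subgroup.centralizer (Q : Set X)) →
      Q ≤ Subgroup.centralizer (T : Set X) from fun T => H _ T rfl
  intro n
  induction n using Nat.strongRecOn with
  | _ n ih =>
  intro T hn hT hL hfix
  subst hn
  have hQN : Q ≤ Subgroup.normalizer (T : Set X) := le_sup_left.trans hL
  have hRN : R ≤ Subgroup.normalizer (T : Set X) := le_sup_right.trans hL
  have hcopQ : (Nat.card Q).Coprime p := by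
    obtain ⟨i, hi⟩ := hQ.exists_card_eq
    rw [hi]
    exact ((Nat.coprime_primes hq.out hp.out).mpr hqp).pow_left i
  have hcopT : ∀ U : Subgroup X, IsPGroup p U → (Nat.card Q).Coprime (Nat.card U) := by
    intro U hU
    obtain ⟨j, hj⟩ := hU.exists_card_eq
    rw [hj]
    exact hcopQ.pow_right j
  haveI : Group.IsNilpotent T := hT.isNilpotent
  haveI hsT : Group.IsSolvable T := inferInstance
  have sub : ∀ U : Subgroup X, U ≤ T → U ≠ T → Q ⊔ R ≤ Subgroup.normalizer (U : Set X) →
      Q ≤ Subgroup.centralizer (U : Set X) := by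
    intro U hUT hne hUn
    refine ih (Nat.card U) ?_ U rfl (hT.to_le hUT) hUn fun x hx => hfix x (hUT hx)
    exact lt_of_le_of_ne (Subgroup.card_le_of_le hUT)
      fun he => hne (Subgroup.eq_of_le_of_card_ge hUT he.ge)
  by_cases hT1 : T = ⊥
  · subst hT1
    intro x _
    exact Subgroup.mem_centralizer_iff.mpr fun m hm => by rw [Subgroup.mem_bot.mp hm, one_mul, mul_one]
  -- elements of order `p` generate
  set Ω := Subgroup.closure {x : X | x ∈ T ∧ x ^ p = 1} with hΩ
  have hΩT : Ω ≤ T := (Subgroup.closure_le _).mpr fun x hx => hx.1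
  by_cases hΩeq : Ω = T
  swap
  · have hΩn : Q ⊔ R ≤ Subgroup.normalizer (Ω : Set X) := by
      refine Subgroup.le_normalizer_iff.2 fun g hg => ?_
      refine closure_conj_invariant fun x hx => Subgroup.subset_closure
        ⟨(Subgroup.mem_normalizer_iff.mp (hL hg) x).mp hx.1, ?_⟩
      rw [conj_pow, hx.2, mul_one, mul_inv_cancel]
    have hc := sub Ω hΩT hΩeq hΩn
    refine le_centralizer_of_fixes_order_p p hp2 T ⊥ Q hT bot_le
      ⟨inferInstance, fun a ha => by rw [Subgroup.mem_bot.mp ha, one_pow]⟩ hQN hcopQ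
      fun x hx hox => fun a ha => ?_
    refine Subgroup.mem_centralizer_singleton_iff.mpr ?_
    exact (Subgroup.mem_centralizer_iff.mp (hc ha) x
      (Subgroup.subset_closure ⟨hx.1, hox ▸ pow_orderOf_eq_one x⟩)).symm
  -- `T = ⁅T, Q⁆`
  by_cases hTQ : ⁅T, Q⁆ = T
  swap
  · have hc := sub ⁅T, Q⁆ (Coprime.commutator_le_of_normalizes hQN) hTQ
      (sup_le (Coprime.le_normalizer_commutator_right T Q) (le_normalizer_commutator_of_normalizes hRN hRQ))
    have h0 : ⁅⁅T, Q⁆, Q⁆ = ⊥ :=
      Subgroup.commutator_eq_bot_iff_le_centralizer.mpr (Subgroup.le_centralizer_iff.mp hc)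
    have h1 := Coprime.commutator_eq_bot_of_commutator_commutator_eq_bot Q T hQN (hcopT T hT)
      (Or.inr hsT) h0
    exact Subgroup.le_centralizer_iff.mp (Subgroup.commutator_eq_bot_iff_le_centralizer.mp h1)
  -- the derived subgroup is fixed and central
  set T' := ⁅T, T⁆ with hT'
  have hT'T : T' ≤ T := Subgroup.commutator_le_self T
  have hT'ne : T' ≠ T := by
    intro he
    haveI := (Subgroup.nontrivial_iff_ne_bot T).mpr hT1
    exact (Group.IsSolvable.commutator_lt_top_of_nontrivial T).ne (by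
      apply Subgroup.map_injective T.subtype_injective
      rw [Subgroup.map_subtype_commutator, ← MonoidHom.range_eq_map, Subgroup.range_subtype]
      exact he)
  have hT'n : Q ⊔ R ≤ Subgroup.normalizer (T' : Set X) := le_normalizer_commutator_of_normalizes hL hL
  have hQT' := sub T' hT'T hT'ne hT'n
  have hcentral : ∀ a ∈ T, ∀ b ∈ T', a * b = b * a := by
    have h1 : ⁅⁅Q, T'⁆, T⁆ = ⊥ := by
      rw [Subgroup.commutator_eq_bot_iff_le_centralizer.mpr hQT', Subgroup.commutator_bot_left]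
    have h2 : ⁅⁅T', T⁆, Q⁆ = ⊥ := Subgroup.commutator_eq_bot_iff_le_centralizer.mpr
      ((Coprime.commutator_le_of_normalizes (Coprime.le_normalizer_commutator_left T T)).trans
        (Subgroup.le_centralizer_iff.mp hQT'))
    have h3 := Subgroup.commutator_commutator_eq_bot_of_rotate h1 h2
    rw [hTQ, Subgroup.commutator_eq_bot_iff_le_centralizer] at h3
    exact fun a ha b hb => (Subgroup.mem_centralizer_iff.mp (h3 ha) b hb).symm
  -- exponent `p`
  have hexp : ∀ x ∈ T, x ^ p = 1 := by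
    intro x hx
    rw [← hΩeq] at hx
    suffices x ∈ T ∧ x ^ p = 1 from this.2
    induction hx using Subgroup.closure_induction with
    | mem y hy => exact hy
    | one => exact ⟨T.one_mem, one_pow p⟩
    | mul y z _ _ hy hz =>
      refine ⟨T.mul_mem hy.1 hz.1, ?_⟩
      set c := z⁻¹ * y⁻¹ * z * y with hc
      have hcT : c ∈ T' := by
        have e : c = ⁅z⁻¹, y⁻¹⁆ := by rw [hc, commutatorElement_def, inv_inv, inv_inv]
        rw [e]
        exact Subgroup.commutator_mem_commutator (T.inv_mem hz.1) (T.inv_mem hy.1)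
      obtain ⟨e1, e2⟩ := pow_mul_eq_of_central_step (x := y) (y := z) (c := c) (by rw [hc]; group)
        (hcentral y hy.1 c hcT).symm (hcentral z hz.1 c hcT).symm p
      rw [hz.2, one_mul, mul_one] at e1
      have hcp : c ^ p = 1 := left_eq_mul.mp e1
      obtain ⟨d, hd⟩ := hp.out.dvd_choose_self two_ne_zero (lt_of_le_of_ne hp.out.two_le (Ne.symm hp2))
      rw [e2, hy.2, hz.2, hd, pow_mul, hcp, one_pow, one_mul, one_mul]
    | inv y _ hy => exact ⟨T.inv_mem hy.1, by rw [inv_pow, hy.2, inv_one]⟩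
  -- the quotient by the derived subgroup
  set N := Subgroup.normalizer (T' : Set X) with hN
  have hTN : T ≤ N := Coprime.le_normalizer_commutator_left T T
  have hQN' : Q ≤ N := le_sup_left.trans hT'n
  have hRN' : R ≤ N := le_sup_right.trans hT'n
  have : (T'.subgroupOf N).Normal :=
    (Subgroup.normal_subgroupOf_iff_le_normalizer Subgroup.le_normalizer).mpr le_rfl
  set f := QuotientGroup.mk' (T'.subgroupOf N) with hf
  have hker : ∀ a : N, f a = 1 ↔ (a : X) ∈ T' := fun a => QuotientGroup.eq_one_iff a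
  have norm_sub : ∀ {A B : Subgroup X}, A ≤ N → B ≤ N → A ≤ Subgroup.normalizer (B : Set X) →
      A.subgroupOf N ≤ Subgroup.normalizer (B.subgroupOf N : Set N) := fun {A B} _ hB h a ha => by
    rw [← Subgroup.subgroupOf_normalizer_eq hB]
    exact h ha
  have hfn : ∀ {A B : Subgroup X}, A ≤ N → B ≤ N → A ≤ Subgroup.normalizer (B : Set X) →
      (A.subgroupOf N).map f ≤ Subgroup.normalizer ((B.subgroupOf N).map f : Set _) :=
    fun hA hB h => (Subgroup.map_mono (norm_sub hA hB h)).trans (Subgroup.le_normalizer_map f)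
  set Tb := (T.subgroupOf N).map f with hTb
  set Qb := (Q.subgroupOf N).map f with hQb
  set Rb := (R.subgroupOf N).map f with hRb
  have hTbc : IsMulCommutative Tb := by
    refine ⟨⟨?_⟩⟩
    rintro ⟨_, ⟨a, ha, rfl⟩⟩ ⟨_, ⟨b, hb, rfl⟩⟩
    refine Subtype.ext ?_
    show f a * f b = f b * f a
    rw [← commutatorElement_eq_one_iff_mul_comm, ← map_commutatorElement, hker]
    exact Subgroup.commutator_mem_commutator (show (a : X) ∈ T from ha) (show (b : X) ∈ T from hb)
  have hTbQ : ⁅Tb, Qb⁆ = Tb := by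
    rw [hTb, hQb, ← Subgroup.map_commutator]
    congr 1
    apply Subgroup.map_injective N.subtype_injective
    rw [Subgroup.map_commutator, Subgroup.map_subgroupOf_eq_of_le hTN,
      Subgroup.map_subgroupOf_eq_of_le hQN', hTQ]
  have hQbq : IsPGroup q Qb := (hQ.comap_of_injective N.subtype N.subtype_injective).map f
  have hTbp : IsPGroup p Tb := (hT.comap_of_injective N.subtype N.subtype_injective).map f
  have hcopb : (Nat.card Qb).Coprime (Nat.card Tb) := by
    obtain ⟨i, hi⟩ := hQbq.exists_card_eq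
    obtain ⟨j, hj⟩ := hTbp.exists_card_eq
    rw [hi, hj]
    exact Nat.Coprime.pow _ _ ((Nat.coprime_primes hq.out hp.out).mpr hqp)
  have hfixb : Tb ⊓ Subgroup.centralizer (Rb : Set _) = ⊥ := by
    rw [eq_bot_iff]
    have hmap := Coprime.map_inf_centralizer f (R.subgroupOf N) (T.subgroupOf N) (norm_sub hRN' hTN hRN)
      (by
        rw [Coprime.card_subgroupOf hRN', Coprime.card_subgroupOf hTN, hR]
        obtain ⟨j, hj⟩ := hT.exists_card_eq
        rw [hj]
        exact ((Nat.coprime_primes hr.out hp.out).mpr hrp).pow_right j)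
      (Or.inr (Group.isSolvable_of_surjective (f := (Subgroup.subgroupOfEquivOfLe hTN).symm.toMonoidHom)
        (Subgroup.subgroupOfEquivOfLe hTN).symm.surjective))
    rw [← hmap]
    rintro _ ⟨a, ⟨haT, haR⟩, rfl⟩
    have haR' : (a : X) ∈ Subgroup.centralizer (R : Set X) := Subgroup.mem_centralizer_iff.mpr fun b hb =>
      congrArg Subtype.val (Subgroup.mem_centralizer_iff.mp haR ⟨b, hRN' hb⟩ hb)
    have haQ := hfix a haT haR' (hexp a haT)
    have h : f a ∈ ⁅Tb, Qb⁆ ⊓ Subgroup.centralizer (Qb : Set _) := by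
      refine ⟨by rw [hTbQ]; exact Subgroup.mem_map_of_mem f haT, Subgroup.mem_centralizer_iff.mpr ?_⟩
      rintro _ ⟨b, hb, rfl⟩
      rw [← map_mul, ← map_mul]
      exact congrArg f (Subtype.ext (Subgroup.mem_centralizer_iff.mp haQ b hb))
    rw [Coprime.commutator_inf_centralizer_eq_bot Qb Tb (hfn hQN' hTN hQN) hcopb] at h
    exact h
  have hRcard : Nat.card Rb = r := by
    rw [hRb, Coprime.card_map_of_disjoint, Coprime.card_subgroupOf hRN', hR]
    rw [hf, QuotientGroup.ker_mk', eq_bot_iff]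
    rintro a ⟨ha1, ha2⟩
    rw [Subgroup.mem_bot]
    refine Subtype.ext ?_
    have h1 : (a : X) ∈ R ⊓ T := ⟨ha2, hT'T ha1⟩
    rw [Subgroup.inf_eq_bot_of_coprime (by
      obtain ⟨j, hj⟩ := hT.exists_card_eq
      rw [hR, hj]
      exact ((Nat.coprime_primes hr.out hp.out).mpr hrp).pow_right j)] at h1
    exact h1
  have hcomm : ⁅Qb, Rb⁆ = Qb := by
    rw [hQb, hRb, ← Subgroup.map_commutator]
    congr 1
    apply Subgroup.map_injective N.subtype_injective
    rw [Subgroup.map_commutator, Subgroup.map_subgroupOf_eq_of_le hQN',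
      Subgroup.map_subgroupOf_eq_of_le hRN', hQR]
  have key := commutator_le_centralizer_of_fpf hr2 hq2 hrq hrp hqp Qb Rb Tb hQbq hRcard hTbp
    (hfn hRN' hQN' hRQ) (sup_le (hfn hQN' hTN hQN) (hfn hRN' hTN hRN)) hfixb
  rw [hcomm] at key
  refine Coprime.le_centralizer_of_trivial_on_series Q T hQN (hcopT T hT) (Or.inr hsT) T' hT'T hQT'
    fun a ha k hk => ?_
  have h : f ⟨k, hTN hk⟩ * f ⟨a, hQN' ha⟩ = f ⟨a, hQN' ha⟩ * f ⟨k, hTN hk⟩ :=
    Subgroup.mem_centralizer_iff.mp
      (key (Subgroup.mem_map_of_mem f (show (⟨a, hQN' ha⟩ : N) ∈ Q.subgroupOf N from ha))) _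
      (Subgroup.mem_map_of_mem f (show (⟨k, hTN hk⟩ : N) ∈ T.subgroupOf N from hk))
  refine (hker ((⟨k, hTN hk⟩ : N)⁻¹ * (⟨a, hQN' ha⟩ * ⟨k, hTN hk⟩ * (⟨a, hQN' ha⟩ : N)⁻¹))).mp ?_
  rw [map_mul, map_mul, map_mul, ← h, map_inv, map_inv, mul_inv_cancel_right, inv_mul_cancel]

end CfsgLib.OddOrder41
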