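import Mathlib
import Cfsg.Agent.Lib.OddOrder41.Sigma12Central
import Cfsg.Agent.Lib.OddOrder.Sigma10PLength
import Cfsg.Agent.Lib.OddOrder.Sigma12
import Cfsg.Agent.Lib.Solvable.CoprimeGeneration

/-!
# BG 12.17: the action of a complement on `M_σ` and the intersections `M_σ ∩ M^g`
-/

set_option autoImplicit false

namespace CfsgLib.OddOrder41

open Subgroup CfsgLib.OddOrder CfsgLib.OddOrder.Transitivity
open scoped commutatorElement

universe u

variable {G : Type u} [Group G] [Finite G]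
  (hG : Cfsg.IsMinSimpleOddOrder G) {M : Subgroup G} (hM : IsCoatom M)

include hG hM in
/-- `[M_σ, E] = M_σ`. -/
theorem commutator_sigmaCore_compl {E : Subgroup G} (hE : Cfsg.IsComplIn E (Cfsg.sigmaCore M) M) :
    ⁅Cfsg.sigmaCore M, E⁆ = Cfsg.sigmaCore M := by
  have hSM : Cfsg.sigmaCore M ≤ M := piCoreOf_le _ _
  have := minSimple_solvable hG hM.1
  have hsub : (Cfsg.sigmaCore M).subgroupOf M = Cfsg.piCore (Cfsg.sigma M) M := by
    rw [Cfsg.sigmaCore, Subgroup.subgroupOf, Subgroup.comap_map_eq_self_of_injective M.subtype_injective]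
  have hc := (IsComplIn.isComplement' hE).symm
  rw [hsub] at hc
  have h := Sigma10.commutator_eq_of_le_derived hc
    (Sigma10.piCore_le_commutator hG hM (Sigma10.alpha_subset_sigma hG hM) subset_rfl).1
  have h2 := congrArg (Subgroup.map M.subtype) h
  rw [Subgroup.map_commutator, Subgroup.map_subgroupOf_eq_of_le hE.1] at h2
  exact h2

include hG hM in
/-- `C_{M_σ}(E) ≤ M_σ'`. -/
theorem sigmaCore_inf_centralizer_le {E : Subgroup G} (hE : Cfsg.IsComplIn E (Cfsg.sigmaCore M) M) :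
    Cfsg.sigmaCore M ⊓ Subgroup.centralizer (E : Set G) ≤ ⁅Cfsg.sigmaCore M, Cfsg.sigmaCore M⁆ := by
  set S := Cfsg.sigmaCore M with hS
  have hSM : S ≤ M := piCoreOf_le _ _
  set D := ⁅S, S⁆ with hD
  have hDS : D ≤ S := Subgroup.commutator_le_self S
  have hMD : M ≤ Subgroup.normalizer (D : Set G) := by
    refine Subgroup.le_normalizer_iff.2 fun m hm x hx => ?_
    have h1 : x ∈ ⁅S, S⁆ := hx
    have h2 := Subgroup.mem_map_of_mem (MulAut.conj m).toMonoidHom h1
    rw [Subgroup.map_commutator] at h2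
    have hmS : cj m S = S := cj_eq_of_mem_normalizer (piCoreOf_normal _ _ hm)
    rw [show S.map (MulAut.conj m).toMonoidHom = S from hmS] at h2
    exact h2
  set D' := D.subgroupOf M with hD'
  have : D'.Normal := (Subgroup.normal_subgroupOf_iff_le_normalizer (hDS.trans hSM)).mpr hMD
  set f := QuotientGroup.mk' D' with hf
  set V := (S.subgroupOf M).map f with hV
  set A := (E.subgroupOf M).map f with hA
  have hSn : (S.subgroupOf M).Normal :=
    (Subgroup.normal_subgroupOf_iff_le_normalizer hSM).mpr (piCoreOf_normal _ _)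
  have hVn : V.Normal := hSn.map f (QuotientGroup.mk'_surjective D')
  have hVc : IsMulCommutative V := by
    refine ⟨⟨?_⟩⟩
    rintro ⟨_, ⟨a, ha, rfl⟩⟩ ⟨_, ⟨b, hb, rfl⟩⟩
    refine Subtype.ext ?_
    change f a * f b = f b * f a
    rw [← commutatorElement_eq_one_iff_mul_comm, ← map_commutatorElement, hf, QuotientGroup.mk'_apply,
      QuotientGroup.eq_one_iff]
    exact Subgroup.commutator_mem_commutator (show (a : G) ∈ S from ha) (show (b : G) ∈ S from hb)
  have hcop : (Nat.card A).Coprime (Nat.card V) := by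
    refine Nat.coprime_of_dvd fun r hr h1 h2 => ?_
    have h1' := h1.trans (Subgroup.card_map_dvd (E.subgroupOf M) f)
    have h2' := h2.trans (Subgroup.card_map_dvd (S.subgroupOf M) f)
    rw [Nat.card_congr (Subgroup.subgroupOfEquivOfLe hE.1).toEquiv] at h1'
    rw [Nat.card_congr (Subgroup.subgroupOfEquivOfLe hSM).toEquiv] at h2'
    exact Sigma10.not_mem_sigma_of_dvd_compl hG hM hE hr h1'
      (piNat_card_piCoreOf (Cfsg.sigma M) M r hr h2')
  rintro x ⟨hxS, hxE⟩
  have hfx : f ⟨x, hSM hxS⟩ ∈ ⁅V, A⁆ ⊓ Subgroup.centralizer (A : Set _) := by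
    refine ⟨?_, Subgroup.mem_centralizer_iff.mpr ?_⟩
    · rw [hV, hA, ← Subgroup.map_commutator]
      refine Subgroup.mem_map_of_mem f ?_
      have h3 : x ∈ ⁅S, E⁆ := (commutator_sigmaCore_compl hG hM hE).symm ▸ hxS
      have h4 : ⁅S, E⁆ = (⁅S.subgroupOf M, E.subgroupOf M⁆).map M.subtype := by
        rw [Subgroup.map_commutator, Subgroup.map_subgroupOf_eq_of_le hSM,
          Subgroup.map_subgroupOf_eq_of_le hE.1]
      rw [h4] at h3
      obtain ⟨w, hw, hwe⟩ := h3
      obtain rfl : w = ⟨x, hSM hxS⟩ := Subtype.ext hwe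
      exact hw
    · rintro _ ⟨e, he, rfl⟩
      rw [← map_mul, ← map_mul]
      exact congrArg f (Subtype.ext (Subgroup.mem_centralizer_iff.mp hxE e he))
  rw [Coprime.commutator_inf_centralizer_eq_bot A V
    (le_top.trans (Subgroup.normalizer_eq_top_iff.mpr hVn).ge) hcop, Subgroup.mem_bot] at hfx
  exact (QuotientGroup.eq_one_iff (⟨x, hSM hxS⟩ : M)).mp hfx

include hG hM in
/-- **BG 12.17**, the intersections. -/
theorem sigmaCore_inter_conj (h2 : PropRankTwoInMaximal G) (h12 : PropSigmaPrimeNilpotent G) {g : G}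
    (hg : g ∉ M) :
    IsCyclic ↥(Cfsg.sigmaCore M ⊓ cj g M) ∧
      (∀ p : ℕ, p.Prime → p ∣ Nat.card ↥(Cfsg.sigmaCore M ⊓ cj g M) → p ∉ Cfsg.beta M) ∧
      Cfsg.sigmaCore M ⊓ cj g M ⊓ ⁅Cfsg.sigmaCore M, Cfsg.sigmaCore M⁆ = ⊥ := by
  set S := Cfsg.sigmaCore M with hS
  set D := S ⊓ cj g M with hD
  have hSM : S ≤ M := piCoreOf_le _ _
  have hback : ∀ {X : Subgroup G}, X ≤ D → cj g⁻¹ X ≤ M := fun {X} hX => by
    have h := cj_mono (g := g⁻¹) (hX.trans inf_le_right)
    rwa [cj_mul, inv_mul_cancel, cj_one] at h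
  have hσ : ∀ p : ℕ, p.Prime → p ∣ Nat.card S → p ∈ Cfsg.sigma M :=
    fun p hp hd => piNat_card_piCoreOf (Cfsg.sigma M) M p hp hd
  have hout : ∀ (p : ℕ) [Fact p.Prime] {X : Subgroup G}, IsPGroup p X → X ≠ ⊥ → X ≤ D →
      ¬ Subgroup.centralizer (X : Set G) ≤ M := by
    intro p _ X hXp hX1 hXD hle
    have hpσ := hσ p Fact.out
      ((Uniq.prime_dvd_card hXp hX1).trans (Subgroup.card_dvd_of_le (hXD.trans inf_le_left)))
    obtain ⟨m, hm, c, hc, he⟩ := Sigma10.conjFactor hG hM hpσ hXp hX1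
      ((hXD.trans inf_le_left).trans hSM) g⁻¹ (hback hXD)
    exact hg (by simpa [← he] using M.inv_mem (mul_mem hm (hle hc)))
  -- subgroups of order `p`
  have hprime : ∀ (p : ℕ) [Fact p.Prime] {x : G}, x ∈ D → orderOf x = p →
      p ∉ Cfsg.beta M ∧ x ∉ ⁅S, S⁆ := by
    intro p _ x hx hxo
    have hXc : Nat.card (Subgroup.zpowers x) = p := by rw [Nat.card_zpowers, hxo]
    have hXp : IsPGroup p (Subgroup.zpowers x) := IsPGroup.of_card (n := 1) (by rw [hXc, pow_one])
    have hX1 : Subgroup.zpowers x ≠ ⊥ := Subgroup.zpowers_ne_bot.mpr fun h =>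
      (Fact.out : p.Prime).ne_one (by rw [← hxo, h, orderOf_one])
    have hpσ := hσ p Fact.out (hXc ▸ Subgroup.card_dvd_of_le (Subgroup.zpowers_le.mpr hx.1))
    obtain ⟨P, hP⟩ : ∃ P : Subgroup G, SylowOf p P S :=
      ⟨_, sylowOf_map (Classical.arbitrary (Sylow p S))⟩
    have key : ¬ (p ∈ Cfsg.beta M ∨ Subgroup.zpowers x ≤ ⁅S, S⁆) := fun h =>
      hout p hXp hX1 (Subgroup.zpowers_le.mpr hx)
        (centralizer_unique hG h2 h12 hM hpσ (Subgroup.zpowers_le.mpr (hSM hx.1)) hXc hP h).1.1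
    exact ⟨fun h => key (Or.inl h), fun h => key (Or.inr (Subgroup.zpowers_le.mpr h))⟩
  have hbot : D ⊓ ⁅S, S⁆ = ⊥ := by
    by_contra hne
    obtain ⟨p, hp, hd⟩ := Nat.exists_prime_and_dvd (fun h => hne (Subgroup.card_eq_one.mp h))
    have := Fact.mk hp
    obtain ⟨x, hx⟩ := exists_prime_orderOf_dvd_card' (G := ↥(D ⊓ ⁅S, S⁆)) p hd
    exact (hprime p x.2.1 (by rw [Subgroup.orderOf_coe, hx])).2 x.2.2
  refine ⟨?_, fun p hp hd => ?_, hbot⟩
  · have hDc : IsMulCommutative D := ⟨⟨fun a b => Subtype.ext (commutatorElement_eq_one_iff_mul_comm.mp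
      (Subgroup.mem_bot.mp (hbot ▸
        ⟨by rw [commutatorElement_def]
            exact D.mul_mem (D.mul_mem (D.mul_mem a.2 b.2) (D.inv_mem a.2)) (D.inv_mem b.2),
          Subgroup.commutator_mem_commutator a.2.1 b.2.1⟩)))⟩⟩
    by_contra hnc
    letI : CommGroup D :=
      { (inferInstance : Group D) with mul_comm := fun a b => hDc.is_comm.comm a b }
    obtain ⟨q, a, c, hq, ha, hc, hca⟩ := CfsgLib.CoprimeGeneration.exists_pair_of_not_cyclic hnc
    have := Fact.mk hq
    have hao : orderOf (a : G) = q := by rw [Subgroup.orderOf_coe, ha]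
    have hco : orderOf (c : G) = q := by rw [Subgroup.orderOf_coe, hc]
    set A := Subgroup.zpowers (a : G) ⊔ Subgroup.zpowers (c : G) with hA
    have hac : (c : G) ∈ Subgroup.centralizer ((Subgroup.zpowers (a : G) : Subgroup G) : Set G) := by
      rw [centralizer_zpowers, Subgroup.mem_centralizer_singleton_iff]
      exact congrArg Subtype.val (hDc.is_comm.comm c a)
    have hAe : Cfsg.IsElementaryAbelian q A :=
      elemAb_sup_zpowers (elemAb_zpowers (hao ▸ pow_orderOf_eq_one _)) (hco ▸ pow_orderOf_eq_one _) hac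
    have hA2 : Nat.card A = q ^ 2 := by
      have hb : Subgroup.zpowers (c : G) ⊓ Subgroup.zpowers (a : G) = ⊥ := by
        rw [eq_bot_iff]
        rintro w ⟨h1, h2'⟩
        by_contra hw
        have hwo : orderOf w = q :=
          ((Nat.dvd_prime hq).mp (hco ▸ (Nat.card_zpowers (c : G) ▸ Subgroup.orderOf_dvd_natCard _ h1))).resolve_left
            (fun h => hw (Subgroup.mem_bot.mpr (orderOf_eq_one_iff.mp h)))
        have h3 : Subgroup.zpowers w = Subgroup.zpowers (c : G) :=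
          Subgroup.eq_of_le_of_card_ge (Subgroup.zpowers_le.mpr h1)
            (by rw [Nat.card_zpowers, Nat.card_zpowers, hwo, hco])
        obtain ⟨i, hi⟩ := Subgroup.zpowers_le.mpr h2' (h3 ▸ Subgroup.mem_zpowers (c : G))
        exact hca ⟨i, Subtype.ext (by simpa using hi)⟩
      rw [hA, sup_comm, Coprime.card_sup_of_disjoint
        (Subgroup.zpowers_le.mpr (Subgroup.centralizer_le_normalizer _ hac))
        (by rw [inf_comm] at hb; exact hb), Nat.card_zpowers, Nat.card_zpowers, hao, hco, sq]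
    have hAD : A ≤ D := sup_le (Subgroup.zpowers_le.mpr a.2) (Subgroup.zpowers_le.mpr c.2)
    exact hout q (isPGroup_of_elemAb hAe) (fun h => by
      rw [h, Subgroup.card_bot] at hA2
      exact absurd hA2.symm (Nat.one_lt_pow two_ne_zero hq.one_lt).ne') hAD
      (h2 M hM q A ⟨(hAD.trans inf_le_left).trans hSM, hAe, hA2⟩).1
  · have := Fact.mk hp
    obtain ⟨x, hx⟩ := exists_prime_orderOf_dvd_card' (G := D) p hd
    exact (hprime p x.2 (by rw [Subgroup.orderOf_coe, hx])).1

end CfsgLib.OddOrder41
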