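import Mathlib
import Cfsg.Agent.Lib.OddOrder41.Sigma13Line
import Cfsg.Agent.Lib.OddOrder41.FixedOrderP
import Cfsg.Agent.Lib.OddOrder41.Sigma12Inter

/-!
# BG §13: the case `p ∈ β(L)` of Theorem 13.4
-/

set_option autoImplicit false

namespace CfsgLib.OddOrder41

open Subgroup CfsgLib.OddOrder CfsgLib.OddOrder.Transitivity
open scoped commutatorElement Pointwise

universe u

variable {G : Type u} [Group G] [Finite G] (hG : Cfsg.IsMinSimpleOddOrder G)
  (h2 : PropRankTwoInMaximal G) (h5 : PropTauTwoStructure G) (h6 : PropTauTwoInComplement G)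
  (h12 : PropSigmaPrimeNilpotent G)

include hG in
theorem le_piCoreOf_beta {p : ℕ} [hp : Fact p.Prime] {L U : Subgroup G} (hL : IsCoatom L)
    (hpβ : p ∈ Cfsg.beta L) (hUL : U ≤ L) (hU : IsPGroup p U) :
    U ≤ Cfsg.piCoreOf (Cfsg.beta L) L := by
  have := minSimple_solvable hG hL.1
  have hB := (Sigma10.betaCore_hall hG hL (fun p _ => Sigma10.pLengthLE_one_proper hG p)
    (Sigma10.propFiveFive hG)).1
  obtain ⟨g, hg, hle⟩ := exists_conj_into (π := {p}) hB.1 (fun r hr hrp hd => by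
    rw [Set.mem_singleton_iff] at hrp
    exact hB.2.2 r hr (hrp ▸ hpβ) hd) hUL (fun r hr hd => by
    obtain ⟨n, hn⟩ := hU.exists_card_eq
    exact (Nat.prime_dvd_prime_iff_eq hr hp.out).mp (hr.dvd_of_dvd_pow (hn ▸ hd)))
  have h := cj_mono (g := g⁻¹) hle
  rw [cj_mul, inv_mul_cancel, cj_one,
    cj_eq_of_mem_normalizer (piCoreOf_normal _ _ (inv_mem hg))] at h
  exact h

include hG h5 in
/-- If a prime of `σ(L)` lies in `σ(M)` for nonconjugate `M`, `L`, then `τ₂(L)` is empty. -/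
theorem pRankLE_one_of_sigma_inter {M L : Subgroup G} (hM : IsCoatom M) (hL : IsCoatom L)
    (hnc : ∀ g : G, L ≠ cj g M) {q : ℕ} [Fact q.Prime] (hqM : q ∈ Cfsg.sigma M) (hqL : q ∈ Cfsg.sigma L)
    {r : ℕ} [hr : Fact r.Prime] (hrσ : r ∉ Cfsg.sigma L) : Cfsg.PRankLE r 1 L := by
  by_contra h1
  have h2' : Cfsg.PRankLE r 2 L := by
    by_contra h
    exact Sigma10.not_mem_alpha_of_not_mem_sigma hG hL hrσ ⟨hr.out, h⟩
  obtain ⟨A, hAL, hAe, hA2⟩ := not_pRankLE_subgroup_iff.mp h1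
  exact not_mem_sigma_of_nilpotent hG hM hL hnc
    (h5 L hL r ⟨hr.out, hrσ, h2', h1⟩ A ⟨hAL, hAe, hA2⟩).1 hqM hqL

include hG h2 h5 h6 h12 in
/-- No complement of `L_σ` inside `M` normalizing a Sylow subgroup `S ≤ M` can act on the `β(L)`-part. -/
theorem sylow_centralizes_of_beta {M L : Subgroup G} (hM : IsCoatom M) (hL : IsCoatom L)
    (hnc : ∀ g : G, L ≠ cj g M) {p q : ℕ} [hp : Fact p.Prime] [hq : Fact q.Prime]
    (hp2 : p ≠ 2) (hq2 : q ≠ 2) (hqM : q ∈ Cfsg.sigma M) (hqL : q ∈ Cfsg.sigma L)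
    (hpβ : p ∈ Cfsg.beta L) {S T P EL : Subgroup G} (hS : SylowOf q S L) (hEL : Cfsg.IsComplIn EL (Cfsg.sigmaCore L) L)
    (hELS : EL ≤ Subgroup.normalizer (S : Set G)) (hT : IsPGroup p T) (hTL : T ≤ L)
    (hJT : EL ⊔ S ≤ Subgroup.normalizer (T : Set G)) (hPT : P ≤ T) (hP : Nat.card P = p)
    (hELP : EL ≤ Subgroup.centralizer (P : Set G)) (hSP : S ≤ Subgroup.centralizer (P : Set G)) :
    S ≤ Subgroup.centralizer (T : Set G) := by
  have hqβ : q ∉ Cfsg.beta L := (sigma_inter hG h2 h12 hM hL hnc hqM hqL).1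
  have hpq : p ≠ q := fun h => hqβ (h ▸ hpβ)
  have hSσ : S ≤ Cfsg.sigmaCore L := le_sigmaCore_of_isPGroup hG hL hqL hS.1 hS.2.1
  have hsS : Group.IsSolvable S := by
    have := hS.2.1.isNilpotent
    infer_instance
  set D := S ⊓ Subgroup.centralizer (T : Set G) with hD
  -- the operators trivial modulo `D`
  let K : Subgroup G :=
    { carrier := {e | e ∈ Subgroup.normalizer (S : Set G) ∧ e ∈ Subgroup.normalizer (T : Set G) ∧
        ∀ s ∈ S, s⁻¹ * (e * s * e⁻¹) ∈ Subgroup.centralizer (T : Set G)}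
      one_mem' := ⟨one_mem _, one_mem _, fun s _ => by simp⟩
      mul_mem' := fun {c d} hc hd => ⟨mul_mem hc.1 hd.1, mul_mem hc.2.1 hd.2.1, fun s hs => by
        have h1 := hd.2.2 s hs
        have h2 : c * (s⁻¹ * (d * s * d⁻¹)) * c⁻¹ ∈ Subgroup.centralizer (T : Set G) := by
          have h := mem_cj.mpr (show c⁻¹ * (c * (s⁻¹ * (d * s * d⁻¹)) * c⁻¹) * c ∈
            Subgroup.centralizer (T : Set G) by simpa [mul_assoc] using h1)
          rwa [cj_centralizer, cj_eq_of_mem_normalizer hc.2.1] at h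
        have h3 := mul_mem (hc.2.2 s hs) h2
        rwa [show s⁻¹ * (c * s * c⁻¹) * (c * (s⁻¹ * (d * s * d⁻¹)) * c⁻¹) =
          s⁻¹ * ((c * d) * s * (c * d)⁻¹) by group] at h3⟩
      inv_mem' := fun {c} hc => ⟨inv_mem hc.1, inv_mem hc.2.1, fun s hs => by
        have hs' : c⁻¹ * s * c ∈ S := (Subgroup.mem_normalizer_iff''.mp hc.1 s).mp hs
        have h1 := hc.2.2 _ hs'
        rw [show c * (c⁻¹ * s * c) * c⁻¹ = s by group] at h1
        rw [inv_inv]
        have h2 := inv_mem h1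
        rwa [mul_inv_rev, inv_inv] at h2⟩ }
  have hELK : EL ≤ K := by
    refine le_of_exists_sylow_le fun r hr => ?_
    have := Fact.mk hr
    obtain ⟨Tr⟩ : Nonempty (Sylow r EL) := inferInstance
    refine ⟨Tr, ?_⟩
    set Pr := (Tr : Subgroup EL).map EL.subtype with hPr
    have hPrp : IsPGroup r Pr := Tr.isPGroup'.map _
    have hPrE : Pr ≤ EL := Subgroup.map_subtype_le _
    by_cases hPr1 : Pr = ⊥
    · rw [hPr1]; exact bot_le
    have hrσ : r ∉ Cfsg.sigma L := Sigma10.not_mem_sigma_of_dvd_compl hG hL hEL hr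
      ((Uniq.prime_dvd_card hPrp hPr1).trans (Subgroup.card_dvd_of_le hPrE))
    have hr1 := pRankLE_one_of_sigma_inter hG h5 hM hL hnc hqM hqL hrσ
    have hr2 : r ≠ 2 := Uniq.prime_ne_two hG hPrp hPr1
    have hPrc : IsCyclic Pr := isCyclic_of_pRankLE_one hr2 hPrp (PRankLE.of_le (hPrE.trans hEL.1) hr1)
    have hPrs := sylowOf_of_compl hG hL hEL (sylowOf_map Tr) hrσ
    obtain ⟨y, hy⟩ := exists_prime_orderOf_dvd_card' (G := Pr) r (Uniq.prime_dvd_card hPrp hPr1)
    set R := Subgroup.zpowers (y : G) with hR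
    have hRc : Nat.card R = r := by rw [hR, Nat.card_zpowers, Subgroup.orderOf_coe, hy]
    have hRPr : R ≤ Pr := Subgroup.zpowers_le.mpr y.2
    have hRS : R ≤ Subgroup.normalizer (S : Set G) := (hRPr.trans hPrE).trans hELS
    have hrq : r ≠ q := fun h => hrσ (h ▸ hqL)
    have hrp : r ≠ p := fun h => hrσ (h ▸ Sigma10.alpha_subset_sigma hG hL hpβ.1)
    have hcop : (Nat.card R).Coprime (Nat.card S) := by
      obtain ⟨n, hn⟩ := hS.2.1.exists_card_eq
      rw [hRc, hn]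
      exact ((Nat.coprime_primes hr hq.out).mpr hrq).pow_right n
    -- `[S, R]` centralizes `T`
    set Q₁ := ⁅S, R⁆ with hQ₁
    have hQ₁S : Q₁ ≤ S := Coprime.commutator_le_of_normalizes hRS
    have hRT : R ≤ Subgroup.normalizer (T : Set G) := ((hRPr.trans hPrE).trans le_sup_left).trans hJT
    have hQ₁T : Q₁ ≤ Subgroup.centralizer (T : Set G) := by
      refine le_centralizer_of_fixed_order_p (p := p) (q := q) (r := r) hp2 hq2 hr2 hrq hrp hpq.symm
        Q₁ R (hS.2.1.to_le hQ₁S) hRc (Coprime.le_normalizer_commutator_right S R)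
        (Coprime.commutator_commutator_eq R S hRS hcop (Or.inr hsS)) T hT
        (sup_le ((hQ₁S.trans le_sup_right).trans hJT) hRT) fun x hxT hxR hxp => ?_
      have := isCyclic_inf_centralizer hG hL hpβ.2 hp2 hT hTL hRc hrσ hr1
      have hxP : x ∈ P := mem_of_pow_card_eq_one (S := T ⊓ Subgroup.centralizer (R : Set G))
        (le_inf hPT (Subgroup.le_centralizer_iff.mp ((hRPr.trans hPrE).trans hELP)))
        ⟨hxT, hxR⟩ (by rwa [hP])
      exact Subgroup.mem_centralizer_iff.mpr fun w hw =>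
        (Subgroup.mem_centralizer_iff.mp (hSP (hQ₁S hw)) x hxP).symm
    have hC : S ⊓ Subgroup.centralizer (R : Set G) ≤ Subgroup.centralizer (Pr : Set G) :=
      (inf_le_inf_right _ hSσ).trans
        (centralizes_of_cyclic_sylow hG h2 h5 h6 h12 hL hrσ hPrs hPrc hRPr hRc)
    intro e he
    refine ⟨hELS (hPrE he), hJT (Subgroup.mem_sup_left (hPrE he)), fun s hs => ?_⟩
    have hs' : s ∈ ⁅S, R⁆ ⊔ (S ⊓ Subgroup.centralizer (R : Set G)) := by
      rwa [Coprime.commutator_sup_centralizer R S hRS hcop (Or.inr hsS)]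
    rw [sup_comm] at hs'
    obtain ⟨c, hc, d, hd, rfl⟩ := Coprime.exists_mul_of_mem_sup
      (inf_le_left.trans (Coprime.le_normalizer_commutator_left S R)) hs'
    have hec : e * c * e⁻¹ = c := Coprime.conj_eq_of_mem_centralizer (hC hc) he
    have hde : e * d * e⁻¹ ∈ Subgroup.centralizer (T : Set G) := by
      have h := mem_cj.mpr (show e⁻¹ * (e * d * e⁻¹) * e ∈ Subgroup.centralizer (T : Set G) by
        simpa [mul_assoc] using hQ₁T hd)
      rwa [cj_centralizer, cj_eq_of_mem_normalizer (hJT (Subgroup.mem_sup_left (hPrE he)))] at h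
    have e1 : (c * d)⁻¹ * (e * (c * d) * e⁻¹) = d⁻¹ * (e * d * e⁻¹) := by
      rw [show e * (c * d) * e⁻¹ = (e * c * e⁻¹) * (e * d * e⁻¹) by group, hec]; group
    rw [e1]
    exact mul_mem (inv_mem (hQ₁T hd)) hde
  have hELD : ⁅S, EL⁆ ≤ Subgroup.centralizer (T : Set G) := by
    refine Subgroup.commutator_le.mpr fun s hs e he => ?_
    have h := (hELK he).2.2 _ (S.inv_mem hs)
    rwa [inv_inv, show s * (e * s⁻¹ * e⁻¹) = ⁅s, e⁆ by rw [commutatorElement_def]; group] at h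
  have hcopE : (Nat.card EL).Coprime (Nat.card S) := by
    refine Nat.coprime_of_dvd fun r hr h1 h2 => Sigma10.not_mem_sigma_of_dvd_compl hG hL hEL hr h1
      (piNat_card_piCoreOf (Cfsg.sigma L) L r hr (h2.trans (Subgroup.card_dvd_of_le hSσ)))
  have hfixE : S ⊓ Subgroup.centralizer (EL : Set G) = ⊥ :=
    (sigma_inter hG h2 h12 hM hL hnc hqM hqL).2 _ (hS.2.1.to_le inf_le_left)
      ((inf_le_inf_right _ hSσ).trans (sigmaCore_inf_centralizer_le hG hL hEL))
  have h := Coprime.commutator_sup_centralizer EL S hELS hcopE (Or.inr hsS)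
  rw [hfixE, sup_bot_eq] at h
  exact h.ge.trans hELD

end CfsgLib.OddOrder41
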