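import Mathlib
import Cfsg.Agent.Lib.OddOrder41.Sigma13Beta
import Cfsg.Agent.Lib.Solvable.NilpotentSubgroups

/-!
# BG 13.4: `C_{M_σ}(P) ≤ C(R)` for `p ∈ τ₁(M)`
-/

set_option autoImplicit false

namespace CfsgLib.OddOrder41

open Subgroup CfsgLib.OddOrder CfsgLib.OddOrder.Transitivity
open scoped commutatorElement Pointwise

universe u

variable {G : Type u} [Group G] [Finite G] (hG : Cfsg.IsMinSimpleOddOrder G)
  (h2 : PropRankTwoInMaximal G) (h5 : PropTauTwoStructure G) (h6 : PropTauTwoInComplement G)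
  (h12 : PropSigmaPrimeNilpotent G) {p q r : ℕ} [hp : Fact p.Prime] [hq : Fact q.Prime] [hr : Fact r.Prime]
  {M L P Q R : Subgroup G}

include hG h2 h5 h6 h12 in
/-- The case `p ∉ σ(L)`. -/
theorem false_of_not_mem_sigma (hM : IsCoatom M) (hL : IsCoatom L) (hpM : Cfsg.PRankLE p 1 M)
    (hP : Nat.card P = p) (hPM : P ≤ M) (hNP : Subgroup.normalizer (P : Set G) ≤ L) (hpL : p ∉ Cfsg.sigma L)
    (hrq : r ≠ q) (hR : Nat.card R = r) (hRP : R ≤ Subgroup.centralizer (P : Set G))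
    (hQ : IsPGroup q Q) (hQ1 : Q ≠ ⊥) (hQM : Q ≤ M) (hQP : Q ≤ Subgroup.centralizer (P : Set G))
    (hqM : q ∈ Cfsg.sigma M) (hpq : p ≠ q) (hRQ : R ≤ Subgroup.normalizer (Q : Set G)) (hQR : ⁅Q, R⁆ = Q) :
    False := by
  obtain ⟨⟨hr2, hr1⟩, hni, -⟩ := Sigma10.rank_two_of_normalizer_le hG hL hpL hP hNP
  have hτ : p ∈ Cfsg.tau2 L := ⟨hp.out, hpL, hr2, hr1⟩
  have hCL : Subgroup.centralizer (P : Set G) ≤ L := (Subgroup.centralizer_le_normalizer _).trans hNP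
  have hQL : Q ≤ L := hQP.trans hCL
  have hRL : R ≤ L := hRP.trans hCL
  have hPL : P ≤ L := Subgroup.le_normalizer.trans hNP
  obtain ⟨A', hA'L, hA'e, hA'2⟩ := not_pRankLE_subgroup_iff.mp hr1
  have hnc : ∀ g : G, L ≠ cj g M := fun g heq => by
    have hA'' := cj_mono (g := g⁻¹) (heq ▸ hA'L)
    rw [cj_mul, inv_mul_cancel, cj_one] at hA''
    exact not_pRankLE_subgroup_iff.mpr ⟨_, hA'', elemAb_map hA'e _, (card_cj g⁻¹ A').trans hA'2⟩ hpM
  have hqL := not_mem_sigma_of_nilpotent hG hM hL hnc (h5 L hL p hτ A' ⟨hA'L, hA'e, hA'2⟩).1 hqM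
  have hRcop : (Nat.card R).Coprime q := by rw [hR]; exact (Nat.coprime_primes hr.out hq.out).mpr hrq
  by_cases hrL : r ∈ Cfsg.sigma L
  · have hc := centralizes_of_le_sigmaCore hG h2 h12 hM hL hnc hqM
      (le_sigmaCore_of_isPGroup hG hL hrL hRL (cyclic_isPGroup_of_card hR)) hQ hQL hRQ hRcop
    rw [Subgroup.commutator_eq_bot_iff_le_centralizer.mpr (Subgroup.le_centralizer_iff.mp hc)] at hQR
    exact hQ1 hQR.symm
  -- a complement containing `P`, `Q`, `R`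
  have hPn : R ⊔ Q ≤ Subgroup.normalizer (P : Set G) :=
    (sup_le hRP hQP).trans (Subgroup.centralizer_le_normalizer _)
  have hσ' : ∀ t : ℕ, t.Prime → t ∣ Nat.card ↥((R ⊔ Q) ⊔ P) → t ∉ Cfsg.sigma L := by
    intro t ht hd
    obtain ⟨n, hn⟩ := hQ.exists_card_eq
    rcases ht.dvd_mul.mp (hd.trans (Coprime.card_sup_dvd hPn)) with h | h
    · rcases ht.dvd_mul.mp (h.trans (Coprime.card_sup_dvd hRQ)) with h' | h'
      · rwa [(Nat.prime_dvd_prime_iff_eq ht hr.out).mp (hR ▸ h')]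
      · rwa [(Nat.prime_dvd_prime_iff_eq ht hq.out).mp (ht.dvd_of_dvd_pow (hn ▸ h'))]
    · rwa [(Nat.prime_dvd_prime_iff_eq ht hp.out).mp (hP ▸ h)]
  obtain ⟨EL, hEL, hle⟩ := exists_compl_ge hG hL (sup_le (sup_le hRL hQL) hPL) hσ'
  obtain ⟨T', hT', hPT'⟩ := exists_sylowOf_ge (le_sup_right.trans hle) (cyclic_isPGroup_of_card hP)
  have hT'L := sylowOf_of_compl hG hL hEL hT' hpL
  obtain ⟨A, hAT, hAe, hA2⟩ := not_pRankLE_subgroup_iff.mp
    (fun h => hr1 (Sigma10.pRankLE_of_sylowOf hT'L h))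
  have hA2' : Nat.card A = p ^ 2 := hA2
  obtain ⟨⟨hEA, hall⟩, -⟩ := h6 L hL EL hEL p hτ A ⟨hAT.trans hT'.1, hAe, hA2'⟩
  have hPA : P ≤ A := hall P (le_sup_right.trans hle) hP
  have hQA : Q ≤ Subgroup.centralizer (A : Set G) := by
    rw [← hQR]
    refine Subgroup.commutator_le.mpr fun a ha b hb => commutator_centralizes_line hAe hA2' hPA hP
      (hEA (hle (Subgroup.mem_sup_left (Subgroup.mem_sup_right ha))))
      (hEA (hle (Subgroup.mem_sup_left (Subgroup.mem_sup_left hb)))) (hQP ha) (hRP hb) ?_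
    have hmem : ⁅a, b⁆ ∈ Q := by rw [← hQR]; exact Subgroup.commutator_mem_commutator ha hb
    obtain ⟨n, hn⟩ := hQ.exists_card_eq
    exact ((((Nat.coprime_primes hq.out hp.out).mpr hpq.symm).pow_left n).coprime_dvd_left
      (hn ▸ Subgroup.orderOf_dvd_natCard Q hmem))
  obtain ⟨x, hx⟩ := exists_prime_orderOf_dvd_card' (G := Q) q (Uniq.prime_dvd_card hQ hQ1)
  obtain ⟨y, hy⟩ := exists_prime_orderOf_dvd_card' (G := P) p (hP ▸ dvd_rfl)
  exact not_pRankLE_one_of_centralizes hG h5 h6 h12 hM (hQM x.2) (by rw [Subgroup.orderOf_coe, hx]) hqM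
    hni (hPM y.2) (Subgroup.mem_centralizer_singleton_iff.mpr
      (Subgroup.mem_centralizer_iff.mp (hQP x.2) y y.2))
    (by rw [Subgroup.orderOf_coe, hy])
    (fun a ha => Subgroup.mem_centralizer_singleton_iff.mpr
      (Subgroup.mem_centralizer_iff.mp (hQA x.2) a ha)) hAe hA2' hpM

include hG h2 h5 h6 h12 in
/-- The case `p ∈ σ(L)`, `p ∉ β(L)`. -/
theorem false_of_not_mem_beta (hM : IsCoatom M) (hL : IsCoatom L) (hnc : ∀ g : G, L ≠ cj g M)
    (hpM : ¬ p ∣ Nat.card ↥⁅M, M⁆) (hP : Nat.card P = p) (hPM : P ≤ M) (hpL : p ∈ Cfsg.sigma L)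
    (hpβ : p ∉ Cfsg.beta L) (hRL : R ≤ L)
    (hQ : IsPGroup q Q) (hQ1 : Q ≠ ⊥) (hQM : Q ≤ M) (hQL : Q ≤ L) (hQP : Q ≤ Subgroup.centralizer (P : Set G))
    (hqM : q ∈ Cfsg.sigma M) (hpq : p ≠ q) (hQR : ⁅Q, R⁆ = Q) : False := by
  have hqβ : q ∉ Cfsg.beta L := fun h =>
    (sigma_inter hG h2 h12 hM hL hnc hqM (Sigma10.alpha_subset_sigma hG hL h.1)).1 h
  obtain ⟨-, -, ⟨H, hH, hHnil⟩, -, -⟩ := Sigma10.betaCore_hall hG hL
    (fun p _ => Sigma10.pLengthLE_one_proper hG p) (Sigma10.propFiveFive hG)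
  have hQD : Q ≤ ⁅L, L⁆ := by rw [← hQR]; exact Subgroup.commutator_mono hQL hRL
  have := minSimple_solvable hG hL.1
  have hsD : Group.IsSolvable ↥⁅L, L⁆ :=
    minSimple_solvable hG fun h => hL.1 (top_le_iff.mp (h ▸ Subgroup.commutator_le_self L))
  obtain ⟨g, hg, hgle⟩ := exists_conj_into (π := {q}) hH.1 (fun t ht htq hd => by
    rw [Set.mem_singleton_iff] at htq
    exact hH.2.2 t ht ⟨ht, htq ▸ hqβ⟩ hd) hQD (fun t ht hd => by
    obtain ⟨n, hn⟩ := hQ.exists_card_eq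
    exact (Nat.prime_dvd_prime_iff_eq ht hq.out).mp (ht.dvd_of_dvd_pow (hn ▸ hd)))
  obtain ⟨T0⟩ : Nonempty (Sylow p L) := inferInstance
  have hT0 := sylowOf_map T0
  obtain ⟨k, -, hkle⟩ := exists_conj_into (π := {p}) hH.1 (fun t ht htp hd => by
    rw [Set.mem_singleton_iff] at htp
    exact hH.2.2 t ht ⟨ht, htp ▸ hpβ⟩ hd) (Sigma10.le_derived hG hL hpL hT0) (fun t ht hd => by
    obtain ⟨n, hn⟩ := hT0.2.1.exists_card_eq
    exact (Nat.prime_dvd_prime_iff_eq ht hp.out).mp (ht.dvd_of_dvd_pow (hn ▸ hd)))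
  obtain ⟨P0, hP0⟩ := Sigma10.exists_sylow_of_mem_sigma hpL hT0
  rw [← hP0] at hkle hT0
  have hni : ¬ Cfsg.IsIdealPrime p G := by
    intro hid
    have hr : Cfsg.PRankLE p 2 (P0 : Subgroup G) := by
      by_contra h
      exact hpβ ⟨⟨hp.out, fun h' => h (PRankLE.of_le hT0.1 h')⟩, hid⟩
    obtain ⟨E, hE, hEc⟩ := exists_elemAb_of_not_pRankLE hid.2.1
    obtain ⟨P₂, hP₂⟩ := (isPGroup_of_elemAb hE).exists_le_sylow
    obtain ⟨w, hw⟩ := MulAction.exists_smul_eq G P₂ P0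
    refine not_pRankLE_subgroup_iff.mpr ⟨cj w E, ?_, elemAb_map hE _, (card_cj w E).trans hEc⟩ hr
    rw [← hw, Sylow.coe_subgroup_smul]
    exact cj_mono hP₂
  obtain ⟨x, hx⟩ := exists_prime_orderOf_dvd_card' (G := Q) q (Uniq.prime_dvd_card hQ hQ1)
  obtain ⟨y, hy⟩ := exists_prime_orderOf_dvd_card' (G := P) p (hP ▸ dvd_rfl)
  have hxo : orderOf (x : G) = q := by rw [Subgroup.orderOf_coe, hx]
  refine false_of_centralizes_sylow hG h5 h6 h12 hM (hQM x.2) hxo hqM hni (hPM y.2)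
    (Subgroup.mem_centralizer_singleton_iff.mpr (Subgroup.mem_centralizer_iff.mp (hQP x.2) y y.2))
    (by rw [Subgroup.orderOf_coe, hy]) hpM (g⁻¹ • k • P0) ?_
  rw [Sylow.coe_subgroup_smul, Sylow.coe_subgroup_smul]
  intro t ht
  have ht' : g * t * g⁻¹ ∈ cj k (P0 : Subgroup G) := by
    have := mem_cj.mp (show t ∈ cj g⁻¹ (cj k (P0 : Subgroup G)) from ht)
    simpa using this
  have htH := hkle ht'
  have hxH : g * (x : G) * g⁻¹ ∈ H := hgle (mem_cj.mpr (by simpa [mul_assoc] using x.2))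
  have hco : (orderOf (⟨_, hxH⟩ : H)).Coprime (orderOf (⟨_, htH⟩ : H)) := by
    have e1 : orderOf (g * (x : G) * g⁻¹) = q :=
      ((MulEquiv.orderOf_eq (MulAut.conj g) (x : G))).trans hxo
    rw [← Subgroup.orderOf_coe, ← Subgroup.orderOf_coe, e1]
    obtain ⟨n, hn⟩ := (P0.isPGroup'.map (MulAut.conj k).toMonoidHom).exists_card_eq
    exact (((Nat.coprime_primes hq.out hp.out).mpr hpq.symm).pow_right n).coprime_dvd_right
      (hn ▸ Subgroup.orderOf_dvd_natCard _ ht')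
  have := hHnil
  have hcomm := congrArg Subtype.val (NilpotentSubgroups.commute_of_orderOf_coprime hco).eq
  rw [Subgroup.mem_centralizer_singleton_iff]
  have e : g * ((x : G) * t) * g⁻¹ = g * (t * (x : G)) * g⁻¹ := by
    calc g * ((x : G) * t) * g⁻¹ = (g * x * g⁻¹) * (g * t * g⁻¹) := by group
      _ = (g * t * g⁻¹) * (g * x * g⁻¹) := hcomm
      _ = _ := by group
  exact (mul_left_cancel (mul_right_cancel e)).symm

include hG h2 h5 h6 h12 in
/-- The case `p ∈ β(L)`. -/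
theorem false_of_mem_beta (hM : IsCoatom M) (hL : IsCoatom L) (hne : L ≠ M) (hnc : ∀ g : G, L ≠ cj g M)
    (hpM : Cfsg.PRankLE p 1 M) (hpd : ¬ p ∣ Nat.card ↥⁅M, M⁆) (hP : Nat.card P = p) (hPM : P ≤ M)
    (hPL : P ≤ L) (hpβ : p ∈ Cfsg.beta L) (hrq : r ≠ q) (hR : Nat.card R = r) (hRL : R ≤ L)
    (hRP : R ≤ Subgroup.centralizer (P : Set G)) (hQ : IsPGroup q Q) (hQ1 : Q ≠ ⊥) (hQM : Q ≤ M)
    (hQL : Q ≤ L) (hQP : Q ≤ Subgroup.centralizer (P : Set G)) (hqM : q ∈ Cfsg.sigma M) (hpq : p ≠ q)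
    (hRQ : R ≤ Subgroup.normalizer (Q : Set G)) (hQR : ⁅Q, R⁆ = Q) : False := by
  have hpL : p ∈ Cfsg.sigma L := Sigma10.alpha_subset_sigma hG hL hpβ.1
  have hqβ : q ∉ Cfsg.beta L := fun h =>
    (sigma_inter hG h2 h12 hM hL hnc hqM (Sigma10.alpha_subset_sigma hG hL h.1)).1 h
  have hRp := cyclic_isPGroup_of_card hR
  have hRcop : (Nat.card R).Coprime q := by rw [hR]; exact (Nat.coprime_primes hr.out hq.out).mpr hrq
  have hP1 : P ≠ ⊥ := fun h => by rw [h, Subgroup.card_bot] at hP; exact hp.out.ne_one hP.symm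
  have hp2 : p ≠ 2 := Uniq.prime_ne_two hG (cyclic_isPGroup_of_card hP) hP1
  have hq2 : q ≠ 2 := Uniq.prime_ne_two hG hQ hQ1
  have hr2 : r ≠ 2 := Uniq.prime_ne_two hG hRp (fun h => by
    rw [h, Subgroup.card_bot] at hR; exact hr.out.ne_one hR.symm)
  -- `r ∉ σ(L) ∪ τ₂(L)`
  have hrσ : r ∉ Cfsg.sigma L := fun h => by
    have hc := centralizes_of_le_sigmaCore hG h2 h12 hM hL hnc hqM
      (le_sigmaCore_of_isPGroup hG hL h hRL hRp) hQ hQL hRQ hRcop
    rw [Subgroup.commutator_eq_bot_iff_le_centralizer.mpr (Subgroup.le_centralizer_iff.mp hc)] at hQR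
    exact hQ1 hQR.symm
  have hr1 : Cfsg.PRankLE r 1 L := by
    by_contra h1
    have h2' : Cfsg.PRankLE r 2 L := by
      by_contra h
      exact Sigma10.not_mem_alpha_of_not_mem_sigma hG hL hrσ ⟨hr.out, h⟩
    have hτ : r ∈ Cfsg.tau2 L := ⟨hr.out, hrσ, h2', h1⟩
    obtain ⟨A', hA'L, hA'e, hA'2⟩ := not_pRankLE_subgroup_iff.mp h1
    have hqL := not_mem_sigma_of_nilpotent hG hM hL hnc (h5 L hL r hτ A' ⟨hA'L, hA'e, hA'2⟩).1 hqM
    have hσ' : ∀ t : ℕ, t.Prime → t ∣ Nat.card ↥(R ⊔ Q) → t ∉ Cfsg.sigma L := by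
      intro t ht hd
      obtain ⟨n, hn⟩ := hQ.exists_card_eq
      rcases ht.dvd_mul.mp (hd.trans (Coprime.card_sup_dvd hRQ)) with h' | h'
      · rwa [(Nat.prime_dvd_prime_iff_eq ht hr.out).mp (hR ▸ h')]
      · rwa [(Nat.prime_dvd_prime_iff_eq ht hq.out).mp (ht.dvd_of_dvd_pow (hn ▸ h'))]
    obtain ⟨EL, hEL, hle⟩ := exists_compl_ge hG hL (sup_le hRL hQL) hσ'
    obtain ⟨T', hT', -⟩ := exists_sylowOf_ge (le_sup_left.trans hle) hRp
    have hT'L := sylowOf_of_compl hG hL hEL hT' hrσ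
    obtain ⟨A, hAT, hAe, hA2⟩ := not_pRankLE_subgroup_iff.mp
      (fun h => h1 (Sigma10.pRankLE_of_sylowOf hT'L h))
    have hA2' : Nat.card A = r ^ 2 := hA2
    obtain ⟨⟨hEA, hall⟩, -⟩ := h6 L hL EL hEL r hτ A ⟨hAT.trans hT'.1, hAe, hA2'⟩
    refine hQ1 (le_bot_iff.mp (hQR ▸ ?_))
    refine Subgroup.commutator_le.mpr fun a ha b hb => ?_
    have hQR' : ⁅a, b⁆ ∈ Q := by rw [← hQR]; exact Subgroup.commutator_mem_commutator ha hb
    have hbA : b ∈ A := hall R (le_sup_left.trans hle) hR hb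
    have haA : ⁅a, b⁆ ∈ A := by
      rw [commutatorElement_def]
      exact A.mul_mem ((Subgroup.mem_normalizer_iff.mp (hEA (hle (Subgroup.mem_sup_right ha))) b).mp hbA)
        (A.inv_mem hbA)
    have hd : Disjoint A Q := by
      refine Subgroup.disjoint_of_coprime_natCard ?_
      obtain ⟨n, hn⟩ := hQ.exists_card_eq
      rw [hA2', hn]
      exact Nat.Coprime.pow _ _ ((Nat.coprime_primes hr.out hq.out).mpr hrq)
    exact hd.eq_bot ▸ (⟨haA, hQR'⟩ : ⁅a, b⁆ ∈ A ⊓ Q)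
  -- an invariant Sylow `p`-subgroup `T` of the `β`-core
  set B := Cfsg.piCoreOf (Cfsg.beta L) L with hB
  have hBL : B ≤ L := piCoreOf_le _ _
  have hBn : L ≤ Subgroup.normalizer (B : Set G) := piCoreOf_normal _ _
  have hsB : Group.IsSolvable B := minSimple_solvable hG fun h => hL.1 (top_le_iff.mp (h ▸ hBL))
  have hBσ : B ≤ Cfsg.sigmaCore L :=
    Subgroup.map_mono (piCore_mono fun t ht => Sigma10.alpha_subset_sigma hG hL ht.1)
  have hPB : P ≤ B := le_piCoreOf_beta hG hL hpβ hPL (cyclic_isPGroup_of_card hP)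
  have hcopB : ∀ U : Subgroup G, (∀ t : ℕ, t.Prime → t ∣ Nat.card U → t ∉ Cfsg.beta L) →
      (Nat.card U).Coprime (Nat.card B) := fun U hU =>
    Nat.coprime_of_dvd fun t ht h1 h2 => hU t ht h1 (piNat_card_piCoreOf (Cfsg.beta L) L t ht h2)
  have hrβ : r ∉ Cfsg.beta L := fun h => hrσ (Sigma10.alpha_subset_sigma hG hL h.1)
  have hJ : ∀ t : ℕ, t.Prime → t ∣ Nat.card ↥(R ⊔ Q) → t ∉ Cfsg.beta L := by
    intro t ht hd
    obtain ⟨n, hn⟩ := hQ.exists_card_eq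
    rcases ht.dvd_mul.mp (hd.trans (Coprime.card_sup_dvd hRQ)) with h' | h'
    · rwa [(Nat.prime_dvd_prime_iff_eq ht hr.out).mp (hR ▸ h')]
    · rwa [(Nat.prime_dvd_prime_iff_eq ht hq.out).mp (ht.dvd_of_dvd_pow (hn ▸ h'))]
  obtain ⟨Ts, hPT, hJT⟩ := Coprime.exists_invariant_sylow_ge (R ⊔ Q) B ((sup_le hRL hQL).trans hBn)
    (hcopB _ hJ) (Or.inr hsB) p P hPB (cyclic_isPGroup_of_card hP)
    ((sup_le hRP hQP).trans (Subgroup.centralizer_le_normalizer _))
  set T := (Ts : Subgroup B).map B.subtype with hT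
  have hTp : IsPGroup p T := Ts.isPGroup'.map _
  have hTL : T ≤ L := (Subgroup.map_subtype_le _).trans hBL
  have hTs : SylowOf p T L := by
    refine ⟨hTL, hTp, fun U hUL hU hle => ?_⟩
    exact (sylowOf_map Ts).2.2 U (le_piCoreOf_beta hG hL hpβ hUL hU) hU hle
  have hQT : Q ≤ Subgroup.centralizer (T : Set G) := by
    refine le_centralizer_of_fixed_order_p (p := p) (q := q) (r := r) hp2 hq2 hr2 hrq
      (fun h => hrσ (h ▸ hpL)) hpq.symm Q R hQ hR hRQ hQR T hTp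
      (sup_le (le_sup_right.trans hJT) (le_sup_left.trans hJT)) fun x hxT hxR hxp => ?_
    have := isCyclic_inf_centralizer hG hL hpβ.2 hp2 hTp hTL hR hrσ hr1
    have hxP : x ∈ P := mem_of_pow_card_eq_one (S := T ⊓ Subgroup.centralizer (R : Set G))
      (le_inf hPT (Subgroup.le_centralizer_iff.mp hRP)) ⟨hxT, hxR⟩ (by rwa [hP])
    exact Subgroup.mem_centralizer_iff.mpr fun w hw =>
      (Subgroup.mem_centralizer_iff.mp (hQP hw) x hxP).symm
  -- `C(x)` lies only in `L`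
  obtain ⟨x, hx⟩ := exists_prime_orderOf_dvd_card' (G := Q) q (Uniq.prime_dvd_card hQ hQ1)
  set X := Subgroup.zpowers (x : G) with hX
  have hXc : Nat.card X = q := by rw [hX, Nat.card_zpowers, Subgroup.orderOf_coe, hx]
  have hXQ : X ≤ Q := Subgroup.zpowers_le.mpr x.2
  have hX1 : X ≠ ⊥ := fun h => by rw [h, Subgroup.card_bot] at hXc; exact hq.out.ne_one hXc.symm
  have hTtop := minSimple_pgroup_ne_top hG hTp
  have hTr : ¬ Cfsg.PRankLE p 2 T := fun h => hpβ.1.2 (Sigma10.pRankLE_of_sylowOf hTs h)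
  have hTU := Sigma10.inUnique_of_rank_three hG hTr hTtop
  have hXL : OnlyIn (Subgroup.centralizer (X : Set G)) L := inUnique_centralizer_of_rank_three hG hTU hL hTL
    (Subgroup.le_centralizer_iff.mp (hXQ.trans hQT)) hX1
  have hNX : Subgroup.normalizer (X : Set G) ≤ L := by
    obtain ⟨L₂, hL₂, hle⟩ := exists_isCoatom_ge
      (minSimple_normalizer_ne_top hG hX1 (minSimple_pgroup_ne_top hG (cyclic_isPGroup_of_card hXc)))
    exact hXL.le_of_isCoatom hL₂ ((Subgroup.centralizer_le_normalizer _).trans hle) ▸ hle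
  obtain ⟨S, hS, hXS⟩ := exists_sylowOf_ge (M := M ⊓ L) (le_inf (hXQ.trans hQM) (hXQ.trans hQL))
    (cyclic_isPGroup_of_card hXc)
  obtain ⟨hNS, hSL⟩ := partner_sylow hG hM hqM hNX h12 hS hXS
  have hSM : S ≤ M := hS.1.trans inf_le_left
  have hqL : q ∈ Cfsg.sigma L := by
    by_contra hqL
    obtain ⟨-, -, hbot, -⟩ := exists_compl_le_inf hG h5 h6 h12 hM hL hne hqM hqL hNX hXS hX1 hSM hSL
    exact hP1 (le_bot_iff.mp (hbot ▸ le_inf (hPB.trans hBσ) hPM))
  -- a complement of `L_σ` in `N_M(S)`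
  have := minSimple_solvable hG hL.1
  obtain ⟨EL₀, hEL₀⟩ := exists_compl hG hL
  have hSσ : S ≤ Cfsg.sigmaCore L := le_sigmaCore_of_isPGroup hG hL hqL hSL.1 hS.2.1
  have hfr : L ≤ Cfsg.sigmaCore L ⊔ (L ⊓ Subgroup.normalizer (S : Set G)) := by
    intro l hl
    obtain ⟨s, hs, hle⟩ := Sigma10.exists_conj_le (hSL.mono (piCoreOf_le _ _) hSσ) (Q := cj l S)
      ((cj_mono hSσ).trans (cj_eq_of_mem_normalizer (piCoreOf_normal _ _ hl)).le) (hS.2.1.map _)
    rw [cj_mul] at hle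
    have h1 := mem_normalizer_of_cj_eq (Subgroup.eq_of_le_of_card_ge hle (card_cj (s * l) S).ge)
    have h3 : s * l ∈ Cfsg.sigmaCore L ⊔ (L ⊓ Subgroup.normalizer (S : Set G)) :=
      Subgroup.mem_sup_right ⟨mul_mem (piCoreOf_le _ _ hs) hl, h1⟩
    have h4 := mul_mem (inv_mem (Subgroup.mem_sup_left hs :
      s ∈ Cfsg.sigmaCore L ⊔ (L ⊓ Subgroup.normalizer (S : Set G)))) h3
    rwa [inv_mul_cancel_left] at h4
  obtain ⟨g, hg, hgle⟩ := exists_conj_into (π := (Cfsg.sigma L)ᶜ) (Y := EL₀)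
    (inf_le_left : L ⊓ Subgroup.normalizer (S : Set G) ≤ L) (fun t ht htσ hd =>
      htσ (piNat_card_piCoreOf (Cfsg.sigma L) L t ht
        (hd.trans (relIndex_dvd_card_of_le_sup (piCoreOf_le _ _) inf_le_left (piCoreOf_normal _ _) hfr))))
    hEL₀.1 (fun t ht hd => Sigma10.not_mem_sigma_of_dvd_compl hG hL hEL₀ ht hd)
  set EL := cj g EL₀ with hELdef
  have hEL : Cfsg.IsComplIn EL (Cfsg.sigmaCore L) L := isComplIn_cj hEL₀ (piCoreOf_normal _ _) hg
  have hELS : EL ≤ Subgroup.normalizer (S : Set G) := hgle.trans inf_le_right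
  have hELM : EL ≤ M := hELS.trans hNS
  -- `S` centralizes `M ∩ B`
  set K := M ⊓ B with hK
  have hbotMB : Cfsg.sigmaCore M ⊓ B = ⊥ := by
    refine (Subgroup.disjoint_of_coprime_natCard (Nat.coprime_of_dvd fun t ht h1 h3 => ?_)).eq_bot
    have := Fact.mk ht
    have htβ := piNat_card_piCoreOf (Cfsg.beta L) L t ht h3
    exact (sigma_inter hG h2 h12 hM hL hnc (piNat_card_piCoreOf (Cfsg.sigma M) M t ht h1)
      (Sigma10.alpha_subset_sigma hG hL htβ.1)).1 htβ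
  have hSMσ : S ≤ Cfsg.sigmaCore M := le_sigmaCore_of_isPGroup hG hM hqM hSM hS.2.1
  have hSK : S ≤ Subgroup.centralizer (K : Set G) := by
    intro s hs
    refine Subgroup.mem_centralizer_iff.mpr fun b hb => ?_
    have h1 : ⁅b, s⁆ ∈ Cfsg.sigmaCore M ⊓ B := by
      refine ⟨?_, ?_⟩
      · rw [commutatorElement_def]
        exact (Cfsg.sigmaCore M).mul_mem ((Subgroup.mem_normalizer_iff.mp (piCoreOf_normal _ M hb.1) s).mp (hSMσ hs))
          ((Cfsg.sigmaCore M).inv_mem (hSMσ hs))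
      · rw [commutatorElement_def, mul_assoc, mul_assoc, ← mul_assoc s]
        exact B.mul_mem hb.2 ((Subgroup.mem_normalizer_iff.mp (hBn (hSL.1 hs)) b⁻¹).mp (B.inv_mem hb.2))
    rw [hbotMB, Subgroup.mem_bot] at h1
    exact commutatorElement_eq_one_iff_mul_comm.mp h1
  -- an `E_L`-invariant subgroup of order `p` of `M ∩ B`
  have hELK : EL ≤ Subgroup.normalizer (K : Set G) :=
    Subgroup.le_normalizer_iff.2 fun e he b hb =>
      ⟨M.mul_mem (M.mul_mem (hELM he) hb.1) (M.inv_mem (hELM he)),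
        (Subgroup.mem_normalizer_iff.mp (hBn (hEL.1 he)) b).mp hb.2⟩
  have hsK : Group.IsSolvable K := minSimple_solvable hG fun h => hM.1 (top_le_iff.mp (h ▸ inf_le_left))
  have hcopK : (Nat.card EL).Coprime (Nat.card K) :=
    (hcopB EL (fun t ht hd h => Sigma10.not_mem_sigma_of_dvd_compl hG hL hEL ht hd
      (Sigma10.alpha_subset_sigma hG hL h.1))).coprime_dvd_right (Subgroup.card_dvd_of_le inf_le_right)
  obtain ⟨Tk, -, hELTk⟩ := Coprime.exists_invariant_sylow_ge EL K hELK hcopK (Or.inr hsK) p ⊥ bot_le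
    IsPGroup.of_bot (Subgroup.le_normalizer_iff.2 fun g _ b hb => by simp [Subgroup.mem_bot.mp hb])
  set Pb := (Tk : Subgroup K).map K.subtype with hPb
  have hPbp : IsPGroup p Pb := Tk.isPGroup'.map _
  have hPbK : Pb ≤ K := Subgroup.map_subtype_le _
  have hPbc : IsCyclic Pb :=
    isCyclic_of_pRankLE_one hp2 hPbp (PRankLE.of_le (hPbK.trans inf_le_left) hpM)
  have hPbd : p ∣ Nat.card Pb := by
    rw [hPb, Subgroup.card_map_of_injective K.subtype_injective]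
    exact Tk.dvd_card_of_dvd_card (hP ▸ Subgroup.card_dvd_of_le (le_inf hPM hPB))
  obtain ⟨y, hy⟩ := exists_prime_orderOf_dvd_card' (G := Pb) p hPbd
  set P' := Subgroup.zpowers (y : G) with hP'
  have hP'c : Nat.card P' = p := by rw [hP', Nat.card_zpowers, Subgroup.orderOf_coe, hy]
  have hP'Pb : P' ≤ Pb := Subgroup.zpowers_le.mpr y.2
  have hP'M : P' ≤ M := (hP'Pb.trans hPbK).trans inf_le_left
  have hP'B : P' ≤ B := (hP'Pb.trans hPbK).trans inf_le_right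
  have hELP' : EL ≤ Subgroup.centralizer (P' : Set G) := by
    intro e he
    refine Subgroup.mem_centralizer_iff.mpr fun w hw => ?_
    have hd : Disjoint ⁅M, M⁆ P' := by
      refine Subgroup.disjoint_of_coprime_natCard ?_
      rw [hP'c]
      exact ((hp.out.coprime_iff_not_dvd).mpr hpd).symm
    have h1 : ⁅e, w⁆ ∈ ⁅M, M⁆ ⊓ P' := by
      refine ⟨Subgroup.commutator_mem_commutator (hELM he) (hP'M hw), ?_⟩
      rw [commutatorElement_def]
      exact P'.mul_mem ((Subgroup.mem_normalizer_iff.mp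
        (normalizer_le_normalizer_of_cyclic hPbc hP'Pb (hELTk he)) w).mp hw) (P'.inv_mem hw)
    rw [hd.eq_bot, Subgroup.mem_bot] at h1
    exact (commutatorElement_eq_one_iff_mul_comm.mp h1).symm
  have hSP' : S ≤ Subgroup.centralizer (P' : Set G) :=
    hSK.trans (Subgroup.centralizer_le (hP'Pb.trans hPbK))
  -- the invariant Sylow subgroup
  have hJ' : ∀ t : ℕ, t.Prime → t ∣ Nat.card ↥(EL ⊔ S) → t ∉ Cfsg.beta L := by
    intro t ht hd h
    obtain ⟨n, hn⟩ := hS.2.1.exists_card_eq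
    rcases ht.dvd_mul.mp (hd.trans (Coprime.card_sup_dvd hELS)) with h' | h'
    · exact Sigma10.not_mem_sigma_of_dvd_compl hG hL hEL ht h' (Sigma10.alpha_subset_sigma hG hL h.1)
    · exact hqβ ((Nat.prime_dvd_prime_iff_eq ht hq.out).mp (ht.dvd_of_dvd_pow (hn ▸ h')) ▸ h)
  obtain ⟨Ts', hPT', hJT'⟩ := Coprime.exists_invariant_sylow_ge (EL ⊔ S) B
    ((sup_le hEL.1 hSL.1).trans hBn) (hcopB _ hJ') (Or.inr hsB) p P' hP'B (cyclic_isPGroup_of_card hP'c)
    ((sup_le hELP' hSP').trans (Subgroup.centralizer_le_normalizer _))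
  set T' := (Ts' : Subgroup B).map B.subtype with hT'
  have hT'p : IsPGroup p T' := Ts'.isPGroup'.map _
  have hT'L : T' ≤ L := (Subgroup.map_subtype_le _).trans hBL
  have hT's : SylowOf p T' L :=
    ⟨hT'L, hT'p, fun U hUL hU hle =>
      (sylowOf_map Ts').2.2 U (le_piCoreOf_beta hG hL hpβ hUL hU) hU hle⟩
  have hST := sylow_centralizes_of_beta hG h2 h5 h6 h12 hM hL hnc hp2 hq2 hqM hqL hpβ hSL hEL hELS
    hT'p hT'L hJT' hPT' hP'c hELP' hSP'
  have hTM : T' ≤ M :=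
    (Subgroup.le_centralizer_iff.mp hST).trans ((Subgroup.centralizer_le_normalizer _).trans hNS)
  exact hpβ.1.2 (Sigma10.pRankLE_of_sylowOf hT's
    (PRankLE.of_le hTM (PRankLE.mono_k hp.out one_le_two hpM)))

omit hp hq hr in
include hG h2 h5 h6 h12 in
/-- **BG 13.4**. -/
theorem centralizer_le_of_tau1 {E : Subgroup G} (hM : IsCoatom M)
    (hE : Cfsg.IsComplIn E (Cfsg.sigmaCore M) M) {p : ℕ} (hp : p ∈ Cfsg.tau1 M) (hPE : P ≤ E)
    (hP : Nat.card P = p) (hRE : R ≤ E ⊓ Subgroup.centralizer (P : Set G)) (hR : (Nat.card R).Prime) :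
    Cfsg.sigmaCore M ⊓ Subgroup.centralizer (P : Set G) ≤
      Cfsg.sigmaCore M ⊓ Subgroup.centralizer (R : Set G) := by
  obtain ⟨hpp, hpσ, -, hpd, hpM⟩ := hp
  have := Fact.mk hpp
  set r := Nat.card R with hr
  have := Fact.mk hR
  refine le_inf inf_le_left ?_
  have hPM : P ≤ M := hPE.trans hE.1
  have hRM : R ≤ M := (hRE.trans inf_le_left).trans hE.1
  have hRP : R ≤ Subgroup.centralizer (P : Set G) := hRE.trans inf_le_right
  by_cases hrp : r = p
  · have hRPeq : R ≤ P := by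
      intro x hx
      by_contra hxP
      have hPe : Cfsg.IsElementaryAbelian p P := by
        have : IsCyclic P := isCyclic_of_prime_card hP
        exact ⟨IsCyclic.isMulCommutative, fun a ha => by
          simpa [hP] using congrArg Subtype.val (pow_card_eq_one' (x := (⟨a, ha⟩ : P)))⟩
      have hxp : x ^ p = 1 := by
        rw [← hrp]
        exact congrArg Subtype.val (pow_card_eq_one' (x := (⟨x, hx⟩ : R)))
      have h := pRankLE_iff.mp hpM _ (elemAb_comap (elemAb_sup_zpowers hPe hxp (hRP hx)) M.subtype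
        M.subtype_injective)
      have hle : P ⊔ Subgroup.zpowers x ≤ M := sup_le hPM (Subgroup.zpowers_le.mpr (hRM hx))
      change Nat.card ((P ⊔ Subgroup.zpowers x).subgroupOf M) ≤ _ at h
      rw [Nat.card_congr (Subgroup.subgroupOfEquivOfLe hle).toEquiv, pow_one, ← hP] at h
      exact hxP ((Subgroup.eq_of_le_of_card_ge le_sup_left h).ge
        ((le_sup_right : Subgroup.zpowers x ≤ P ⊔ Subgroup.zpowers x) (Subgroup.mem_zpowers x)))
    rw [Subgroup.eq_of_le_of_card_ge hRPeq (by rw [hP, ← hrp])]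
    exact inf_le_right
  have hP1 : P ≠ ⊥ := fun h => by rw [h, Subgroup.card_bot] at hP; exact hpp.ne_one hP.symm
  have hR1 : R ≠ ⊥ := fun h => by
    rw [h, Subgroup.card_bot] at hr; exact hR.ne_one hr
  have hrσ : r ∉ Cfsg.sigma M :=
    Sigma10.not_mem_sigma_of_dvd_compl hG hM hE hR (Subgroup.card_dvd_of_le (hRE.trans inf_le_left))
  obtain ⟨L, hL, hNL⟩ := exists_isCoatom_ge
    (minSimple_normalizer_ne_top hG hP1 (minSimple_pgroup_ne_top hG (cyclic_isPGroup_of_card hP)))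
  have hne : L ≠ M := fun h =>
    (Sigma10.rank_two_of_normalizer_le hG hM hpσ hP (h ▸ hNL)).1.2 hpM
  have hCL : Subgroup.centralizer (P : Set G) ≤ L := (Subgroup.centralizer_le_normalizer _).trans hNL
  set W := Cfsg.sigmaCore M ⊓ Subgroup.centralizer (P : Set G) with hW
  have hWσ : ∀ t : ℕ, t.Prime → t ∣ Nat.card W → t ∈ Cfsg.sigma M := fun t ht hd =>
    piNat_card_piCoreOf (Cfsg.sigma M) M t ht (hd.trans (Subgroup.card_dvd_of_le inf_le_left))
  have hRW : R ≤ Subgroup.normalizer (W : Set G) := by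
    refine Subgroup.le_normalizer_iff.2 fun s hs w hw =>
      ⟨(Subgroup.mem_normalizer_iff.mp (piCoreOf_normal (Cfsg.sigma M) M (hRM hs)) w).mp hw.1,
        Subgroup.mul_mem _ (Subgroup.mul_mem _ (hRP hs) hw.2) (Subgroup.inv_mem _ (hRP hs))⟩
  have hcop : (Nat.card R).Coprime (Nat.card W) :=
    (hR.coprime_iff_not_dvd).mpr fun hd => hrσ (hWσ r hR hd)
  have hsW : Group.IsSolvable W :=
    minSimple_solvable hG fun h => hM.1 (top_le_iff.mp (h ▸ inf_le_left.trans (piCoreOf_le _ _)))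
  refine le_of_exists_sylow_le fun q hq => ?_
  have := Fact.mk hq
  obtain ⟨T, -, hRT⟩ := Coprime.exists_invariant_sylow_ge R W hRW hcop (Or.inr hsW) q ⊥ bot_le
    IsPGroup.of_bot (Subgroup.le_normalizer_iff.2 fun g _ b hb => by simp [Subgroup.mem_bot.mp hb])
  refine ⟨T, ?_⟩
  set Q := (T : Subgroup W).map W.subtype with hQdef
  rw [← Subgroup.commutator_eq_bot_iff_le_centralizer]
  by_contra hQ0
  set Q₀ := ⁅Q, R⁆ with hQ₀def
  have hQ : IsPGroup q Q := T.isPGroup'.map _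
  have hQW : Q ≤ W := Subgroup.map_subtype_le _
  have hQ₀Q : Q₀ ≤ Q := Coprime.commutator_le_of_normalizes hRT
  have hQ₀ : IsPGroup q Q₀ := hQ.to_le hQ₀Q
  have hqd : q ∣ Nat.card W :=
    (Uniq.prime_dvd_card hQ₀ hQ0).trans (Subgroup.card_dvd_of_le (hQ₀Q.trans hQW))
  have hqM := hWσ q hq hqd
  have hrq : r ≠ q := fun h => hrσ (h ▸ hqM)
  have hpq : p ≠ q := fun h => hpσ (h ▸ hqM)
  have hsQ : Group.IsSolvable Q := by
    have := hQ.isNilpotent
    infer_instance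
  have hQR : ⁅Q₀, R⁆ = Q₀ := Coprime.commutator_commutator_eq R Q hRT
    (hcop.coprime_dvd_right (Subgroup.card_dvd_of_le hQW)) (Or.inr hsQ)
  have hRQ₀ : R ≤ Subgroup.normalizer (Q₀ : Set G) := Coprime.le_normalizer_commutator_right Q R
  have hQ₀M : Q₀ ≤ M := (hQ₀Q.trans hQW).trans (inf_le_left.trans (piCoreOf_le _ _))
  have hQ₀P : Q₀ ≤ Subgroup.centralizer (P : Set G) := (hQ₀Q.trans hQW).trans inf_le_right
  by_cases hpL : p ∈ Cfsg.sigma L
  · have hnc := not_conj_of_mem_sigma hpL hpσ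
    by_cases hpβ : p ∈ Cfsg.beta L
    · exact false_of_mem_beta hG h2 h5 h6 h12 (p := p) (q := q) (r := r) hM hL hne hnc hpM hpd hP hPM
        (Subgroup.le_normalizer.trans hNL) hpβ hrq rfl (hRP.trans hCL) hRP hQ₀ hQ0 hQ₀M (hQ₀P.trans hCL)
        hQ₀P hqM hpq hRQ₀ hQR
    · exact false_of_not_mem_beta hG h2 h5 h6 h12 (p := p) (q := q) hM hL hnc hpd hP hPM hpL hpβ
        (hRP.trans hCL) hQ₀ hQ0 hQ₀M (hQ₀P.trans hCL) hQ₀P hqM hpq hQR
  · exact false_of_not_mem_sigma hG h2 h5 h6 h12 (p := p) (q := q) (r := r) hM hL hpM hP hPM hNL hpL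
      hrq rfl hRP hQ₀ hQ0 hQ₀M hQ₀P hqM hpq hRQ₀ hQR

end CfsgLib.OddOrder41
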