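import Mathlib
import Cfsg.Agent.Lib.OddOrder41.Sigma13Tau1

/-!
# BG §13: small tools -- rank one primes, `M'` modulo the `β`-core, transfer, Frobenius fixed points
-/

set_option autoImplicit false

namespace CfsgLib.OddOrder41

open Subgroup CfsgLib.OddOrder CfsgLib.OddOrder.Transitivity
open scoped commutatorElement Pointwise

universe u

section NoHyp

variable {G : Type u} [Group G] [Finite G]

omit [Finite G] in
theorem mem_normalizer_zpowers_of_comm {x a : G} (h : a * x = x * a) :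
    a ∈ Subgroup.normalizer ((Subgroup.zpowers x : Subgroup G) : Set G) :=
  Subgroup.centralizer_le_normalizer _ (by
    rw [centralizer_zpowers]; exact Subgroup.mem_centralizer_singleton_iff.mpr h)

/-- If the centralizer of `X` lies only in `H`, so does its normalizer. -/
theorem normalizer_le_of_onlyIn {X H : Subgroup G} (hH : IsCoatom H)
    (hself : Subgroup.normalizer (H : Set G) = H)
    (h : OnlyIn (Subgroup.centralizer (X : Set G)) H) : Subgroup.normalizer (X : Set G) ≤ H := by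
  intro n hn
  have h1 := h.cj n
  rw [cj_centralizer, cj_eq_of_mem_normalizer hn] at h1
  have h2 : cj n H = H := h.eq (isCoatom_map_conj hH n) h1
  exact hself.le (mem_normalizer_of_cj_eq h2)

/-- In a cyclic group subgroups of equal order are equal. -/
theorem eq_of_card_eq_of_cyclic {C A B : Subgroup G} (hC : IsCyclic C) (hA : A ≤ C) (hB : B ≤ C)
    (h : Nat.card A = Nat.card B) : A = B := by
  have := hC
  refine Subgroup.eq_of_le_of_card_ge (fun a ha => mem_of_pow_card_eq_one hB (hA ha) ?_) h.ge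
  rw [← h]
  exact congrArg Subtype.val (pow_card_eq_one' (x := (⟨a, ha⟩ : A)))

/-- A coprime operator fixing an element of prime order of a cyclic `t`-group fixes the whole group. -/
theorem centralizes_cyclic {t : ℕ} [ht : Fact t.Prime] {T A : Subgroup G} (hT : IsPGroup t T)
    (hTc : IsCyclic T) (hAT : A ≤ Subgroup.normalizer (T : Set G)) (hcop : (Nat.card A).Coprime t)
    {x : G} (hx : x ∈ T) (hxo : orderOf x = t) (hfix : A ≤ Subgroup.centralizer ({x} : Set G)) :
    A ≤ Subgroup.centralizer (T : Set G) := by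
  have := hTc
  haveI : IsMulCommutative T := IsCyclic.isMulCommutative
  obtain ⟨n, hn⟩ := hT.exists_card_eq
  have hcop' : (Nat.card A).Coprime (Nat.card T) := by rw [hn]; exact hcop.pow_right n
  have h0 : ⁅T, A⁆ = ⊥ := by
    by_contra hne
    have hle := Coprime.commutator_le_of_normalizes hAT
    obtain ⟨y, hy⟩ := exists_prime_orderOf_dvd_card' (G := ↥⁅T, A⁆) t
      (Uniq.prime_dvd_card (hT.to_le hle) hne)
    have heq : Subgroup.zpowers (y : G) = Subgroup.zpowers x := eq_of_card_eq_of_cyclic hTc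
      (Subgroup.zpowers_le.mpr (hle y.2)) (Subgroup.zpowers_le.mpr hx)
      (by rw [Nat.card_zpowers, Nat.card_zpowers, Subgroup.orderOf_coe, hy, hxo])
    have hxD : x ∈ ⁅T, A⁆ := Subgroup.zpowers_le.mpr y.2 (heq.ge (Subgroup.mem_zpowers x))
    have h1 : x ∈ ⁅T, A⁆ ⊓ Subgroup.centralizer (A : Set G) := ⟨hxD, Subgroup.mem_centralizer_iff.mpr
      fun a ha => Subgroup.mem_centralizer_singleton_iff.mp (hfix ha)⟩
    rw [Coprime.commutator_inf_centralizer_eq_bot A T hAT hcop', Subgroup.mem_bot] at h1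
    rw [h1, orderOf_one] at hxo
    exact ht.out.ne_one hxo.symm
  exact Subgroup.le_centralizer_iff.mp (Subgroup.commutator_eq_bot_iff_le_centralizer.mp h0)

open scoped IsMulCommutative in
/-- A central element of the derived group is a `t'`-element if the Sylow `t`-subgroups are abelian. -/
theorem not_mem_derived_of_central {t : ℕ} [ht : Fact t.Prime] {E T : Subgroup G} (hT : SylowOf t T E)
    (hTc : IsMulCommutative T) {y : G} (hy : y ∈ T) (hcen : E ≤ Subgroup.centralizer ({y} : Set G))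
    (hyD : y ∈ ⁅E, E⁆) : y = 1 := by
  obtain ⟨S, rfl⟩ := hT.toSylow
  obtain ⟨y', hy', rfl⟩ := hy
  have hSc : IsMulCommutative (S : Subgroup E) := ⟨⟨fun a b => Subtype.ext (E.subtype_injective
    (by simpa using congrArg Subtype.val (hTc.is_comm.comm (⟨_, Subgroup.mem_map_of_mem _ a.2⟩ :
      (S : Subgroup E).map E.subtype) ⟨_, Subgroup.mem_map_of_mem _ b.2⟩)))⟩⟩
  let φ : E →* (S : Subgroup E) := MonoidHom.transfer (MonoidHom.id (S : Subgroup E))
  have key : ∀ (k : ℕ) (g₀ : E), g₀⁻¹ * y' ^ k * g₀ ∈ (S : Subgroup E) →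
      g₀⁻¹ * y' ^ k * g₀ = y' ^ k := by
    intro k g₀ _
    have h1 : g₀ * y' = y' * g₀ :=
      Subtype.ext (Subgroup.mem_centralizer_singleton_iff.mp (hcen g₀.2))
    have h2 : Commute g₀ (y' ^ k) := (show Commute g₀ y' from h1).pow_right k
    rw [mul_assoc, ← h2.eq, inv_mul_cancel_left]
  have hker : φ y' = 1 := by
    have hyD' : y' ∈ commutator ↥E := by
      have h1 : (y' : G) ∈ (commutator ↥E).map E.subtype := by
        rw [Subgroup.map_subtype_commutator]; exact hyD
      obtain ⟨w, hw, hwe⟩ := h1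
      exact Subtype.coe_injective hwe ▸ hw
    exact MonoidHom.mem_ker.mp (Abelianization.commutator_subset_ker φ hyD')
  rw [show φ y' = _ from MonoidHom.transfer_eq_pow (MonoidHom.id (S : Subgroup E)) y' key] at hker
  have hpow : y' ^ (S : Subgroup E).index = 1 := congrArg Subtype.val hker
  obtain ⟨n, hn⟩ := S.isPGroup'.exists_card_eq
  have hord : orderOf y' ∣ t ^ n := hn ▸ Subgroup.orderOf_dvd_natCard _ hy'
  have h1 : orderOf y' = 1 := Nat.eq_one_of_dvd_coprimes
    (Nat.Coprime.pow_left n ((ht.out.coprime_iff_not_dvd).mpr S.not_dvd_index)) hord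
    (orderOf_dvd_of_pow_eq_one hpow)
  rw [orderOf_eq_one_iff.mp h1]
  rfl

/-- A Frobenius group `P Z` with `C_H(Z) ≤ C_H(P)` has `P` centralizing `H`. -/
theorem centralizes_of_frobenius {P Z H : Subgroup G} (hZ : (Nat.card Z).Prime)
    (hZP : Z ≤ Subgroup.normalizer (P : Set G)) (hcopPZ : (Nat.card P).Coprime (Nat.card Z))
    (hfpf : P ⊓ Subgroup.centralizer (Z : Set G) = ⊥)
    (hPH : P ≤ Subgroup.normalizer (H : Set G)) (hZH : Z ≤ Subgroup.normalizer (H : Set G))
    (hsolv : Group.IsSolvable H) (hcopP : (Nat.card H).Coprime (Nat.card P))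
    (hcopZ : (Nat.card H).Coprime (Nat.card Z))
    (h : H ⊓ Subgroup.centralizer (Z : Set G) ≤ Subgroup.centralizer (P : Set G)) :
    P ≤ Subgroup.centralizer (H : Set G) := by
  have hZ1 : Z ≠ ⊥ := fun h1 => hZ.ne_one (by rw [h1, Subgroup.card_bot])
  have hfree : ∀ e ∈ Z, e ≠ 1 → ∀ u ∈ P, e * u = u * e → u = 1 := by
    intro e he he1 u hu heu
    have hgen : Subgroup.zpowers e = Z := by
      refine Subgroup.eq_of_le_of_card_ge (Subgroup.zpowers_le.mpr he) (le_of_eq ?_)
      rcases (Nat.dvd_prime hZ).mp (Subgroup.card_dvd_of_le (Subgroup.zpowers_le.mpr he)) with h1 | h1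
      · rw [Nat.card_zpowers, orderOf_eq_one_iff] at h1; exact absurd h1 he1
      · exact h1.symm
    have h1 : u ∈ P ⊓ Subgroup.centralizer (Z : Set G) := ⟨hu, by
      rw [← hgen, centralizer_zpowers]
      exact Subgroup.mem_centralizer_singleton_iff.mpr heu.symm⟩
    rwa [hfpf, Subgroup.mem_bot] at h1
  have hcard : (Nat.card H).Coprime (Nat.card ↥(P ⊔ Z)) := by
    refine (hcopP.mul_right hcopZ).coprime_dvd_right ?_
    rw [sup_comm, mul_comm]
    exact Coprime.card_sup_dvd hZP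
  have hff := FixedFormula.fixed_formula P Z hZ1 hZP hcopPZ hfree H (sup_le hPH hZH) hsolv hcard
  have heq : H ⊓ Subgroup.centralizer ((P ⊔ Z : Subgroup G) : Set G) =
      H ⊓ Subgroup.centralizer (Z : Set G) := by
    refine le_antisymm (inf_le_inf_left _ (Subgroup.centralizer_le (show (Z : Set G) ⊆ _ from (le_sup_right : Z ≤ P ⊔ Z))))
      (le_inf inf_le_left ?_)
    rw [Subgroup.le_centralizer_iff, sup_le_iff]
    exact ⟨Subgroup.le_centralizer_iff.mp h, Subgroup.le_centralizer_iff.mp inf_le_right⟩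
  rw [heq] at hff
  have h2 := Nat.eq_of_mul_eq_mul_left (pow_pos Nat.card_pos _) hff
  have h3 := Subgroup.eq_of_le_of_card_ge (inf_le_left : H ⊓ Subgroup.centralizer (P : Set G) ≤ H) h2.le
  exact Subgroup.le_centralizer_iff.mp (h3 ▸ inf_le_right)

end NoHyp

variable {G : Type u} [Group G] [Finite G] (hG : Cfsg.IsMinSimpleOddOrder G)

include hG in
theorem pRankLE_two {M : Subgroup G} (hM : IsCoatom M) {p : ℕ} (hp : p.Prime)
    (hpσ : p ∉ Cfsg.sigma M) : Cfsg.PRankLE p 2 M := by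
  by_contra h
  exact Sigma10.not_mem_alpha_of_not_mem_sigma hG hM hpσ ⟨hp, h⟩

include hG in
theorem mem_tau2_of_not_rank_one {M : Subgroup G} (hM : IsCoatom M) {p : ℕ} (hp : p.Prime)
    (hpσ : p ∉ Cfsg.sigma M) (h : ¬ Cfsg.PRankLE p 1 M) : p ∈ Cfsg.tau2 M :=
  ⟨hp, hpσ, pRankLE_two hG hM hp hpσ, h⟩

include hG in
theorem not_isIdeal_of_tau2 {M : Subgroup G} (hM : IsCoatom M) {p : ℕ} (hp : p ∈ Cfsg.tau2 M) :
    ¬ Cfsg.IsIdealPrime p G := by
  intro hid
  have := Fact.mk hp.1
  obtain ⟨A, hAM, hAe, hA2⟩ := not_pRankLE_subgroup_iff.mp hp.2.2.2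
  obtain ⟨P, hP⟩ := (isPGroup_of_elemAb hAe).exists_le_sylow
  obtain ⟨B, -, hBe, hAB⟩ := hid.2.2 P A hP hAe hA2
  exact hAB.ne (Sigma10.elemAb_sq_maximal hG hM hp.2.1 hAM hAe hA2 hBe hAB.le).symm

include hG in
/-- Subgroups of order `p` of a group of `p`-rank one are conjugate. -/
theorem exists_cj_eq_of_rank_one {p : ℕ} [hp : Fact p.Prime] {M X Y : Subgroup G}
    (hr : Cfsg.PRankLE p 1 M) (hX : X ≤ M) (hY : Y ≤ M) (hXc : Nat.card X = p) (hYc : Nat.card Y = p) :
    ∃ m ∈ M, cj m X = Y := by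
  obtain ⟨S, hS, hYS⟩ := exists_sylowOf_ge hY (cyclic_isPGroup_of_card hYc)
  have hp2 : p ≠ 2 := minSimple_prime_ne_two hG (H := Y) (hYc ▸ dvd_rfl)
  have hSc : IsCyclic S := isCyclic_of_pRankLE_one hp2 hS.2.1 (PRankLE.of_le hS.1 hr)
  obtain ⟨m, hm, hle⟩ := Sigma10.exists_conj_le hS hX (cyclic_isPGroup_of_card hXc)
  exact ⟨m, hm, eq_of_card_eq_of_cyclic hSc hle hYS (by rw [card_cj, hXc, hYc])⟩

include hG in
/-- In a group of `p`-rank one a normal subgroup of order divisible by `p` contains all subgroups of order `p`. -/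
theorem le_of_normal_of_dvd {p : ℕ} [hp : Fact p.Prime] {M N X : Subgroup G} (hr : Cfsg.PRankLE p 1 M)
    (hNM : N ≤ M) (hn : M ≤ Subgroup.normalizer (N : Set G)) (hd : p ∣ Nat.card N) (hX : X ≤ M)
    (hXc : Nat.card X = p) : X ≤ N := by
  obtain ⟨y, hy⟩ := exists_prime_orderOf_dvd_card' (G := N) p hd
  obtain ⟨m, hm, he⟩ := exists_cj_eq_of_rank_one hG hr (X := Subgroup.zpowers (y : G))
    (Subgroup.zpowers_le.mpr (hNM y.2)) hX (by rw [Nat.card_zpowers, Subgroup.orderOf_coe, hy]) hXc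
  rw [← he]
  exact (cj_mono (Subgroup.zpowers_le.mpr y.2)).trans (cj_eq_of_mem_normalizer (hn hm)).le

include hG in
theorem sigmaCore_le_derived {M : Subgroup G} (hM : IsCoatom M) :
    Cfsg.sigmaCore M ≤ ⁅M, M⁆ := by
  rw [← Subgroup.map_subtype_commutator]
  exact Subgroup.map_mono
    (Sigma10.piCore_le_commutator hG hM (Sigma10.alpha_subset_sigma hG hM) subset_rfl).1

include hG in
theorem betaCore_le_sigmaCore {M : Subgroup G} (hM : IsCoatom M) :
    Cfsg.piCoreOf (Cfsg.beta M) M ≤ Cfsg.sigmaCore M :=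
  Subgroup.map_mono (piCore_mono fun _ ht => Sigma10.alpha_subset_sigma hG hM ht.1)

include hG in
/-- **BG 10.8**, in the form used: `M' / M_β` is nilpotent. -/
theorem commutatorElement_mem_betaCore {M : Subgroup G} (hM : IsCoatom M) {a b : G}
    (ha : a ∈ ⁅M, M⁆) (hb : b ∈ ⁅M, M⁆) (hcop : (orderOf a).Coprime (orderOf b)) :
    ⁅a, b⁆ ∈ Cfsg.piCoreOf (Cfsg.beta M) M := by
  obtain ⟨-, hBhall, ⟨H, hH, hnil⟩, -, -⟩ := Sigma10.betaCore_hall hG hM
    (fun p _ => Sigma10.pLengthLE_one_proper hG p) (Sigma10.propFiveFive hG)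
  set B := Cfsg.piCoreOf (Cfsg.beta M) M with hB
  set D := ⁅M, M⁆ with hD
  have hBD : B ≤ D := (betaCore_le_sigmaCore hG hM).trans (sigmaCore_le_derived hG hM)
  have hDn : D ≤ Subgroup.normalizer (B : Set G) :=
    (Subgroup.commutator_le_self M).trans (piCoreOf_normal _ _)
  have : (B.subgroupOf D).Normal := Subgroup.normal_subgroupOf_of_le_normalizer hDn
  set f : H →* D ⧸ B.subgroupOf D :=
    (QuotientGroup.mk' (B.subgroupOf D)).comp (Subgroup.inclusion hH.1) with hf
  have hsurj : Function.Surjective f := by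
    rw [← MonoidHom.range_eq_top, ← Subgroup.index_eq_one]
    by_contra hne
    obtain ⟨r, hr, hrd⟩ := Nat.exists_prime_and_dvd hne
    have h1 : r ∣ H.relIndex D := by
      refine hrd.trans ?_
      have he : f.range = (H.subgroupOf D).map (QuotientGroup.mk' (B.subgroupOf D)) := by
        rw [hf, MonoidHom.range_comp, Subgroup.inclusion_range]
      rw [he]
      exact Subgroup.index_map_dvd _ (QuotientGroup.mk'_surjective _)
    have h2 : r ∣ B.relIndex D := hrd.trans ((Subgroup.index_dvd_card _).trans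
      (by rw [← Subgroup.index_eq_card]; rfl))
    by_cases hrβ : r ∈ Cfsg.beta M
    · exact hBhall.2 r hr hrβ (h2.trans (Subgroup.relIndex_dvd_index_of_le hBD))
    · exact hH.2.2 r hr ⟨hr, hrβ⟩ h1
  have := hnil
  have : Group.IsNilpotent (D ⧸ B.subgroupOf D) := Group.nilpotent_of_surjective f hsurj
  have hco : (orderOf (QuotientGroup.mk' (B.subgroupOf D) ⟨a, ha⟩)).Coprime
      (orderOf (QuotientGroup.mk' (B.subgroupOf D) ⟨b, hb⟩)) := by
    refine (hcop.coprime_dvd_left ?_).coprime_dvd_right ?_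
    · exact (orderOf_map_dvd _ _).trans (by rw [Subgroup.orderOf_mk])
    · exact (orderOf_map_dvd _ _).trans (by rw [Subgroup.orderOf_mk])
  have hc := commutatorElement_eq_one_iff_commute.mpr (NilpotentSubgroups.commute_of_orderOf_coprime hco)
  rw [← map_commutatorElement, QuotientGroup.mk'_apply, QuotientGroup.eq_one_iff,
    Subgroup.mem_subgroupOf] at hc
  exact hc

include hG in
/-- `M'` centralizes coprime `q`-subgroups of `M` it normalizes, `q ∈ σ(M) \ β(M)`. -/
theorem centralizes_of_le_derived {M : Subgroup G} (hM : IsCoatom M) {q : ℕ} [hq : Fact q.Prime]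
    (hqσ : q ∈ Cfsg.sigma M) (hqβ : q ∉ Cfsg.beta M) {T A : Subgroup G} (hT : IsPGroup q T)
    (hTM : T ≤ M) (hA : A ≤ ⁅M, M⁆) (hAT : A ≤ Subgroup.normalizer (T : Set G))
    (hcop : (Nat.card A).Coprime q) : A ≤ Subgroup.centralizer (T : Set G) := by
  have hTD : T ≤ ⁅M, M⁆ := (le_sigmaCore_of_isPGroup hG hM hqσ hTM hT).trans (sigmaCore_le_derived hG hM)
  have hd : Disjoint (Cfsg.piCoreOf (Cfsg.beta M) M) T := by
    refine Subgroup.disjoint_of_coprime_natCard ?_
    obtain ⟨n, hn⟩ := hT.exists_card_eq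
    rw [hn]
    exact Nat.Coprime.pow_right n ((hq.out.coprime_iff_not_dvd).mpr fun h =>
      hqβ (piNat_card_piCoreOf (Cfsg.beta M) M q hq.out h)).symm
  intro a ha
  refine Subgroup.mem_centralizer_iff.mpr fun b hb => ?_
  have hco : (orderOf b).Coprime (orderOf a) := by
    obtain ⟨n, hn⟩ := hT.exists_card_eq
    exact ((hcop.symm.pow_left n).coprime_dvd_left (hn ▸ Subgroup.orderOf_dvd_natCard _ hb)).coprime_dvd_right
      (Subgroup.orderOf_dvd_natCard _ ha)
  have h1 : ⁅b, a⁆ ∈ Cfsg.piCoreOf (Cfsg.beta M) M ⊓ T :=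
    ⟨commutatorElement_mem_betaCore hG hM (hTD hb) (hA ha) hco, by
      rw [commutatorElement_def, mul_assoc, mul_assoc, ← mul_assoc a]
      exact T.mul_mem hb ((Subgroup.mem_normalizer_iff.mp (hAT ha) b⁻¹).mp (T.inv_mem hb))⟩
  rw [hd.eq_bot, Subgroup.mem_bot] at h1
  exact commutatorElement_eq_one_iff_mul_comm.mp h1

end CfsgLib.OddOrder41
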