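import Mathlib
import Cfsg.Agent.Lib.OddOrder41.Sigma13Tools

/-!
# BG 13.6: fixed points in `M_σ` of an element of `τ₁(M)`

If `X` of order `q` lies in `C_{M_σ}(P)`, `p ∈ τ₁(M)`, then `q ∈ β(M)` or `X ≤ M_σ'`; so 12.14 applies.
-/

set_option autoImplicit false

namespace CfsgLib.OddOrder41

open Subgroup CfsgLib.OddOrder CfsgLib.OddOrder.Transitivity
open scoped commutatorElement Pointwise

universe u

variable {G : Type u} [Group G] [Finite G]

/-- If `A` centralizes `x` modulo `B` then, by coprime action, `x ∈ B C(A)`. -/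
theorem mem_sup_centralizer_of_mod {A B : Subgroup G} {x : G}
    (hBA : A ≤ Subgroup.normalizer (B : Set G)) (hxB : x ∈ Subgroup.normalizer (B : Set G))
    (h : ∀ a ∈ A, ⁅x, a⁆ ∈ B)
    (hcop : (Nat.card A).Coprime (Nat.card ↥(B ⊔ Subgroup.zpowers x)))
    (hsolv : Group.IsSolvable ↥(B ⊔ Subgroup.zpowers x)) :
    x ∈ B ⊔ ((B ⊔ Subgroup.zpowers x) ⊓ Subgroup.centralizer (A : Set G)) := by
  set W := B ⊔ Subgroup.zpowers x with hW
  let S : Subgroup G :=
    { carrier := {w | w ∈ Subgroup.normalizer (B : Set G) ∧ ∀ a ∈ A, ⁅w, a⁆ ∈ B}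
      one_mem' := ⟨Subgroup.one_mem _, fun a _ => by simp⟩
      mul_mem' := fun {u v} hu hv => ⟨Subgroup.mul_mem _ hu.1 hv.1, fun a ha => by
        rw [show ⁅u * v, a⁆ = u * ⁅v, a⁆ * u⁻¹ * ⁅u, a⁆ by simp only [commutatorElement_def]; group]
        exact B.mul_mem ((Subgroup.mem_normalizer_iff.mp hu.1 _).mp (hv.2 a ha)) (hu.2 a ha)⟩
      inv_mem' := fun {u} hu => ⟨Subgroup.inv_mem _ hu.1, fun a ha => by
        rw [show ⁅u⁻¹, a⁆ = u⁻¹ * ⁅u, a⁆⁻¹ * u⁻¹⁻¹ by simp only [commutatorElement_def]; group]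
        exact (Subgroup.mem_normalizer_iff.mp (Subgroup.inv_mem _ hu.1) _).mp (B.inv_mem (hu.2 a ha))⟩ }
  have hBS : B ≤ S := fun b hb => ⟨Subgroup.le_normalizer hb, fun a ha => by
    rw [commutatorElement_def, mul_assoc, mul_assoc, ← mul_assoc a]
    exact B.mul_mem hb ((Subgroup.mem_normalizer_iff.mp (hBA ha) b⁻¹).mp (B.inv_mem hb))⟩
  have hWS : W ≤ S := sup_le hBS (Subgroup.zpowers_le.mpr ⟨hxB, h⟩)
  have hAW : A ≤ Subgroup.normalizer (W : Set G) := by
    refine Subgroup.le_normalizer_iff.2 fun a ha w hw => ?_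
    rw [show a * w * a⁻¹ = w * ⁅w⁻¹, a⁆ by simp only [commutatorElement_def]; group]
    exact W.mul_mem hw (Subgroup.mem_sup_left ((hWS (W.inv_mem hw)).2 a ha))
  have hle : ⁅W, A⁆ ≤ B := Subgroup.commutator_le.mpr fun w hw a ha => (hWS hw).2 a ha
  have hx : x ∈ W := Subgroup.mem_sup_right (Subgroup.mem_zpowers x)
  rw [← Coprime.commutator_sup_centralizer A W hAW hcop (Or.inr hsolv)] at hx
  exact sup_le_sup hle le_rfl hx

variable (hG : Cfsg.IsMinSimpleOddOrder G)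

include hG in
/-- A complement of `M_σ` without rank two primes is `E' E₁`. -/
theorem exists_tau1_hall_ge {M E P : Subgroup G} (hM : IsCoatom M)
    (hE : Cfsg.IsComplIn E (Cfsg.sigmaCore M) M) (hPE : P ≤ E)
    (hPτ : ∀ r : ℕ, r.Prime → r ∣ Nat.card P → r ∈ Cfsg.tau1 M) :
    ∃ E₁ : Subgroup G, E₁ ≤ E ∧ IsCyclic E₁ ∧ P ≤ E₁ ∧
      (∀ r : ℕ, r.Prime → r ∣ Nat.card E₁ → r ∈ Cfsg.tau1 M) ∧
      ((∀ r : ℕ, r.Prime → r ∣ Nat.card E → Cfsg.PRankLE r 1 M) → E ≤ ⁅E, E⁆ ⊔ E₁) := by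
  have hsE : Group.IsSolvable E := minSimple_solvable hG fun h => hM.1 (top_le_iff.mp (h ▸ hE.1))
  obtain ⟨H, hH⟩ := CfsgLib.Hall.exists_isPiHall (G := E) (Cfsg.tau1 M)
  have hHc : Nat.card (H.map E.subtype) = Nat.card H := Subgroup.card_map_of_injective E.subtype_injective
  have hidx : ∀ r : ℕ, r.Prime → r ∈ Cfsg.tau1 M → ¬ r ∣ (H.map E.subtype).relIndex E := fun r hr hrτ hd => by
    refine hH.2 r hr hrτ ?_
    rwa [Subgroup.relIndex, Subgroup.subgroupOf,
      Subgroup.comap_map_eq_self_of_injective E.subtype_injective] at hd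
  obtain ⟨g, hg, hle⟩ := exists_conj_into (π := Cfsg.tau1 M) (Subgroup.map_subtype_le H) hidx hPE hPτ
  set E₁ := cj g⁻¹ (H.map E.subtype) with hE₁
  have hE₁E : E₁ ≤ E := (cj_mono (Subgroup.map_subtype_le H)).trans
    (cj_eq_of_mem (E.inv_mem hg)).le
  have hE₁τ : ∀ r : ℕ, r.Prime → r ∣ Nat.card E₁ → r ∈ Cfsg.tau1 M := fun r hr hd =>
    hH.1 r hr (hHc ▸ card_cj g⁻¹ (H.map E.subtype) ▸ hd)
  have hidx₁ : ∀ r : ℕ, r.Prime → r ∈ Cfsg.tau1 M → ¬ r ∣ E₁.relIndex E := fun r hr hrτ hd => by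
    refine hidx r hr hrτ ?_
    have h1 := card_mul_relIndex_of_le hE₁E
    rw [hE₁, card_cj, ← card_mul_relIndex_of_le (Subgroup.map_subtype_le H)] at h1
    rw [← Nat.eq_of_mul_eq_mul_left Nat.card_pos h1]
    exact hd
  have hc := (Sigma10.compl_structure hG hM hE).2.1 E₁ ⟨hE₁E, hE₁τ, hidx₁⟩
  have hPE₁ : P ≤ E₁ := by
    have h1 := cj_mono (g := g⁻¹) hle
    rwa [cj_mul, inv_mul_cancel, cj_one] at h1
  refine ⟨E₁, hE₁E, hc, hPE₁, hE₁τ, fun hr1 => ?_⟩
  set J := ⁅E, E⁆ ⊔ E₁ with hJ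
  have hJn : E ≤ Subgroup.normalizer (J : Set G) := by
    refine Subgroup.le_normalizer_iff.2 fun e he w hw => ?_
    have hwE : w ∈ E := (sup_le (Subgroup.commutator_le_self E) hE₁E : J ≤ E) hw
    rw [show e * w * e⁻¹ = ⁅e, w⁆ * w by simp only [commutatorElement_def]; group]
    exact J.mul_mem (Subgroup.mem_sup_left (Subgroup.commutator_mem_commutator he hwE)) hw
  refine le_of_exists_sylow_le fun r hr => ?_
  have := Fact.mk hr
  obtain ⟨T⟩ : Nonempty (Sylow r E) := inferInstance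
  refine ⟨T, ?_⟩
  by_cases hrd : r ∣ Nat.card E
  swap
  · rintro _ ⟨y, hy, rfl⟩
    obtain ⟨n, hn⟩ := T.isPGroup'.exists_card_eq
    have hn0 : n = 0 := by
      by_contra h0
      exact hrd ((dvd_pow_self r h0).trans (hn ▸ Subgroup.card_subgroup_dvd_card _))
    rw [hn0, pow_zero, Subgroup.card_eq_one] at hn
    have hy' : y ∈ (T : Subgroup E) := hy
    rw [hn, Subgroup.mem_bot] at hy'
    rw [hy', map_one]; exact J.one_mem
  by_cases hrτ : r ∈ Cfsg.tau1 M
  · obtain ⟨e, he, hTe⟩ := exists_conj_into (π := {r}) hE₁E (fun s hs hsr hd => by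
      rw [Set.mem_singleton_iff] at hsr
      exact hidx₁ s hs (hsr ▸ hrτ) hd) (Subgroup.map_subtype_le (T : Subgroup E)) (fun s hs hd => by
      obtain ⟨n, hn⟩ := T.isPGroup'.exists_card_eq
      rw [Subgroup.card_map_of_injective E.subtype_injective, hn] at hd
      exact (Nat.prime_dvd_prime_iff_eq hs hr).mp (hs.dvd_of_dvd_pow hd))
    have h1 := cj_mono (g := e⁻¹) (hTe.trans (le_sup_right : E₁ ≤ J))
    rwa [cj_mul, inv_mul_cancel, cj_one, cj_eq_of_mem_normalizer (hJn (E.inv_mem he))] at h1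
  · refine le_trans ?_ (le_sup_left : ⁅E, E⁆ ≤ J)
    have hrσ := Sigma10.not_mem_sigma_of_dvd_compl hG hM hE hr hrd
    have hrM : r ∣ Nat.card M := hrd.trans (Subgroup.card_dvd_of_le hE.1)
    have hrD : r ∣ Nat.card ↥⁅M, M⁆ := by
      by_contra h
      exact hrτ ⟨hr, hrσ, hrM, h, hr1 r hr hrd⟩
    have e : ↥(commutator ↥E) ≃* ↥⁅E, E⁆ :=
      (Subgroup.equivMapOfInjective _ E.subtype E.subtype_injective).trans
        (MulEquiv.subgroupCongr (Subgroup.map_subtype_commutator E))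
    have hrE : r ∣ Nat.card (commutator ↥E) := by
      rw [Nat.card_congr e.toEquiv]
      exact (hr.dvd_mul.mp (hrD.trans (Sigma10.card_derived_dvd hE))).resolve_right
        fun h => hrσ (piNat_card_piCoreOf _ _ r hr h)
    have hr2 : r ≠ 2 := minSimple_prime_ne_two hG hrd
    have hTc : IsCyclic T := by
      have h1 : IsCyclic ((T : Subgroup E).map E.subtype) := isCyclic_of_pRankLE_one hr2
        (T.isPGroup'.map _) (PRankLE.of_le ((Subgroup.map_subtype_le _).trans hE.1) (hr1 r hr hrd))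
      exact isCyclic_of_injective
        (Subgroup.equivMapOfInjective (T : Subgroup E) E.subtype E.subtype_injective).toMonoidHom
        (MulEquiv.injective _)
    have hidx' := (Sylow.not_dvd_card_commutator_or_not_dvd_index_commutator T).resolve_left (not_not.mpr hrE)
    rw [← Subgroup.map_subtype_commutator]
    refine Subgroup.map_mono fun y hy => ?_
    rw [← QuotientGroup.eq_one_iff, ← orderOf_eq_one_iff]
    obtain ⟨n, hn⟩ := T.isPGroup'.exists_card_eq
    exact Nat.eq_one_of_dvd_coprimes (Nat.Coprime.pow_left n ((hr.coprime_iff_not_dvd).mpr hidx'))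
      ((orderOf_map_dvd (QuotientGroup.mk' (commutator ↥E)) y).trans (hn ▸ Subgroup.orderOf_dvd_natCard _ hy))
      (show _ ∣ (commutator ↥E).index from orderOf_dvd_natCard _)

variable (h2 : PropRankTwoInMaximal G) (h5 : PropTauTwoStructure G) (h6 : PropTauTwoInComplement G)
  (h12 : PropSigmaPrimeNilpotent G)

include hG h2 h5 h6 h12 in
/-- **BG 13.4/13.5**: an abelian subgroup of a complement with rank one primes centralizes the fixed
points of each of its `τ₁`-subgroups of prime order. -/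
theorem le_centralizer_of_tau1_abelian {M E J P : Subgroup G} (hM : IsCoatom M)
    (hE : Cfsg.IsComplIn E (Cfsg.sigmaCore M) M) {p : ℕ} (hp : p ∈ Cfsg.tau1 M) (hPJ : P ≤ J)
    (hP : Nat.card P = p) (hJE : J ≤ E) (hJ : IsMulCommutative J)
    (hr1 : ∀ r : ℕ, r.Prime → r ∣ Nat.card J → Cfsg.PRankLE r 1 M) :
    Cfsg.sigmaCore M ⊓ Subgroup.centralizer (P : Set G) ≤ Subgroup.centralizer (J : Set G) := by
  rw [Subgroup.le_centralizer_iff]
  refine le_of_exists_sylow_le fun r hr => ?_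
  have := Fact.mk hr
  obtain ⟨T⟩ : Nonempty (Sylow r J) := inferInstance
  refine ⟨T, ?_⟩
  set T' := (T : Subgroup J).map J.subtype with hT'
  have hTp : IsPGroup r T' := T.isPGroup'.map _
  have hTJ : T' ≤ J := Subgroup.map_subtype_le _
  by_cases hT1 : T' = ⊥
  · rw [hT1]; exact bot_le
  obtain ⟨y, hy⟩ := exists_prime_orderOf_dvd_card' (G := T') r (Uniq.prime_dvd_card hTp hT1)
  set R := Subgroup.zpowers (y : G) with hR
  have hRc : Nat.card R = r := by rw [hR, Nat.card_zpowers, Subgroup.orderOf_coe, hy]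
  have hRT : R ≤ T' := Subgroup.zpowers_le.mpr y.2
  have hRP : R ≤ Subgroup.centralizer (P : Set G) := fun z hz => Subgroup.mem_centralizer_iff.mpr fun w hw =>
    congrArg Subtype.val (hJ.is_comm.comm (⟨w, hPJ hw⟩ : J) ⟨z, hTJ (hRT hz)⟩)
  have h1 := centralizer_le_of_tau1 hG h2 h5 h6 h12 hM hE hp (hPJ.trans hJE) hP
    (le_inf ((hRT.trans hTJ).trans hJE) hRP) (R := R) (by rw [hRc]; exact hr)
  have hrd : r ∣ Nat.card J := (Uniq.prime_dvd_card hTp hT1).trans (Subgroup.card_dvd_of_le hTJ)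
  have hrσ := Sigma10.not_mem_sigma_of_dvd_compl hG hM hE hr (hrd.trans (Subgroup.card_dvd_of_le hJE))
  obtain ⟨S, hS, hTS⟩ := exists_sylowOf_ge (hTJ.trans (hJE.trans hE.1)) hTp
  have hSc : IsCyclic S := isCyclic_of_pRankLE_one (minSimple_prime_ne_two hG hrd) hS.2.1
    (PRankLE.of_le hS.1 (hr1 r hr hrd))
  have h3 := centralizes_of_cyclic_sylow hG h2 h5 h6 h12 hM hrσ hS hSc (hRT.trans hTS) hRc
  exact hTS.trans (Subgroup.le_centralizer_iff.mp (h1.trans h3))

include hG h2 h5 h6 h12 in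
/-- **BG 13.6**. -/
theorem mem_beta_or_le_derived {M : Subgroup G} (hM : IsCoatom M) {p q : ℕ} [hq : Fact q.Prime]
    (hp : p ∈ Cfsg.tau1 M) {P X : Subgroup G} (hPM : P ≤ M) (hP : Nat.card P = p)
    (hX : Nat.card X = q) (hXP : X ≤ Cfsg.sigmaCore M ⊓ Subgroup.centralizer (P : Set G)) :
    q ∈ Cfsg.beta M ∨ X ≤ ⁅Cfsg.sigmaCore M, Cfsg.sigmaCore M⁆ := by
  refine or_iff_not_imp_left.mpr fun hqβ => ?_
  set S := Cfsg.sigmaCore M with hS
  set B := Cfsg.piCoreOf (Cfsg.beta M) M with hB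
  have hSM : S ≤ M := piCoreOf_le _ _
  have hBS : B ≤ S := betaCore_le_sigmaCore hG hM
  have hXS : X ≤ S := hXP.trans inf_le_left
  have hqσ : q ∈ Cfsg.sigma M :=
    piNat_card_piCoreOf (Cfsg.sigma M) M q hq.out (hX ▸ Subgroup.card_dvd_of_le hXS)
  have hPσ : ∀ r : ℕ, r.Prime → r ∣ Nat.card P → r ∈ Cfsg.tau1 M := fun r hr hd =>
    (Nat.prime_dvd_prime_iff_eq hr hp.1).mp (hP ▸ hd) ▸ hp
  obtain ⟨E, hE, hPE⟩ := exists_compl_ge hG hM hPM fun r hr hd => (hPσ r hr hd).2.1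
  obtain ⟨x, hx⟩ := exists_prime_orderOf_dvd_card' (G := X) q (hX ▸ dvd_rfl)
  have hxo : orderOf (x : G) = q := by rw [Subgroup.orderOf_coe, hx]
  have hXeq : Subgroup.zpowers (x : G) = X := Subgroup.eq_of_le_of_card_ge
    (Subgroup.zpowers_le.mpr x.2) (by rw [Nat.card_zpowers, hxo, hX])
  have hxD : (x : G) ∈ ⁅M, M⁆ := sigmaCore_le_derived hG hM (hXS x.2)
  have hEσ : ∀ r : ℕ, r.Prime → r ∣ Nat.card E → r ∉ Cfsg.sigma M := fun r hr hd =>
    Sigma10.not_mem_sigma_of_dvd_compl hG hM hE hr hd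
  have hED : ∀ a ∈ ⁅E, E⁆, ⁅(x : G), a⁆ ∈ B := fun a ha => by
    refine commutatorElement_mem_betaCore hG hM hxD (Subgroup.commutator_mono hE.1 hE.1 ha) ?_
    rw [hxo]
    exact (hq.out.coprime_iff_not_dvd).mpr fun hd => hEσ q hq.out
      (hd.trans (Subgroup.orderOf_dvd_natCard E (Subgroup.commutator_le_self E ha))) hqσ
  set W := B ⊔ Subgroup.zpowers (x : G) with hW
  have hWS : W ≤ S := sup_le hBS (Subgroup.zpowers_le.mpr (hXS x.2))
  have hsW : Group.IsSolvable W :=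
    minSimple_solvable hG fun h => hM.1 (top_le_iff.mp (h ▸ hWS.trans hSM))
  have hcop : ∀ A : Subgroup G, A ≤ E → (Nat.card A).Coprime (Nat.card W) := fun A hA =>
    Nat.coprime_of_dvd fun r hr h1 h3 => hEσ r hr (h1.trans (Subgroup.card_dvd_of_le hA))
      (piNat_card_piCoreOf (Cfsg.sigma M) M r hr (h3.trans (Subgroup.card_dvd_of_le hWS)))
  have hMB : M ≤ Subgroup.normalizer (B : Set G) := piCoreOf_normal _ _
  have hqB : ¬ q ∣ Nat.card B := fun h => hqβ (piNat_card_piCoreOf (Cfsg.beta M) M q hq.out h)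
  have hmain : ∀ A : Subgroup G, A ≤ E → (∀ a ∈ A, ⁅(x : G), a⁆ ∈ B) →
      (x : G) ∈ B ⊔ (S ⊓ Subgroup.centralizer (A : Set G)) := fun A hA hmod =>
    sup_le_sup le_rfl (inf_le_inf_right _ hWS)
      (mem_sup_centralizer_of_mod (hA.trans (hE.1.trans hMB)) (hMB (hSM (hXS x.2))) hmod (hcop A hA) hsW)
  have hfixP : ∀ y : G, y ∈ E ⊓ Subgroup.centralizer (P : Set G) → (Nat.card (Subgroup.zpowers y)).Prime →
      y * (x : G) = (x : G) * y := by
    intro y hy hyp
    have h1 := centralizer_le_of_tau1 hG h2 h5 h6 h12 hM hE hp hPE hP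
      (R := Subgroup.zpowers y) (Subgroup.zpowers_le.mpr hy) hyp (hXP x.2)
    exact Subgroup.mem_centralizer_iff.mp h1.2 y (Subgroup.mem_zpowers y)
  by_cases hr1 : ∀ r : ℕ, r.Prime → r ∣ Nat.card E → Cfsg.PRankLE r 1 M
  · -- `E = E' E₁` centralizes `x` modulo `B`
    obtain ⟨E₁, hE₁E, hE₁c, hPE₁, hE₁τ, hsup⟩ := exists_tau1_hall_ge hG hM hE hPE hPσ
    have hsup := hsup hr1
    have hE₁x : ∀ a ∈ E₁, a * (x : G) = (x : G) * a := by
      have := hE₁c
      have h1 := le_centralizer_of_tau1_abelian hG h2 h5 h6 h12 hM hE hp hPE₁ hP hE₁E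
        IsCyclic.isMulCommutative (fun r hr hd => hr1 r hr (hd.trans (Subgroup.card_dvd_of_le hE₁E)))
        (hXP x.2)
      exact fun a ha => Subgroup.mem_centralizer_iff.mp h1 a ha
    have hE1n : E₁ ≤ Subgroup.normalizer ((⁅E, E⁆ : Subgroup G) : Set G) :=
      hE₁E.trans (Coprime.le_normalizer_commutator_left E E)
    have hxE : ∀ a ∈ E, ⁅(x : G), a⁆ ∈ B := by
      intro a ha
      have ha' := hsup ha
      rw [sup_comm] at ha'
      obtain ⟨e, he, d, hd, rfl⟩ := Coprime.exists_mul_of_mem_sup hE1n ha'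
      rw [show ⁅(x : G), e * d⁆ = ⁅(x : G), e⁆ * (e * ⁅(x : G), d⁆ * e⁻¹) by
        simp only [commutatorElement_def]; group]
      refine B.mul_mem ?_ ((Subgroup.mem_normalizer_iff.mp (hMB (hE.1 (hE₁E he))) _).mp (hED d hd))
      rw [show ⁅(x : G), e⁆ = 1 from commutatorElement_eq_one_iff_mul_comm.mpr (hE₁x e he).symm]
      exact B.one_mem
    have h3 := sup_le_sup le_rfl (sigmaCore_inf_centralizer_le hG hM hE) (hmain E le_rfl hxE)
    set D := ⁅S, S⁆ with hD
    have hBnD : B ≤ Subgroup.normalizer (D : Set G) :=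
      hBS.trans (Coprime.le_normalizer_commutator_left S S)
    obtain ⟨b, hb, d, hd, hbd⟩ := Coprime.exists_mul_of_mem_sup hBnD h3
    have hmem : (x : G) ∈ D := by
      have hN : B ⊔ D ≤ Subgroup.normalizer (D : Set G) := sup_le hBnD Subgroup.le_normalizer
      set BD := B ⊔ D with hBD
      have : (D.subgroupOf BD).Normal := Subgroup.normal_subgroupOf_of_le_normalizer hN
      set f := QuotientGroup.mk' (D.subgroupOf BD) with hf
      have h4 : orderOf (f ⟨x, h3⟩) = 1 := by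
        have he : f ⟨x, h3⟩ = f ⟨b, Subgroup.mem_sup_left hb⟩ := by
          have : (⟨x, h3⟩ : BD) = ⟨b, Subgroup.mem_sup_left hb⟩ * ⟨d, Subgroup.mem_sup_right hd⟩ :=
            Subtype.ext hbd
          rw [this, map_mul, show f ⟨d, Subgroup.mem_sup_right hd⟩ = 1 from
            (QuotientGroup.eq_one_iff _).mpr hd, mul_one]
        refine Nat.eq_one_of_dvd_coprimes ((hq.out.coprime_iff_not_dvd).mpr hqB)
          ((orderOf_map_dvd f _).trans (by rw [Subgroup.orderOf_mk, hxo])) ?_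
        rw [he]
        exact (orderOf_map_dvd f _).trans (by rw [Subgroup.orderOf_mk]; exact Subgroup.orderOf_dvd_natCard _ hb)
      exact (QuotientGroup.eq_one_iff (⟨x, h3⟩ : BD)).mp (orderOf_eq_one_iff.mp h4)
    exact hXeq ▸ Subgroup.zpowers_le.mpr hmem
  · -- a prime `r ∈ τ₂(M)`: `A` centralizes `x` modulo `B`
    exfalso
    push Not at hr1
    obtain ⟨r, hr, hrd, hr1⟩ := hr1
    have := Fact.mk hr
    have hτ := mem_tau2_of_not_rank_one hG hM hr (hEσ r hr hrd) hr1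
    obtain ⟨T⟩ : Nonempty (Sylow r E) := inferInstance
    have hTM := sylowOf_of_compl hG hM hE (sylowOf_map T) (hEσ r hr hrd)
    obtain ⟨A, hAT, hAe, hA2⟩ := not_pRankLE_subgroup_iff.mp
      (fun h => hr1 (Sigma10.pRankLE_of_sylowOf hTM h))
    have hA2' : Nat.card A = r ^ 2 := hA2
    have hAE : A ≤ E := hAT.trans (Subgroup.map_subtype_le _)
    obtain ⟨⟨hEA, -⟩, -⟩ := h6 M hM E hE r hτ A ⟨hAE, hAe, hA2'⟩
    obtain ⟨-, -, -, hfix, -, -⟩ := h5 M hM r hτ A ⟨hAE.trans hE.1, hAe, hA2'⟩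
    have hPA : P ≤ Subgroup.normalizer (A : Set G) := hPE.trans hEA
    have hrp : p ≠ r := fun h => hτ.2.2.2 (h ▸ hp.2.2.2.2)
    have hcopPA : (Nat.card P).Coprime (Nat.card A) := by
      rw [hP, hA2']; exact Nat.Coprime.pow_right 2 ((Nat.coprime_primes hp.1 hr).mpr hrp)
    have hsA : Group.IsSolvable A := by
      have := (isPGroup_of_elemAb hAe).isNilpotent
      infer_instance
    have hAmod : ∀ a ∈ A, ⁅(x : G), a⁆ ∈ B := by
      intro a ha
      rw [← Coprime.commutator_sup_centralizer P A hPA hcopPA (Or.inr hsA)] at ha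
      have hn : A ⊓ Subgroup.centralizer (P : Set G) ≤ Subgroup.normalizer ((⁅A, P⁆ : Subgroup G) : Set G) :=
        inf_le_left.trans (Coprime.le_normalizer_commutator_left A P)
      rw [sup_comm] at ha
      obtain ⟨c, hc, d, hd, rfl⟩ := Coprime.exists_mul_of_mem_sup hn ha
      rw [show ⁅(x : G), c * d⁆ = ⁅(x : G), c⁆ * (c * ⁅(x : G), d⁆ * c⁻¹) by
        simp only [commutatorElement_def]; group]
      refine B.mul_mem ?_ ((Subgroup.mem_normalizer_iff.mp (hMB (hE.1 (hAE hc.1))) _).mp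
        (hED d (Subgroup.commutator_mono hAE hPE hd)))
      by_cases hc1 : c = 1
      · simp [hc1]
      rw [show ⁅(x : G), c⁆ = 1 from commutatorElement_eq_one_iff_mul_comm.mpr
        (hfixP c ⟨hAE hc.1, hc.2⟩ ?_).symm]
      · exact B.one_mem
      · rw [Nat.card_zpowers]
        have h1 := orderOf_dvd_of_pow_eq_one (hAe.2 c hc.1)
        rcases (Nat.dvd_prime hr).mp h1 with h | h
        · exact absurd (orderOf_eq_one_iff.mp h) hc1
        · rwa [h]
    have h3 := hmain A hAE hAmod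
    rw [hfix, sup_bot_eq] at h3
    exact hqB (hxo ▸ Subgroup.orderOf_dvd_natCard B h3)

include hG h2 h5 h6 h12 in
/-- **BG 13.6**, the consequence: `C(X)` lies only in `M`. -/
theorem onlyIn_of_tau1 {M : Subgroup G} (hM : IsCoatom M) {p q : ℕ} [hq : Fact q.Prime]
    (hp : p ∈ Cfsg.tau1 M) {P X : Subgroup G} (hPM : P ≤ M) (hP : Nat.card P = p)
    (hX : Nat.card X = q) (hXP : X ≤ Cfsg.sigmaCore M ⊓ Subgroup.centralizer (P : Set G)) :
    OnlyIn (Subgroup.centralizer (X : Set G)) M := by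
  obtain ⟨R, hR, -⟩ := exists_sylowOf_ge (hXP.trans inf_le_left) (cyclic_isPGroup_of_card hX)
  exact (centralizer_unique hG h2 h12 hM
    (piNat_card_piCoreOf (Cfsg.sigma M) M q hq.out (hX ▸ Subgroup.card_dvd_of_le (hXP.trans inf_le_left)))
    ((hXP.trans inf_le_left).trans (piCoreOf_le _ _)) hX hR
    (mem_beta_or_le_derived hG h2 h5 h6 h12 hM hp hPM hP hX hXP)).1

end CfsgLib.OddOrder41
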