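import Mathlib
import Cfsg.Agent.Lib.OddOrder41.Sigma13Six

/-!
# BG 13.13: a maximal subgroup over `N(P)`, for `P` with fixed points in `M_σ`, has `p` in its `σ`

This is derived before 13.9, from 13.6 and the rank two results of §12.
-/

set_option autoImplicit false

namespace CfsgLib.OddOrder41

open Subgroup CfsgLib.OddOrder CfsgLib.OddOrder.Transitivity
open scoped commutatorElement Pointwise

universe u

variable {G : Type u} [Group G] [Finite G] (hG : Cfsg.IsMinSimpleOddOrder G)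
  (h2 : PropRankTwoInMaximal G) (h5 : PropTauTwoStructure G) (h6 : PropTauTwoInComplement G)
  (h12 : PropSigmaPrimeNilpotent G)

include hG h5 h12 in
/-- An element of order `q ∈ σ(M) ∩ τ₂(H)` of `M` fixes no nontrivial element of `H_σ ∩ M`. -/
theorem false_of_tau2_partner {M H : Subgroup G} (hM : IsCoatom M) (hH : IsCoatom H) {q : ℕ}
    [hq : Fact q.Prime] (hqM : q ∈ Cfsg.sigma M) (hqH : q ∈ Cfsg.tau2 H) {x y : G} (hxM : x ∈ M)
    (hxH : x ∈ H) (hxo : orderOf x = q) (hy : y ∈ Cfsg.sigmaCore H) (hyM : y ∈ M) (hy1 : y ≠ 1)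
    (hxy : x * y = y * x) : False := by
  have hx1 : x ≠ 1 := fun h => by rw [h, orderOf_one] at hxo; exact hq.out.ne_one hxo.symm
  have hne : H ≠ M := fun h => hqH.2.1 (h ▸ hqM)
  obtain ⟨E, hE⟩ := exists_compl hG hH
  have honly : OnlyIn (Subgroup.centralizer ({x} : Set G)) H := (h12 H hH E hE).2.2.2 x hxH hx1
    (fun r hr hd => by rw [hxo] at hd; exact (Nat.prime_dvd_prime_iff_eq hr hq.out).mp hd ▸ hqH)
    ⟨hxH, y, hy, hy1, hxy⟩
  set X := Subgroup.zpowers x with hX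
  have hXc : Nat.card X = q := by rw [hX, Nat.card_zpowers, hxo]
  rw [← centralizer_zpowers] at honly
  have hNX : Subgroup.normalizer (X : Set G) ≤ H :=
    normalizer_le_of_onlyIn hH (normalizer_self_eq_of_isCoatom hG hH) honly
  obtain ⟨S, hS, hXS⟩ := exists_sylowOf_ge (M := M ⊓ H)
    (le_inf (Subgroup.zpowers_le.mpr hxM) (Subgroup.zpowers_le.mpr hxH)) (cyclic_isPGroup_of_card hXc)
  obtain ⟨-, hSH⟩ := partner_sylow hG hM hqM hNX h12 hS hXS
  obtain ⟨A, hAS, hAe, hA2⟩ := not_pRankLE_subgroup_iff.mp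
    (fun h => hqH.2.2.2 (Sigma10.pRankLE_of_sylowOf hSH h))
  obtain ⟨-, -, -, -, hinf, -⟩ := h5 H hH q hqH A ⟨(hAS.trans hS.1).trans inf_le_right, hAe, hA2⟩
  refine hy1 (Subgroup.mem_bot.mp ?_)
  rw [← hinf M hM hne.symm ((hAS.trans hS.1).trans inf_le_left)]
  exact ⟨hy, hyM⟩

include hG h2 h5 h6 h12 in
/-- A `σ(M)`-element of order `q` moving a `τ₂(L)`-plane `A` cannot fix `P ≤ A` if `C(P) ≤ L` and `p ∉ σ(M)`. -/
theorem false_of_plane {L M : Subgroup G} (hL : IsCoatom L) (hM : IsCoatom M) {p q : ℕ}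
    [hp : Fact p.Prime] [hq : Fact q.Prime] (hpL : p ∈ Cfsg.tau2 L) (hqM : q ∈ Cfsg.sigma M)
    (hpM : p ∉ Cfsg.sigma M) {A P : Subgroup G} (hAe : Cfsg.IsElementaryAbelian p A)
    (hA2 : Nat.card A = p ^ 2) (hPA : P ≤ A) (hP : Nat.card P = p)
    (hCP : Subgroup.centralizer (P : Set G) ≤ L) (hPM : P ≤ M) {x : G} (hxM : x ∈ M)
    (hxo : orderOf x = q) (hxA : x ∈ Subgroup.normalizer (A : Set G))
    (hxP : x ∈ Subgroup.centralizer (P : Set G))
    (hmove : ¬ A ≤ Subgroup.centralizer ({x} : Set G)) : False := by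
  have hpq : p ≠ q := fun h => hpM (h ▸ hqM)
  have hni := not_isIdeal_of_tau2 hG hL hpL
  have hA1 : A ≠ ⊥ := fun h => by
    rw [h, Subgroup.card_bot] at hA2
    exact hp.out.ne_one (pow_eq_one_iff.mp hA2.symm |>.resolve_right two_ne_zero)
  have hAp := isPGroup_of_elemAb hAe
  obtain ⟨H, hH, hNA⟩ := exists_isCoatom_ge
    (minSimple_normalizer_ne_top hG hA1 (minSimple_pgroup_ne_top hG hAp))
  have hAH : A ≤ H := Subgroup.le_normalizer.trans hNA
  have hxH : x ∈ H := hNA hxA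
  have hpH : p ∈ Cfsg.sigma H := by
    by_contra hpσ
    have h1 : ¬ Cfsg.PRankLE p 1 H := fun h =>
      absurd h (not_pRankLE_subgroup_iff.mpr ⟨A, hAH, hAe, hA2⟩)
    obtain ⟨E, hE, hAE⟩ := exists_compl_ge hG hH hAH fun r hr hd => by
      rw [hA2] at hd
      exact (Nat.prime_dvd_prime_iff_eq hr hp.out).mp (hr.dvd_of_dvd_pow hd) ▸ hpσ
    exact (h6 H hH E hE p (mem_tau2_of_not_rank_one hG hH hp.out hpσ h1) A ⟨hAE, hAe, hA2⟩).2.1.2.2 hNA
  have hpβ : p ∉ Cfsg.beta H := fun h => hni h.2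
  set X := Subgroup.zpowers x with hX
  have hXc : Nat.card X = q := by rw [hX, Nat.card_zpowers, hxo]
  have hXH : X ≤ H := Subgroup.zpowers_le.mpr hxH
  have hnotD : ¬ X ≤ ⁅H, H⁆ := by
    intro hle
    have h1 := centralizes_of_le_derived hG hH hpH hpβ hAp hAH hle (Subgroup.zpowers_le.mpr hxA)
      (by rw [hXc]; exact (Nat.coprime_primes hq.out hp.out).mpr hpq.symm)
    exact hmove fun a ha => Subgroup.mem_centralizer_singleton_iff.mpr
      (Subgroup.mem_centralizer_iff.mp (h1 (Subgroup.mem_zpowers x)) a ha)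
  have hqH : q ∉ Cfsg.sigma H := fun h => hnotD
    ((le_sigmaCore_of_isPGroup hG hH h hXH (cyclic_isPGroup_of_card hXc)).trans (sigmaCore_le_derived hG hH))
  have hPσ : P ≤ Cfsg.sigmaCore H :=
    le_sigmaCore_of_isPGroup hG hH hpH (hPA.trans hAH) (cyclic_isPGroup_of_card hP)
  by_cases hr : Cfsg.PRankLE q 1 H
  · have hqd : ¬ q ∣ Nat.card ↥⁅H, H⁆ := fun hd => hnotD (le_of_normal_of_dvd hG hr
      (Subgroup.commutator_le_self H) (Coprime.le_normalizer_commutator_left H H) hd hXH hXc)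
    have hτ : q ∈ Cfsg.tau1 H := ⟨hq.out, hqH, hXc ▸ Subgroup.card_dvd_of_le hXH, hqd, hr⟩
    have hPX : P ≤ Cfsg.sigmaCore H ⊓ Subgroup.centralizer (X : Set G) := le_inf hPσ (by
      rw [Subgroup.le_centralizer_iff, hX]; exact Subgroup.zpowers_le.mpr hxP)
    have honly := onlyIn_of_tau1 hG h2 h5 h6 h12 hH hτ hXH hXc hP hPX
    exact hpL.2.1 (honly.eq hL ⟨hCP, fun L' hL' hle => (honly.2 L' hL' hle).trans (honly.2 L hL hCP).symm⟩ ▸ hpH)
  · obtain ⟨y, hy⟩ := exists_prime_orderOf_dvd_card' (G := P) p (hP ▸ dvd_rfl)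
    exact false_of_tau2_partner hG h5 h12 hM hH hqM (mem_tau2_of_not_rank_one hG hH hq.out hqH hr) hxM hxH
      hxo (hPσ y.2) (hPM y.2)
      (fun h => hp.out.ne_one (by rw [← hy, ← Subgroup.orderOf_coe, h, orderOf_one]))
      ((Subgroup.mem_centralizer_iff.mp hxP y y.2).symm)

include hG h2 h5 h6 h12 in
/-- **BG 13.13**: `p ∉ σ(M)` of rank one, `C_{M_σ}(P) ≠ 1`, `N(P) ≤ L`; then `p ∈ σ(L)`. -/
theorem mem_sigma_of_normalizer {M L : Subgroup G} (hM : IsCoatom M) (hL : IsCoatom L) {p : ℕ}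
    [hp : Fact p.Prime] (hpσ : p ∉ Cfsg.sigma M) (hr : Cfsg.PRankLE p 1 M) {P : Subgroup G} (hPM : P ≤ M)
    (hP : Nat.card P = p) (hfix : Cfsg.sigmaCore M ⊓ Subgroup.centralizer (P : Set G) ≠ ⊥)
    (hNP : Subgroup.normalizer (P : Set G) ≤ L) : p ∈ Cfsg.sigma L := by
  by_contra hpL
  obtain ⟨⟨hr2, hr1⟩, hni, -⟩ := Sigma10.rank_two_of_normalizer_le hG hL hpL hP hNP
  have hτ : p ∈ Cfsg.tau2 L := ⟨hp.out, hpL, hr2, hr1⟩
  have hCL : Subgroup.centralizer (P : Set G) ≤ L := (Subgroup.centralizer_le_normalizer _).trans hNP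
  obtain ⟨q, hq, hqd⟩ := Nat.exists_prime_and_dvd (n := Nat.card
    ↥(Cfsg.sigmaCore M ⊓ Subgroup.centralizer (P : Set G))) (fun h => hfix (Subgroup.card_eq_one.mp h))
  have := Fact.mk hq
  obtain ⟨x, hx⟩ := exists_prime_orderOf_dvd_card'
    (G := ↥(Cfsg.sigmaCore M ⊓ Subgroup.centralizer (P : Set G))) q hqd
  have hxo : orderOf (x : G) = q := by rw [Subgroup.orderOf_coe, hx]
  have hxM : (x : G) ∈ M := piCoreOf_le _ _ x.2.1
  have hqM : q ∈ Cfsg.sigma M :=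
    piNat_card_piCoreOf (Cfsg.sigma M) M q hq (hqd.trans (Subgroup.card_dvd_of_le inf_le_left))
  have hxL : (x : G) ∈ L := hCL x.2.2
  obtain ⟨A', hA'L, hA'e, hA'2⟩ := not_pRankLE_subgroup_iff.mp hr1
  have hnc : ∀ g : G, L ≠ cj g M := fun g heq => by
    have hA'' := cj_mono (g := g⁻¹) (heq ▸ hA'L)
    rw [cj_mul, inv_mul_cancel, cj_one] at hA''
    exact not_pRankLE_subgroup_iff.mpr ⟨_, hA'', elemAb_map hA'e _, (card_cj g⁻¹ A').trans hA'2⟩ hr
  have hqL := not_mem_sigma_of_nilpotent hG hM hL hnc (h5 L hL p hτ A' ⟨hA'L, hA'e, hA'2⟩).1 hqM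
  have hxn : Subgroup.zpowers (x : G) ≤ Subgroup.normalizer (P : Set G) :=
    Subgroup.zpowers_le.mpr (Subgroup.centralizer_le_normalizer _ x.2.2)
  obtain ⟨EL, hEL, hle⟩ := exists_compl_ge hG hL
    (sup_le (Subgroup.zpowers_le.mpr hxL) (Subgroup.le_normalizer.trans hNP)) fun r hr' hd => by
      rcases hr'.dvd_mul.mp (hd.trans (Coprime.card_sup_dvd hxn)) with h | h
      · rw [Nat.card_zpowers, hxo] at h
        rwa [(Nat.prime_dvd_prime_iff_eq hr' hq).mp h]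
      · rw [hP] at h
        rwa [(Nat.prime_dvd_prime_iff_eq hr' hp.out).mp h]
  obtain ⟨T', hT', hPT'⟩ := exists_sylowOf_ge (le_sup_right.trans hle) (cyclic_isPGroup_of_card hP)
  have hT'L := sylowOf_of_compl hG hL hEL hT' hpL
  obtain ⟨A, hAT, hAe, hA2⟩ := not_pRankLE_subgroup_iff.mp
    (fun h => hr1 (Sigma10.pRankLE_of_sylowOf hT'L h))
  have hA2' : Nat.card A = p ^ 2 := hA2
  obtain ⟨⟨hEA, hall⟩, -⟩ := h6 L hL EL hEL p hτ A ⟨hAT.trans hT'.1, hAe, hA2'⟩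
  obtain ⟨y, hy⟩ := exists_prime_orderOf_dvd_card' (G := P) p (hP ▸ dvd_rfl)
  refine false_of_plane hG h2 h5 h6 h12 hL hM hτ hqM hpσ hAe hA2' (hall P (le_sup_right.trans hle) hP) hP
    hCL hPM hxM hxo (hEA (hle (Subgroup.mem_sup_left (Subgroup.mem_zpowers _)))) x.2.2 fun hAx => ?_
  exact not_pRankLE_one_of_centralizes hG h5 h6 h12 hM hxM hxo hqM hni (hPM y.2)
    (Subgroup.mem_centralizer_singleton_iff.mpr (Subgroup.mem_centralizer_iff.mp x.2.2 y y.2))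
    (by rw [Subgroup.orderOf_coe, hy]) hAx hAe hA2' hr

end CfsgLib.OddOrder41
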