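import Mathlib
import Cfsg.Agent.Lib.OddOrder41.Sigma13Thirteen

/-!
# BG 13.9: the sets `σ(M)` of nonconjugate maximal subgroups are disjoint
-/

set_option autoImplicit false

namespace CfsgLib.OddOrder41

open Subgroup CfsgLib.OddOrder CfsgLib.OddOrder.Transitivity
open scoped commutatorElement Pointwise

universe u

variable {G : Type u} [Group G] [Finite G]

/-- The normal `t`-complement case: in a finite group with cyclic Sylow subgroups for its smallest prime,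
a subgroup of prime order of the complementary prime is normal. -/
theorem zpowers_normalized_of_two_primes {J : Subgroup G} {s t : ℕ} [hs : Fact s.Prime] [ht : Fact t.Prime]
    (hst : s < t) (hJ : ∀ r : ℕ, r.Prime → r ∣ Nat.card J → r = s ∨ r = t) (hsJ : s ∣ Nat.card J)
    (hc : ∀ (r : ℕ) [Fact r.Prime] (S : Sylow r J), IsCyclic (S : Subgroup J)) {y : G} (hy : y ∈ J)
    (hyo : orderOf y = t) : J ≤ Subgroup.normalizer ((Subgroup.zpowers y : Subgroup G) : Set G) := by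
  obtain ⟨S⟩ : Nonempty (Sylow s J) := inferInstance
  haveI := hc s S
  have hmin : (Nat.card J).minFac = s := by
    have h1 : Nat.card J ≠ 1 := fun h => hs.out.ne_one (Nat.dvd_one.mp (h ▸ hsJ))
    rcases hJ _ (Nat.minFac_prime h1) (Nat.minFac_dvd _) with h | h
    · exact h
    · exact absurd (Nat.minFac_le_of_dvd hs.out.two_le hsJ) (by rw [h]; exact not_le.mpr hst)
  have hNC : Subgroup.normalizer ((S : Subgroup J) : Set J) ≤
      Subgroup.centralizer ((S : Subgroup J) : Set J) := IsCyclic.normalizer_le_centralizer hmin inferInstance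
  have hK := MonoidHom.ker_transferSylow_isComplement' S hNC
  set K := (MonoidHom.transferSylow S hNC).ker with hKdef
  have hidx : ∀ r : ℕ, r.Prime → r ∣ K.index → r = s := fun r hr hd => by
    rw [hK.symm.index_eq_card] at hd
    obtain ⟨n, hn⟩ := S.isPGroup'.exists_card_eq
    exact (Nat.prime_dvd_prime_iff_eq hr hs.out).mp (hr.dvd_of_dvd_pow (hn ▸ hd))
  have hyK : (⟨y, hy⟩ : J) ∈ K := by
    rw [← QuotientGroup.eq_one_iff, ← orderOf_eq_one_iff]
    refine Nat.eq_one_of_dvd_coprimes (Nat.coprime_of_dvd fun r hr h1 h2 => ?_)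
      ((orderOf_map_dvd (QuotientGroup.mk' K) (⟨y, hy⟩ : J)).trans (by rw [Subgroup.orderOf_mk, hyo]))
      (show _ ∣ K.index from orderOf_dvd_natCard _)
    exact hst.ne ((hidx r hr h2).symm.trans ((Nat.prime_dvd_prime_iff_eq hr ht.out).mp h1))
  have hKp : IsPGroup t K := by
    refine IsPGroup.of_card (n := (Nat.card K).primeFactorsList.length) ?_
    refine Nat.eq_prime_pow_of_unique_prime_dvd Nat.card_pos.ne' fun {d} hd hdd => ?_
    rcases hJ d hd (hdd.trans (Subgroup.card_subgroup_dvd_card K)) with h | h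
    · exfalso
      have hd2 : d ∣ K.index := by
        rw [hK.symm.index_eq_card]
        exact h ▸ S.dvd_card_of_dvd_card hsJ
      have hdvd : d * d ∣ Nat.card J := by
        rw [← K.card_mul_index]
        exact Nat.mul_dvd_mul hdd hd2
      have hS : Nat.card (S : Subgroup J) = K.index := hK.symm.index_eq_card.symm
      have hcop : (Nat.card K).Coprime s := by
        rw [Nat.coprime_comm, hs.out.coprime_iff_not_dvd]
        intro h3
        refine S.not_dvd_index ?_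
        rw [hK.index_eq_card]
        exact h3
      exact hd.ne_one (Nat.eq_one_of_dvd_coprimes hcop hdd (h ▸ dvd_rfl))
    · exact h
  obtain ⟨T, hT⟩ := hKp.exists_le_sylow
  haveI := hc t T
  refine Subgroup.le_normalizer_iff.2 fun g hg z hz => ?_
  have hz' : (⟨g, hg⟩ : J) * ⟨z, Subgroup.zpowers_le.mpr hy hz⟩ * (⟨g, hg⟩ : J)⁻¹ ∈
      Subgroup.zpowers (⟨y, hy⟩ : J) := by
    obtain ⟨i, hi⟩ := hz
    have h1 : (⟨z, Subgroup.zpowers_le.mpr hy ⟨i, hi⟩⟩ : J) = (⟨y, hy⟩ : J) ^ i :=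
      Subtype.ext (by simpa using hi.symm)
    rw [h1]
    have hcK : (⟨g, hg⟩ : J) * (⟨y, hy⟩ : J) ^ i * (⟨g, hg⟩ : J)⁻¹ ∈ K :=
      (inferInstance : K.Normal).conj_mem _ (K.zpow_mem hyK i) _
    refine mem_of_pow_card_eq_one (S := (T : Subgroup J)) (Subgroup.zpowers_le.mpr (hT hyK)) (hT hcK) ?_
    rw [Nat.card_zpowers, Subgroup.orderOf_mk, hyo, conj_pow, ← zpow_natCast, ← zpow_mul, mul_comm i,
      zpow_mul, zpow_natCast, show (⟨y, hy⟩ : J) ^ t = 1 by
        rw [← hyo, ← Subgroup.orderOf_mk y hy]; exact pow_orderOf_eq_one _]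
    simp
  obtain ⟨j, hj⟩ := hz'
  exact ⟨j, by simpa using congrArg Subtype.val hj⟩

variable (hG : Cfsg.IsMinSimpleOddOrder G) (h2 : PropRankTwoInMaximal G) (h5 : PropTauTwoStructure G)
  (h6 : PropTauTwoInComplement G) (h12 : PropSigmaPrimeNilpotent G)

include hG in
/-- A complement of `M_σ` inside the normalizer of a Sylow subgroup for a prime of `σ(M)`. -/
theorem exists_compl_normalizing {M S : Subgroup G} (hM : IsCoatom M) {q : ℕ} [hq : Fact q.Prime]
    (hqσ : q ∈ Cfsg.sigma M) (hS : SylowOf q S M) :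
    ∃ E : Subgroup G, Cfsg.IsComplIn E (Cfsg.sigmaCore M) M ∧ E ≤ Subgroup.normalizer (S : Set G) := by
  have := minSimple_solvable hG hM.1
  obtain ⟨E₀, hE₀⟩ := exists_compl hG hM
  have hSσ : S ≤ Cfsg.sigmaCore M := le_sigmaCore_of_isPGroup hG hM hqσ hS.1 hS.2.1
  have hfr : M ≤ Cfsg.sigmaCore M ⊔ (M ⊓ Subgroup.normalizer (S : Set G)) := by
    intro l hl
    obtain ⟨s, hs, hle⟩ := Sigma10.exists_conj_le (hS.mono (piCoreOf_le _ _) hSσ) (Q := cj l S)
      ((cj_mono hSσ).trans (cj_eq_of_mem_normalizer (piCoreOf_normal _ _ hl)).le) (hS.2.1.map _)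
    rw [cj_mul] at hle
    have h1 := mem_normalizer_of_cj_eq (Subgroup.eq_of_le_of_card_ge hle (card_cj (s * l) S).ge)
    have h3 : s * l ∈ Cfsg.sigmaCore M ⊔ (M ⊓ Subgroup.normalizer (S : Set G)) :=
      Subgroup.mem_sup_right ⟨mul_mem (piCoreOf_le _ _ hs) hl, h1⟩
    have h4 := mul_mem (inv_mem (Subgroup.mem_sup_left hs :
      s ∈ Cfsg.sigmaCore M ⊔ (M ⊓ Subgroup.normalizer (S : Set G)))) h3
    rwa [inv_mul_cancel_left] at h4
  obtain ⟨g, hg, hgle⟩ := exists_conj_into (π := (Cfsg.sigma M)ᶜ) (Y := E₀)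
    (inf_le_left : M ⊓ Subgroup.normalizer (S : Set G) ≤ M) (fun t ht htσ hd =>
      htσ (piNat_card_piCoreOf (Cfsg.sigma M) M t ht
        (hd.trans (relIndex_dvd_card_of_le_sup (piCoreOf_le _ _) inf_le_left (piCoreOf_normal _ _) hfr))))
    hE₀.1 (fun t ht hd => Sigma10.not_mem_sigma_of_dvd_compl hG hM hE₀ ht hd)
  exact ⟨cj g E₀, isComplIn_cj hE₀ (piCoreOf_normal _ _) hg, hgle.trans inf_le_right⟩

/-- Two nonconjugate maximal subgroups with a common Sylow subgroup for a prime of both `σ`-sets. -/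
structure CommonSylow (M L : Subgroup G) (q : ℕ) (Q : Subgroup G) : Prop where
  coatom₁ : IsCoatom M
  coatom₂ : IsCoatom L
  nconj₁ : ∀ g : G, L ≠ cj g M
  nconj₂ : ∀ g : G, M ≠ cj g L
  mem₁ : q ∈ Cfsg.sigma M
  mem₂ : q ∈ Cfsg.sigma L
  sylow₁ : SylowOf q Q M
  sylow₂ : SylowOf q Q L

omit [Finite G] in
theorem CommonSylow.symm {M L : Subgroup G} {q : ℕ} {Q : Subgroup G} (h : CommonSylow M L q Q) :
    CommonSylow L M q Q :=
  ⟨h.2, h.1, h.4, h.3, h.6, h.5, h.8, h.7⟩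

include hG h2 h5 h6 h12 in
/-- A `τ₁(M)`-subgroup of prime order normalizing the common Sylow subgroup. -/
theorem CommonSylow.tau1_mem {M L : Subgroup G} {q : ℕ} [hq : Fact q.Prime] {Q : Subgroup G}
    (h : CommonSylow M L q Q) {p : ℕ} [hp : Fact p.Prime] (hpτ : p ∈ Cfsg.tau1 M) {P : Subgroup G}
    (hPM : P ≤ M) (hP : Nat.card P = p) (hPQ : P ≤ Subgroup.normalizer (Q : Set G)) :
    P ≤ L ∧ p ∈ Cfsg.tau1 L ∧ Q ⊓ Subgroup.centralizer (P : Set G) = ⊥ := by
  obtain ⟨hM, hL, hnc, hnc', hqM, hqL, hQM, hQL⟩ := h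
  have hQσ : Q ≤ Cfsg.sigmaCore M := le_sigmaCore_of_isPGroup hG hM hqM hQM.1 hQM.2.1
  have hfix : Q ⊓ Subgroup.centralizer (P : Set G) = ⊥ := by
    by_contra hne
    obtain ⟨x, hx⟩ := exists_prime_orderOf_dvd_card'
      (G := ↥(Q ⊓ Subgroup.centralizer (P : Set G))) q
      (Uniq.prime_dvd_card (hQM.2.1.to_le inf_le_left) hne)
    set X := Subgroup.zpowers (x : G) with hX
    have hXc : Nat.card X = q := by rw [hX, Nat.card_zpowers, Subgroup.orderOf_coe, hx]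
    have hXle : X ≤ Cfsg.sigmaCore M ⊓ Subgroup.centralizer (P : Set G) :=
      Subgroup.zpowers_le.mpr ⟨hQσ x.2.1, x.2.2⟩
    obtain ⟨hβ, hD⟩ := sigma_inter hG h2 h12 hL hM hnc' hqL hqM
    have h1 := hD X (cyclic_isPGroup_of_card hXc)
      ((mem_beta_or_le_derived hG h2 h5 h6 h12 hM hpτ hPM hP hXc hXle).resolve_left hβ)
    rw [h1, Subgroup.card_bot] at hXc
    exact hq.out.ne_one hXc.symm
  have hQ1 : Q ≠ ⊥ := by
    intro hb
    obtain ⟨T, hT⟩ := hQM.toSylow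
    rw [hb] at hT
    have hTb := (Subgroup.map_eq_bot_iff_of_injective _ M.subtype_injective).mp hT
    exact T.ne_bot_of_dvd_card hqM.2.1 hTb
  have hPL : P ≤ L := hPQ.trans (Sigma10.normalizer_le_of_mem_sigma hqL hQL)
  have hpq : p ≠ q := fun he => hpτ.2.1 (he ▸ hqM)
  have hcop : (Nat.card P).Coprime q := by rw [hP]; exact (Nat.coprime_primes hp.out hq.out).mpr hpq
  have hnotc : ¬ P ≤ Subgroup.centralizer (Q : Set G) := fun hc => hQ1 (by
    rw [← hfix, inf_eq_left.mpr (Subgroup.le_centralizer_iff.mp hc)])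
  have hpL : p ∉ Cfsg.sigma L := fun hpL => hnotc (centralizes_of_le_sigmaCore hG h2 h12 hM hL hnc hqM
    (le_sigmaCore_of_isPGroup hG hL hpL hPL (cyclic_isPGroup_of_card hP)) hQM.2.1 hQL.1 hPQ hcop)
  have hr1 := pRankLE_one_of_sigma_inter hG h5 hM hL hnc hqM hqL hpL
  refine ⟨hPL, ⟨hp.out, hpL, hP ▸ Subgroup.card_dvd_of_le hPL, fun hd => ?_, hr1⟩, hfix⟩
  exact hnotc (centralizes_of_le_derived hG hL hqL (sigma_inter hG h2 h12 hM hL hnc hqM hqL).1 hQL.2.1 hQL.1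
    (le_of_normal_of_dvd hG hr1 (Subgroup.commutator_le_self L) (Coprime.le_normalizer_commutator_left L L)
      hd hPL hP) hPQ hcop)

include hG h2 h5 h6 h12 in
/-- No element of `M` of order in `σ(L) \ σ(M)` centralizes a subgroup of `τ₁(M)`-order. -/
theorem CommonSylow.false_of_commute {M L : Subgroup G} {q : ℕ} [hq : Fact q.Prime] {Q : Subgroup G}
    (h : CommonSylow M L q Q) {p t : ℕ} [hp : Fact p.Prime] [ht : Fact t.Prime] (hpτ : p ∈ Cfsg.tau1 M)
    (htL : t ∈ Cfsg.sigma L) (htM : t ∉ Cfsg.sigma M) {P : Subgroup G} (hPM : P ≤ M) (hP : Nat.card P = p)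
    {y : G} (hyM : y ∈ M) (hyo : orderOf y = t) (hyP : y ∈ Subgroup.centralizer (P : Set G)) : False := by
  obtain ⟨E, hE, hEQ⟩ := exists_compl_normalizing hG h.coatom₁ h.mem₁ h.sylow₁
  have hM := h.coatom₁
  have hL := h.coatom₂
  have := minSimple_solvable hG hM.1
  have hr1 : ∀ r : ℕ, r.Prime → r ∉ Cfsg.sigma M → Cfsg.PRankLE r 1 M := fun r hr hrσ =>
    haveI := Fact.mk hr
    pRankLE_one_of_sigma_inter hG h5 hL hM h.nconj₂ h.mem₂ h.mem₁ hrσ
  have hYn : Subgroup.zpowers y ≤ Subgroup.normalizer (P : Set G) :=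
    Subgroup.zpowers_le.mpr (Subgroup.centralizer_le_normalizer _ hyP)
  obtain ⟨m, hm, hle⟩ := exists_conj_into (π := (Cfsg.sigma M)ᶜ) hE.1 (fun r hr hrσ hd => by
      rw [IsComplIn.relIndex_left hE] at hd
      exact hrσ (piNat_card_piCoreOf (Cfsg.sigma M) M r hr hd))
    (sup_le (Subgroup.zpowers_le.mpr hyM) hPM) fun r hr hd => by
      rcases hr.dvd_mul.mp (hd.trans (Coprime.card_sup_dvd hYn)) with h1 | h1
      · rw [Nat.card_zpowers, hyo] at h1
        rwa [(Nat.prime_dvd_prime_iff_eq hr ht.out).mp h1]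
      · rw [hP] at h1
        rw [(Nat.prime_dvd_prime_iff_eq hr hp.out).mp h1]
        exact hpτ.2.1
  set P' := cj m P with hP'
  set y' := m * y * m⁻¹ with hy'
  have hP'E : P' ≤ E := (cj_mono le_sup_right).trans hle
  have hy'E : y' ∈ E := hle (mem_cj.mpr (Subgroup.mem_sup_left
    (by simp [hy', mul_assoc, Subgroup.mem_zpowers])))
  have hP'c : Nat.card P' = p := (card_cj m P).trans hP
  have hy'o : orderOf y' = t := (MulEquiv.orderOf_eq (MulAut.conj m) y).trans hyo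
  have hy'P : y' ∈ Subgroup.centralizer (P' : Set G) := by
    rw [hP', ← cj_centralizer]
    exact mem_cj.mpr (by simpa [hy', mul_assoc] using hyP)
  have hEM : E ≤ M := hE.1
  have hEL : E ≤ L := hEQ.trans (Sigma10.normalizer_le_of_mem_sigma h.mem₂ h.sylow₂)
  have hτ1L : ∀ R : Subgroup G, R ≤ E → ∀ r : ℕ, r.Prime → Nat.card R = r → r ∈ Cfsg.tau1 M →
      r ∈ Cfsg.tau1 L := fun R hR r hr hRc hrτ =>
    haveI := Fact.mk hr
    (h.tau1_mem hG h2 h5 h6 h12 hrτ (hR.trans hEM) hRc (hR.trans hEQ)).2.1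
  obtain ⟨E₁, hE₁E, hE₁c, hPE₁, hE₁τ, hsup⟩ := exists_tau1_hall_ge hG hM hE hP'E fun r hr hd => by
    rw [hP'c] at hd; rwa [(Nat.prime_dvd_prime_iff_eq hr hp.out).mp hd]
  have hE₁L : ∀ r : ℕ, r.Prime → r ∣ Nat.card E₁ → r ∈ Cfsg.tau1 L := fun r hr hd => by
    have := Fact.mk hr
    obtain ⟨z, hz⟩ := exists_prime_orderOf_dvd_card' (G := E₁) r hd
    exact hτ1L (Subgroup.zpowers (z : G)) (Subgroup.zpowers_le.mpr (hE₁E z.2)) r hr
      (by rw [Nat.card_zpowers, Subgroup.orderOf_coe, hz]) (hE₁τ r hr hd)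
  obtain ⟨EL, hcEL, hE₁EL⟩ := exists_compl_ge hG hL (hE₁E.trans hEL) fun r hr hd => (hE₁L r hr hd).2.1
  have hY' : Subgroup.zpowers y' ≤ Cfsg.sigmaCore L :=
    le_sigmaCore_of_isPGroup hG hL htL (Subgroup.zpowers_le.mpr (hEL hy'E))
      (IsPGroup.of_card (n := 1) (by rw [Nat.card_zpowers, hy'o, pow_one]))
  have := hE₁c
  have hE₁y : E₁ ≤ Subgroup.centralizer ({y'} : Set G) := fun e he =>
    Subgroup.mem_centralizer_singleton_iff.mpr (Subgroup.mem_centralizer_iff.mp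
      (le_centralizer_of_tau1_abelian hG h2 h5 h6 h12 hL hcEL
        (hτ1L P' hP'E p hp.out hP'c hpτ) hPE₁ hP'c hE₁EL IsCyclic.isMulCommutative
        (fun r hr hd => (hE₁L r hr hd).2.2.2.2) ⟨hY' (Subgroup.mem_zpowers y'), hy'P⟩) e he)
  have htτ : t ∉ Cfsg.tau1 M := fun hτ => (hτ1L (Subgroup.zpowers y') (Subgroup.zpowers_le.mpr hy'E) t ht.out
    (by rw [Nat.card_zpowers, hy'o]) hτ).2.1 htL
  have htd : t ∣ Nat.card ↥⁅M, M⁆ := by
    by_contra hd
    exact htτ ⟨ht.out, htM, hyo ▸ Subgroup.orderOf_dvd_natCard M hyM, hd, hr1 t ht.out htM⟩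
  have htE : t ∣ Nat.card ↥⁅E, E⁆ :=
    (ht.out.dvd_mul.mp (htd.trans (Sigma10.card_derived_dvd hE))).resolve_right
      fun hd => htM (piNat_card_piCoreOf _ _ t ht.out hd)
  have hrE : Cfsg.PRankLE t 1 E := PRankLE.of_le hEM (hr1 t ht.out htM)
  have hy'D : y' ∈ ⁅E, E⁆ := le_of_normal_of_dvd hG hrE (Subgroup.commutator_le_self E)
    (Coprime.le_normalizer_commutator_left E E) htE (Subgroup.zpowers_le.mpr hy'E)
    (by rw [Nat.card_zpowers, hy'o]) (Subgroup.mem_zpowers y')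
  have hab := (h12 M hM E hE).2.1
  have hEy : E ≤ Subgroup.centralizer ({y'} : Set G) := by
    refine (hsup fun r hr hd => hr1 r hr (Sigma10.not_mem_sigma_of_dvd_compl hG hM hE hr hd)).trans
      (sup_le (fun d hd => Subgroup.mem_centralizer_singleton_iff.mpr ?_) hE₁y)
    exact congrArg Subtype.val (hab.is_comm.comm (⟨d, hd⟩ : ↥⁅E, E⁆) ⟨y', hy'D⟩)
  obtain ⟨T, hT, hy'T⟩ := exists_sylowOf_ge (Subgroup.zpowers_le.mpr hy'E)
    (IsPGroup.of_card (p := t) (n := 1) (by rw [Nat.card_zpowers, hy'o, pow_one]))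
  have : IsCyclic T := isCyclic_of_pRankLE_one
    (minSimple_prime_ne_two hG htd) hT.2.1 (PRankLE.of_le hT.1 hrE)
  have h1 := not_mem_derived_of_central hT IsCyclic.isMulCommutative (hy'T (Subgroup.mem_zpowers y')) hEy hy'D
  rw [h1, orderOf_one] at hy'o
  exact ht.out.ne_one hy'o.symm

include hG h2 h5 h6 h12 in
/-- The `β(M)`-element centralizing a subgroup of `τ₁(M)`-order that normalizes the common Sylow subgroup. -/
theorem CommonSylow.exists_beta_fixed {M L : Subgroup G} {q : ℕ} [hq : Fact q.Prime] {Q : Subgroup G}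
    (h : CommonSylow M L q Q) {p : ℕ} [hp : Fact p.Prime] (hpτ : p ∈ Cfsg.tau1 M) {P : Subgroup G}
    (hPM : P ≤ M) (hP : Nat.card P = p) (hPQ : P ≤ Subgroup.normalizer (Q : Set G)) :
    ∃ (t : ℕ) (x : G), t.Prime ∧ orderOf x = t ∧ t ∈ Cfsg.beta M ∧
      x ∈ Cfsg.sigmaCore M ∧ x ∈ Subgroup.centralizer (P : Set G) := by
  obtain ⟨hPL, -, hfix⟩ := h.tau1_mem hG h2 h5 h6 h12 hpτ hPM hP hPQ
  obtain ⟨hM, hL, hnc, hnc', hqM, hqL, hQM, hQL⟩ := h
  set B := Cfsg.piCoreOf (Cfsg.beta M) M with hB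
  obtain ⟨hBhall, -, -, ⟨H, hH, hnil⟩, -⟩ := Sigma10.betaCore_hall hG hM
    (fun p _ => Sigma10.pLengthLE_one_proper hG p) (Sigma10.propFiveFive hG)
  have hB1 : B ≠ ⊥ := by
    intro hb
    have hHS : H = Cfsg.sigmaCore M := by
      refine le_antisymm hH.1 (Subgroup.relIndex_eq_one.mp ?_)
      by_contra hne
      obtain ⟨r, hr, hrd⟩ := Nat.exists_prime_and_dvd hne
      by_cases hrβ : r ∈ Cfsg.beta M
      · have h1 : r ∣ Nat.card B * B.relIndex M := by
          rw [card_mul_relIndex_of_le hBhall.1]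
          exact (hrd.trans (Subgroup.relIndex_dvd_card _ _)).trans (Subgroup.card_dvd_of_le (piCoreOf_le _ _))
        rw [hb, Subgroup.card_bot, one_mul, ← hb] at h1
        exact hBhall.2.2 r hr hrβ h1
      · exact hH.2.2 r hr ⟨hr, hrβ⟩ hrd
    exact not_mem_sigma_of_nilpotent hG hL hM hnc' (hHS ▸ hnil) hqL hqM
  obtain ⟨t, ht, htB⟩ := Nat.exists_prime_and_dvd (n := Nat.card B) (fun h => hB1 (Subgroup.card_eq_one.mp h))
  have := Fact.mk ht
  have htβ : t ∈ Cfsg.beta M := piNat_card_piCoreOf (Cfsg.beta M) M t ht htB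
  have htσ : t ∈ Cfsg.sigma M := Sigma10.alpha_subset_sigma hG hM htβ.1
  have hqβ : q ∉ Cfsg.beta M := (sigma_inter hG h2 h12 hL hM hnc' hqL hqM).1
  have hpq : p ≠ q := fun he => hpτ.2.1 (he ▸ hqM)
  have hsB : Group.IsSolvable B :=
    minSimple_solvable hG fun h => hM.1 (top_le_iff.mp (h ▸ piCoreOf_le _ _))
  obtain ⟨n, hn⟩ := hQM.2.1.exists_card_eq
  have hcard : ∀ r : ℕ, r.Prime → r ∣ Nat.card ↥(P ⊔ Q) → r ∉ Cfsg.beta M := fun r hr hd hrβ => by
    rcases hr.dvd_mul.mp (hd.trans (Coprime.card_sup_dvd hPQ)) with h1 | h1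
    · exact hpτ.2.1 ((Nat.prime_dvd_prime_iff_eq hr hp.out).mp (hP ▸ h1) ▸
        Sigma10.alpha_subset_sigma hG hM hrβ.1)
    · exact hqβ ((Nat.prime_dvd_prime_iff_eq hr hq.out).mp (hr.dvd_of_dvd_pow (hn ▸ h1)) ▸ hrβ)
  obtain ⟨Ts, -, hJT⟩ := Coprime.exists_invariant_sylow_ge (P ⊔ Q) B
    ((sup_le hPM hQM.1).trans (piCoreOf_normal _ _))
    (Nat.coprime_of_dvd fun r hr h1 h3 => hcard r hr h1 (piNat_card_piCoreOf (Cfsg.beta M) M r hr h3))
    (Or.inr hsB) t ⊥ bot_le IsPGroup.of_bot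
    (Subgroup.le_normalizer_iff.2 fun g _ b hb => by simp [Subgroup.mem_bot.mp hb])
  set T := (Ts : Subgroup B).map B.subtype with hT
  have hTt : IsPGroup t T := Ts.isPGroup'.map _
  have hTB : T ≤ B := Subgroup.map_subtype_le _
  have hTM : T ≤ M := hTB.trans (piCoreOf_le _ _)
  suffices hne : T ⊓ Subgroup.centralizer (P : Set G) ≠ ⊥ by
    obtain ⟨x, hx⟩ := exists_prime_orderOf_dvd_card' (G := ↥(T ⊓ Subgroup.centralizer (P : Set G))) t
      (Uniq.prime_dvd_card (hTt.to_le inf_le_left) hne)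
    exact ⟨t, x, ht, by rw [Subgroup.orderOf_coe, hx], htβ, betaCore_le_sigmaCore hG hM (hTB x.2.1), x.2.2⟩
  intro hbot
  have hp2 := minSimple_prime_ne_two hG (H := P) (p := p) (by rw [hP])
  have hq2 := minSimple_prime_ne_two hG hqM.2.1
  have htp : p ≠ t := fun he => hpτ.2.1 (he ▸ htσ)
  have htq : q ≠ t := fun he => hqβ (he ▸ htβ)
  have h1 := commutator_le_centralizer_of_fpf hp2 hq2 hpq htp htq Q P T hQM.2.1 hP hTt hPQ
    ((sup_comm Q P).le.trans hJT) hbot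
  have hQP : ⁅Q, P⁆ = Q := by
    have h3 := Coprime.commutator_sup_centralizer P Q hPQ
      (by rw [hP, hn]; exact Nat.Coprime.pow_right n ((Nat.coprime_primes hp.out hq.out).mpr hpq))
      (Or.inr (by have := hQM.2.1.isNilpotent; infer_instance))
    rwa [hfix, sup_bot_eq] at h3
  rw [hQP] at h1
  have hTL : T ≤ L := (Subgroup.le_centralizer_iff.mp h1).trans
    ((Subgroup.centralizer_le_normalizer _).trans (Sigma10.normalizer_le_of_mem_sigma hqL hQL))
  have htL : t ∉ Cfsg.sigma L := fun h' => (sigma_inter hG h2 h12 hL hM hnc' h' htσ).1 htβ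
  have hTs : SylowOf t T M := by
    refine ⟨hTM, hTt, fun U hUM hU hle => ?_⟩
    exact (sylowOf_map Ts).2.2 U (le_piCoreOf_beta hG hM htβ hUM hU) hU hle
  exact htβ.1.2 (Sigma10.pRankLE_of_sylowOf hTs
    (PRankLE.of_le hTL (pRankLE_two hG hL ht htL)))

include hG h2 h5 h6 h12 in
theorem CommonSylow.false {M L : Subgroup G} {q : ℕ} [hq : Fact q.Prime] {Q : Subgroup G}
    (h : CommonSylow M L q Q) : False := by
  obtain ⟨E, hE, hEQ⟩ := exists_compl_normalizing hG h.coatom₁ h.mem₁ h.sylow₁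
  have hM := h.coatom₁
  have hL := h.coatom₂
  have hQσ : Q ≤ Cfsg.sigmaCore M := le_sigmaCore_of_isPGroup hG hM h.mem₁ h.sylow₁.1 h.sylow₁.2.1
  obtain ⟨hqβ, hqD⟩ := sigma_inter hG h2 h12 hL hM h.nconj₂ h.mem₂ h.mem₁
  -- a prime `p ∈ τ₁(M)` dividing `|E|`
  obtain ⟨p, hp, hpE, hpτ⟩ : ∃ p : ℕ, p.Prime ∧ p ∣ Nat.card E ∧ p ∈ Cfsg.tau1 M := by
    by_contra hcon
    push Not at hcon
    have hQ1 : Q ≠ ⊥ := fun hb => by
      obtain ⟨T, hT⟩ := h.sylow₁.toSylow
      rw [hb] at hT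
      exact T.ne_bot_of_dvd_card h.mem₁.2.1
        ((Subgroup.map_eq_bot_iff_of_injective _ M.subtype_injective).mp hT)
    refine hQ1 (hqD Q h.sylow₁.2.1 (le_trans (le_inf hQσ ?_) (sigmaCore_inf_centralizer_le hG hM hE)))
    rw [Subgroup.le_centralizer_iff]
    refine le_of_exists_sylow_le fun r hr => ?_
    have := Fact.mk hr
    obtain ⟨T⟩ : Nonempty (Sylow r E) := inferInstance
    refine ⟨T, ?_⟩
    have hTp : IsPGroup r ((T : Subgroup E).map E.subtype) := T.isPGroup'.map _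
    have hTE : (T : Subgroup E).map E.subtype ≤ E := Subgroup.map_subtype_le _
    by_cases hT1 : (T : Subgroup E).map E.subtype = ⊥
    · rw [hT1]; exact bot_le
    have hrd : r ∣ Nat.card E := (Uniq.prime_dvd_card hTp hT1).trans (Subgroup.card_dvd_of_le hTE)
    have hrσ := Sigma10.not_mem_sigma_of_dvd_compl hG hM hE hr hrd
    have hr1 : Cfsg.PRankLE r 1 M := pRankLE_one_of_sigma_inter hG h5 hL hM h.nconj₂ h.mem₂ h.mem₁ hrσ
    have hrD : r ∣ Nat.card ↥⁅M, M⁆ := by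
      by_contra hd
      exact hcon r hr hrd ⟨hr, hrσ, hrd.trans (Subgroup.card_dvd_of_le hE.1), hd, hr1⟩
    obtain ⟨y, hy⟩ := exists_prime_orderOf_dvd_card' (G := (T : Subgroup E).map E.subtype) r
      (Uniq.prime_dvd_card hTp hT1)
    have hyo : orderOf (y : G) = r := by rw [Subgroup.orderOf_coe, hy]
    have hYD : Subgroup.zpowers (y : G) ≤ ⁅M, M⁆ := le_of_normal_of_dvd hG hr1 (Subgroup.commutator_le_self M)
      (Coprime.le_normalizer_commutator_left M M) hrD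
      (Subgroup.zpowers_le.mpr (hE.1 (hTE y.2))) (by rw [Nat.card_zpowers, hyo])
    have hrq : r ≠ q := fun he => hrσ (he ▸ h.mem₁)
    have hc := centralizes_of_le_derived hG hM h.mem₁ hqβ h.sylow₁.2.1 h.sylow₁.1 hYD
      (Subgroup.zpowers_le.mpr (hEQ (hTE y.2)))
      (by rw [Nat.card_zpowers, hyo]; exact (Nat.coprime_primes hr hq.out).mpr hrq)
    have hTc : IsCyclic ((T : Subgroup E).map E.subtype) :=
      isCyclic_of_pRankLE_one (minSimple_prime_ne_two hG hrd) hTp (PRankLE.of_le (hTE.trans hE.1) hr1)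
    have hQn : Q ≤ Subgroup.centralizer ({(y : G)} : Set G) := by
      rw [← centralizer_zpowers]
      exact Subgroup.le_centralizer_iff.mp hc
    exact (centralizes_of_cyclic_sylow hG h2 h5 h6 h12 hM hrσ
      (sylowOf_of_compl hG hM hE (sylowOf_map T) hrσ) hTc (X := Subgroup.zpowers (y : G))
      (Subgroup.zpowers_le.mpr y.2) (by rw [Nat.card_zpowers, hyo])
      |> fun hcc => Subgroup.le_centralizer_iff.mp ((le_inf hQσ (by rw [centralizer_zpowers]; exact hQn)).trans hcc))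
  have := Fact.mk hp
  obtain ⟨z, hz⟩ := exists_prime_orderOf_dvd_card' (G := E) p hpE
  set P := Subgroup.zpowers (z : G) with hPdef
  have hPc : Nat.card P = p := by rw [hPdef, Nat.card_zpowers, Subgroup.orderOf_coe, hz]
  have hPE : P ≤ E := Subgroup.zpowers_le.mpr z.2
  have hPM : P ≤ M := hPE.trans hE.1
  have hPQ : P ≤ Subgroup.normalizer (Q : Set G) := hPE.trans hEQ
  obtain ⟨hPL, hpτ', -⟩ := h.tau1_mem hG h2 h5 h6 h12 hpτ hPM hPc hPQ
  obtain ⟨t, x, ht, hxo, htβ, hxσ, hxP⟩ := h.exists_beta_fixed hG h2 h5 h6 h12 hpτ hPM hPc hPQ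
  obtain ⟨s, y, hs, hyo, hsβ, hyσ, hyP⟩ := h.symm.exists_beta_fixed hG h2 h5 h6 h12 hpτ' hPL hPc hPQ
  have := Fact.mk ht
  have := Fact.mk hs
  have htM : t ∈ Cfsg.sigma M := Sigma10.alpha_subset_sigma hG hM htβ.1
  have hsL : s ∈ Cfsg.sigma L := Sigma10.alpha_subset_sigma hG hL hsβ.1
  have htL : t ∉ Cfsg.sigma L := fun hh => (sigma_inter hG h2 h12 hL hM h.nconj₂ hh htM).1 htβ
  have hsM : s ∉ Cfsg.sigma M := fun hh => (sigma_inter hG h2 h12 hM hL h.nconj₁ hh hsL).1 hsβ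
  have hst : s ≠ t := fun he => hsM (he ▸ htM)
  have honly : ∀ (M₀ : Subgroup G) (r : ℕ) (w : G), IsCoatom M₀ → r.Prime → r ∈ Cfsg.beta M₀ →
      w ∈ Cfsg.sigmaCore M₀ → orderOf w = r →
      OnlyIn (Subgroup.centralizer ((Subgroup.zpowers w : Subgroup G) : Set G)) M₀ := by
    intro M₀ r w hM₀ hr hrβ hw hwo
    haveI := Fact.mk hr
    obtain ⟨R, hR, -⟩ := exists_sylowOf_ge (Subgroup.zpowers_le.mpr hw)
      (IsPGroup.of_card (p := r) (n := 1) (by rw [Nat.card_zpowers, hwo, pow_one]))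
    exact (centralizer_unique hG h2 h12 hM₀ (Sigma10.alpha_subset_sigma hG hM₀ hrβ.1)
      (Subgroup.zpowers_le.mpr (piCoreOf_le _ _ hw)) (by rw [Nat.card_zpowers, hwo]) hR (Or.inl hrβ)).1
  have hP1 : P ≠ ⊥ := fun hb => by rw [hb, Subgroup.card_bot] at hPc; exact hp.ne_one hPc.symm
  obtain ⟨L₀, hL₀, hNP⟩ := exists_isCoatom_ge
    (minSimple_normalizer_ne_top hG hP1 (minSimple_pgroup_ne_top hG (cyclic_isPGroup_of_card hPc)))
  have hpL₀ : p ∈ Cfsg.sigma L₀ := mem_sigma_of_normalizer hG h2 h5 h6 h12 hM hL₀ hpτ.2.1 hpτ.2.2.2.2 hPM hPc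
    (fun hb => by
      have hx' : x ∈ Cfsg.sigmaCore M ⊓ Subgroup.centralizer (P : Set G) := ⟨hxσ, hxP⟩
      rw [hb, Subgroup.mem_bot] at hx'
      rw [hx', orderOf_one] at hxo
      exact ht.ne_one hxo.symm) hNP
  set F := Subgroup.centralizer (P : Set G) with hF
  have hFL₀ : F ≤ L₀ := (Subgroup.centralizer_le_normalizer _).trans hNP
  have hPσ₀ : P ≤ Cfsg.sigmaCore L₀ :=
    le_sigmaCore_of_isPGroup hG hL₀ hpL₀ (Subgroup.le_normalizer.trans hNP) (cyclic_isPGroup_of_card hPc)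
  have hrank : ∀ (M₀ : Subgroup G) (r : ℕ) (w : G), IsCoatom M₀ → r.Prime → r ∈ Cfsg.beta M₀ →
      p ∉ Cfsg.sigma M₀ → P ≤ M₀ → w ∈ M₀ → w ∈ F → orderOf w = r → Cfsg.PRankLE r 1 L₀ := by
    intro M₀ r w hM₀ hr hrβ hpM₀ hPM₀ hwM₀ hwF hwo
    haveI := Fact.mk hr
    have hrσ : r ∉ Cfsg.sigma L₀ := fun hh =>
      (sigma_inter hG h2 h12 hL₀ hM₀ (fun g hg => by
        refine not_conj_of_mem_sigma (p := p) (M := M₀) (L := L₀) hpL₀ hpM₀ g⁻¹ ?_
        rw [hg, cj_mul, inv_mul_cancel, cj_one]) hh (Sigma10.alpha_subset_sigma hG hM₀ hrβ.1)).1 hrβ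
    by_contra hr1
    exact false_of_tau2_partner hG h5 h12 hM₀ hL₀ (Sigma10.alpha_subset_sigma hG hM₀ hrβ.1)
      (mem_tau2_of_not_rank_one hG hL₀ hr hrσ hr1) hwM₀ (hFL₀ hwF) hwo (hPσ₀ (Subgroup.mem_zpowers _))
      (hPM₀ (Subgroup.mem_zpowers _)) (fun hz1 => hP1 (Subgroup.zpowers_eq_bot.mpr hz1))
      (Subgroup.mem_centralizer_iff.mp hwF _ (Subgroup.mem_zpowers _)).symm
  have hrt := hrank M t x hM ht htβ hpτ.2.1 hPM (piCoreOf_le _ _ hxσ) hxP hxo
  have hrs := hrank L s y hL hs hsβ hpτ'.2.1 hPL (piCoreOf_le _ _ hyσ) hyP hyo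
  -- conjugate `y` in `C(P)` into a `{s,t}`-subgroup containing `x`
  have hsF : Group.IsSolvable F := minSimple_solvable hG (minSimple_centralizer_subgroup_ne_top hG hP1)
  obtain ⟨J₀, hJ₀⟩ := CfsgLib.Hall.exists_isPiHall (G := F) {r | r = s ∨ r = t}
  set J := J₀.map F.subtype with hJdef
  have hJF : J ≤ F := Subgroup.map_subtype_le _
  have hidx : ∀ r : ℕ, r.Prime → r ∈ {r | r = s ∨ r = t} → ¬ r ∣ J.relIndex F := fun r hr hrπ hd => by
    refine hJ₀.2 r hr hrπ ?_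
    rwa [hJdef, Subgroup.relIndex, Subgroup.subgroupOf,
      Subgroup.comap_map_eq_self_of_injective F.subtype_injective] at hd
  obtain ⟨a, ha, hax⟩ := exists_conj_into hJF hidx (Subgroup.zpowers_le.mpr hxP) fun r hr hd => by
    rw [Nat.card_zpowers, hxo] at hd
    exact Or.inr ((Nat.prime_dvd_prime_iff_eq hr ht).mp hd)
  obtain ⟨b, hb, hby⟩ := exists_conj_into hJF hidx (Subgroup.zpowers_le.mpr hyP) fun r hr hd => by
    rw [Nat.card_zpowers, hyo] at hd
    exact Or.inl ((Nat.prime_dvd_prime_iff_eq hr hs).mp hd)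
  set x' := a * x * a⁻¹ with hx'
  set y' := b * y * b⁻¹ with hy'
  have hx'J : x' ∈ J := hax (mem_cj.mpr (by simp [hx', mul_assoc]))
  have hy'J : y' ∈ J := hby (mem_cj.mpr (by simp [hy', mul_assoc]))
  have hx'o : orderOf x' = t := (MulEquiv.orderOf_eq (MulAut.conj a) x).trans hxo
  have hy'o : orderOf y' = s := (MulEquiv.orderOf_eq (MulAut.conj b) y).trans hyo
  have hJp : ∀ r : ℕ, r.Prime → r ∣ Nat.card J → r = s ∨ r = t := fun r hr hd =>
    hJ₀.1 r hr (by rwa [hJdef, Subgroup.card_map_of_injective F.subtype_injective] at hd)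
  have hc : ∀ (r : ℕ) [Fact r.Prime] (S : Sylow r J), IsCyclic (S : Subgroup J) := by
    intro r hr S
    by_cases hS1 : (S : Subgroup J) = ⊥
    · rw [hS1]; infer_instance
    have hrd := (Uniq.prime_dvd_card S.isPGroup' hS1).trans (Subgroup.card_subgroup_dvd_card _)
    have hrank1 : Cfsg.PRankLE r 1 L₀ := by
      rcases hJp r hr.out hrd with h1 | h1
      · exact h1 ▸ hrs
      · exact h1 ▸ hrt
    haveI : IsCyclic ((S : Subgroup J).map J.subtype) := isCyclic_of_pRankLE_one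
      (minSimple_prime_ne_two hG hrd) (S.isPGroup'.map _)
      (PRankLE.of_le ((Subgroup.map_subtype_le _).trans (hJF.trans hFL₀)) hrank1)
    exact isCyclic_of_injective
      (Subgroup.equivMapOfInjective (S : Subgroup J) J.subtype J.subtype_injective).toMonoidHom
      (MulEquiv.injective _)
  have hxnorm := fun g (hg : g ∈ J) (hh : J ≤ Subgroup.normalizer ((Subgroup.zpowers x' : Subgroup G) : Set G)) =>
    hh hg
  rcases lt_or_gt_of_ne hst with hlt | hlt
  · -- `x'` generates a normal subgroup of `J`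
    have hn := zpowers_normalized_of_two_primes hlt hJp (hy'o ▸ Subgroup.orderOf_dvd_natCard J hy'J) hc hx'J hx'o
    have hN := normalizer_le_of_onlyIn (isCoatom_map_conj hM a)
      (normalizer_self_eq_of_isCoatom hG (isCoatom_map_conj hM a))
      (by
        have h1 := (honly M t x hM ht htβ hxσ hxo).cj a
        rwa [cj_centralizer, cj_zpowers] at h1)
    have hy'M : y' ∈ cj a M := hN (hn hy'J)
    have hmem : a⁻¹ * y' * a ∈ M := by simpa using mem_cj.mp hy'M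
    refine h.false_of_commute hG h2 h5 h6 h12 hpτ hsL hsM hPM hPc hmem ?_ ?_
    · rw [← hy'o]
      simpa using MulEquiv.orderOf_eq (MulAut.conj a⁻¹) y'
    · exact F.mul_mem (F.mul_mem (F.inv_mem ha) (hJF hy'J)) ha
  · have hn := zpowers_normalized_of_two_primes hlt (fun r hr hd => (hJp r hr hd).symm)
      (hx'o ▸ Subgroup.orderOf_dvd_natCard J hx'J) hc hy'J hy'o
    have hN := normalizer_le_of_onlyIn (isCoatom_map_conj hL b)
      (normalizer_self_eq_of_isCoatom hG (isCoatom_map_conj hL b))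
      (by
        have h1 := (honly L s y hL hs hsβ hyσ hyo).cj b
        rwa [cj_centralizer, cj_zpowers] at h1)
    have hx'L : x' ∈ cj b L := hN (hn hx'J)
    have hmem : b⁻¹ * x' * b ∈ L := by simpa using mem_cj.mp hx'L
    refine h.symm.false_of_commute hG h2 h5 h6 h12 hpτ' htM htL hPL hPc hmem ?_ ?_
    · rw [← hx'o]
      simpa using MulEquiv.orderOf_eq (MulAut.conj b⁻¹) x'
    · exact F.mul_mem (F.mul_mem (F.inv_mem hb) (hJF hx'J)) hb

include hG h2 h5 h6 h12 in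
/-- **BG 13.9**. -/
theorem sigma_disjoint {M L : Subgroup G} (hM : IsCoatom M) (hL : IsCoatom L)
    (hne : (Cfsg.sigma M ∩ Cfsg.sigma L).Nonempty) : ∃ g : G, L = M.map (MulAut.conj g).toMonoidHom := by
  obtain ⟨q, hqM, hqL⟩ := hne
  have := Fact.mk hqM.1
  by_contra hcon
  push Not at hcon
  obtain ⟨T⟩ : Nonempty (Sylow q M) := inferInstance
  have hQ := sylowOf_map T
  obtain ⟨R, hR⟩ := Sigma10.exists_sylow_of_mem_sigma hqM hQ
  rw [← hR] at hQ
  obtain ⟨g, hg, hgN⟩ := exists_conj_eq_of_sylow hG hqL R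
  refine CommonSylow.false hG h2 h5 h6 h12 (M := M) (L := cj g L) (q := q) (Q := (R : Subgroup G))
    ⟨hM, isCoatom_map_conj hL g, fun a ha => hcon (g⁻¹ * a) ?_, fun a ha => hcon (a * g)⁻¹ ?_, hqM,
      Sigma10.mem_sigma_of_normalizer_le hqL.1 (by rw [card_cj]; exact hqL.2.1) (sylowOf_of_sylow R hg) hgN,
      hQ, sylowOf_of_sylow R hg⟩
  · show L = cj (g⁻¹ * a) M
    rw [← cj_mul, ← ha, cj_mul, inv_mul_cancel, cj_one]
  · show L = cj (a * g)⁻¹ M
    rw [ha, cj_mul, cj_mul, show (a * g)⁻¹ * a * g = 1 by group, cj_one]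

end CfsgLib.OddOrder41
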