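import Mathlib
import Cfsg.Agent.Lib.OddOrder41.Sigma13Disjoint

/-!
# The sets `σ(M)` partition the prime divisors of `|G|`
-/

set_option autoImplicit false

namespace CfsgLib.OddOrder41

open Subgroup CfsgLib.OddOrder CfsgLib.OddOrder.Transitivity

universe u

variable {G : Type u} [Group G] [Finite G] (hG : Cfsg.IsMinSimpleOddOrder G)

include hG in
theorem exists_sigma_of_dvd {p : ℕ} (hp : p.Prime) (hd : p ∣ Nat.card G) :
    ∃ M : Subgroup G, IsCoatom M ∧ p ∈ Cfsg.sigma M := by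
  have := Fact.mk hp
  obtain ⟨T⟩ : Nonempty (Sylow p G) := inferInstance
  have hT : (T : Subgroup G) ≠ ⊥ := T.ne_bot_of_dvd_card hd
  obtain ⟨M, hM, hle⟩ := exists_isCoatom_ge
    (minSimple_normalizer_ne_top hG hT (minSimple_pgroup_ne_top hG T.isPGroup'))
  have hTM : (T : Subgroup G) ≤ M := Subgroup.le_normalizer.trans hle
  exact ⟨M, hM, Sigma10.mem_sigma_of_normalizer_le hp
    ((T.dvd_card_of_dvd_card hd).trans (Subgroup.card_dvd_of_le hTM)) (sylowOf_of_sylow T hTM) hle⟩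

variable (h2 : PropRankTwoInMaximal G) (h5 : PropTauTwoStructure G) (h6 : PropTauTwoInComplement G)
  (h12 : PropSigmaPrimeNilpotent G)

include hG h2 h5 h6 h12 in
theorem sigma_partition :
    (∀ p : ℕ, p.Prime → p ∣ Nat.card G → ∃ M : Subgroup G, IsCoatom M ∧ p ∈ Cfsg.sigma M) ∧
      ∀ M N : Subgroup G, IsCoatom M → IsCoatom N → (Cfsg.sigma M ∩ Cfsg.sigma N).Nonempty →
        ∃ g : G, N = M.map (MulAut.conj g).toMonoidHom :=
  ⟨fun _ hp hd => exists_sigma_of_dvd hG hp hd,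
    fun _ _ hM hN hne => sigma_disjoint hG h2 h5 h6 h12 hM hN hne⟩

end CfsgLib.OddOrder41
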