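import Cfsg.Agent.Lib.OddOrder41.FpfHallHigman
import Cfsg.Agent.Lib.OddOrder.FittingOf

set_option autoImplicit false

/-! BG 3.7: in odd order, a prime action without fixed points on `F(K)` moves only inside `F(K)`. -/

namespace CfsgLib.OddOrder41

open CfsgLib.OddOrder
open scoped commutatorElement

variable {G : Type*} [Group G] [Finite G]

theorem opCore_normal_of_normal (r : ℕ) (K : Subgroup G) [K.Normal] : (opCore r K).Normal := by
  haveI := CfsgLib.Fitting.pCore_characteristic (G := K) r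
  exact ConjAct.normal_of_characteristic_of_normal

theorem fittingOf_normal_of_normal (K : Subgroup G) [K.Normal] : (Cfsg.fittingOf K).Normal := by
  haveI := CfsgLib.Fitting.fitting_characteristic (G := K)
  exact ConjAct.normal_of_characteristic_of_normal

/-- A subgroup whose Sylow subgroups outside `q` are central is nilpotent. -/
theorem isNilpotent_of_sylow_central {D : Type*} [Group D] [Finite D] (q : ℕ) [Fact q.Prime]
    (h : ∀ (ℓ : ℕ) [Fact ℓ.Prime], ℓ ≠ q → ∀ S : Sylow ℓ D, (S : Subgroup D) ≤ Subgroup.center D) :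
    Group.IsNilpotent D := by
  set Z := Subgroup.center D with hZ
  have hidx : ∀ ℓ : ℕ, ℓ.Prime → ℓ ∣ Z.index → ℓ = q := by
    intro ℓ hℓ hdvd
    by_contra hne
    haveI := Fact.mk hℓ
    obtain ⟨S⟩ : Nonempty (Sylow ℓ D) := inferInstance
    exact S.not_dvd_index (hdvd.trans (Subgroup.index_dvd_of_le (h ℓ hne S)))
  have hq : IsPGroup q (D ⧸ Z) := by
    refine IsPGroup.of_card (n := Z.index.primeFactorsList.length) ?_
    rw [← Subgroup.index_eq_card]
    exact Nat.eq_prime_pow_of_unique_prime_dvd Subgroup.index_ne_zero_of_finite fun {d} hd hdd => hidx d hd hdd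
  exact Group.of_quotient_center_nilpotent hq.isNilpotent

/-- The prime order case. -/
theorem commutator_le_fittingOf_of_prime {p : ℕ} [hp : Fact p.Prime] (hodd : Odd (Nat.card G)) (K R : Subgroup G)
    [K.Normal] [Group.IsSolvable G] (hR : Nat.card R = p) (hcop : (Nat.card K).Coprime p)
    (hF : Cfsg.fittingOf K ⊓ Subgroup.centralizer (R : Set G) = ⊥) : ⁅K, R⁆ ≤ Cfsg.fittingOf K := by
  classical
  set F := Cfsg.fittingOf K with hFdef
  haveI hFn : F.Normal := fittingOf_normal_of_normal K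
  set π := QuotientGroup.mk' F with hπ
  have hπs : Function.Surjective π := QuotientGroup.mk'_surjective F
  have hprime_ne_two : ∀ {r : ℕ}, r.Prime → r ∣ Nat.card G → r ≠ 2 := fun {r} hr hrd h2 => by
    subst h2
    exact (Nat.not_even_iff_odd.mpr hodd) (even_iff_two_dvd.mpr hrd)
  have hp2 : p ≠ 2 := hprime_ne_two hp.out (hR ▸ R.card_subgroup_dvd_card)
  by_contra hne
  set Kb := K.map π with hKb
  haveI hKbn : Kb.Normal := Subgroup.Normal.map inferInstance _ hπs
  haveI : Group.IsSolvable (G ⧸ F) := solvable_of_surjective hπs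
  set Rb := R.map π with hRb
  have hcopR : (Nat.card Rb).Coprime (Nat.card Kb) := by
    refine ((hR.symm ▸ hcop.symm : (Nat.card R).Coprime (Nat.card K)).coprime_dvd_left ?_).coprime_dvd_right ?_
    · exact Subgroup.card_map_dvd R _
    · exact Subgroup.card_map_dvd K _
  have hRbn : Rb ≤ Subgroup.normalizer (Kb : Set (G ⧸ F)) := by rw [Subgroup.normalizer_eq_top]; exact le_top
  -- some core of the quotient is moved
  obtain ⟨q, hq, hQb⟩ : ∃ q : ℕ, q.Prime ∧ ⁅opCore q Kb, Rb⁆ ≠ ⊥ := by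
    by_contra hcon
    push Not at hcon
    have hFc : Rb ≤ Subgroup.centralizer (Cfsg.fittingOf Kb : Set (G ⧸ F)) := by
      rw [Subgroup.le_centralizer_iff]
      exact fittingOf_le_of_forall fun r hr => Subgroup.commutator_eq_bot_iff_le_centralizer.mp (hcon r hr)
    haveI := fittingOf_normal_of_normal Kb
    have h1 : ⁅⁅Cfsg.fittingOf Kb, Kb⁆, Rb⁆ = ⊥ := by
      rw [eq_bot_iff]
      refine (Subgroup.commutator_mono (Subgroup.commutator_le_left _ _) le_rfl).trans ?_
      rw [le_bot_iff, Subgroup.commutator_eq_bot_iff_le_centralizer, Subgroup.le_centralizer_iff]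
      exact hFc
    have h2 : ⁅⁅Rb, Cfsg.fittingOf Kb⁆, Kb⁆ = ⊥ := by
      rw [show ⁅Rb, Cfsg.fittingOf Kb⁆ = ⊥ from Subgroup.commutator_eq_bot_iff_le_centralizer.mpr hFc,
        Subgroup.commutator_bot_left]
    have h3 : ⁅⁅Kb, Rb⁆, Cfsg.fittingOf Kb⁆ = ⊥ := Subgroup.commutator_commutator_eq_bot_of_rotate h2 h1
    have hD : ⁅Kb, Rb⁆ ≤ Cfsg.fittingOf Kb := le_trans
      (le_inf (CfsgLib.Coprime.commutator_le_of_normalizes hRbn) (Subgroup.commutator_eq_bot_iff_le_centralizer.mp h3))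
      (centralizer_fittingOf_le inferInstance)
    have h4 : ⁅⁅Kb, Rb⁆, Rb⁆ = ⊥ := by
      rw [eq_bot_iff]
      refine (Subgroup.commutator_mono hD le_rfl).trans ?_
      rw [le_bot_iff, Subgroup.commutator_eq_bot_iff_le_centralizer, Subgroup.le_centralizer_iff]
      exact hFc
    rw [CfsgLib.Coprime.commutator_commutator_eq Rb Kb hRbn hcopR (Or.inr inferInstance), hKb, hRb,
      ← Subgroup.map_commutator, Subgroup.map_eq_bot_iff, QuotientGroup.ker_mk'] at h4
    exact hne h4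
  haveI := Fact.mk hq
  set Qb := opCore q Kb with hQbdef
  haveI hQbn : Qb.Normal := opCore_normal_of_normal q Kb
  set L := Qb.comap π with hLdef
  haveI hLn : L.Normal := hQbn.comap _
  have hLK : L ≤ K := by
    refine (Subgroup.comap_mono (opCore_le q Kb)).trans ?_
    rw [hKb, Subgroup.comap_map_eq, QuotientGroup.ker_mk']
    exact sup_le le_rfl (fittingOf_le K)
  have hLp : (Nat.card R).Coprime (Nat.card L) :=
    hR.symm ▸ (hcop.symm.coprime_dvd_right (Subgroup.card_dvd_of_le hLK))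
  have hRL : R ≤ Subgroup.normalizer (L : Set G) := by rw [Subgroup.normalizer_eq_top]; exact le_top
  obtain ⟨P, hP⟩ := CfsgLib.Coprime.exists_invariant_sylow R L hRL hLp (Or.inr inferInstance) q
  set Q := (P : Subgroup L).map L.subtype with hQdef
  have hQp : IsPGroup q Q := P.isPGroup'.map _
  have hQL : Q ≤ L := Subgroup.map_subtype_le _
  -- `Q` covers `Qb`
  have hQmap : Q.map π = Qb := by
    let πL : L →* Qb := (π.comp L.subtype).codRestrict Qb fun x => x.2
    have hπL : Function.Surjective πL := by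
      rintro ⟨y, hy⟩
      obtain ⟨x, rfl⟩ := hπs y
      exact ⟨⟨x, hy⟩, rfl⟩
    have hP' := P.mapSurjective hπL
    have htop : (P : Subgroup L).map πL = ⊤ := by
      refine Subgroup.eq_top_of_card_eq _ ?_
      obtain ⟨m, hm⟩ := (opCore_isPGroup q Kb : IsPGroup q Qb).exists_card_eq
      have h1 := (P.mapSurjective hπL).card_eq_multiplicity
      rw [Sylow.coe_mapSurjective] at h1
      rw [h1, hm, hq.factorization_pow, Finsupp.single_eq_same]
    refine le_antisymm ?_ fun y hy => ?_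
    · rintro _ ⟨x, hx, rfl⟩; exact hQL hx
    · obtain ⟨x, hx, hxy⟩ : (⟨y, hy⟩ : Qb) ∈ (P : Subgroup L).map πL := htop.symm ▸ Subgroup.mem_top _
      exact ⟨x, ⟨x, hx, rfl⟩, congrArg Subtype.val hxy⟩
  set Q₀ := ⁅Q, R⁆ with hQ₀
  have hQ₀Q : Q₀ ≤ Q := CfsgLib.Coprime.commutator_le_of_normalizes hP
  have hQ₀ne : ¬ Q₀ ≤ F := fun h => hQb (by
    rw [← hQmap, hRb, ← Subgroup.map_commutator, Subgroup.map_eq_bot_iff, QuotientGroup.ker_mk']
    exact h)
  have hQne : Q ≠ ⊥ := fun h => hQ₀ne (hQ₀Q.trans (h ▸ bot_le))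
  have hqK : q ∣ Nat.card K := by
    obtain ⟨n, hn⟩ := hQp.exists_card_eq
    have hn0 : n ≠ 0 := fun h0 => hQne (Subgroup.card_eq_one.mp (by rw [hn, h0, pow_zero]))
    exact (dvd_pow_self q hn0).trans (hn ▸ Subgroup.card_dvd_of_le (hQL.trans hLK))
  have hq2 : q ≠ 2 := hprime_ne_two hq (hqK.trans K.card_subgroup_dvd_card)
  have hpq : p ≠ q := fun h => hp.out.ne_one (Nat.eq_one_of_dvd_coprimes hcop (h ▸ hqK) dvd_rfl)
  -- `⁅Q, R⁆` centralises the other cores of `K`
  have hcent : ∀ ℓ : ℕ, ℓ.Prime → ℓ ≠ q → Q₀ ≤ Subgroup.centralizer (opCore ℓ K : Set G) := by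
    intro ℓ hℓ hℓq
    haveI := Fact.mk hℓ
    by_cases hbot : opCore ℓ K = ⊥
    · rw [hbot]; intro x _; exact Subgroup.mem_centralizer_iff.mpr fun y hy => by
        rw [Subgroup.mem_bot.mp hy, one_mul, mul_one]
    have hpℓ : p ≠ ℓ := fun h => hp.out.ne_one (Nat.eq_one_of_dvd_coprimes hcop
      (h ▸ (dvd_of_opCore_ne_bot hℓ hbot).trans (Subgroup.card_dvd_of_le (fittingOf_le K))) dvd_rfl)
    haveI := opCore_normal_of_normal ℓ K
    refine commutator_le_centralizer_of_fpf hp2 hq2 hpq hpℓ (Ne.symm hℓq) Q R (opCore ℓ K) hQp hR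
      (opCore_isPGroup ℓ K) hP (by rw [Subgroup.normalizer_eq_top]; exact le_top) ?_
    rw [eq_bot_iff, ← hF]
    exact inf_le_inf (opCore_le_fittingOf hℓ K) le_rfl
  -- a nilpotent normal subgroup containing `⁅Q, R⁆`
  let D : Subgroup G := L ⊓ ⨅ (ℓ : {ℓ : ℕ // ℓ.Prime ∧ ℓ ≠ q}), Subgroup.centralizer (opCore ℓ.1 K : Set G)
  haveI hDn : D.Normal := by
    haveI : ∀ ℓ : ℕ, (Subgroup.centralizer (opCore ℓ K : Set G)).Normal := fun ℓ => by
      haveI := opCore_normal_of_normal ℓ K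
      infer_instance
    exact Subgroup.normal_inf_normal L (⨅ (ℓ : {ℓ : ℕ // ℓ.Prime ∧ ℓ ≠ q}), Subgroup.centralizer (opCore ℓ.1 K : Set G))
      (hK := Subgroup.normal_iInf_normal fun _ => inferInstance)
  have hQ₀D : Q₀ ≤ D := le_inf (hQ₀Q.trans hQL) (le_iInf fun ℓ => hcent ℓ.1 ℓ.2.1 ℓ.2.2)
  refine hQ₀ne (hQ₀D.trans (le_fittingOf (inf_le_left.trans hLK) (by rw [Subgroup.normalizer_eq_top]; exact le_top) ?_))
  refine isNilpotent_of_sylow_central q fun ℓ _ hℓq S => ?_
  have hℓ : ℓ.Prime := Fact.out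
  intro s hs
  have hsl : IsPGroup ℓ ((S : Subgroup D).map D.subtype) := S.isPGroup'.map _
  have hsF : (S : Subgroup D).map D.subtype ≤ F := by
    have h1 : ((S : Subgroup D).map D.subtype).map π ≤ Qb := by
      rintro _ ⟨_, ⟨y, _, rfl⟩, rfl⟩
      exact y.2.1
    have h2 : ((S : Subgroup D).map D.subtype).map π = ⊥ := by
      rw [eq_bot_iff]
      intro y hy
      exact Subgroup.mem_bot.mpr (isPGroup_inter_eq_one hℓq (hsl.map π) (opCore_isPGroup q Kb) hy (h1 hy))
    rwa [Subgroup.map_eq_bot_iff, QuotientGroup.ker_mk'] at h2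
  have hsop : (s : G) ∈ opCore ℓ K :=
    le_opCore_of_le_fittingOf hsF hsl ⟨s, hs, rfl⟩
  refine Subgroup.mem_center_iff.mpr fun d => Subtype.ext ?_
  have hd : (d : G) ∈ Subgroup.centralizer (opCore ℓ K : Set G) :=
    (Subgroup.mem_iInf.mp d.2.2 ⟨ℓ, hℓ, hℓq⟩)
  exact (Subgroup.mem_centralizer_iff.mp hd _ hsop).symm

end CfsgLib.OddOrder41

namespace CfsgLib.OddOrder41

open scoped commutatorElement

variable {G : Type*} [Group G] [Finite G]

/-- BG 3.7. -/
theorem commutator_le_fittingOf_of_prime_action [Group.IsSolvable G] (hodd : Odd (Nat.card G)) (K R : Subgroup G)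
    [K.Normal] (hcop : (Nat.card K).Coprime (Nat.card R))
    (hprime : ∀ x ∈ R, x ≠ 1 →
      K ⊓ Subgroup.centralizer ({x} : Set G) = (K ⊓ Subgroup.centralizer (R : Set G)))
    (hF : Cfsg.fittingOf K ⊓ Subgroup.centralizer (R : Set G) = ⊥) : ⁅K, R⁆ ≤ Cfsg.fittingOf K := by
  classical
  by_cases hR : R = ⊥
  · rw [hR, Subgroup.commutator_bot_right]; exact bot_le
  obtain ⟨p, hp, hpd⟩ := Nat.exists_prime_and_dvd (n := Nat.card R) fun h => hR (Subgroup.card_eq_one.mp h)
  haveI := Fact.mk hp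
  obtain ⟨x, hx⟩ := exists_prime_orderOf_dvd_card' p hpd
  set S := Subgroup.zpowers (x : G) with hSdef
  have hSR : S ≤ R := Subgroup.zpowers_le.mpr x.2
  have hScard : Nat.card S = p := by rw [hSdef, Nat.card_zpowers, Subgroup.orderOf_coe, hx]
  have hx1 : (x : G) ≠ 1 := fun h => hp.ne_one (by rw [← hx, ← Subgroup.orderOf_coe, h, orderOf_one])
  have hcS : K ⊓ Subgroup.centralizer (S : Set G) = K ⊓ Subgroup.centralizer (R : Set G) := by
    refine le_antisymm ?_ (inf_le_inf le_rfl (Subgroup.centralizer_le fun _ h => hSR h))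
    rw [← hprime x x.2 hx1]
    exact inf_le_inf le_rfl (Subgroup.centralizer_le (Set.singleton_subset_iff.mpr (Subgroup.mem_zpowers _)))
  haveI : (Cfsg.fittingOf K).Normal := fittingOf_normal_of_normal K
  have hFS : Cfsg.fittingOf K ⊓ Subgroup.centralizer (S : Set G) = ⊥ := by
    rw [eq_bot_iff, ← hF]
    intro y hy
    exact ⟨hy.1, ((hcS.le ⟨CfsgLib.OddOrder.fittingOf_le K hy.1, hy.2⟩ :
      y ∈ K ⊓ Subgroup.centralizer (R : Set G))).2⟩
  have hKS := commutator_le_fittingOf_of_prime hodd K S hScard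
    (hScard ▸ hcop.coprime_dvd_right (Subgroup.card_dvd_of_le hSR)) hFS
  set π := QuotientGroup.mk' (Cfsg.fittingOf K)
  have hzero : ∀ A : Subgroup G, ⁅K, A⁆ ≤ Cfsg.fittingOf K ↔ ⁅K.map π, A.map π⁆ = ⊥ := fun A => by
    rw [← Subgroup.map_commutator, Subgroup.map_eq_bot_iff, QuotientGroup.ker_mk']
  rw [hzero, Subgroup.commutator_eq_bot_iff_le_centralizer]
  have hSK : S ≤ Subgroup.normalizer (K : Set G) := by rw [Subgroup.normalizer_eq_top]; exact le_top
  have hmap := CfsgLib.Coprime.map_inf_centralizer π S K hSK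
    (hScard ▸ (hScard ▸ hcop.coprime_dvd_right (Subgroup.card_dvd_of_le hSR) : (Nat.card K).Coprime p).symm)
    (Or.inr inferInstance)
  rw [inf_eq_left.mpr (Subgroup.commutator_eq_bot_iff_le_centralizer.mp ((hzero S).mp hKS)), hcS] at hmap
  rw [← hmap]
  rintro _ ⟨y, hy, rfl⟩
  refine Subgroup.mem_centralizer_iff.mpr ?_
  rintro _ ⟨r, hr, rfl⟩
  rw [← map_mul, ← map_mul, Subgroup.mem_centralizer_iff.mp hy.2 r hr]

end CfsgLib.OddOrder41
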