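import Mathlib
import Cfsg.Agent.Lib.OddOrder41.Sigma12Props
import Cfsg.Agent.Lib.OddOrder.Sigma12Elementary
import Cfsg.Agent.Lib.OddOrder.Sigma11Main

/-!
# The propositions of `Sigma12Props` hold
-/

set_option autoImplicit false

namespace CfsgLib.OddOrder41

universe u

variable {G : Type u} [Group G] [Finite G] (hG : Cfsg.IsMinSimpleOddOrder G)

include hG in
theorem propRankTwoInMaximal : PropRankTwoInMaximal G := fun _ hM _ _ _ hA =>
  ⟨CfsgLib.OddOrder.Sigma11.centralizer_le hG hM hA.1 hA.2.1 hA.2.2,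
    CfsgLib.OddOrder.Sigma11.sigma_of_no_line hG hM hA.1 hA.2.1 hA.2.2⟩

include hG in
theorem propTauTwoStructure : PropTauTwoStructure G := fun _ hM _ _ hp _ hA =>
  CfsgLib.OddOrder.Sigma12.tau2_structure hG hM hp hA.1 hA.2.1 hA.2.2

include hG in
theorem propTauTwoInComplement : PropTauTwoInComplement G := fun _ hM _ hE _ _ hp _ hA =>
  CfsgLib.OddOrder.Sigma12.plane_in_compl hG hM hp hE hA.1 hA.2.1 hA.2.2

include hG in
theorem propSigmaPrimeNilpotent : PropSigmaPrimeNilpotent G := fun _ hM _ hE =>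
  ⟨fun _ hNM hN hσ => CfsgLib.OddOrder.Sigma12.nilpotent_comm hG hM hNM hN hσ,
    CfsgLib.OddOrder.Sigma12.compl_derived_comm hG hM hE,
    fun p _ hpσ hP hPM hnc =>
      haveI : Fact p.Prime := ⟨hpσ.1⟩
      CfsgLib.OddOrder.Sigma12.normalizer_le_of_not_cyclic hG hM hpσ hP hPM hnc,
    fun _ hxM hx1 hτ hhat => CfsgLib.OddOrder.Sigma12.onlyIn_of_sigmaHat hG hM hE hxM hx1 hτ hhat⟩

end CfsgLib.OddOrder41
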