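import Mathlib
import Cfsg.Agent.Lib.OddOrder41.Sigma13Line
import Cfsg.Agent.Lib.Frobenius.FPFThompson

/-!
# BG 14.1: primes outside `σ(M) ∪ κ(M)`
-/

set_option autoImplicit false

namespace CfsgLib.OddOrder41

open Subgroup CfsgLib.OddOrder CfsgLib.OddOrder.Transitivity

universe u

variable {G : Type u} [Group G] [Finite G]

theorem closure_pow_le {p : ℕ} [hp : Fact p.Prime] {S : Subgroup G} {y : G} [IsCyclic S] (hy : y ∈ S)
    (hyo : orderOf y = p) :
    Subgroup.closure {x : G | x ∈ S ∧ x ^ p = 1} = Subgroup.zpowers y := by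
  refine le_antisymm ((Subgroup.closure_le _).mpr fun x hx => mem_of_pow_card_eq_one
    (Subgroup.zpowers_le.mpr hy) hx.1 (by rw [Nat.card_zpowers, hyo]; exact hx.2))
    (Subgroup.zpowers_le.mpr (Subgroup.subset_closure ⟨hy, hyo ▸ pow_orderOf_eq_one y⟩))

/-- **BG 14.1**. -/
theorem small_omega_of_not_kappa (hG : Cfsg.IsMinSimpleOddOrder G) (h5 : PropTauTwoStructure G)
    {M : Subgroup G} (hM : IsCoatom M) {p : ℕ} [hp : Fact p.Prime] (hpM : p ∣ Nat.card M)
    (hpn : p ∉ Cfsg.sigma M ∪ Cfsg.kappa M) (S : Sylow p M) :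
    Nat.card ↥(Subgroup.closure {x : G | x ∈ (S : Subgroup M).map M.subtype ∧ x ^ p = 1}) ≤ p ^ 2 ∧
      Cfsg.sigmaCore M ⊓ Subgroup.centralizer ((Subgroup.closure {x : G | x ∈ (S : Subgroup M).map M.subtype ∧ x ^ p = 1} : Subgroup G) : Set G) = ⊥ ∧
      Group.IsNilpotent (Cfsg.sigmaCore M) := by
  have hpσ : p ∉ Cfsg.sigma M := fun h => hpn (Or.inl h)
  have hS := sylowOf_map S
  set S' := (S : Subgroup M).map M.subtype with hS'
  have hS1 : S' ≠ ⊥ := fun h => S.ne_bot_of_dvd_card hpM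
    ((Subgroup.map_eq_bot_iff_of_injective _ M.subtype_injective).mp h)
  have hp2 : p ≠ 2 := Uniq.prime_ne_two hG hS.2.1 hS1
  have hr2 : Cfsg.PRankLE p 2 M := by
    by_contra h
    exact Sigma10.not_mem_alpha_of_not_mem_sigma hG hM hpσ ⟨hp.out, h⟩
  by_cases hr1 : Cfsg.PRankLE p 1 M
  · have hc : IsCyclic S' := isCyclic_of_pRankLE_one hp2 hS.2.1 (PRankLE.of_le hS.1 hr1)
    -- no element of order `p` of `S'` fixes a nontrivial element of `M_σ`
    have hfree : ∀ x ∈ S', x ≠ 1 → Cfsg.sigmaCore M ⊓ Subgroup.centralizer ({x} : Set G) = ⊥ := by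
      intro x hx hx1
      rw [Subgroup.eq_bot_iff_forall]
      rintro y ⟨hy, hyc⟩
      by_contra hy1
      refine hpn (Or.inr ⟨hp.out, hpM, hpσ, fun P => ?_⟩)
      obtain ⟨m, hm⟩ := MulAction.exists_smul_eq M S P
      have hcS : IsCyclic (S : Subgroup M) := isCyclic_of_injective
        (Subgroup.equivMapOfInjective (S : Subgroup M) M.subtype M.subtype_injective).toMonoidHom
        (MulEquiv.injective _)
      refine ⟨isCyclic_of_injective (Sylow.equiv P S).toMonoidHom (MulEquiv.injective _), ?_⟩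
      obtain ⟨x', hx', rfl⟩ := hx
      refine ⟨m * x' * m⁻¹, ?_, ?_, (m : G) * y * (m : G)⁻¹, ?_, ?_, ?_⟩
      · rw [← hm]
        refine Coprime.mem_conj_smul.mpr ?_
        rw [show m⁻¹ * (m * x' * m⁻¹) * m = x' by group]
        exact hx'
      · intro h
        exact hx1 (by rw [conj_eq_one_iff.mp h]; rfl)
      · exact (Subgroup.mem_normalizer_iff.mp (piCoreOf_normal (Cfsg.sigma M) M m.2) y).mp hy
      · intro h
        exact hy1 (conj_eq_one_iff.mp h)
      · have hc' : y * (x' : G) = (x' : G) * y := Subgroup.mem_centralizer_singleton_iff.mp hyc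
        show (m : G) * (x' : G) * (m : G)⁻¹ * ((m : G) * y * (m : G)⁻¹) =
          (m : G) * y * (m : G)⁻¹ * ((m : G) * (x' : G) * (m : G)⁻¹)
        calc (m : G) * (x' : G) * (m : G)⁻¹ * ((m : G) * y * (m : G)⁻¹) = (m : G) * ((x' : G) * y) * (m : G)⁻¹ := by group
          _ = _ := by rw [← hc']; group
    obtain ⟨y, hy⟩ := exists_prime_orderOf_dvd_card' (G := S') p (Uniq.prime_dvd_card hS.2.1 hS1)
    have hyo : orderOf (y : G) = p := by rw [Subgroup.orderOf_coe, hy]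
    have hy1 : (y : G) ≠ 1 := fun h => hp.out.ne_one (by rw [← hyo, h, orderOf_one])
    rw [closure_pow_le y.2 hyo, centralizer_zpowers, Nat.card_zpowers, hyo]
    refine ⟨Nat.le_self_pow two_ne_zero p, hfree _ y.2 hy1, ?_⟩
    exact CfsgLib.Frobenius.Thompson.isNilpotent_of_element (p := p) (Cfsg.sigmaCore M)
      (piCoreOf_normal (Cfsg.sigma M) M (hS.1 y.2)) hp.out (hyo ▸ pow_orderOf_eq_one _) fun x hx hxc => by
        have h : x ∈ Cfsg.sigmaCore M ⊓ Subgroup.centralizer ({(y : G)} : Set G) :=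
          ⟨hx, Subgroup.mem_centralizer_singleton_iff.mpr hxc.symm⟩
        rwa [hfree _ y.2 hy1, Subgroup.mem_bot] at h
  · obtain ⟨A, hAS, hAe, hA2⟩ := not_pRankLE_subgroup_iff.mp
      (fun h => hr1 (Sigma10.pRankLE_of_sylowOf hS h))
    obtain ⟨hnil, hall, -, hfix, -, -⟩ := h5 M hM p ⟨hp.out, hpσ, hr2, hr1⟩ A ⟨hAS.trans hS.1, hAe, hA2⟩
    obtain ⟨hΩ, -⟩ := (hall S).2 hAS
    have heq : Subgroup.closure {x : G | x ∈ S' ∧ x ^ p = 1} = A :=
      le_antisymm ((Subgroup.closure_le _).mpr fun x hx => (hΩ x hx.1).mp hx.2)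
        fun x hx => Subgroup.subset_closure ⟨hAS hx, hAe.2 x hx⟩
    rw [heq]
    exact ⟨hA2.le, hfix, hnil⟩

end CfsgLib.OddOrder41
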