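import Mathlib
import Cfsg.Agent.Lib.OddOrder41.Sigma13Disjoint
import Cfsg.Agent.Lib.OddOrder41.Sigma12Inst

/-!
# Consequences of BG 13.9 and 13.13 for subgroups of prime order with fixed points in `M_σ`
-/

set_option autoImplicit false

namespace CfsgLib.OddOrder41.Kappa

open Subgroup CfsgLib.OddOrder CfsgLib.OddOrder.Transitivity CfsgLib.OddOrder41
open scoped commutatorElement Pointwise

universe u

variable {G : Type u} [Group G] [Finite G] (hG : Cfsg.IsMinSimpleOddOrder G)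

omit [Finite G] in
/-- Conjugation is symmetric. -/
theorem nconj_symm {M L : Subgroup G} (h : ∀ g : G, L ≠ cj g M) : ∀ g : G, M ≠ cj g L := fun g hg =>
  h g⁻¹ (by rw [hg, cj_mul, inv_mul_cancel, cj_one])

include hG in
/-- **BG 13.9**. -/
theorem not_mem_sigma {M L : Subgroup G} (hM : IsCoatom M) (hL : IsCoatom L)
    (hnc : ∀ g : G, L ≠ cj g M) {r : ℕ} (hr : r ∈ Cfsg.sigma M) : r ∉ Cfsg.sigma L := fun h => by
  obtain ⟨g, hg⟩ := sigma_disjoint hG (propRankTwoInMaximal hG) (propTauTwoStructure hG)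
    (propTauTwoInComplement hG) (propSigmaPrimeNilpotent hG) hM hL ⟨r, hr, h⟩
  exact hnc g hg

include hG in
theorem sigmaCore_inf_eq_bot {M L : Subgroup G} (hM : IsCoatom M) (hL : IsCoatom L)
    (hnc : ∀ g : G, L ≠ cj g M) : Cfsg.sigmaCore M ⊓ Cfsg.sigmaCore L = ⊥ := by
  refine (Subgroup.disjoint_of_coprime_natCard (Nat.coprime_of_dvd fun r hr h1 h2 => ?_)).eq_bot
  exact not_mem_sigma hG hM hL hnc (piNat_card_piCoreOf (Cfsg.sigma M) M r hr h1)
    (piNat_card_piCoreOf (Cfsg.sigma L) L r hr h2)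

include hG in
/-- `M_σ ∩ L` and `L_σ ∩ M` commute. -/
theorem cross_commute {M L : Subgroup G} (hM : IsCoatom M) (hL : IsCoatom L)
    (hnc : ∀ g : G, L ≠ cj g M) {a b : G} (ha : a ∈ Cfsg.sigmaCore M) (haL : a ∈ L)
    (hb : b ∈ Cfsg.sigmaCore L) (hbM : b ∈ M) : a * b = b * a := by
  have h : ⁅a, b⁆ ∈ Cfsg.sigmaCore M ⊓ Cfsg.sigmaCore L := by
    refine ⟨?_, ?_⟩
    · rw [commutatorElement_def, mul_assoc, mul_assoc, ← mul_assoc b]
      exact (Cfsg.sigmaCore M).mul_mem ha ((Subgroup.mem_normalizer_iff.mp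
        (piCoreOf_normal _ M hbM) a⁻¹).mp ((Cfsg.sigmaCore M).inv_mem ha))
    · rw [commutatorElement_def]
      exact (Cfsg.sigmaCore L).mul_mem ((Subgroup.mem_normalizer_iff.mp
        (piCoreOf_normal _ L haL) b).mp hb) ((Cfsg.sigmaCore L).inv_mem hb)
  rw [sigmaCore_inf_eq_bot hG hM hL hnc, Subgroup.mem_bot] at h
  exact commutatorElement_eq_one_iff_mul_comm.mp h

include hG in
/-- A subgroup of order `r ∉ σ(L)` with fixed points in `L_σ` has its normalizer in every maximal subgroup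
containing it that has `r` in its `σ`. -/
theorem normalizer_le {L M : Subgroup G} (hL : IsCoatom L) (hM : IsCoatom M) {r : ℕ} [hr : Fact r.Prime]
    (hrσ : r ∉ Cfsg.sigma L) (hr1 : Cfsg.PRankLE r 1 L) {R : Subgroup G} (hRL : R ≤ L)
    (hR : Nat.card R = r) (hfix : Cfsg.sigmaCore L ⊓ Subgroup.centralizer (R : Set G) ≠ ⊥)
    (hRM : R ≤ M) (hrM : r ∈ Cfsg.sigma M) : Subgroup.normalizer (R : Set G) ≤ M := by
  have hR1 : R ≠ ⊥ := fun h => by rw [h, Subgroup.card_bot] at hR; exact hr.out.ne_one hR.symm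
  have hRp := cyclic_isPGroup_of_card hR
  obtain ⟨M', hM', hle⟩ := exists_isCoatom_ge
    (minSimple_normalizer_ne_top hG hR1 (minSimple_pgroup_ne_top hG hRp))
  have hrM' : r ∈ Cfsg.sigma M' := mem_sigma_of_normalizer hG (propRankTwoInMaximal hG) (propTauTwoStructure hG)
    (propTauTwoInComplement hG) (propSigmaPrimeNilpotent hG) hL hM' hrσ hr1 hRL hR hfix hle
  by_contra hcon
  have hne : M' ≠ M := fun h => hcon (h ▸ hle)
  obtain ⟨g, hg⟩ := sigma_disjoint hG (propRankTwoInMaximal hG) (propTauTwoStructure hG)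
    (propTauTwoInComplement hG) (propSigmaPrimeNilpotent hG) hM hM' ⟨r, hrM, hrM'⟩
  exact partner_not_conj hG hM hrM hRp hR1 hRM hne hle g hg

include hG in
/-- A subgroup `P` of rank one order `p ∉ σ(M)` is moved by every `Z` acting freely with
`C_{M_σ}(Z) ≤ C(P)`: impossible. -/
theorem false_of_frobenius {M E P Z : Subgroup G} (hM : IsCoatom M) (hE : Cfsg.IsComplIn E (Cfsg.sigmaCore M) M)
    {p : ℕ} [hp : Fact p.Prime] (hpσ : p ∉ Cfsg.sigma M) (hp1 : Cfsg.PRankLE p 1 M) (hPE : P ≤ E)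
    (hP : Nat.card P = p) (hEP : E ≤ Subgroup.normalizer (P : Set G)) (hZE : Z ≤ E) (hZ : (Nat.card Z).Prime)
    (hne : Nat.card Z ≠ p) (hmove : ¬ Z ≤ Subgroup.centralizer (P : Set G))
    (h : Cfsg.sigmaCore M ⊓ Subgroup.centralizer (Z : Set G) ≤ Subgroup.centralizer (P : Set G)) : False := by
  set S := Cfsg.sigmaCore M with hS
  have hSM : S ≤ M := piCoreOf_le _ _
  have hcop : ∀ A : Subgroup G, A ≤ E → (Nat.card S).Coprime (Nat.card A) := fun A hA =>
    Nat.coprime_of_dvd fun r hr h1 h2 =>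
      Sigma10.not_mem_sigma_of_dvd_compl hG hM hE hr (h2.trans (Subgroup.card_dvd_of_le hA))
        (piNat_card_piCoreOf (Cfsg.sigma M) M r hr h1)
  have hfpf : P ⊓ Subgroup.centralizer (Z : Set G) = ⊥ := by
    by_contra hne0
    refine hmove (Subgroup.le_centralizer_iff.mp (le_trans ?_ (inf_le_right :
      P ⊓ Subgroup.centralizer (Z : Set G) ≤ Subgroup.centralizer (Z : Set G))))
    refine (Subgroup.eq_of_le_of_card_ge inf_le_left (le_of_eq ?_)).ge
    rcases (Nat.dvd_prime hp.out).mp (hP ▸ Subgroup.card_dvd_of_le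
      (inf_le_left : P ⊓ Subgroup.centralizer (Z : Set G) ≤ P)) with h1 | h1
    · exact absurd (Subgroup.card_eq_one.mp h1) hne0
    · rw [hP, h1]
  have hPS : P ≤ Subgroup.normalizer (S : Set G) := (hPE.trans hE.1).trans (piCoreOf_normal _ _)
  have hZS : Z ≤ Subgroup.normalizer (S : Set G) := (hZE.trans hE.1).trans (piCoreOf_normal _ _)
  have hsS : Group.IsSolvable S := minSimple_solvable hG fun he => hM.1 (top_le_iff.mp (he ▸ hSM))
  have hc := centralizes_of_frobenius hZ (hZE.trans hEP)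
    (by rw [hP]; exact (Nat.coprime_primes hp.out hZ).mpr hne.symm) hfpf hPS hZS hsS (hcop P hPE) (hcop Z hZE) h
  have hMN : M ≤ Subgroup.normalizer (P : Set G) := fun m hm => by
    obtain ⟨e, he, s, hs, rfl⟩ := hE.2.2.2 m hm
    exact Subgroup.mul_mem _ (hEP he)
      (Subgroup.centralizer_le_normalizer _ (Subgroup.le_centralizer_iff.mp hc hs))
  have hPM : P ≤ M := hPE.trans hE.1
  have hP1 : P ≠ ⊥ := fun hb => by rw [hb, Subgroup.card_bot] at hP; exact hp.out.ne_one hP.symm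
  exact (Sigma10.rank_two_of_normalizer_le hG hM hpσ hP
    (normalizer_eq_of_isCoatom hG hM hPM hP1 hMN).le).1.2 hp1

include hG in
/-- Two elements of different prime orders with rank one in a group: after conjugation one normalizes
the cyclic group generated by the other. -/
theorem exists_conj_normalizes {L₀ F : Subgroup G} (hL₀ : IsCoatom L₀) (hF : F ≤ L₀) {s t : ℕ}
    (hs : s.Prime) (ht : t.Prime) (hst : s ≠ t) (hrs : Cfsg.PRankLE s 1 L₀) (hrt : Cfsg.PRankLE t 1 L₀)
    {x y : G} (hxF : x ∈ F) (hxo : orderOf x = t) (hyF : y ∈ F) (hyo : orderOf y = s) :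
    (∃ c ∈ F, c * y * c⁻¹ ∈ Subgroup.normalizer ((Subgroup.zpowers x : Subgroup G) : Set G)) ∨
      ∃ c ∈ F, c * x * c⁻¹ ∈ Subgroup.normalizer ((Subgroup.zpowers y : Subgroup G) : Set G) := by
  have := Fact.mk hs
  have := Fact.mk ht
  have hsF : Group.IsSolvable F := minSimple_solvable hG fun h => hL₀.1 (top_le_iff.mp (h ▸ hF))
  obtain ⟨J₀, hJ₀⟩ := CfsgLib.Hall.exists_isPiHall (G := F) {r | r = s ∨ r = t}
  set J := J₀.map F.subtype with hJdef
  have hJF : J ≤ F := Subgroup.map_subtype_le _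
  have hidx : ∀ r : ℕ, r.Prime → r ∈ {r | r = s ∨ r = t} → ¬ r ∣ J.relIndex F := fun r hr hrπ hd => by
    refine hJ₀.2 r hr hrπ ?_
    rwa [hJdef, Subgroup.relIndex, Subgroup.subgroupOf,
      Subgroup.comap_map_eq_self_of_injective F.subtype_injective] at hd
  obtain ⟨a, ha, hax⟩ := exists_conj_into hJF hidx (Subgroup.zpowers_le.mpr hxF) fun r hr hd => by
    rw [Nat.card_zpowers, hxo] at hd
    exact Or.inr ((Nat.prime_dvd_prime_iff_eq hr ht).mp hd)
  obtain ⟨b, hb, hby⟩ := exists_conj_into hJF hidx (Subgroup.zpowers_le.mpr hyF) fun r hr hd => by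
    rw [Nat.card_zpowers, hyo] at hd
    exact Or.inl ((Nat.prime_dvd_prime_iff_eq hr hs).mp hd)
  set x' := a * x * a⁻¹ with hx'
  set y' := b * y * b⁻¹ with hy'
  have hx'J : x' ∈ J := hax (mem_cj.mpr (by simp [hx', mul_assoc]))
  have hy'J : y' ∈ J := hby (mem_cj.mpr (by simp [hy', mul_assoc]))
  have hx'o : orderOf x' = t := (MulEquiv.orderOf_eq (MulAut.conj a) x).trans hxo
  have hy'o : orderOf y' = s := (MulEquiv.orderOf_eq (MulAut.conj b) y).trans hyo
  have hJp : ∀ r : ℕ, r.Prime → r ∣ Nat.card J → r = s ∨ r = t := fun r hr hd =>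
    hJ₀.1 r hr (by rwa [hJdef, Subgroup.card_map_of_injective F.subtype_injective] at hd)
  have hc : ∀ (r : ℕ) [Fact r.Prime] (S : Sylow r J), IsCyclic (S : Subgroup J) := by
    intro r hr S
    by_cases hS1 : (S : Subgroup J) = ⊥
    · rw [hS1]; infer_instance
    have hrd := (Uniq.prime_dvd_card S.isPGroup' hS1).trans (Subgroup.card_subgroup_dvd_card _)
    have hrank1 : Cfsg.PRankLE r 1 L₀ := by
      rcases hJp r hr.out hrd with h1 | h1
      · exact h1 ▸ hrs
      · exact h1 ▸ hrt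
    haveI : IsCyclic ((S : Subgroup J).map J.subtype) := isCyclic_of_pRankLE_one
      (minSimple_prime_ne_two hG hrd) (S.isPGroup'.map _)
      (PRankLE.of_le ((Subgroup.map_subtype_le _).trans (hJF.trans hF)) hrank1)
    exact isCyclic_of_injective
      (Subgroup.equivMapOfInjective (S : Subgroup J) J.subtype J.subtype_injective).toMonoidHom
      (MulEquiv.injective _)
  rcases lt_or_gt_of_ne hst with hlt | hlt
  · refine Or.inl ⟨a⁻¹ * b, F.mul_mem (F.inv_mem ha) hb, ?_⟩
    have hn := zpowers_normalized_of_two_primes hlt hJp (hy'o ▸ Subgroup.orderOf_dvd_natCard J hy'J) hc hx'J hx'o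
      hy'J
    rw [← cj_zpowers, ← cj_normalizer] at hn
    have h1 := mem_cj.mp hn
    simpa [hy', mul_assoc] using h1
  · refine Or.inr ⟨b⁻¹ * a, F.mul_mem (F.inv_mem hb) ha, ?_⟩
    have hn := zpowers_normalized_of_two_primes hlt (fun r hr hd => (hJp r hr hd).symm)
      (hx'o ▸ Subgroup.orderOf_dvd_natCard J hx'J) hc hy'J hy'o hx'J
    rw [← cj_zpowers, ← cj_normalizer] at hn
    have h1 := mem_cj.mp hn
    simpa [hx', mul_assoc] using h1

end CfsgLib.OddOrder41.Kappa
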