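import Mathlib
import Cfsg.Agent.Lib.OddOrder41.Sigma13Kappa

/-!
# BG 13.10, 13.11: a `τ₃`-prime with fixed points in `M_σ`

For `P ≤ E` of order `p ∈ τ₃(M)` with `C = C_{M_σ}(P) ≠ 1` all subgroups of prime order of `E` are normal
in `E`, all non-identity elements of `E` have the same fixed points `C` in `M_σ`.
-/

set_option autoImplicit false

namespace CfsgLib.OddOrder41

open Subgroup CfsgLib.OddOrder CfsgLib.OddOrder.Transitivity
open scoped commutatorElement Pointwise

universe u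

variable {G : Type u} [Group G] [Finite G]

/-- The configuration of BG 13.10. -/
structure TauThreeCfg (M E P L : Subgroup G) : Prop where
  coatomM : IsCoatom M
  coatomL : IsCoatom L
  compl : Cfsg.IsComplIn E (Cfsg.sigmaCore M) M
  le : P ≤ E
  tau3 : Nat.card P ∈ Cfsg.tau3 M
  fix : Cfsg.sigmaCore M ⊓ Subgroup.centralizer (P : Set G) ≠ ⊥
  norm : Subgroup.normalizer (P : Set G) ≤ L

/-- A non-trivial subgroup has an element of prime order. -/
theorem exists_prime_elt {H : Subgroup G} (h : H ≠ ⊥) :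
    ∃ (r : ℕ) (x : G), r.Prime ∧ x ∈ H ∧ orderOf x = r := by
  obtain ⟨r, hr, hd⟩ := Nat.exists_prime_and_dvd (fun h1 => h (Subgroup.card_eq_one.mp h1))
  have := Fact.mk hr
  obtain ⟨x, hx⟩ := exists_prime_orderOf_dvd_card' (G := H) r hd
  exact ⟨r, x, hr, x.2, (Subgroup.orderOf_coe x).trans hx⟩

variable (hG : Cfsg.IsMinSimpleOddOrder G)

include hG in
/-- In a complement of `M_σ` a subgroup of rank one prime order dividing `|M'|` lies in the derived group. -/
theorem le_derived_of_dvd {M E X : Subgroup G} (hM : IsCoatom M)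
    (hE : Cfsg.IsComplIn E (Cfsg.sigmaCore M) M) {r : ℕ} [hr : Fact r.Prime]
    (hr1 : Cfsg.PRankLE r 1 M) (hd : r ∣ Nat.card ↥⁅M, M⁆) (hXE : X ≤ E) (hX : Nat.card X = r) :
    X ≤ ⁅E, E⁆ := by
  have hrσ : r ∉ Cfsg.sigma M :=
    Sigma10.not_mem_sigma_of_dvd_compl hG hM hE hr.out (hX ▸ Subgroup.card_dvd_of_le hXE)
  refine le_of_normal_of_dvd hG (PRankLE.of_le hE.1 hr1) (Subgroup.commutator_le_self E)
    (le_normalizer_derived E) ?_ hXE hX
  exact (hr.out.dvd_mul.mp (hd.trans (Sigma10.card_derived_dvd hE))).resolve_right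
    fun h => hrσ (piNat_card_piCoreOf _ _ r hr.out h)

include hG in
/-- Two subgroups of order `r` of an abelian group of `r`-rank one are equal. -/
theorem eq_of_abelian_rank_one {A X Y : Subgroup G} (hA : IsMulCommutative A) {r : ℕ} [hr : Fact r.Prime]
    (hr1 : Cfsg.PRankLE r 1 A) (hX : X ≤ A) (hY : Y ≤ A) (hXc : Nat.card X = r) (hYc : Nat.card Y = r) :
    X = Y := by
  obtain ⟨a, ha, he⟩ := exists_cj_eq_of_rank_one hG hr1 hX hY hXc hYc
  rw [← he, cj_eq_of_mem_normalizer (Subgroup.centralizer_le_normalizer _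
    (Subgroup.centralizer_le hX (Subgroup.le_centralizer_iff_isMulCommutative.mpr hA ha)))]

include hG in
/-- ... and is normal in the complement. -/
theorem normal_of_dvd_derived {M E X : Subgroup G} (hM : IsCoatom M)
    (hE : Cfsg.IsComplIn E (Cfsg.sigmaCore M) M) {r : ℕ} [hr : Fact r.Prime]
    (hr1 : Cfsg.PRankLE r 1 M) (hd : r ∣ Nat.card ↥⁅M, M⁆) (hXE : X ≤ E) (hX : Nat.card X = r) :
    E ≤ Subgroup.normalizer (X : Set G) := fun e he => by
  have hXD := le_derived_of_dvd hG hM hE hr1 hd hXE hX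
  refine mem_normalizer_of_cj_eq (eq_of_abelian_rank_one hG
    (propSigmaPrimeNilpotent hG M hM E hE).2.1
    (PRankLE.of_le ((Subgroup.commutator_le_self E).trans hE.1) hr1) ?_ hXD (by rw [card_cj, hX]) hX)
  exact (cj_mono hXD).trans (cj_eq_of_mem_normalizer (le_normalizer_derived E he)).le

namespace TauThreeCfg

variable {M E P L : Subgroup G}

theorem prime (c : TauThreeCfg M E P L) : (Nat.card P).Prime := c.tau3.1

theorem le_L (c : TauThreeCfg M E P L) : P ≤ L := Subgroup.le_normalizer.trans c.norm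

theorem leM (c : TauThreeCfg M E P L) : P ≤ M := c.le.trans c.compl.1

theorem centralizer_le_L (c : TauThreeCfg M E P L) : Subgroup.centralizer (P : Set G) ≤ L :=
  (Subgroup.centralizer_le_normalizer _).trans c.norm

theorem fix_le_L (c : TauThreeCfg M E P L) :
    Cfsg.sigmaCore M ⊓ Subgroup.centralizer (P : Set G) ≤ L := inf_le_right.trans c.centralizer_le_L

include hG in
theorem le_normalizer (c : TauThreeCfg M E P L) : E ≤ Subgroup.normalizer (P : Set G) :=
  haveI := Fact.mk c.prime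
  normal_of_dvd_derived hG c.coatomM c.compl c.tau3.2.2.2 c.tau3.2.2.1 c.le rfl

include hG in
theorem compl_le_L (c : TauThreeCfg M E P L) : E ≤ L := (c.le_normalizer hG).trans c.norm

include hG in
theorem mem_sigma (c : TauThreeCfg M E P L) : Nat.card P ∈ Cfsg.sigma L :=
  haveI := Fact.mk c.prime
  mem_sigma_of_normalizer hG (propRankTwoInMaximal hG) (propTauTwoStructure hG) (propTauTwoInComplement hG)
    (propSigmaPrimeNilpotent hG) c.coatomM c.coatomL c.tau3.2.1 c.tau3.2.2.2 c.leM rfl c.fix c.norm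

include hG in
theorem le_sigmaCore (c : TauThreeCfg M E P L) : P ≤ Cfsg.sigmaCore L :=
  haveI := Fact.mk c.prime
  le_sigmaCore_of_isPGroup hG c.coatomL (c.mem_sigma hG) c.le_L (cyclic_isPGroup_of_card rfl)

include hG in
theorem nconj (c : TauThreeCfg M E P L) : ∀ g : G, L ≠ cj g M := fun g =>
  haveI := Fact.mk c.prime
  not_conj_of_mem_sigma (c.mem_sigma hG) c.tau3.2.1 g

include hG in
/-- `τ₂(M)` is empty. -/
theorem rank_one (c : TauThreeCfg M E P L) {r : ℕ} (hr : r.Prime) (hrσ : r ∉ Cfsg.sigma M) :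
    Cfsg.PRankLE r 1 M := by
  by_contra hcon
  have := Fact.mk hr
  have hτ := mem_tau2_of_not_rank_one hG c.coatomM hr hrσ hcon
  obtain ⟨A, hAM, hAe, hA2⟩ := not_pRankLE_subgroup_iff.mp hcon
  have := minSimple_solvable hG c.coatomM.1
  obtain ⟨g, hg, hle⟩ := exists_conj_into (π := {r}) c.compl.1 (fun s hs hsr hd => by
      rw [Set.mem_singleton_iff] at hsr
      rw [IsComplIn.relIndex_left c.compl] at hd
      exact hrσ (hsr ▸ piNat_card_piCoreOf (Cfsg.sigma M) M s hs hd)) hAM (fun s hs hd => by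
      rw [hA2] at hd
      exact (Nat.prime_dvd_prime_iff_eq hs hr).mp (hs.dvd_of_dvd_pow hd))
  have hne : L ≠ M := fun h => c.tau3.2.1 (h ▸ c.mem_sigma hG)
  have hbot := (propTauTwoStructure hG M c.coatomM r hτ (cj g A)
    ⟨hle.trans c.compl.1, elemAb_map hAe _, by rw [card_cj, hA2]⟩).2.2.2.2.1 L c.coatomL hne
      (hle.trans (c.compl_le_L hG))
  exact c.fix (le_bot_iff.mp (hbot ▸ le_inf inf_le_left c.fix_le_L))

include hG in
/-- `M_σ ∩ L` centralizes `P`. -/
theorem inf_le_centralizer (c : TauThreeCfg M E P L) :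
    Cfsg.sigmaCore M ⊓ L ≤ Subgroup.centralizer (P : Set G) := fun _ hx =>
  Subgroup.mem_centralizer_iff.mpr fun _ hb =>
    (Kappa.cross_commute hG c.coatomM c.coatomL (c.nconj hG) hx.1 hx.2 (c.le_sigmaCore hG hb) (c.leM hb)).symm

include hG in
/-- The primes of `C` are outside `σ(L)` of rank one in `L` and their subgroups have normalizers in `M`. -/
theorem fix_prime (c : TauThreeCfg M E P L) {q : ℕ} (hq : q.Prime) {x : G}
    (hx : x ∈ Cfsg.sigmaCore M ⊓ Subgroup.centralizer (P : Set G)) (hxo : orderOf x = q) :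
    q ∈ Cfsg.sigma M ∧ q ∉ Cfsg.sigma L ∧ Cfsg.PRankLE q 1 L ∧
      Subgroup.normalizer ((Subgroup.zpowers x : Subgroup G) : Set G) ≤ M ∧
      P ≤ Cfsg.sigmaCore L ⊓ Subgroup.centralizer ((Subgroup.zpowers x : Subgroup G) : Set G) := by
  have := Fact.mk hq
  have hxM : x ∈ M := piCoreOf_le _ _ hx.1
  have hxL : x ∈ L := c.fix_le_L hx
  have hqM : q ∈ Cfsg.sigma M :=
    piNat_card_piCoreOf (Cfsg.sigma M) M q hq (hxo ▸ Subgroup.orderOf_dvd_natCard _ hx.1)
  have hqL := Kappa.not_mem_sigma hG c.coatomM c.coatomL (c.nconj hG) hqM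
  obtain ⟨p, y, hp, hy, hyo⟩ := exists_prime_elt (H := P) fun h => c.prime.ne_one (by rw [h, Subgroup.card_bot])
  have hy1 : y ≠ 1 := fun h => hp.ne_one (by rw [← hyo, h, orderOf_one])
  have hcomm : ∀ b ∈ P, x * b = b * x := fun b hb => (Subgroup.mem_centralizer_iff.mp hx.2 b hb).symm
  have hr1 : Cfsg.PRankLE q 1 L := by
    by_contra h
    exact false_of_tau2_partner hG (propTauTwoStructure hG) (propSigmaPrimeNilpotent hG) c.coatomM c.coatomL
      hqM (mem_tau2_of_not_rank_one hG c.coatomL hq hqL h) hxM hxL hxo (c.le_sigmaCore hG hy) (c.leM hy) hy1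
      (hcomm y hy)
  have hPx : P ≤ Cfsg.sigmaCore L ⊓ Subgroup.centralizer ((Subgroup.zpowers x : Subgroup G) : Set G) := by
    refine le_inf (c.le_sigmaCore hG) fun b hb => ?_
    rw [centralizer_zpowers]
    exact Subgroup.mem_centralizer_singleton_iff.mpr (hcomm b hb).symm
  have hne : Cfsg.sigmaCore L ⊓ Subgroup.centralizer ((Subgroup.zpowers x : Subgroup G) : Set G) ≠ ⊥ :=
    fun h => c.prime.ne_one (Subgroup.card_eq_one.mpr (le_bot_iff.mp (h ▸ hPx)))
  exact ⟨hqM, hqL, hr1, Kappa.normalizer_le hG c.coatomL c.coatomM hqL hr1 (Subgroup.zpowers_le.mpr hxL)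
    (by rw [Nat.card_zpowers, hxo]) hne (Subgroup.zpowers_le.mpr hxM) hqM, hPx⟩

include hG in
/-- `E` does not centralize `P`. -/
theorem not_central (c : TauThreeCfg M E P L) : ¬ E ≤ Subgroup.centralizer (P : Set G) := fun h => by
  have := Fact.mk c.prime
  obtain ⟨T, hT, hPT⟩ := exists_sylowOf_ge c.le (cyclic_isPGroup_of_card rfl)
  have hp2 : Nat.card P ≠ 2 := minSimple_prime_ne_two hG (H := P) dvd_rfl
  have hTc : IsCyclic T := isCyclic_of_pRankLE_one hp2 hT.2.1 (PRankLE.of_le (hT.1.trans c.compl.1) c.tau3.2.2.2)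
  obtain ⟨r, y, hr, hy, hyo⟩ := exists_prime_elt (H := P) fun h => c.prime.ne_one (by rw [h, Subgroup.card_bot])
  have h1 := not_mem_derived_of_central hT (haveI := hTc; IsCyclic.isMulCommutative) (hPT hy)
    (h.trans (Subgroup.centralizer_le (Set.singleton_subset_iff.mpr hy)))
    (le_derived_of_dvd hG c.coatomM c.compl c.tau3.2.2.2 c.tau3.2.2.1 c.le rfl hy)
  rw [h1, orderOf_one] at hyo
  exact hr.ne_one hyo.symm

include hG in
/-- A subgroup of prime order moving `P` is `τ₁`. -/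
theorem mem_tau1_of_moving (c : TauThreeCfg M E P L) {Z : Subgroup G} (hZE : Z ≤ E) (hZ : (Nat.card Z).Prime)
    (hmove : ¬ Z ≤ Subgroup.centralizer (P : Set G)) : Nat.card Z ∈ Cfsg.tau1 M := by
  have := Fact.mk hZ
  have := Fact.mk c.prime
  have hzσ := Sigma10.not_mem_sigma_of_dvd_compl hG c.coatomM c.compl hZ (Subgroup.card_dvd_of_le hZE)
  refine ⟨hZ, hzσ, Subgroup.card_dvd_of_le (hZE.trans c.compl.1), fun hd => hmove ?_, c.rank_one hG hZ hzσ⟩
  exact (le_derived_of_dvd hG c.coatomM c.compl (c.rank_one hG hZ hzσ) hd hZE rfl).trans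
    ((Subgroup.le_centralizer_iff_isMulCommutative.mpr
      (propSigmaPrimeNilpotent hG M c.coatomM E c.compl).2.1).trans
      (Subgroup.centralizer_le (le_derived_of_dvd hG c.coatomM c.compl c.tau3.2.2.2 c.tau3.2.2.1 c.le rfl)))

include hG in
/-- A subgroup of prime order moving `P` has fixed points in `M_σ` outside `C`. -/
theorem fix_not_le (c : TauThreeCfg M E P L) {Z : Subgroup G} (hZE : Z ≤ E) (hZ : (Nat.card Z).Prime)
    (hmove : ¬ Z ≤ Subgroup.centralizer (P : Set G)) :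
    ¬ Cfsg.sigmaCore M ⊓ Subgroup.centralizer (Z : Set G) ≤ Subgroup.centralizer (P : Set G) := fun h => by
  have := Fact.mk c.prime
  refine Kappa.false_of_frobenius hG c.coatomM c.compl c.tau3.2.1 c.tau3.2.2.2 c.le rfl (c.le_normalizer hG)
    hZE hZ (fun he => ?_) hmove h
  exact (c.mem_tau1_of_moving hG hZE hZ hmove).2.2.2.1 (he ▸ c.tau3.2.2.1)

include hG in
/-- A moving subgroup of prime order commutes with no element of `M` of `σ(L)`-order. -/
theorem false_of_commute (c : TauThreeCfg M E P L) {Z : Subgroup G} (hZE : Z ≤ E) (hZ : (Nat.card Z).Prime)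
    (hmove : ¬ Z ≤ Subgroup.centralizer (P : Set G)) {r : ℕ} (hr : r.Prime) (hrL : r ∈ Cfsg.sigma L) {y : G}
    (hyM : y ∈ M) (hyZ : y ∈ Subgroup.centralizer (Z : Set G)) (hyo : orderOf y = r) : False := by
  have := Fact.mk hr
  have := Fact.mk hZ
  have hM := c.coatomM
  have hrM := Kappa.not_mem_sigma hG c.coatomL hM (Kappa.nconj_symm (c.nconj hG)) hrL
  set Y := Subgroup.zpowers y with hY
  have hYc : Nat.card Y = r := by rw [hY, Nat.card_zpowers, hyo]
  have hYn : Y ≤ Subgroup.normalizer (Z : Set G) :=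
    (Subgroup.zpowers_le.mpr hyZ).trans (Subgroup.centralizer_le_normalizer _)
  have := minSimple_solvable hG hM.1
  obtain ⟨m, hm, hle⟩ := exists_conj_into (π := (Cfsg.sigma M)ᶜ) c.compl.1 (fun s hs hsσ hd => by
      rw [IsComplIn.relIndex_left c.compl] at hd
      exact hsσ (piNat_card_piCoreOf (Cfsg.sigma M) M s hs hd))
    (sup_le (Subgroup.zpowers_le.mpr hyM) (hZE.trans c.compl.1) : Y ⊔ Z ≤ M) (fun s hs hd => by
      rcases hs.dvd_mul.mp (hd.trans (Coprime.card_sup_dvd hYn)) with h | h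
      · exact (Nat.prime_dvd_prime_iff_eq hs hr).mp (hYc ▸ h) ▸ hrM
      · exact (Nat.prime_dvd_prime_iff_eq hs hZ).mp h ▸
          Sigma10.not_mem_sigma_of_dvd_compl hG hM c.compl hZ (Subgroup.card_dvd_of_le hZE))
  -- write `m = e s`
  obtain ⟨e, he, s, hs, rfl⟩ := c.compl.2.2.2 m hm
  have hZ' : cj (e * s) Z ≤ E := (cj_mono le_sup_right).trans hle
  have hsZ : ∀ a ∈ Z, s * a * s⁻¹ = a := fun a ha => by
    have h1 : e * s * a * (e * s)⁻¹ ∈ E := hZ' (mem_cj.mpr (by simpa [mul_assoc] using ha))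
    have h2 : s * a * s⁻¹ ∈ E := by
      have h3 := E.mul_mem (E.mul_mem (E.inv_mem he) h1) he
      simpa [mul_assoc] using h3
    have h3 : s * a * s⁻¹ * a⁻¹ ∈ E ⊓ Cfsg.sigmaCore M := by
      refine ⟨E.mul_mem h2 (E.inv_mem (hZE ha)), ?_⟩
      rw [mul_assoc, mul_assoc, ← mul_assoc a]
      exact (Cfsg.sigmaCore M).mul_mem hs ((Subgroup.mem_normalizer_iff.mp
        (piCoreOf_normal _ M (c.compl.1 (hZE ha))) s⁻¹).mp ((Cfsg.sigmaCore M).inv_mem hs))
    rw [c.compl.2.2.1, Subgroup.mem_bot] at h3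
    exact mul_inv_eq_one.mp h3
  have hmove' : ¬ cj (e * s) Z ≤ Subgroup.centralizer (P : Set G) := fun h => hmove fun a ha => by
    have h1 : e * a * e⁻¹ ∈ cj (e * s) Z := by
      refine mem_cj.mpr ?_
      have h4 : (e * s)⁻¹ * (e * a * e⁻¹) * (e * s) = s⁻¹ * a * s := by group
      rw [h4, ← hsZ a ha]
      simpa [mul_assoc] using ha
    have h2 : a ∈ cj e⁻¹ (Subgroup.centralizer (P : Set G)) := mem_cj.mpr (by simpa using h h1)
    rwa [cj_centralizer, cj_eq_of_mem_normalizer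
      ((Subgroup.normalizer (P : Set G)).inv_mem (c.le_normalizer hG he))] at h2
  set Z' := cj (e * s) Z with hZ'def
  have hZ'c : Nat.card Z' = Nat.card Z := card_cj _ _
  have hτ : Nat.card Z ∈ Cfsg.tau1 M := c.mem_tau1_of_moving hG hZE hZ hmove
  set y' := e * s * y * (e * s)⁻¹ with hy'
  set Y' := cj (e * s) Y with hY'
  have hY'e : Y' = Subgroup.zpowers y' := cj_zpowers _ _
  have hY'c : Nat.card Y' = r := (card_cj _ _).trans hYc
  have hY'E : Y' ≤ E := (cj_mono le_sup_left).trans hle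
  have hY'Z : Y' ≤ Subgroup.centralizer (Z' : Set G) := by
    rw [hZ'def, ← cj_centralizer]
    exact cj_mono (Subgroup.zpowers_le.mpr hyZ)
  have h134 : Cfsg.sigmaCore M ⊓ Subgroup.centralizer (Z' : Set G) ≤
      Cfsg.sigmaCore M ⊓ Subgroup.centralizer (Y' : Set G) :=
    centralizer_le_of_tau1 hG (propRankTwoInMaximal hG) (propTauTwoStructure hG) (propTauTwoInComplement hG)
      (propSigmaPrimeNilpotent hG) hM c.compl hτ hZ' hZ'c (le_inf hY'E hY'Z) (hY'c ▸ hr)
  have hW := c.fix_not_le hG hZ' (hZ'c ▸ hZ) hmove'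
  have hne : Cfsg.sigmaCore M ⊓ Subgroup.centralizer (Y' : Set G) ≠ ⊥ := fun h => by
    rw [h, le_bot_iff] at h134
    exact hW (h134 ▸ bot_le)
  have hN := Kappa.normalizer_le hG hM c.coatomL hrM (c.rank_one hG hr hrM) (hY'E.trans c.compl.1) hY'c hne
    (hY'E.trans (c.compl_le_L hG)) hrL
  exact hW ((le_inf inf_le_left (((h134.trans inf_le_right).trans
    (Subgroup.centralizer_le_normalizer _)).trans hN)).trans (c.inf_le_centralizer hG))

include hG in
/-- A prime `z ∈ σ(L)`: its subgroups centralize `C`. -/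
theorem fix_le_of_mem_sigma (c : TauThreeCfg M E P L) {Z : Subgroup G} (hZE : Z ≤ E) (hZ : (Nat.card Z).Prime)
    (hzL : Nat.card Z ∈ Cfsg.sigma L) :
    Cfsg.sigmaCore M ⊓ Subgroup.centralizer (P : Set G) ≤ Subgroup.centralizer (Z : Set G) := fun x hx => by
  have := Fact.mk hZ
  have hZσ : Z ≤ Cfsg.sigmaCore L :=
    le_sigmaCore_of_isPGroup hG c.coatomL hzL (hZE.trans (c.compl_le_L hG)) (cyclic_isPGroup_of_card rfl)
  exact Subgroup.mem_centralizer_iff.mpr fun b hb => (Kappa.cross_commute hG c.coatomM c.coatomL (c.nconj hG)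
    hx.1 (c.fix_le_L hx) (hZσ hb) (c.compl.1 (hZE hb))).symm

include hG in
/-- An invariant Sylow subgroup of `C`. -/
theorem exists_invariant (c : TauThreeCfg M E P L) {A : Subgroup G} (hA : A ≤ E) (q : ℕ) [hq : Fact q.Prime] :
    ∃ T : Sylow q ↥(Cfsg.sigmaCore M ⊓ Subgroup.centralizer (P : Set G)),
      A ≤ Subgroup.normalizer (((T : Subgroup ↥(Cfsg.sigmaCore M ⊓ Subgroup.centralizer (P : Set G))).map
        (Subgroup.subtype _) : Subgroup G) : Set G) ∧
      IsCyclic ((T : Subgroup ↥(Cfsg.sigmaCore M ⊓ Subgroup.centralizer (P : Set G))).map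
        (Subgroup.subtype _) : Subgroup G) ∧ (Nat.card A).Coprime (Nat.card ↥(Cfsg.sigmaCore M)) := by
  set C := Cfsg.sigmaCore M ⊓ Subgroup.centralizer (P : Set G) with hC
  have hAC : A ≤ Subgroup.normalizer (C : Set G) := by
    refine Subgroup.le_normalizer_iff.2 fun s hs w hw => ⟨(Subgroup.mem_normalizer_iff.mp
      (piCoreOf_normal (Cfsg.sigma M) M (c.compl.1 (hA hs))) w).mp hw.1, ?_⟩
    have h1 : s * w * s⁻¹ ∈ cj s (Subgroup.centralizer (P : Set G)) :=
      mem_cj.mpr (by simpa [mul_assoc] using hw.2)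
    rwa [cj_centralizer, cj_eq_of_mem_normalizer (c.le_normalizer hG (hA hs))] at h1
  have hcop : (Nat.card A).Coprime (Nat.card ↥(Cfsg.sigmaCore M)) := Nat.coprime_of_dvd fun r hr h1 h2 =>
    Sigma10.not_mem_sigma_of_dvd_compl hG c.coatomM c.compl hr (h1.trans (Subgroup.card_dvd_of_le hA))
      (piNat_card_piCoreOf (Cfsg.sigma M) M r hr h2)
  have hsC : Group.IsSolvable C := minSimple_solvable hG fun h =>
    c.coatomM.1 (top_le_iff.mp (h ▸ inf_le_left.trans (piCoreOf_le _ _)))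
  obtain ⟨T, -, hT⟩ := Coprime.exists_invariant_sylow_ge A C hAC
    (hcop.coprime_dvd_right (Subgroup.card_dvd_of_le inf_le_left)) (Or.inr hsC) q ⊥ bot_le
    IsPGroup.of_bot (Subgroup.le_normalizer_iff.2 fun g _ b hb => by simp [Subgroup.mem_bot.mp hb])
  refine ⟨T, hT, ?_, hcop⟩
  by_cases hT1 : (T : Subgroup C).map C.subtype = ⊥
  · rw [hT1]; infer_instance
  have hd := Uniq.prime_dvd_card (T.isPGroup'.map C.subtype) hT1
  obtain ⟨x, hx⟩ := exists_prime_orderOf_dvd_card' (G := C) q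
    (hd.trans (Subgroup.card_dvd_of_le (Subgroup.map_subtype_le _)))
  exact isCyclic_of_pRankLE_one (minSimple_prime_ne_two hG hd) (T.isPGroup'.map _)
    (PRankLE.of_le ((Subgroup.map_subtype_le _).trans c.fix_le_L)
      (c.fix_prime hG hq.out x.2 ((Subgroup.orderOf_coe x).trans hx)).2.2.1)

include hG in
/-- For `z ∉ σ(L)` an invariant cyclic subgroup of prime order of `C`: either it is fixed, or it is the `P` of
the configuration with `L` and `M` interchanged. -/
theorem swap (c : TauThreeCfg M E P L) {Z : Subgroup G} (hZE : Z ≤ E) (hZ : (Nat.card Z).Prime)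
    (hzL : Nat.card Z ∉ Cfsg.sigma L) {q : ℕ} (hq : q.Prime) {x : G}
    (hx : x ∈ Cfsg.sigmaCore M ⊓ Subgroup.centralizer (P : Set G)) (hxo : orderOf x = q)
    (hn : Z ≤ Subgroup.normalizer ((Subgroup.zpowers x : Subgroup G) : Set G)) :
    (q ∈ Cfsg.tau1 L ∧ Z ≤ Subgroup.centralizer ((Subgroup.zpowers x : Subgroup G) : Set G) ∧
        Z ≤ Subgroup.centralizer (P : Set G)) ∨
      ∃ EL : Subgroup G, TauThreeCfg L EL (Subgroup.zpowers x) M ∧ Z ≤ EL := by
  have := Fact.mk hq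
  have := Fact.mk hZ
  obtain ⟨hqM, hqL, hr1, hN, hPx⟩ := c.fix_prime hG hq hx hxo
  set X := Subgroup.zpowers x with hX
  have hXc : Nat.card X = q := by rw [hX, Nat.card_zpowers, hxo]
  have hxL : x ∈ L := c.fix_le_L hx
  have hL := c.coatomL
  obtain ⟨EL, hEL, hle⟩ := exists_compl_ge hG hL
    (sup_le (hZE.trans (c.compl_le_L hG)) (Subgroup.zpowers_le.mpr hxL) : Z ⊔ X ≤ L) (fun s hs hd => by
      rcases hs.dvd_mul.mp (hd.trans (Coprime.card_sup_dvd hn)) with h | h
      · exact (Nat.prime_dvd_prime_iff_eq hs hZ).mp h ▸ hzL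
      · exact (Nat.prime_dvd_prime_iff_eq hs hq).mp (hXc ▸ h) ▸ hqL)
  have hXEL : X ≤ EL := le_sup_right.trans hle
  have hZEL : Z ≤ EL := le_sup_left.trans hle
  by_cases hd : q ∣ Nat.card ↥⁅L, L⁆
  · refine Or.inr ⟨EL, ⟨hL, c.coatomM, hEL, hXEL, ?_, ?_, hN⟩, hZEL⟩
    · rw [hXc]; exact ⟨hq, hqL, hd, hr1⟩
    · exact fun h => c.prime.ne_one (Subgroup.card_eq_one.mpr (le_bot_iff.mp (h ▸ hPx)))
  · have hτ : q ∈ Cfsg.tau1 L :=
      ⟨hq, hqL, hxo ▸ Subgroup.orderOf_dvd_natCard _ hxL, hd, hr1⟩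
    have hZX : Z ≤ Subgroup.centralizer (X : Set G) := by
      rw [← Subgroup.commutator_eq_bot_iff_le_centralizer, Subgroup.commutator_comm, ← le_bot_iff]
      have h1 : X ⊓ ⁅L, L⁆ = ⊥ := (Subgroup.disjoint_of_coprime_natCard
        (by rw [hXc]; exact (hq.coprime_iff_not_dvd).mpr hd)).eq_bot
      exact h1 ▸ le_inf (Coprime.commutator_le_of_normalizes hn)
        (Subgroup.commutator_mono (Subgroup.zpowers_le.mpr hxL) (hZE.trans (c.compl_le_L hG)))
    refine Or.inl ⟨hτ, hZX, Subgroup.le_centralizer_iff.mp ?_⟩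
    exact hPx.trans ((centralizer_le_of_tau1 hG (propRankTwoInMaximal hG) (propTauTwoStructure hG)
      (propTauTwoInComplement hG) (propSigmaPrimeNilpotent hG) hL hEL hτ hXEL hXc (le_inf hZEL hZX) hZ).trans
      inf_le_right)

include hG in
/-- **BG 13.10**: subgroups of prime order of `E` centralize `P`. -/
theorem centralizes (c : TauThreeCfg M E P L) {Z : Subgroup G} (hZE : Z ≤ E) (hZ : (Nat.card Z).Prime) :
    Z ≤ Subgroup.centralizer (P : Set G) := by
  by_contra hmove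
  have hM := c.coatomM
  have hL := c.coatomL
  have hzτ := c.mem_tau1_of_moving hG hZE hZ hmove
  obtain ⟨-, hzM, hzd, hzD, hzr⟩ := id hzτ
  have := Fact.mk hZ
  have hW := c.fix_not_le hG hZE hZ hmove
  have hW1 : Cfsg.sigmaCore M ⊓ Subgroup.centralizer (Z : Set G) ≠ ⊥ := fun h => hW (h ▸ bot_le)
  by_cases hzL : Nat.card Z ∈ Cfsg.sigma L
  · have h1 := le_inf (inf_le_left : Cfsg.sigmaCore M ⊓ Subgroup.centralizer (P : Set G) ≤ _)
      (c.fix_le_of_mem_sigma hG hZE hZ hzL)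
    have hN := Kappa.normalizer_le hG hM hL hzM hzr (hZE.trans c.compl.1) rfl hW1
      (hZE.trans (c.compl_le_L hG)) hzL
    exact hW ((le_inf inf_le_left ((inf_le_right.trans (Subgroup.centralizer_le_normalizer _)).trans hN)).trans
      (c.inf_le_centralizer hG))
  obtain ⟨q, x₀, hq, hx₀, hx₀o⟩ := exists_prime_elt c.fix
  have := Fact.mk hq
  set C := Cfsg.sigmaCore M ⊓ Subgroup.centralizer (P : Set G) with hC
  obtain ⟨T, hTn, hTc, -⟩ := c.exists_invariant hG hZE q
  set T' := (T : Subgroup C).map C.subtype with hT'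
  have hT1 : T' ≠ ⊥ := fun h => by
    rw [hT', Subgroup.map_eq_bot_iff_of_injective _ C.subtype_injective] at h
    exact T.ne_bot_of_dvd_card (hx₀o ▸ Subgroup.orderOf_dvd_natCard _ hx₀) h
  obtain ⟨x, hx⟩ := exists_prime_orderOf_dvd_card' (G := T') q
    (Uniq.prime_dvd_card (T.isPGroup'.map _) hT1)
  have hxC : (x : G) ∈ C := (Subgroup.map_subtype_le _) x.2
  have hxo : orderOf (x : G) = q := (Subgroup.orderOf_coe x).trans hx
  have hn : Z ≤ Subgroup.normalizer ((Subgroup.zpowers (x : G) : Subgroup G) : Set G) := fun g hg =>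
    mem_normalizer_of_cj_eq (eq_of_card_eq_of_cyclic hTc
      ((cj_mono (Subgroup.zpowers_le.mpr x.2)).trans (cj_eq_of_mem_normalizer (hTn hg)).le)
      (Subgroup.zpowers_le.mpr x.2) (card_cj _ _))
  rcases c.swap hG hZE hZ hzL hq hxC hxo hn with ⟨-, -, h⟩ | ⟨EL, c', hZEL⟩
  · exact hmove h
  have hELM : EL ≤ M := c'.compl_le_L hG
  have hzL1 : Nat.card Z ∈ Cfsg.tau1 L := by
    refine ⟨hZ, hzL, Subgroup.card_dvd_of_le (hZE.trans (c.compl_le_L hG)), fun hd => hzD ?_,
      c'.rank_one hG hZ hzL⟩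
    exact Subgroup.card_dvd_of_le ((le_derived_of_dvd hG hL c'.compl (c'.rank_one hG hZ hzL) hd hZEL rfl).trans
      (Subgroup.commutator_mono hELM hELM))
  by_cases hfix : Z ≤ Subgroup.centralizer ((Subgroup.zpowers (x : G) : Subgroup G) : Set G)
  · -- `x` would be central in `EL`
    obtain ⟨E₁, hE₁E, hE₁c, hZE₁, hE₁τ, hgen⟩ := exists_tau1_hall_ge hG hL c'.compl hZEL fun r hr hd =>
      (Nat.prime_dvd_prime_iff_eq hr hZ).mp hd ▸ hzL1
    have hE₁a : IsMulCommutative E₁ := haveI := hE₁c; IsCyclic.isMulCommutative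
    have hE₁σ : ∀ r : ℕ, r.Prime → r ∣ Nat.card E₁ → r ∉ Cfsg.sigma M := fun r hr hd hrM => by
      have := Fact.mk hr
      obtain ⟨w, hw⟩ := exists_prime_orderOf_dvd_card' (G := E₁) r hd
      have hwo : orderOf (w : G) = r := (Subgroup.orderOf_coe w).trans hw
      have hwM : (w : G) ∈ M := hELM (hE₁E w.2)
      have hwσ : (w : G) ∈ Cfsg.sigmaCore M := (le_sigmaCore_of_isPGroup hG hM hrM
        (Subgroup.zpowers_le.mpr hwM) (cyclic_isPGroup_of_card (by rw [Nat.card_zpowers, hwo])))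
        (Subgroup.mem_zpowers _)
      have hwC : (w : G) ∈ C := ⟨hwσ, c.inf_le_centralizer hG ⟨hwσ, hE₁E.trans c'.compl.1 w.2⟩⟩
      have hWZ : Z ≤ Subgroup.centralizer ((Subgroup.zpowers (w : G) : Subgroup G) : Set G) :=
        hZE₁.trans ((Subgroup.le_centralizer_iff_isMulCommutative.mpr hE₁a).trans
          (Subgroup.centralizer_le (Subgroup.zpowers_le.mpr w.2)))
      obtain ⟨-, -, -, -, hPw⟩ := c.fix_prime hG hr hwC hwo
      exact hmove (Subgroup.le_centralizer_iff.mp (hPw.trans ((centralizer_le_of_tau1 hG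
        (propRankTwoInMaximal hG) (propTauTwoStructure hG) (propTauTwoInComplement hG)
        (propSigmaPrimeNilpotent hG) hL c'.compl (hE₁τ r hr hd) (Subgroup.zpowers_le.mpr (hE₁E w.2))
        (by rw [Nat.card_zpowers, hwo]) (le_inf hZEL hWZ) hZ).trans inf_le_right)))
    obtain ⟨E', hE', hle⟩ := exists_compl_ge hG hM (hE₁E.trans hELM) hE₁σ
    have hE₁C := le_centralizer_of_tau1_abelian hG (propRankTwoInMaximal hG) (propTauTwoStructure hG)
      (propTauTwoInComplement hG) (propSigmaPrimeNilpotent hG) hM hE' hzτ hZE₁ rfl hle hE₁a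
      fun r hr hd => c.rank_one hG hr (hE₁σ r hr hd)
    have hxW : (x : G) ∈ Cfsg.sigmaCore M ⊓ Subgroup.centralizer (Z : Set G) :=
      ⟨hxC.1, Subgroup.le_centralizer_iff.mp hfix (Subgroup.mem_zpowers _)⟩
    have := Fact.mk c'.prime
    refine c'.not_central hG ((hgen fun r hr hd => c'.rank_one hG hr
      (Sigma10.not_mem_sigma_of_dvd_compl hG hL c'.compl hr hd)).trans (sup_le ?_ ?_))
    · exact (Subgroup.le_centralizer_iff_isMulCommutative.mpr
        (propSigmaPrimeNilpotent hG L hL EL c'.compl).2.1).trans (Subgroup.centralizer_le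
          (le_derived_of_dvd hG hL c'.compl c'.tau3.2.2.2 c'.tau3.2.2.1 c'.le rfl))
    · exact Subgroup.le_centralizer_iff.mp (Subgroup.zpowers_le.mpr (hE₁C hxW))
  · -- both have fixed points outside the configuration
    have hWL := c'.fix_not_le hG hZEL hZ hfix
    have hWL1 : Cfsg.sigmaCore L ⊓ Subgroup.centralizer (Z : Set G) ≠ ⊥ := fun h => hWL (h ▸ bot_le)
    obtain ⟨t, x₂, ht, hx₂, hx₂o⟩ := exists_prime_elt hW1
    obtain ⟨s, y₂, hs, hy₂, hy₂o⟩ := exists_prime_elt hWL1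
    have := Fact.mk ht
    have := Fact.mk hs
    have htM : t ∈ Cfsg.sigma M :=
      piNat_card_piCoreOf (Cfsg.sigma M) M t ht (hx₂o ▸ Subgroup.orderOf_dvd_natCard _ hx₂.1)
    have hsL : s ∈ Cfsg.sigma L :=
      piNat_card_piCoreOf (Cfsg.sigma L) L s hs (hy₂o ▸ Subgroup.orderOf_dvd_natCard _ hy₂.1)
    have hZ1 : Z ≠ ⊥ := fun h => hZ.ne_one (by rw [h, Subgroup.card_bot])
    have hZp : IsPGroup (Nat.card Z) Z := cyclic_isPGroup_of_card rfl
    obtain ⟨LZ, hLZ, hNZ⟩ := exists_isCoatom_ge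
      (minSimple_normalizer_ne_top hG hZ1 (minSimple_pgroup_ne_top hG hZp))
    have hzσ : Nat.card Z ∈ Cfsg.sigma LZ := mem_sigma_of_normalizer hG (propRankTwoInMaximal hG)
      (propTauTwoStructure hG) (propTauTwoInComplement hG) (propSigmaPrimeNilpotent hG) hM hLZ hzM hzr
      (hZE.trans c.compl.1) rfl hW1 hNZ
    have hCZ : Subgroup.centralizer (Z : Set G) ≤ LZ := (Subgroup.centralizer_le_normalizer _).trans hNZ
    have hZσ : Z ≤ Cfsg.sigmaCore LZ :=
      le_sigmaCore_of_isPGroup hG hLZ hzσ (Subgroup.le_normalizer.trans hNZ) hZp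
    obtain ⟨u₀, z₀, hu₀, hz₀, hz₀o⟩ := exists_prime_elt hZ1
    have hz₀1 : z₀ ≠ 1 := fun h => hu₀.ne_one (by rw [← hz₀o, h, orderOf_one])
    have key : ∀ {N : Subgroup G}, IsCoatom N → Z ≤ N → Nat.card Z ∉ Cfsg.sigma N → ∀ {u : ℕ}, u.Prime →
        u ∈ Cfsg.sigma N → ∀ {w : G}, w ∈ Cfsg.sigmaCore N ⊓ Subgroup.centralizer (Z : Set G) →
        orderOf w = u → Cfsg.PRankLE u 1 LZ ∧
          Subgroup.normalizer ((Subgroup.zpowers w : Subgroup G) : Set G) ≤ N := by
      intro N hN hZN hzN u hu huN w hw hwo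
      have := Fact.mk hu
      have hncN : ∀ g : G, LZ ≠ cj g N := not_conj_of_mem_sigma hzσ hzN
      have huZ := Kappa.not_mem_sigma hG hN hLZ hncN huN
      have hwN : w ∈ N := piCoreOf_le _ _ hw.1
      have hwz : ∀ b ∈ Z, w * b = b * w := fun b hb => (Subgroup.mem_centralizer_iff.mp hw.2 b hb).symm
      have hr1 : Cfsg.PRankLE u 1 LZ := by
        by_contra h
        exact false_of_tau2_partner hG (propTauTwoStructure hG) (propSigmaPrimeNilpotent hG) hN hLZ huN
          (mem_tau2_of_not_rank_one hG hLZ hu huZ h) hwN (hCZ hw.2) hwo (hZσ hz₀) (hZN hz₀) hz₀1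
          (hwz z₀ hz₀)
      refine ⟨hr1, Kappa.normalizer_le hG hLZ hN huZ hr1 (Subgroup.zpowers_le.mpr (hCZ hw.2))
        (by rw [Nat.card_zpowers, hwo]) (fun h => ?_) (Subgroup.zpowers_le.mpr hwN) huN⟩
      have hle : Z ≤ Cfsg.sigmaCore LZ ⊓
          Subgroup.centralizer ((Subgroup.zpowers w : Subgroup G) : Set G) := fun b hb =>
        ⟨hZσ hb, by rw [centralizer_zpowers]; exact Subgroup.mem_centralizer_singleton_iff.mpr (hwz b hb).symm⟩
      exact hZ1 (le_bot_iff.mp (h ▸ hle))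
    obtain ⟨htr, hNx⟩ := key hM (hZE.trans c.compl.1) hzM ht htM hx₂ hx₂o
    obtain ⟨hsr, hNy⟩ := key hL (hZE.trans (c.compl_le_L hG)) hzL hs hsL hy₂ hy₂o
    have hst : s ≠ t := fun h => Kappa.not_mem_sigma hG hM hL (c.nconj hG) htM (h ▸ hsL)
    rcases Kappa.exists_conj_normalizes hG hLZ hCZ hs ht hst hsr htr hx₂.2 hx₂o hy₂.2 hy₂o with
      ⟨g, hg, hgn⟩ | ⟨g, hg, hgn⟩
    · exact c.false_of_commute hG hZE hZ hmove hs hsL (hNx hgn)
        (Subgroup.mul_mem _ (Subgroup.mul_mem _ hg hy₂.2) (Subgroup.inv_mem _ hg))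
        ((MulEquiv.orderOf_eq (MulAut.conj g) y₂).trans hy₂o)
    · exact c'.false_of_commute hG hZEL hZ hfix ht htM (hNy hgn)
        (Subgroup.mul_mem _ (Subgroup.mul_mem _ hg hx₂.2) (Subgroup.inv_mem _ hg))
        ((MulEquiv.orderOf_eq (MulAut.conj g) x₂).trans hx₂o)

include hG in
/-- Subgroups of prime order of `E` fix `C`. -/
theorem fixed_le (c : TauThreeCfg M E P L) {Z : Subgroup G} (hZE : Z ≤ E) (hZ : (Nat.card Z).Prime) :
    Cfsg.sigmaCore M ⊓ Subgroup.centralizer (P : Set G) ≤ Subgroup.centralizer (Z : Set G) := by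
  by_cases hzL : Nat.card Z ∈ Cfsg.sigma L
  · exact c.fix_le_of_mem_sigma hG hZE hZ hzL
  refine le_of_exists_sylow_le fun q hq => ?_
  have := Fact.mk hq
  set C := Cfsg.sigmaCore M ⊓ Subgroup.centralizer (P : Set G) with hC
  obtain ⟨T, hTn, hTc, hcop⟩ := c.exists_invariant hG hZE q
  refine ⟨T, ?_⟩
  set T' := (T : Subgroup C).map C.subtype with hT'
  by_cases hT1 : T' = ⊥
  · rw [hT1]; exact bot_le
  have hTp : IsPGroup q T' := T.isPGroup'.map _
  obtain ⟨x, hx⟩ := exists_prime_orderOf_dvd_card' (G := T') q (Uniq.prime_dvd_card hTp hT1)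
  have hxC : (x : G) ∈ C := (Subgroup.map_subtype_le _) x.2
  have hxo : orderOf (x : G) = q := (Subgroup.orderOf_coe x).trans hx
  have hn : Z ≤ Subgroup.normalizer ((Subgroup.zpowers (x : G) : Subgroup G) : Set G) := fun g hg =>
    mem_normalizer_of_cj_eq (eq_of_card_eq_of_cyclic hTc
      ((cj_mono (Subgroup.zpowers_le.mpr x.2)).trans (cj_eq_of_mem_normalizer (hTn hg)).le)
      (Subgroup.zpowers_le.mpr x.2) (card_cj _ _))
  have hZx : Z ≤ Subgroup.centralizer ((Subgroup.zpowers (x : G) : Subgroup G) : Set G) := by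
    rcases c.swap hG hZE hZ hzL hq hxC hxo hn with ⟨-, h, -⟩ | ⟨EL, c', hZEL⟩
    · exact h
    · exact c'.centralizes hG hZEL hZ
  rw [centralizer_zpowers] at hZx
  exact Subgroup.le_centralizer_iff.mp (centralizes_cyclic hTp hTc hTn
    (hcop.coprime_dvd_right ((hxo ▸ Subgroup.orderOf_dvd_natCard _ hxC).trans
      (Subgroup.card_dvd_of_le inf_le_left))) x.2 hxo hZx)

include hG in
/-- **BG 13.11**: subgroups of prime order of `E` have the same fixed points. -/
theorem fixed_eq (c : TauThreeCfg M E P L) {Z : Subgroup G} (hZE : Z ≤ E) (hZ : (Nat.card Z).Prime) :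
    Cfsg.sigmaCore M ⊓ Subgroup.centralizer (Z : Set G) =
      Cfsg.sigmaCore M ⊓ Subgroup.centralizer (P : Set G) := by
  have hge : Cfsg.sigmaCore M ⊓ Subgroup.centralizer (P : Set G) ≤
      Cfsg.sigmaCore M ⊓ Subgroup.centralizer (Z : Set G) := le_inf inf_le_left (c.fixed_le hG hZE hZ)
  refine le_antisymm (le_inf inf_le_left ?_) hge
  have := Fact.mk hZ
  have := Fact.mk c.prime
  have hzσ := Sigma10.not_mem_sigma_of_dvd_compl hG c.coatomM c.compl hZ (Subgroup.card_dvd_of_le hZE)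
  by_cases hd : Nat.card Z ∣ Nat.card ↥⁅M, M⁆
  · have hZ1 : Z ≠ ⊥ := fun h => hZ.ne_one (by rw [h, Subgroup.card_bot])
    obtain ⟨LZ, hLZ, hNZ⟩ := exists_isCoatom_ge
      (minSimple_normalizer_ne_top hG hZ1 (minSimple_pgroup_ne_top hG (cyclic_isPGroup_of_card rfl)))
    have cZ : TauThreeCfg M E Z LZ := ⟨c.coatomM, hLZ, c.compl, hZE, ⟨hZ, hzσ, hd, c.rank_one hG hZ hzσ⟩,
      fun h => c.fix (le_bot_iff.mp (h ▸ hge)), hNZ⟩
    exact cZ.fixed_le hG c.le c.prime
  · have hτ : Nat.card Z ∈ Cfsg.tau1 M :=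
      ⟨hZ, hzσ, Subgroup.card_dvd_of_le (hZE.trans c.compl.1), hd, c.rank_one hG hZ hzσ⟩
    exact (centralizer_le_of_tau1 hG (propRankTwoInMaximal hG) (propTauTwoStructure hG)
      (propTauTwoInComplement hG) (propSigmaPrimeNilpotent hG) c.coatomM c.compl hτ hZE rfl
      (le_inf c.le (Subgroup.le_centralizer_iff.mp (c.centralizes hG hZE hZ))) c.prime).trans inf_le_right

include hG in
/-- `E` centralizes `C`. -/
theorem compl_le_centralizer (c : TauThreeCfg M E P L) :
    E ≤ Subgroup.centralizer ((Cfsg.sigmaCore M ⊓ Subgroup.centralizer (P : Set G) : Subgroup G) : Set G) := by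
  set C := Cfsg.sigmaCore M ⊓ Subgroup.centralizer (P : Set G) with hC
  obtain ⟨E₁, hE₁E, hE₁c, -, hE₁τ, hgen⟩ := exists_tau1_hall_ge hG c.coatomM c.compl
    (bot_le : (⊥ : Subgroup G) ≤ E) fun r hr hd => absurd (Subgroup.card_bot (G := G) ▸ hd) hr.not_dvd_one
  have hr1 : ∀ r : ℕ, r.Prime → r ∣ Nat.card E → Cfsg.PRankLE r 1 M := fun r hr hd =>
    c.rank_one hG hr (Sigma10.not_mem_sigma_of_dvd_compl hG c.coatomM c.compl hr hd)
  set K := E ⊓ Subgroup.centralizer (C : Set G) with hK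
  have hE₁K : E₁ ≤ K := by
    refine le_inf hE₁E ?_
    by_cases h1 : E₁ = ⊥
    · rw [h1]; exact bot_le
    obtain ⟨r, z, hr, hz, hzo⟩ := exists_prime_elt h1
    have hrd : r ∣ Nat.card E₁ := hzo ▸ Subgroup.orderOf_dvd_natCard _ hz
    have hzc : Nat.card (Subgroup.zpowers z) = r := by rw [Nat.card_zpowers, hzo]
    have h := le_centralizer_of_tau1_abelian hG (propRankTwoInMaximal hG) (propTauTwoStructure hG)
      (propTauTwoInComplement hG) (propSigmaPrimeNilpotent hG) c.coatomM c.compl (hE₁τ r hr hrd)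
      (Subgroup.zpowers_le.mpr hz) hzc hE₁E (haveI := hE₁c; IsCyclic.isMulCommutative)
      fun s hs hd => hr1 s hs (hd.trans (Subgroup.card_dvd_of_le hE₁E))
    rw [c.fixed_eq hG ((Subgroup.zpowers_le.mpr hz).trans hE₁E) (hzc ▸ hr)] at h
    exact Subgroup.le_centralizer_iff.mp h
  have hEK : E ≤ Subgroup.normalizer (K : Set G) := by
    have hEC : E ≤ Subgroup.normalizer (C : Set G) := fun e he => by
      refine mem_normalizer_of_cj_eq ?_
      rw [hC, Transitivity.cj, Subgroup.map_inf _ _ _ (MulAut.conj e).injective, ← Transitivity.cj,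
        ← Transitivity.cj, cj_centralizer, cj_eq_of_mem_normalizer (c.le_normalizer hG he),
        show cj e (Cfsg.sigmaCore M) = Cfsg.sigmaCore M from
          cj_eq_of_mem_normalizer (piCoreOf_normal (Cfsg.sigma M) M (c.compl.1 he))]
    intro e he
    refine mem_normalizer_of_cj_eq ?_
    rw [hK, Transitivity.cj, Subgroup.map_inf _ _ _ (MulAut.conj e).injective, ← Transitivity.cj,
      ← Transitivity.cj, cj_centralizer, cj_eq_of_mem he, cj_eq_of_mem_normalizer (hEC he)]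
  have hle : E ≤ K ⊔ ⁅E, E⁆ := (hgen hr1).trans (sup_le le_sup_right (hE₁K.trans le_sup_left))
  have hD := derived_le_of_le_sup (inf_le_left : K ≤ E) (Subgroup.commutator_le_self E) hEK hle
  rw [(Subgroup.commutator_eq_bot_iff_le_centralizer.mpr (Subgroup.le_centralizer_iff_isMulCommutative.mpr
    (propSigmaPrimeNilpotent hG M c.coatomM E c.compl).2.1) : ⁅⁅E, E⁆, ⁅E, E⁆⁆ = ⊥), sup_bot_eq] at hD
  exact (hle.trans (sup_le le_rfl hD)).trans inf_le_right

include hG in
/-- **BG 13.11 (b)**: all non-identity elements of `E` have fixed points `C`. -/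
theorem fixed_elt (c : TauThreeCfg M E P L) {e : G} (he : e ∈ E) (he1 : e ≠ 1) :
    Cfsg.sigmaCore M ⊓ Subgroup.centralizer ({e} : Set G) =
      Cfsg.sigmaCore M ⊓ Subgroup.centralizer (P : Set G) := by
  refine le_antisymm ?_ (le_inf inf_le_left ?_)
  · obtain ⟨r, z, hr, hz, hzo⟩ := exists_prime_elt (H := Subgroup.zpowers e) (Subgroup.zpowers_ne_bot.mpr he1)
    have hzc : Nat.card (Subgroup.zpowers z) = r := by rw [Nat.card_zpowers, hzo]
    rw [← c.fixed_eq hG (Z := Subgroup.zpowers z) (Subgroup.zpowers_le.mpr (Subgroup.zpowers_le.mpr he hz))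
      (hzc ▸ hr), ← centralizer_zpowers e]
    exact inf_le_inf_left _ (Subgroup.centralizer_le (Subgroup.zpowers_le.mpr hz))
  · exact (Subgroup.le_centralizer_iff.mp (c.compl_le_centralizer hG)).trans
      (Subgroup.centralizer_le (Set.singleton_subset_iff.mpr he))

include hG in
/-- Every subgroup of prime order of `E` is normal in `E`. -/
theorem normal_of_prime (c : TauThreeCfg M E P L) {Z : Subgroup G} (hZE : Z ≤ E) (hZ : (Nat.card Z).Prime) :
    E ≤ Subgroup.normalizer (Z : Set G) := by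
  have := Fact.mk hZ
  have hM := c.coatomM
  have hzσ := Sigma10.not_mem_sigma_of_dvd_compl hG hM c.compl hZ (Subgroup.card_dvd_of_le hZE)
  by_cases hd : Nat.card Z ∣ Nat.card ↥⁅M, M⁆
  · exact normal_of_dvd_derived hG hM c.compl (c.rank_one hG hZ hzσ) hd hZE rfl
  have hτ : Nat.card Z ∈ Cfsg.tau1 M :=
    ⟨hZ, hzσ, Subgroup.card_dvd_of_le (hZE.trans c.compl.1), hd, c.rank_one hG hZ hzσ⟩
  obtain ⟨E₁, hE₁E, hE₁c, hZE₁, hE₁τ, hgen⟩ := exists_tau1_hall_ge hG hM c.compl hZE fun r hr h =>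
    (Nat.prime_dvd_prime_iff_eq hr hZ).mp h ▸ hτ
  have hr1 : ∀ r : ℕ, r.Prime → r ∣ Nat.card E → Cfsg.PRankLE r 1 M := fun r hr hd' =>
    c.rank_one hG hr (Sigma10.not_mem_sigma_of_dvd_compl hG hM c.compl hr hd')
  refine (hgen hr1).trans (sup_le ?_ ?_)
  · refine le_trans ?_ (Subgroup.centralizer_le_normalizer _)
    refine le_of_exists_sylow_le fun r hr => ?_
    have := Fact.mk hr
    set D := ⁅E, E⁆ with hD
    obtain ⟨T⟩ : Nonempty (Sylow r D) := inferInstance
    refine ⟨T, ?_⟩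
    set T' := (T : Subgroup D).map D.subtype with hT'
    by_cases hT1 : T' = ⊥
    · rw [hT1]; exact bot_le
    have hTp : IsPGroup r T' := T.isPGroup'.map _
    have hrd : r ∣ Nat.card D :=
      (Uniq.prime_dvd_card hTp hT1).trans (Subgroup.card_dvd_of_le (Subgroup.map_subtype_le _))
    have hrE : r ∣ Nat.card E := hrd.trans (Subgroup.card_dvd_of_le (Subgroup.commutator_le_self E))
    have hrD : r ∣ Nat.card ↥⁅M, M⁆ :=
      hrd.trans (Subgroup.card_dvd_of_le (Subgroup.commutator_mono c.compl.1 c.compl.1))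
    have hTc : IsCyclic T' := isCyclic_of_pRankLE_one (minSimple_prime_ne_two hG hrd) hTp
      (PRankLE.of_le (((Subgroup.map_subtype_le _).trans (Subgroup.commutator_le_self E)).trans c.compl.1)
        (hr1 r hr hrE))
    obtain ⟨x, hx⟩ := exists_prime_orderOf_dvd_card' (G := T') r (Uniq.prime_dvd_card hTp hT1)
    set X := Subgroup.zpowers (x : G) with hX
    have hxo : orderOf (x : G) = r := (Subgroup.orderOf_coe x).trans hx
    have hXc : Nat.card X = r := by rw [hX, Nat.card_zpowers, hxo]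
    have hXE : X ≤ E :=
      Subgroup.zpowers_le.mpr (((Subgroup.map_subtype_le _).trans (Subgroup.commutator_le_self E)) x.2)
    obtain ⟨LX, hLX, hNX⟩ := exists_isCoatom_ge (minSimple_normalizer_ne_top hG
      (fun h => hr.ne_one (by rw [← hXc, h, Subgroup.card_bot]))
      (minSimple_pgroup_ne_top hG (cyclic_isPGroup_of_card hXc)))
    have cX : TauThreeCfg M E X LX := ⟨hM, hLX, c.compl, hXE, by
      rw [hXc]; exact ⟨hr, Sigma10.not_mem_sigma_of_dvd_compl hG hM c.compl hr hrE, hrD, hr1 r hr hrE⟩,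
      by rw [c.fixed_eq hG hXE (hXc ▸ hr)]; exact c.fix, hNX⟩
    have hZX := cX.centralizes hG hZE hZ
    rw [hX, centralizer_zpowers] at hZX
    have hTn : Z ≤ Subgroup.normalizer (T' : Set G) := fun z hz => by
      refine mem_normalizer_of_cj_eq ?_
      obtain ⟨d, hd', hle⟩ := Sigma10.exists_conj_le (sylowOf_map T) (Q := cj z T')
        ((cj_mono (Subgroup.map_subtype_le _)).trans
          (cj_eq_of_mem_normalizer (le_normalizer_derived E (hZE hz))).le) (hTp.map _)
      rw [cj_eq_of_mem_normalizer (Subgroup.centralizer_le_normalizer _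
        (Subgroup.centralizer_le ((cj_mono (Subgroup.map_subtype_le _)).trans
          (cj_eq_of_mem_normalizer (le_normalizer_derived E (hZE hz))).le)
          (Subgroup.le_centralizer_iff_isMulCommutative.mpr
            (propSigmaPrimeNilpotent hG M hM E c.compl).2.1 hd')))] at hle
      exact Subgroup.eq_of_le_of_card_ge hle (card_cj _ _).ge
    exact Subgroup.le_centralizer_iff.mp (centralizes_cyclic hTp hTc hTn
      ((Nat.coprime_primes hZ hr).mpr fun h => hd (h ▸ hrD)) x.2 hxo hZX)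
  · refine le_trans ?_ (Subgroup.centralizer_le_normalizer _)
    exact (Subgroup.le_centralizer_iff_isMulCommutative.mpr (haveI := hE₁c; IsCyclic.isMulCommutative)).trans
      (Subgroup.centralizer_le hZE₁)

end TauThreeCfg

end CfsgLib.OddOrder41
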