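import Mathlib
import Cfsg.Agent.Lib.OddOrder41.Sigma13TauThree
import Cfsg.Agent.Lib.OddOrder.Sigma13Local
import Cfsg.Agent.Lib.OddOrder38.Kappa14
import Cfsg.Agent.Lib.OddOrder38.KStar14
import Cfsg.Agent.Lib.OddOrder.Sigma15

/-!
# BG 14.2: the Hall `κ(M)`-subgroups and the standard factorisation of `M`
-/

set_option autoImplicit false

namespace CfsgLib.OddOrder41.Hall14

open Subgroup CfsgLib.OddOrder CfsgLib.OddOrder.Transitivity CfsgLib.OddOrder41
open scoped commutatorElement Pointwise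

universe u

variable {G : Type u} [Group G] [Finite G] (hG : Cfsg.IsMinSimpleOddOrder G)

/-- The primes of the `U`-part. -/
def uPrimes (M : Subgroup G) : Set ℕ := {q | q.Prime ∧ q ∉ Cfsg.kappa M ∧ q ∉ Cfsg.sigma M}

omit [Finite G] in
theorem prime_of_zpowers {x : G} {q : ℕ} (hx : orderOf x = q) :
    Nat.card (Subgroup.zpowers x) = q := by rw [Nat.card_zpowers, hx]

include hG in
/-- For `q ∈ κ(M)` every subgroup of order `q` of `M` has fixed points in `M_σ`. -/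
theorem kappa_fix {M X : Subgroup G} {q : ℕ} (hq : q ∈ Cfsg.kappa M) (hXM : X ≤ M)
    (hX : Nat.card X = q) : Cfsg.sigmaCore M ⊓ Subgroup.centralizer (X : Set G) ≠ ⊥ := by
  have := Fact.mk hq.1
  obtain ⟨T⟩ : Nonempty (Sylow q M) := inferInstance
  obtain ⟨-, x, hxT, hx1, y, hy, hy1, hxy⟩ := hq.2.2.2 T
  have hxG : (x : G) ≠ 1 := fun h => hx1 (Subtype.ext h)
  obtain ⟨r, z, hr, hz, hzo⟩ := exists_prime_elt (Subgroup.zpowers_ne_bot.mpr hxG)
  have hzT : z ∈ (T : Subgroup M).map M.subtype :=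
    Subgroup.zpowers_le.mpr (Subgroup.mem_map_of_mem M.subtype hxT) hz
  have hrq : r = q := by
    obtain ⟨n, hn⟩ := (T.isPGroup'.map M.subtype).exists_card_eq
    exact (Nat.prime_dvd_prime_iff_eq hr hq.1).mp
      (hr.dvd_of_dvd_pow (hn ▸ hzo ▸ Subgroup.orderOf_dvd_natCard _ hzT))
  subst hrq
  obtain ⟨m, hm, he⟩ := exists_cj_eq_of_rank_one hG (OddOrder38.pRankLE_one_of_kappa hq)
    (Subgroup.zpowers_le.mpr (Subgroup.map_subtype_le _ hzT)) hXM (prime_of_zpowers hzo) hX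
  have hyz : y ∈ Subgroup.centralizer ((Subgroup.zpowers z : Subgroup G) : Set G) := by
    refine Subgroup.centralizer_le (Subgroup.zpowers_le.mpr hz) ?_
    rw [centralizer_zpowers]
    exact Subgroup.mem_centralizer_singleton_iff.mpr hxy.symm
  intro h
  have h1 : m * y * m⁻¹ ∈ Cfsg.sigmaCore M ⊓ Subgroup.centralizer (X : Set G) := by
    refine ⟨(Subgroup.mem_normalizer_iff.mp (piCoreOf_normal (Cfsg.sigma M) M hm) y).mp hy, ?_⟩
    rw [← he, ← cj_centralizer]
    exact mem_cj.mpr (by simpa [mul_assoc] using hyz)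
  rw [h, Subgroup.mem_bot] at h1
  exact hy1 (by simpa using h1)

include hG in
/-- Hall `κ(M)`-subgroups exist. -/
theorem exists_hall {M : Subgroup G} (hM : IsCoatom M) :
    ∃ K : Subgroup G, Cfsg.IsPiHallOf (Cfsg.kappa M) K M := by
  have := minSimple_solvable hG hM.1
  obtain ⟨H, hH⟩ := CfsgLib.Hall.exists_isPiHall (G := M) (Cfsg.kappa M)
  refine ⟨H.map M.subtype, Subgroup.map_subtype_le _, fun r hr hd =>
    hH.1 r hr (by rwa [Subgroup.card_map_of_injective M.subtype_injective] at hd), fun r hr hrκ hd => ?_⟩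
  refine hH.2 r hr hrκ ?_
  rwa [Subgroup.relIndex, Subgroup.subgroupOf,
    Subgroup.comap_map_eq_self_of_injective M.subtype_injective] at hd

include hG in
theorem exists_compl_of_kappa {M K : Subgroup G} (hM : IsCoatom M)
    (hK : Cfsg.IsPiHallOf (Cfsg.kappa M) K M) :
    ∃ E : Subgroup G, Cfsg.IsComplIn E (Cfsg.sigmaCore M) M ∧ K ≤ E :=
  exists_compl_ge hG hM hK.1 fun r hr hd => (hK.2.1 r hr hd).2.2.1

/-- A Hall subgroup contains, up to the index, every prime of `κ`. -/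
theorem dvd_card_of_mem {M K : Subgroup G} (hK : Cfsg.IsPiHallOf (Cfsg.kappa M) K M) {q : ℕ}
    (hq : q ∈ Cfsg.kappa M) : q ∣ Nat.card K := by
  have h := hq.2.1
  rw [← card_mul_relIndex_of_le hK.1] at h
  exact (hq.1.dvd_mul.mp h).resolve_right (hK.2.2 q hq.1 hq)

/-! ### A `τ₃`-prime in `κ(M)` -/

include hG in
theorem kappa_tau3 {M K : Subgroup G} (hM : IsCoatom M) (hK : Cfsg.IsPiHallOf (Cfsg.kappa M) K M)
    {p : ℕ} (hp : p ∈ Cfsg.kappa M) (hd : p ∣ Nat.card ↥⁅M, M⁆) :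
    ∃ P L : Subgroup G, TauThreeCfg M K P L ∧ Nat.card P = p := by
  have := Fact.mk hp.1
  obtain ⟨x, hx⟩ := exists_prime_orderOf_dvd_card' (G := K) p (dvd_card_of_mem hK hp)
  set P := Subgroup.zpowers (x : G) with hP
  have hPc : Nat.card P = p := prime_of_zpowers ((Subgroup.orderOf_coe x).trans hx)
  have hPK : P ≤ K := Subgroup.zpowers_le.mpr x.2
  obtain ⟨L, hL, hNL⟩ := exists_isCoatom_ge (minSimple_normalizer_ne_top hG
    (fun h => hp.1.ne_one (by rw [← hPc, h, Subgroup.card_bot]))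
    (minSimple_pgroup_ne_top hG (cyclic_isPGroup_of_card hPc)))
  obtain ⟨E, hE, hKE⟩ := exists_compl_of_kappa hG hM hK
  have c : TauThreeCfg M E P L := ⟨hM, hL, hE, hPK.trans hKE,
    hPc ▸ ⟨hp.1, hp.2.2.1, hd, OddOrder38.pRankLE_one_of_kappa hp⟩,
    kappa_fix hG hp (hPK.trans hK.1) hPc, hNL⟩
  -- all primes of `E` are in `κ`
  have hκ : ∀ r : ℕ, r.Prime → r ∣ Nat.card E → r ∈ Cfsg.kappa M := fun r hr hrd => by
    have := Fact.mk hr
    obtain ⟨e, he⟩ := exists_prime_orderOf_dvd_card' (G := E) r hrd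
    have heo : orderOf (e : G) = r := (Subgroup.orderOf_coe e).trans he
    obtain ⟨s, y, hs, hy, hyo⟩ := exists_prime_elt c.fix
    have hyC := Subgroup.le_centralizer_iff.mp (c.compl_le_centralizer hG) hy
    have hrσ := Sigma10.not_mem_sigma_of_dvd_compl hG hM hE hr hrd
    exact OddOrder38.mem_kappa hG hM hrσ (c.rank_one hG hr hrσ) (hE.1 e.2) heo hy.1
      (fun h => hs.ne_one (by rw [← hyo, h, orderOf_one])) (Subgroup.mem_centralizer_iff.mp hyC _ e.2)
  have hrel : K.relIndex E = 1 := by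
    by_contra h
    obtain ⟨r, hr, hrd⟩ := Nat.exists_prime_and_dvd h
    refine hK.2.2 r hr (hκ r hr (hrd.trans (Subgroup.relIndex_dvd_card _ _))) ?_
    rw [← Subgroup.relIndex_mul_relIndex K E M hKE hE.1]
    exact dvd_mul_of_dvd_left hrd _
  obtain rfl : K = E := le_antisymm hKE (Subgroup.relIndex_eq_one.mp hrel)
  exact ⟨P, L, c, hPc⟩

/-! ### All primes of `κ(M)` in `τ₁(M)` -/

/-- All primes of `κ(M)` are in `τ₁(M)`. -/
def KappaTauOne (M : Subgroup G) : Prop := ∀ q : ℕ, q ∈ Cfsg.kappa M → q ∈ Cfsg.tau1 M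

theorem kappaTauOne_or (M : Subgroup G) :
    KappaTauOne M ∨ ∃ p : ℕ, p ∈ Cfsg.kappa M ∧ p ∣ Nat.card ↥⁅M, M⁆ := by
  by_contra h
  push Not at h
  obtain ⟨h1, h2⟩ := h
  exact h1 fun q hq => ⟨hq.1, hq.2.2.1, hq.2.1, h2 q hq, OddOrder38.pRankLE_one_of_kappa hq⟩

include hG in
/-- With an abelian Hall `κ`-subgroup all primes of `κ(M)` are in `τ₁(M)`. -/
theorem kappaTauOne_of_comm {M K : Subgroup G} (hM : IsCoatom M)
    (hK : Cfsg.IsPiHallOf (Cfsg.kappa M) K M) (hKc : IsMulCommutative K) : KappaTauOne M := by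
  rcases kappaTauOne_or M with h | ⟨p, hp, hd⟩
  · exact h
  obtain ⟨P, L, c, -⟩ := kappa_tau3 hG hM hK hp hd
  exact absurd ((Subgroup.le_centralizer_iff_isMulCommutative.mpr hKc).trans
    (Subgroup.centralizer_le c.le)) (c.not_central hG)

include hG in
theorem isCyclic_of_tauOne {M K : Subgroup G} (hM : IsCoatom M)
    (hK : Cfsg.IsPiHallOf (Cfsg.kappa M) K M) (h1 : KappaTauOne M) : IsCyclic K := by
  obtain ⟨E, hE, hKE⟩ := exists_compl_of_kappa hG hM hK
  obtain ⟨E₁, -, hc, hKE₁, -, -⟩ := exists_tau1_hall_ge hG hM hE hKE fun r hr hd => h1 r (hK.2.1 r hr hd)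
  have := hc
  exact Subgroup.isCyclic_of_le hKE₁

include hG in
/-- **BG 13.5**: prime action of a `τ₁` Hall `κ`-subgroup. -/
theorem fixed_elt {M K : Subgroup G} (hM : IsCoatom M) (hK : Cfsg.IsPiHallOf (Cfsg.kappa M) K M)
    (h1 : KappaTauOne M) {k : G} (hk : k ∈ K) (hk1 : k ≠ 1) :
    Cfsg.sigmaCore M ⊓ Subgroup.centralizer ({k} : Set G) =
      Cfsg.sigmaCore M ⊓ Subgroup.centralizer (K : Set G) := by
  refine le_antisymm (le_inf inf_le_left ?_)
    (inf_le_inf_left _ (Subgroup.centralizer_le (Set.singleton_subset_iff.mpr hk)))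
  obtain ⟨E, hE, hKE⟩ := exists_compl_of_kappa hG hM hK
  obtain ⟨r, z, hr, hz, hzo⟩ := exists_prime_elt (Subgroup.zpowers_ne_bot.mpr hk1)
  have hzK : z ∈ K := Subgroup.zpowers_le.mpr hk hz
  have hrκ := hK.2.1 r hr (hzo ▸ Subgroup.orderOf_dvd_natCard _ hzK)
  refine le_trans ?_ (le_centralizer_of_tau1_abelian hG (propRankTwoInMaximal hG) (propTauTwoStructure hG)
    (propTauTwoInComplement hG) (propSigmaPrimeNilpotent hG) hM hE (h1 r hrκ) (Subgroup.zpowers_le.mpr hzK)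
    (prime_of_zpowers hzo) hKE (haveI := isCyclic_of_tauOne hG hM hK h1; IsCyclic.isMulCommutative)
    fun s hs hd => OddOrder38.pRankLE_one_of_kappa (hK.2.1 s hs hd))
  rw [← centralizer_zpowers k]
  exact inf_le_inf_left _ (Subgroup.centralizer_le (Subgroup.zpowers_le.mpr hz))

include hG in
theorem kstar_ne_bot {M K : Subgroup G} (hM : IsCoatom M) (hK : Cfsg.IsPiHallOf (Cfsg.kappa M) K M)
    (h1 : KappaTauOne M) : Cfsg.sigmaCore M ⊓ Subgroup.centralizer (K : Set G) ≠ ⊥ := by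
  by_cases hK1 : K = ⊥
  · have h : Subgroup.centralizer (K : Set G) = ⊤ := by
      rw [hK1]
      exact eq_top_iff.mpr fun g _ => Subgroup.mem_centralizer_iff.mpr fun b hb => by
        simp [Subgroup.mem_bot.mp hb]
    rw [h, inf_top_eq]
    exact Sigma15.sigmaCore_ne_bot hG hM
  obtain ⟨r, z, hr, hz, hzo⟩ := exists_prime_elt hK1
  rw [← fixed_elt hG hM hK h1 hz fun h => hr.ne_one (by rw [← hzo, h, orderOf_one]), ← centralizer_zpowers]
  exact kappa_fix hG (hK.2.1 r hr (hzo ▸ Subgroup.orderOf_dvd_natCard _ hz))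
    (Subgroup.zpowers_le.mpr (hK.1 hz)) (prime_of_zpowers hzo)

include hG in
/-- **BG 14.2 (b)**: a `U`-element commuting with a non-trivial element of `K` is trivial. -/
theorem eq_one_of_commute {M K E : Subgroup G} (hM : IsCoatom M)
    (hK : Cfsg.IsPiHallOf (Cfsg.kappa M) K M) (h1 : KappaTauOne M)
    (hE : Cfsg.IsComplIn E (Cfsg.sigmaCore M) M) (hKE : K ≤ E) {u k : G} (huE : u ∈ E)
    (hu : ∀ r : ℕ, r.Prime → r ∣ orderOf u → r ∉ Cfsg.kappa M) (hk : k ∈ K) (hk1 : k ≠ 1)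
    (huk : u * k = k * u) : u = 1 := by
  by_contra hu1
  obtain ⟨r, y, hr, hy, hyo⟩ := exists_prime_elt (Subgroup.zpowers_ne_bot.mpr hu1)
  obtain ⟨z, w, hz, hw, hwo⟩ := exists_prime_elt (Subgroup.zpowers_ne_bot.mpr hk1)
  have := Fact.mk hr
  have := Fact.mk hz
  have hyE : y ∈ E := Subgroup.zpowers_le.mpr huE hy
  have hwK : w ∈ K := Subgroup.zpowers_le.mpr hk hw
  have hrκ : r ∉ Cfsg.kappa M := hu r hr (by
    rw [← Nat.card_zpowers]; exact hyo ▸ Subgroup.orderOf_dvd_natCard _ hy)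
  have hrσ : r ∉ Cfsg.sigma M :=
    Sigma10.not_mem_sigma_of_dvd_compl hG hM hE hr (hyo ▸ Subgroup.orderOf_dvd_natCard _ hyE)
  have hyw : y * w = w * y := by
    obtain ⟨i, rfl⟩ := hy
    obtain ⟨j, rfl⟩ := hw
    exact (Commute.zpow_zpow (show Commute u k from huk) i j).eq
  set R := Subgroup.zpowers y with hR
  set Z := Subgroup.zpowers w with hZ
  have hRc : Nat.card R = r := prime_of_zpowers hyo
  have hZc : Nat.card Z = z := prime_of_zpowers hwo
  have hRE : R ≤ E := Subgroup.zpowers_le.mpr hyE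
  have hZE : Z ≤ E := Subgroup.zpowers_le.mpr (hKE hwK)
  have hRZ : R ≤ Subgroup.centralizer (Z : Set G) := by
    rw [centralizer_zpowers]
    exact Subgroup.zpowers_le.mpr (Subgroup.mem_centralizer_singleton_iff.mpr hyw)
  have hzκ := hK.2.1 z hz (hwo ▸ Subgroup.orderOf_dvd_natCard _ hwK)
  have hzτ := h1 z hzκ
  set W := Cfsg.sigmaCore M ⊓ Subgroup.centralizer (Z : Set G) with hW
  have hW1 : W ≠ ⊥ := kappa_fix hG hzκ (hZE.trans hE.1) hZc
  have h134 := centralizer_le_of_tau1 hG (propRankTwoInMaximal hG) (propTauTwoStructure hG)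
    (propTauTwoInComplement hG) (propSigmaPrimeNilpotent hG) hM hE hzτ hZE hZc (le_inf hRE hRZ) (hRc ▸ hr)
  have hfix : Cfsg.sigmaCore M ⊓ Subgroup.centralizer (R : Set G) ≠ ⊥ := fun h =>
    hW1 (le_bot_iff.mp (h ▸ h134))
  obtain ⟨s, c, hs, hc, hco⟩ := exists_prime_elt hfix
  have hc1 : c ≠ 1 := fun h => hs.ne_one (by rw [← hco, h, orderOf_one])
  have hyc : y * c = c * y := Subgroup.mem_centralizer_iff.mp hc.2 y (Subgroup.mem_zpowers y)
  have hr1 : ¬ Cfsg.PRankLE r 1 M := fun h =>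
    hrκ (OddOrder38.mem_kappa hG hM hrσ h (hE.1 hyE) hyo hc.1 hc1 hyc)
  have hτ := mem_tau2_of_not_rank_one hG hM hr hrσ hr1
  obtain ⟨A₀, hA₀M, hA₀e, hA₀2⟩ := not_pRankLE_subgroup_iff.mp hr1
  have := minSimple_solvable hG hM.1
  obtain ⟨g, hg, hle⟩ := exists_conj_into (π := {r}) hE.1 (fun t ht htr hd => by
      rw [Set.mem_singleton_iff] at htr
      rw [IsComplIn.relIndex_left hE] at hd
      exact hrσ (htr ▸ piNat_card_piCoreOf (Cfsg.sigma M) M t ht hd)) hA₀M (fun t ht hd => by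
      rw [hA₀2] at hd
      exact (Nat.prime_dvd_prime_iff_eq ht hr).mp (ht.dvd_of_dvd_pow hd))
  set A := cj g A₀ with hA
  have hAe : Cfsg.IsElementaryAbelian r A := elemAb_map hA₀e _
  have hA2 : Nat.card A = r ^ 2 := (card_cj _ _).trans hA₀2
  obtain ⟨⟨hEA, hXA⟩, -, hCX⟩ := propTauTwoInComplement hG M hM E hE r hτ A ⟨hle, hAe, hA2⟩
  obtain ⟨-, -, -, hAfix, -, -⟩ := propTauTwoStructure hG M hM r hτ A ⟨hle.trans hE.1, hAe, hA2⟩
  have hRA : R ≤ A := hXA R hRE hRc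
  have honly : OnlyIn (Subgroup.centralizer (R : Set G)) M := hCX R hRA hRc hfix
  have hmove : ¬ A ≤ Subgroup.centralizer ({w} : Set G) := fun h => by
    refine hW1 (le_bot_iff.mp (hAfix ▸ le_inf inf_le_left ?_))
    rw [Subgroup.le_centralizer_iff]
    intro a ha
    by_cases ha1 : a = 1
    · rw [ha1]; exact one_mem _
    have hao : orderOf a = r := orderOf_eq_prime (hAe.2 a ha) ha1
    have h2 := centralizer_le_of_tau1 hG (propRankTwoInMaximal hG) (propTauTwoStructure hG)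
      (propTauTwoInComplement hG) (propSigmaPrimeNilpotent hG) hM hE hzτ hZE hZc
      (le_inf ((Subgroup.zpowers_le.mpr ha).trans hle) (by
        rw [centralizer_zpowers]; exact (Subgroup.zpowers_le.mpr ha).trans h))
      ((prime_of_zpowers hao).symm ▸ hr)
    exact Subgroup.le_centralizer_iff.mp (h2.trans inf_le_right) (Subgroup.mem_zpowers a)
  obtain ⟨L, hL, hNZ⟩ := exists_isCoatom_ge (minSimple_normalizer_ne_top hG
    (fun h => hz.ne_one (by rw [← hZc, h, Subgroup.card_bot]))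
    (minSimple_pgroup_ne_top hG (cyclic_isPGroup_of_card hZc)))
  have hzL : z ∈ Cfsg.sigma L := mem_sigma_of_normalizer hG (propRankTwoInMaximal hG) (propTauTwoStructure hG)
    (propTauTwoInComplement hG) (propSigmaPrimeNilpotent hG) hM hL hzτ.2.1 hzτ.2.2.2.2 (hZE.trans hE.1) hZc hW1 hNZ
  have hne : M ≠ L := fun h => hzτ.2.1 (h ▸ hzL)
  have hCZ : Subgroup.centralizer (Z : Set G) ≤ L := (Subgroup.centralizer_le_normalizer _).trans hNZ
  have hrL : r ∉ Cfsg.sigma L := fun hrL => by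
    obtain ⟨-, -, hc'⟩ := OddOrder38.partner_structure hG (Sigma12.local_facts hG) hL hM hne hrL hRc
      (hRZ.trans hCZ)
      (normalizer_le_of_onlyIn hM (normalizer_self_eq_of_isCoatom hG hM) honly)
    refine hW1 (le_bot_iff.mp (hc'.2.2.1 ▸ le_inf (le_inf ?_ ?_) inf_le_left))
    · exact inf_le_right.trans hCZ
    · exact inf_le_left.trans (piCoreOf_le _ _)
  exact false_of_plane hG (propRankTwoInMaximal hG) (propTauTwoStructure hG) (propTauTwoInComplement hG)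
    (propSigmaPrimeNilpotent hG) hM hL hτ hzL hrL hAe hA2 hRA hRc honly.1 (hRZ.trans hCZ)
    (x := w) (Subgroup.le_normalizer.trans hNZ (Subgroup.mem_zpowers w)) hwo
    (hEA (hKE hwK)) (Subgroup.le_centralizer_iff.mp hRZ (Subgroup.mem_zpowers w)) hmove

omit [Finite G] in
/-- An element of `M` normalizing `Y ≤ E` splits in normalizing and centralizing factors. -/
theorem split_normalizer {M E S Y : Subgroup G} (hE : Cfsg.IsComplIn E S M)
    (hS : M ≤ Subgroup.normalizer (S : Set G)) (hY : Y ≤ E) {e s : G} (he : e ∈ E) (hs : s ∈ S)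
    (hm : e * s ∈ Subgroup.normalizer (Y : Set G)) :
    e ∈ Subgroup.normalizer (Y : Set G) ∧ s ∈ Subgroup.centralizer (Y : Set G) := by
  have hsc : s ∈ Subgroup.centralizer (Y : Set G) := Subgroup.mem_centralizer_iff.mpr fun y hy => by
    have h1 : e * s * y * (e * s)⁻¹ ∈ E := hY ((Subgroup.mem_normalizer_iff.mp hm y).mp hy)
    have h2 : s * y * s⁻¹ ∈ E := by
      simpa [mul_assoc] using E.mul_mem (E.mul_mem (E.inv_mem he) h1) he
    have h3 : s * y * s⁻¹ * y⁻¹ ∈ E ⊓ S := by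
      refine ⟨E.mul_mem h2 (E.inv_mem (hY hy)), ?_⟩
      rw [mul_assoc, mul_assoc, ← mul_assoc y]
      exact S.mul_mem hs ((Subgroup.mem_normalizer_iff.mp (hS (hE.1 (hY hy))) s⁻¹).mp (S.inv_mem hs))
    rw [hE.2.2.1, Subgroup.mem_bot] at h3
    exact (mul_inv_eq_iff_eq_mul.mp (mul_inv_eq_one.mp h3)).symm
  refine ⟨?_, hsc⟩
  have h := Subgroup.mul_mem _ hm ((Subgroup.normalizer (Y : Set G)).inv_mem
    (Subgroup.centralizer_le_normalizer _ hsc))
  rwa [mul_inv_cancel_right] at h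

include hG in
/-- The normal Hall subgroup of a complement for the primes outside `κ(M)`. -/
theorem exists_u {M K E : Subgroup G} (hM : IsCoatom M) (hK : Cfsg.IsPiHallOf (Cfsg.kappa M) K M)
    (h1 : KappaTauOne M) (hE : Cfsg.IsComplIn E (Cfsg.sigmaCore M) M) (hKE : K ≤ E) :
    ∃ U : Subgroup G, U ≤ E ∧ Cfsg.IsPiHallOf (uPrimes M) U M ∧ E ≤ Subgroup.normalizer (U : Set G) ∧
      (∀ e ∈ E, ∃ u ∈ U, ∃ k ∈ K, e = u * k) ∧ ⁅E, E⁆ ≤ U ∧ U ⊓ K = ⊥ := by
  have hsE : Group.IsSolvable E := minSimple_solvable hG fun h => hM.1 (top_le_iff.mp (h ▸ hE.1))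
  obtain ⟨H, hH⟩ := CfsgLib.Hall.exists_isPiHall (G := E) (uPrimes M)
  set U := H.map E.subtype with hU
  have hUE : U ≤ E := Subgroup.map_subtype_le _
  have hUπ : ∀ r : ℕ, r.Prime → r ∣ Nat.card U → r ∈ uPrimes M := fun r hr hd =>
    hH.1 r hr (by rwa [hU, Subgroup.card_map_of_injective E.subtype_injective] at hd)
  have hidx : ∀ r : ℕ, r.Prime → r ∈ uPrimes M → ¬ r ∣ U.relIndex E := fun r hr hrπ hd => by
    refine hH.2 r hr hrπ ?_
    rwa [hU, Subgroup.relIndex, Subgroup.subgroupOf,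
      Subgroup.comap_map_eq_self_of_injective E.subtype_injective] at hd
  have hDU : ⁅E, E⁆ ≤ U := by
    obtain ⟨g, hg, hle⟩ := exists_conj_into hUE hidx (Subgroup.commutator_le_self E) fun r hr hd =>
      ⟨hr, fun hκ => (h1 r hκ).2.2.2.1 (hd.trans (Subgroup.card_dvd_of_le (Subgroup.commutator_mono hE.1 hE.1))),
        Sigma10.not_mem_sigma_of_dvd_compl hG hM hE hr
          (hd.trans (Subgroup.card_dvd_of_le (Subgroup.commutator_le_self E)))⟩
    rwa [cj_eq_of_mem_normalizer (le_normalizer_derived E hg)] at hle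
  have hn : E ≤ Subgroup.normalizer (U : Set G) := Subgroup.le_normalizer_iff.2 fun e he w hw => by
    rw [show e * w * e⁻¹ = ⁅e, w⁆ * w by simp only [commutatorElement_def]; group]
    exact U.mul_mem (hDU (Subgroup.commutator_mem_commutator he (hUE hw))) hw
  have hinf : U ⊓ K = ⊥ := (Subgroup.disjoint_of_coprime_natCard
    (Nat.coprime_of_dvd fun r hr ha hb => (hUπ r hr ha).2.1 (hK.2.1 r hr hb))).eq_bot
  have hsup : E ≤ U ⊔ K := by
    refine Subgroup.relIndex_eq_one.mp (Nat.eq_one_of_dvd_coprimes (Nat.coprime_of_dvd fun r hr ha hb => ?_)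
      (Subgroup.relIndex_dvd_of_le_left E (le_sup_left : U ≤ U ⊔ K))
      (Subgroup.relIndex_dvd_of_le_left E (le_sup_right : K ≤ U ⊔ K)))
    have hrd : r ∣ Nat.card E := ha.trans (Subgroup.relIndex_dvd_card _ _)
    have hrσ := Sigma10.not_mem_sigma_of_dvd_compl hG hM hE hr hrd
    by_cases hrκ : r ∈ Cfsg.kappa M
    · refine hK.2.2 r hr hrκ ?_
      rw [← Subgroup.relIndex_mul_relIndex K E M hKE hE.1]
      exact dvd_mul_of_dvd_left hb _
    · exact hidx r hr ⟨hr, hrκ, hrσ⟩ ha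
  refine ⟨U, hUE, ⟨hUE.trans hE.1, hUπ, fun r hr hrπ hd => ?_⟩, hn, fun e he => ?_, hDU, hinf⟩
  · rw [← Subgroup.relIndex_mul_relIndex U E M hUE hE.1] at hd
    rcases hr.dvd_mul.mp hd with h | h
    · exact hidx r hr hrπ h
    · rw [IsComplIn.relIndex_left hE] at h
      exact hrπ.2.2 (piNat_card_piCoreOf (Cfsg.sigma M) M r hr h)
  · obtain ⟨k, hk, u, hu, he'⟩ := CfsgLib.Coprime.exists_mul_of_mem_sup (hKE.trans hn)
      (sup_comm U K ▸ hsup (E.inv_mem he))
    exact ⟨u⁻¹, U.inv_mem hu, k⁻¹, K.inv_mem hk, by rw [← mul_inv_rev, ← he', inv_inv]⟩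

include hG in
/-- The part of `M` normalizing a non-trivial subgroup of `K`. -/
theorem inf_normalizer_eq {M K : Subgroup G} (hM : IsCoatom M) (hK : Cfsg.IsPiHallOf (Cfsg.kappa M) K M)
    (h1 : KappaTauOne M) {Y : Subgroup G} (hY : Y ≤ K) (hY1 : Y ≠ ⊥) :
    M ⊓ Subgroup.normalizer (Y : Set G) = K ⊔ (Cfsg.sigmaCore M ⊓ Subgroup.centralizer (K : Set G)) := by
  obtain ⟨E, hE, hKE⟩ := exists_compl_of_kappa hG hM hK
  obtain ⟨U, hUE, hU, hEn, hdec, -, hinf⟩ := exists_u hG hM hK h1 hE hKE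
  have hKc : IsMulCommutative K := haveI := isCyclic_of_tauOne hG hM hK h1; IsCyclic.isMulCommutative
  have hKC : K ≤ Subgroup.centralizer (Y : Set G) :=
    (Subgroup.le_centralizer_iff_isMulCommutative.mpr hKc).trans (Subgroup.centralizer_le hY)
  obtain ⟨y, hy, hy1⟩ := (Subgroup.bot_or_exists_ne_one Y).resolve_left hY1
  refine le_antisymm (fun m hm => ?_) (le_inf (sup_le hK.1 (inf_le_left.trans (piCoreOf_le _ _)))
    ((sup_le hKC (inf_le_right.trans (Subgroup.centralizer_le hY))).trans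
      (Subgroup.centralizer_le_normalizer _)))
  obtain ⟨e, he, s, hs, rfl⟩ := hE.2.2.2 m hm.1
  obtain ⟨hen, hsc⟩ := split_normalizer hE (piCoreOf_normal _ _) (hY.trans hKE) he hs hm.2
  obtain ⟨u, hu, k, hk, rfl⟩ := hdec e he
  have hun : u ∈ Subgroup.normalizer (Y : Set G) := by
    have h := Subgroup.mul_mem _ hen ((Subgroup.normalizer (Y : Set G)).inv_mem
      (Subgroup.centralizer_le_normalizer _ (hKC hk)))
    rwa [mul_inv_cancel_right] at h
  have huy : u * y = y * u := by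
    have h3 : u * y * u⁻¹ * y⁻¹ ∈ U ⊓ K := by
      refine ⟨?_, K.mul_mem (hY ((Subgroup.mem_normalizer_iff.mp hun y).mp hy)) (K.inv_mem (hY hy))⟩
      rw [mul_assoc, mul_assoc, ← mul_assoc y]
      exact U.mul_mem hu ((Subgroup.mem_normalizer_iff.mp (hEn (hKE (hY hy))) u⁻¹).mp (U.inv_mem hu))
    rw [hinf, Subgroup.mem_bot] at h3
    exact mul_inv_eq_iff_eq_mul.mp (mul_inv_eq_one.mp h3)
  obtain rfl : u = 1 := eq_one_of_commute hG hM hK h1 hE hKE (hUE hu)
    (fun r hr hd => (hU.2.1 r hr (hd.trans (Subgroup.orderOf_dvd_natCard _ hu))).2.1) (hY hy) hy1 huy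
  rw [one_mul]
  refine Subgroup.mul_mem _ (Subgroup.mem_sup_left hk) (Subgroup.mem_sup_right ?_)
  rw [← fixed_elt hG hM hK h1 (hY hy) hy1]
  exact ⟨hs, Subgroup.centralizer_le (Set.singleton_subset_iff.mpr hy) hsc⟩

include hG in
/-- **BG 14.2 (c)**, last part. -/
theorem le_sigmaCore_of_normalizer {M K X Mstar : Subgroup G} (hM : IsCoatom M)
    (hK : Cfsg.IsPiHallOf (Cfsg.kappa M) K M) (hXK : X ≤ K) (hX : (Nat.card X).Prime)
    (hMs : IsCoatom Mstar) (hN : Subgroup.normalizer (X : Set G) ≤ Mstar) : X ≤ Cfsg.sigmaCore Mstar := by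
  have := Fact.mk hX
  have hκ := hK.2.1 _ hX (Subgroup.card_dvd_of_le hXK)
  refine le_sigmaCore_of_isPGroup hG hMs (mem_sigma_of_normalizer hG (propRankTwoInMaximal hG)
    (propTauTwoStructure hG) (propTauTwoInComplement hG) (propSigmaPrimeNilpotent hG) hM hMs hκ.2.2.1
    (OddOrder38.pRankLE_one_of_kappa hκ) (hXK.trans hK.1) rfl (kappa_fix hG hκ (hXK.trans hK.1) rfl) hN)
    (Subgroup.le_normalizer.trans hN) (cyclic_isPGroup_of_card rfl)

include hG in
/-- **BG 14.2 (a)--(c)**. -/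
theorem kappa_hall_structure {M K : Subgroup G} (hM : IsCoatom M)
    (hK : Cfsg.IsPiHallOf (Cfsg.kappa M) K M) (hK1 : K ≠ ⊥) :
    (∀ k ∈ K, k ≠ 1 → Cfsg.sigmaCore M ⊓ Subgroup.centralizer ({k} : Set G) = (Cfsg.sigmaCore M ⊓ Subgroup.centralizer (K : Set G))) ∧
      (∃ U : Subgroup G, IsMulCommutative U ∧ Cfsg.IsPiHallOf {q | q.Prime ∧ q ∉ Cfsg.kappa M ∧ q ∉ Cfsg.sigma M} U M ∧
        K ≤ Subgroup.normalizer (U : Set G) ∧ ∀ k ∈ K, k ≠ 1 → U ⊓ Subgroup.centralizer ({k} : Set G) = ⊥) ∧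
      ∀ X : Subgroup G, X ≤ K → (Nat.card X).Prime →
        M ⊓ Subgroup.normalizer (X : Set G) = K ⊔ (Cfsg.sigmaCore M ⊓ Subgroup.centralizer (K : Set G)) ∧ M ⊓ Subgroup.normalizer (K : Set G) = K ⊔ (Cfsg.sigmaCore M ⊓ Subgroup.centralizer (K : Set G)) ∧
        ∀ Mstar : Subgroup G, IsCoatom Mstar → Subgroup.normalizer (X : Set G) ≤ Mstar → X ≤ Cfsg.sigmaCore Mstar := by
  rcases kappaTauOne_or M with h1 | ⟨p, hp, hd⟩
  · refine ⟨fun k hk hk1 => fixed_elt hG hM hK h1 hk hk1, ?_, fun X hXK hX =>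
      ⟨inf_normalizer_eq hG hM hK h1 hXK (fun h => hX.ne_one (by rw [h, Subgroup.card_bot])),
        inf_normalizer_eq hG hM hK h1 le_rfl hK1,
        fun Ms hMs hN => le_sigmaCore_of_normalizer hG hM hK hXK hX hMs hN⟩⟩
    obtain ⟨E, hE, hKE⟩ := exists_compl_of_kappa hG hM hK
    obtain ⟨U, hUE, hU, hEn, -, -, -⟩ := exists_u hG hM hK h1 hE hKE
    have hfpf : ∀ k ∈ K, k ≠ 1 → U ⊓ Subgroup.centralizer ({k} : Set G) = ⊥ := fun k hk hk1 => by
      refine (Subgroup.eq_bot_iff_forall _).mpr fun u hu => eq_one_of_commute hG hM hK h1 hE hKE (hUE hu.1)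
        (fun r hr hd => (hU.2.1 r hr (hd.trans (Subgroup.orderOf_dvd_natCard _ hu.1))).2.1) hk hk1
        (Subgroup.mem_centralizer_singleton_iff.mp hu.2)
    refine ⟨U, ?_, hU, hKE.trans hEn, hfpf⟩
    obtain ⟨k, hk, hk1⟩ := (Subgroup.bot_or_exists_ne_one K).resolve_left hK1
    have h := Coprime.commutator_sup_centralizer K U (hKE.trans hEn)
      (Nat.coprime_of_dvd fun r hr ha hb => (hU.2.1 r hr hb).2.1 (hK.2.1 r hr ha))
      (Or.inr (minSimple_solvable hG fun h => hM.1 (top_le_iff.mp (h ▸ hU.1))))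
    rw [le_bot_iff.mp ((inf_le_inf_left U (Subgroup.centralizer_le (Set.singleton_subset_iff.mpr hk))).trans
      (hfpf k hk hk1).le), sup_bot_eq] at h
    rw [← Subgroup.le_centralizer_iff_isMulCommutative]
    have hUD : U ≤ ⁅E, E⁆ := h.ge.trans (Subgroup.commutator_mono hUE hKE)
    exact hUD.trans ((Subgroup.le_centralizer_iff_isMulCommutative.mpr
      (propSigmaPrimeNilpotent hG M hM E hE).2.1).trans (Subgroup.centralizer_le hUD))
  obtain ⟨P, L, c, -⟩ := kappa_tau3 hG hM hK hp hd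
  set C := Cfsg.sigmaCore M ⊓ Subgroup.centralizer (P : Set G) with hC
  have hKst : Cfsg.sigmaCore M ⊓ Subgroup.centralizer (K : Set G) = C :=
    le_antisymm (inf_le_inf_left _ (Subgroup.centralizer_le c.le))
      (le_inf inf_le_left (Subgroup.le_centralizer_iff.mp (c.compl_le_centralizer hG)))
  have key : ∀ Y : Subgroup G, Y ≤ K → Y ≠ ⊥ → K ≤ Subgroup.normalizer (Y : Set G) →
      M ⊓ Subgroup.normalizer (Y : Set G) =
        K ⊔ (Cfsg.sigmaCore M ⊓ Subgroup.centralizer (K : Set G)) := by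
    intro Y hY hY1 hKY
    obtain ⟨y, hy, hy1⟩ := (Subgroup.bot_or_exists_ne_one Y).resolve_left hY1
    refine le_antisymm (fun m hm => ?_) (le_inf (sup_le hK.1 (inf_le_left.trans (piCoreOf_le _ _)))
      (sup_le hKY ((inf_le_right.trans (Subgroup.centralizer_le hY)).trans
        (Subgroup.centralizer_le_normalizer _))))
    obtain ⟨e, he, s, hs, rfl⟩ := c.compl.2.2.2 m hm.1
    obtain ⟨-, hsc⟩ := split_normalizer c.compl (piCoreOf_normal _ _) hY he hs hm.2
    refine Subgroup.mul_mem _ (Subgroup.mem_sup_left he) (Subgroup.mem_sup_right ?_)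
    rw [hKst, hC, ← c.fixed_elt hG (hY hy) hy1]
    exact ⟨hs, Subgroup.centralizer_le (Set.singleton_subset_iff.mpr hy) hsc⟩
  refine ⟨fun k hk hk1 => (c.fixed_elt hG hk hk1).trans hKst.symm, ⟨⊥, inferInstance, ⟨bot_le,
    fun r hr h => absurd (Subgroup.card_bot (G := G) ▸ h) hr.not_dvd_one, fun r hr hrπ h => ?_⟩,
    Subgroup.le_normalizer_iff.2 fun g _ b hb => by simp [Subgroup.mem_bot.mp hb],
    fun k _ _ => bot_inf_eq _⟩, fun X hXK hX => ⟨key X hXK (fun h => hX.ne_one (by rw [h, Subgroup.card_bot]))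
      (c.normal_of_prime hG hXK hX), key K le_rfl hK1 Subgroup.le_normalizer,
        fun Ms hMs hN => le_sigmaCore_of_normalizer hG hM hK hXK hX hMs hN⟩⟩
  rw [Subgroup.relIndex_bot_left, ← card_mul_relIndex_of_le c.compl.1, IsComplIn.relIndex_left c.compl] at h
  rcases hr.dvd_mul.mp h with h | h
  · exact hrπ.2.1 (hK.2.1 r hr h)
  · exact hrπ.2.2 (piNat_card_piCoreOf (Cfsg.sigma M) M r hr h)

/-! ### The standard factorisation -/

include hG in
/-- **S1352, existence**. -/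
theorem exists_decomposition {M K : Subgroup G} (hM : IsCoatom M) (hKc : IsCyclic K)
    (hK : Cfsg.IsPiHallOf (Cfsg.kappa M) K M) : ∃ U : Subgroup G, Cfsg.IsSigmaDecomposition M K U := by
  have h1 := kappaTauOne_of_comm hG hM hK (haveI := hKc; IsCyclic.isMulCommutative)
  obtain ⟨E, hE, hKE⟩ := exists_compl_of_kappa hG hM hK
  obtain ⟨U, hUE, hU, hEn, hdec, -, -⟩ := exists_u hG hM hK h1 hE hKE
  refine ⟨U, hKc, hK, ⟨hU.1, sup_le hK.1 (piCoreOf_le _ _), ?_, fun m hm => ?_⟩, hKE.trans hEn⟩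
  · refine (Subgroup.disjoint_of_coprime_natCard (Nat.coprime_of_dvd fun r hr ha hb => ?_)).eq_bot
    rcases hr.dvd_mul.mp (hb.trans (Coprime.card_sup_dvd (hK.1.trans (piCoreOf_normal (Cfsg.sigma M) M))))
      with h | h
    · exact (hU.2.1 r hr ha).2.1 (hK.2.1 r hr h)
    · exact (hU.2.1 r hr ha).2.2 (piNat_card_piCoreOf (Cfsg.sigma M) M r hr h)
  · obtain ⟨e, he, s, hs, rfl⟩ := hE.2.2.2 m hm
    obtain ⟨u, hu, k, hk, rfl⟩ := hdec e he
    exact ⟨u, hu, k * s, Subgroup.mul_mem _ (Subgroup.mem_sup_left hk) (Subgroup.mem_sup_right hs),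
      mul_assoc u k s⟩

include hG in
/-- The `U` of a standard factorisation is a Hall subgroup. -/
theorem decomposition_hall {M K U : Subgroup G} (hM : IsCoatom M) (hKU : Cfsg.IsSigmaDecomposition M K U) :
    Cfsg.IsPiHallOf (uPrimes M) U M := by
  have hall := (Sigma10.sigmaCore_hall hG hM).1
  have hidx : U.relIndex M = Nat.card ↥(K ⊔ Cfsg.sigmaCore M) := IsComplIn.relIndex_left hKU.compl
  have hKn : K ≤ Subgroup.normalizer ((Cfsg.sigmaCore M : Subgroup G) : Set G) :=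
    hKU.hall.1.trans (piCoreOf_normal _ _)
  have hmul : Nat.card U * Nat.card ↥(K ⊔ Cfsg.sigmaCore M) = Nat.card M :=
    hidx ▸ card_mul_relIndex_of_le hKU.compl.1
  have hrel : Nat.card U = (K ⊔ Cfsg.sigmaCore M).relIndex M := by
    have h2 := card_mul_relIndex_of_le hKU.compl.2.1
    rw [← hmul, mul_comm (Nat.card U)] at h2
    exact (Nat.eq_of_mul_eq_mul_left Nat.card_pos h2).symm
  refine ⟨hKU.compl.1, fun r hr hd => ?_, fun r hr hrπ hd => ?_⟩
  · rw [hrel] at hd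
    exact ⟨hr, fun h => hKU.hall.2.2 r hr h (hd.trans (Subgroup.relIndex_dvd_of_le_left M le_sup_left)),
      fun h => hall.2.2 r hr h (hd.trans (Subgroup.relIndex_dvd_of_le_left M le_sup_right))⟩
  · rw [hidx] at hd
    rcases hr.dvd_mul.mp (hd.trans (Coprime.card_sup_dvd hKn)) with h | h
    · exact hrπ.2.1 (hKU.hall.2.1 r hr h)
    · exact hrπ.2.2 (piNat_card_piCoreOf (Cfsg.sigma M) M r hr h)

include hG in
/-- **S1352, normality**. -/
theorem decomposition_normal {M K U : Subgroup G} (hM : IsCoatom M) (hKU : Cfsg.IsSigmaDecomposition M K U) :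
    M ≤ Subgroup.normalizer ((U ⊔ Cfsg.sigmaCore M : Subgroup G) : Set G) := by
  set S := Cfsg.sigmaCore M with hS
  have h1 := kappaTauOne_of_comm hG hM hKU.hall (haveI := hKU.cyclic; IsCyclic.isMulCommutative)
  obtain ⟨E, hE, hKE⟩ := exists_compl_of_kappa hG hM hKU.hall
  obtain ⟨U₀, hU₀E, hU₀, hEn, -, -, -⟩ := exists_u hG hM hKU.hall h1 hE hKE
  have hUh := decomposition_hall hG hM hKU
  set N := U₀ ⊔ S with hN
  have hSM : S ≤ M := piCoreOf_le _ _
  have hNM : N ≤ M := sup_le hU₀.1 hSM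
  have hSn : ∀ m ∈ M, cj m S = S := fun m hm => cj_eq_of_mem_normalizer (piCoreOf_normal _ _ hm)
  have hMn : M ≤ Subgroup.normalizer (N : Set G) := fun m hm => by
    obtain ⟨e, he, s, hs, rfl⟩ := hE.2.2.2 m hm
    refine Subgroup.mul_mem _ ?_ (Subgroup.le_normalizer (Subgroup.mem_sup_right hs))
    refine mem_normalizer_of_cj_eq ?_
    rw [hN, Transitivity.cj, Subgroup.map_sup, ← Transitivity.cj, ← Transitivity.cj,
      cj_eq_of_mem_normalizer (hEn he), hSn e (hE.1 he)]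
  have := minSimple_solvable hG hM.1
  suffices h : U ⊔ S = N by rw [h]; exact hMn
  refine le_antisymm (sup_le ?_ le_sup_right) ?_
  · obtain ⟨g, hg, hle⟩ := exists_conj_into (π := uPrimes M) hNM (fun r hr hrπ hd => hU₀.2.2 r hr hrπ
      (hd.trans (Subgroup.relIndex_dvd_of_le_left M le_sup_left))) hUh.1 hUh.2.1
    have h2 := cj_mono (g := g⁻¹) hle
    rwa [cj_mul, inv_mul_cancel, cj_one, cj_eq_of_mem_normalizer (hMn (M.inv_mem hg))] at h2
  · obtain ⟨g, hg, hle⟩ := exists_conj_into (π := uPrimes M) (sup_le hUh.1 hSM : U ⊔ S ≤ M)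
      (fun r hr hrπ hd => hUh.2.2 r hr hrπ
      (hd.trans (Subgroup.relIndex_dvd_of_le_left M le_sup_left))) hU₀.1 hU₀.2.1
    calc N = cj g N := (cj_eq_of_mem_normalizer (hMn hg)).symm
      _ = cj g U₀ ⊔ cj g S := by rw [hN, Transitivity.cj, Subgroup.map_sup]
      _ ≤ U ⊔ S := sup_le hle ((hSn g hg).le.trans le_sup_right)

include hG in
/-- **S1353**. -/
theorem decomposition_fpf {M K U : Subgroup G} (hM : IsCoatom M) (hKU : Cfsg.IsSigmaDecomposition M K U)
    {k : G} (hk : k ∈ K) (hk1 : k ≠ 1) : U ⊓ Subgroup.centralizer ({k} : Set G) = ⊥ := by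
  have h1 := kappaTauOne_of_comm hG hM hKU.hall (haveI := hKU.cyclic; IsCyclic.isMulCommutative)
  have hUh := decomposition_hall hG hM hKU
  obtain ⟨E, hE, hle⟩ := exists_compl_ge hG hM (sup_le hKU.hall.1 hUh.1 : K ⊔ U ≤ M) fun r hr hd => by
    rcases hr.dvd_mul.mp (hd.trans (Coprime.card_sup_dvd hKU.normal)) with h | h
    · exact (hKU.hall.2.1 r hr h).2.2.1
    · exact (hUh.2.1 r hr h).2.2
  exact (Subgroup.eq_bot_iff_forall _).mpr fun u hu => eq_one_of_commute hG hM hKU.hall h1 hE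
    (le_sup_left.trans hle) (hle (Subgroup.mem_sup_right hu.1))
    (fun r hr hd => (hUh.2.1 r hr (hd.trans (Subgroup.orderOf_dvd_natCard _ hu.1))).2.1) hk hk1
    (Subgroup.mem_centralizer_singleton_iff.mp hu.2)

include hG in
/-- **S1354**. -/
theorem centralizer_structure {M K : Subgroup G} (hM : IsCoatom M) (hKc : IsCyclic K)
    (hK : Cfsg.IsPiHallOf (Cfsg.kappa M) K M) :
    Cfsg.sigmaCore M ⊓ Subgroup.centralizer (K : Set G) ≠ ⊥ ∧
      (K ≠ ⊥ → ∀ k ∈ K, k ≠ 1 →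
        M ⊓ Subgroup.centralizer ({k} : Set G) = K ⊔ (Cfsg.sigmaCore M ⊓ Subgroup.centralizer (K : Set G))) := by
  have hKa : IsMulCommutative K := haveI := hKc; IsCyclic.isMulCommutative
  have h1 := kappaTauOne_of_comm hG hM hK hKa
  refine ⟨kstar_ne_bot hG hM hK h1, fun _ k hk hk1 => le_antisymm ?_ ?_⟩
  · rw [← inf_normalizer_eq hG hM hK h1 (Subgroup.zpowers_le.mpr hk) (Subgroup.zpowers_ne_bot.mpr hk1),
      ← centralizer_zpowers]
    exact inf_le_inf_left _ (Subgroup.centralizer_le_normalizer _)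
  · refine le_inf (sup_le hK.1 (inf_le_left.trans (piCoreOf_le _ _))) (sup_le ?_ ?_)
    · exact (Subgroup.le_centralizer_iff_isMulCommutative.mpr hKa).trans
        (Subgroup.centralizer_le (Set.singleton_subset_iff.mpr hk))
    · exact inf_le_right.trans (Subgroup.centralizer_le (Set.singleton_subset_iff.mpr hk))

end CfsgLib.OddOrder41.Hall14
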