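import Mathlib
import Cfsg.Agent.Lib.OddOrder41.Sigma14Hall

/-!
# The inputs of BG §14 as theorems
-/

set_option autoImplicit false

namespace CfsgLib.OddOrder41.Hall14

open CfsgLib.OddOrder38

universe u

variable {G : Type u} [Group G] [Finite G] (hG : Cfsg.IsMinSimpleOddOrder G)

include hG in
theorem propKappaExists : PropKappaExists G := fun _ hM => exists_hall hG hM

include hG in
theorem propKappaHall : PropKappaHall G := fun _ hM _ hK hK1 => kappa_hall_structure hG hM hK hK1

include hG in
/-- All inputs of `OddOrder38`. -/
theorem inputs : OddOrder38.Inputs G where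
  toLocal := OddOrder.Sigma12.local_facts hG
  kappaExists := propKappaExists hG
  kappaHall := propKappaHall hG

end CfsgLib.OddOrder41.Hall14
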