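import Mathlib
import Cfsg.Agent.Lib.OddOrder41.Sigma14Inputs
import Cfsg.Agent.Lib.OddOrder38.Count14
import Cfsg.Agent.Lib.OddOrder41.Sigma14NonP1

/-!
# BG 14.7, counting: the Hall `κ(M)`-subgroups are cyclic

If a Hall `κ(M)`-subgroup `K` is not abelian, then `M` and all the maximal subgroups over normalizers of
subgroups of prime order of `Z = K × K*` have type `P₁`; the conjugates of the mixed elements of `Z`
together with their tilde sets are more than `|G|` elements.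
-/

set_option autoImplicit false

namespace CfsgLib.OddOrder41.Hall14

open Subgroup CfsgLib.OddOrder CfsgLib.OddOrder.Transitivity CfsgLib.OddOrder41 CfsgLib.OddOrder38
open scoped commutatorElement Pointwise

universe u

variable {G : Type u} [Group G] [Finite G] (hG : Cfsg.IsMinSimpleOddOrder G)

/-- `M` has type `P₁`. -/
def TypeOne (M : Subgroup G) : Prop :=
  ∀ q : ℕ, q.Prime → q ∣ Nat.card M → q ∉ Cfsg.sigma M → q ∈ Cfsg.kappa M

/-- `Z = K₀ × K₀*` for a maximal subgroup `N` of type `P₁`. -/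
structure IsPart (Z N K₀ : Subgroup G) : Prop where
  coatom : IsCoatom N
  hall : Cfsg.IsPiHallOf (Cfsg.kappa N) K₀ N
  ne : K₀ ≠ ⊥
  typeOne : TypeOne N
  eq : K₀ ⊔ (Cfsg.sigmaCore N ⊓ Subgroup.centralizer (K₀ : Set G)) = Z

omit [Finite G] in
theorem commute_of_mem {S K : Subgroup G} {k c : G} (hk : k ∈ K)
    (hc : c ∈ S ⊓ Subgroup.centralizer (K : Set G)) : Commute k c :=
  Subgroup.mem_centralizer_iff.mp hc.2 k hk

omit [Finite G] in
theorem IsPart.exists_mul {Z N K₀ : Subgroup G} (h : IsPart Z N K₀) {z : G} (hz : z ∈ Z) :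
    ∃ k ∈ K₀, ∃ c ∈ Cfsg.sigmaCore N ⊓ Subgroup.centralizer (K₀ : Set G), z = k * c := by
  rw [← h.eq] at hz
  exact CfsgLib.Coprime.exists_mul_of_mem_sup
    ((Subgroup.le_centralizer_iff.mp inf_le_right).trans (Subgroup.centralizer_le_normalizer _)) hz

omit [Finite G] in
theorem IsPart.le_Z {Z N K₀ : Subgroup G} (h : IsPart Z N K₀) :
    Cfsg.sigmaCore N ⊓ Subgroup.centralizer (K₀ : Set G) ≤ Z := le_sup_right.trans h.eq.le

theorem IsPart.not_sigma {Z N K₀ : Subgroup G} (h : IsPart Z N K₀) {k : G} (hk : k ∈ K₀) {p : ℕ}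
    (hp : p.Prime) (hd : p ∣ orderOf k) : p ∉ Cfsg.sigma N :=
  (h.hall.2.1 p hp (hd.trans (Subgroup.orderOf_dvd_natCard _ hk))).2.2.1

/-- A `σ(N)`-element of `Z` is in the part of `N`. -/
theorem IsPart.mem_of_sigma {Z N K₀ : Subgroup G} (h : IsPart Z N K₀) {z : G} (hz : z ∈ Z)
    (hσ : ∀ p : ℕ, p.Prime → p ∣ orderOf z → p ∈ Cfsg.sigma N) :
    z ∈ Cfsg.sigmaCore N ⊓ Subgroup.centralizer (K₀ : Set G) := by
  obtain ⟨k, hk, c, hc, rfl⟩ := h.exists_mul hz
  have hcop : (orderOf k).Coprime (orderOf c) := Nat.coprime_of_dvd fun p hp h1 h2 =>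
    h.not_sigma hk hp h1 (mem_sigma_of_mem_sigmaCore hc.1 hp h2)
  have he := (commute_of_mem hk hc).orderOf_mul_eq_mul_orderOf_of_coprime hcop
  have hk1 : k = 1 := by
    by_contra hk1
    obtain ⟨p, hp, hd⟩ := Nat.exists_prime_and_dvd (n := orderOf k) fun h => hk1 (orderOf_eq_one_iff.mp h)
    exact h.not_sigma hk hp hd (hσ p hp (he ▸ hd.mul_right _))
  rw [hk1, one_mul]
  exact hc

include hG in
/-- A maximal subgroup of type other than `P₁` has a nilpotent `σ`-core. -/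
theorem typeOne_of_not_nilpotent {N : Subgroup G} (hN : IsCoatom N)
    (h : ¬ Group.IsNilpotent (Cfsg.sigmaCore N)) : TypeOne N := fun q hq hd hqσ => by
  by_contra hqκ
  have := Fact.mk hq
  obtain ⟨S⟩ : Nonempty (Sylow q N) := inferInstance
  exact h (small_omega_of_not_kappa hG (propTauTwoStructure hG) hN hd
    (fun hu => hu.elim hqσ hqκ) S).2.2

include hG in
theorem card_part {Z N K₀ : Subgroup G} (h : IsPart Z N K₀) :
    Nat.card Z = Nat.card K₀ * Nat.card ↥(Cfsg.sigmaCore N ⊓ Subgroup.centralizer (K₀ : Set G)) := by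
  rw [← h.eq]
  refine CfsgLib.Coprime.card_sup_of_disjoint
    ((Subgroup.le_centralizer_iff.mp inf_le_right).trans (Subgroup.centralizer_le_normalizer _))
    (Subgroup.disjoint_of_coprime_natCard (Nat.coprime_of_dvd fun p hp h1 h2 => ?_)).eq_bot
  exact (h.hall.2.1 p hp h2).2.2.1 (piNat_card_piCoreOf (Cfsg.sigma N) N p hp
    (h1.trans (Subgroup.card_dvd_of_le inf_le_left)))

include hG in
/-- Over the normalizer of a subgroup of prime order of a non-abelian `K` lies another part. -/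
theorem exists_part {M K : Subgroup G} (hM : IsCoatom M) (hK : Cfsg.IsPiHallOf (Cfsg.kappa M) K M)
    (hKE : Cfsg.IsComplIn K (Cfsg.sigmaCore M) M) (hKc : ¬ IsMulCommutative K) {X : Subgroup G}
    (hXK : X ≤ K) (hX : (Nat.card X).Prime) :
    ∃ N K₀ : Subgroup G, IsPart (K ⊔ (Cfsg.sigmaCore M ⊓ Subgroup.centralizer (K : Set G))) N K₀ ∧
      Nat.card X ∈ Cfsg.sigma N := by
  set C := Cfsg.sigmaCore M ⊓ Subgroup.centralizer (K : Set G) with hC
  set Z := K ⊔ C with hZ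
  have hI := inputs hG
  have hK1 : K ≠ ⊥ := fun h => hX.ne_one (Subgroup.card_eq_one.mpr (le_bot_iff.mp (h ▸ hXK)))
  have := Fact.mk hX
  obtain ⟨ha, -, hc⟩ := kappa_hall_structure hG hM hK hK1
  obtain ⟨hNX, -, hXσ⟩ := hc X hXK hX
  have hX1 : X ≠ ⊥ := fun h => hX.ne_one (by rw [h, Subgroup.card_bot])
  obtain ⟨N, hN, hNle⟩ := exists_isCoatom_ge
    (minSimple_normalizer_ne_top hG hX1 (minSimple_pgroup_ne_top hG (cyclic_isPGroup_of_card rfl)))
  have hXN : X ≤ Cfsg.sigmaCore N := hXσ N hN hNle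
  have htN : Nat.card X ∈ Cfsg.sigma N :=
    piNat_card_piCoreOf (Cfsg.sigma N) N _ hX (Subgroup.card_dvd_of_le hXN)
  have hκX := hK.2.1 _ hX (Subgroup.card_dvd_of_le hXK)
  have hnc : ∀ g : G, N ≠ cj g M := not_conj_of_mem_sigma htN hκX.2.2.1
  have hZN : Z ≤ N := (hNX.ge.trans inf_le_right).trans hNle
  have hCN : C ≤ N := le_sup_right.trans hZN
  obtain ⟨u, x, hu, hx, hxo⟩ := exists_prime_elt hX1
  have hx1 : x ≠ 1 := fun h => hu.ne_one (by rw [← hxo, h, orderOf_one])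
  have hC1 : C ≠ ⊥ := OddOrder38.kstar_ne_bot hI hM hK hK1
  -- elements of prime order of `C`
  have key : ∀ (q : ℕ) (y : G), q.Prime → y ∈ C → orderOf y = q → q ∈ Cfsg.kappa N ∧
      Subgroup.normalizer ((Subgroup.zpowers y : Subgroup G) : Set G) ≤ M := by
    intro q y hq hy hyo
    have := Fact.mk hq
    have hyM : y ∈ M := piCoreOf_le _ _ hy.1
    have hqM : q ∈ Cfsg.sigma M := mem_sigma_of_mem_sigmaCore hy.1 hq (hyo.symm ▸ dvd_rfl)
    have hqN := Kappa.not_mem_sigma hG hM hN hnc hqM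
    have hxy : y * x = x * y := ((commute_of_mem (hXK hx) hy).eq).symm
    have hr1 : Cfsg.PRankLE q 1 N := by
      by_contra h
      exact false_of_tau2_partner hG (propTauTwoStructure hG) (propSigmaPrimeNilpotent hG) hM hN hqM
        (mem_tau2_of_not_rank_one hG hN hq hqN h) hyM (hCN hy) hyo (hXN hx) ((hXK.trans hK.1) hx) hx1 hxy
    refine ⟨OddOrder38.mem_kappa hG hN hqN hr1 (hCN hy) hyo (hXN hx) hx1 hxy,
      Kappa.normalizer_le hG hN hM hqN hr1 (Subgroup.zpowers_le.mpr (hCN hy)) (prime_of_zpowers hyo)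
        (fun h => hx1 ?_) (Subgroup.zpowers_le.mpr hyM) hqM⟩
    have h1 : x ∈ Cfsg.sigmaCore N ⊓ Subgroup.centralizer ((Subgroup.zpowers y : Subgroup G) : Set G) := by
      refine ⟨hXN hx, ?_⟩
      rw [centralizer_zpowers]
      exact Subgroup.mem_centralizer_singleton_iff.mpr hxy.symm
    rwa [h, Subgroup.mem_bot] at h1
  obtain ⟨K₀, hK₀, hCK₀⟩ := exists_hall_kappa_ge hG hI hN hCN fun p hp hd => by
    have := Fact.mk hp
    obtain ⟨y, hy⟩ := exists_prime_orderOf_dvd_card' (G := C) p hd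
    exact (key p y hp y.2 ((Subgroup.orderOf_coe y).trans hy)).1
  have hK₀1 : K₀ ≠ ⊥ := fun h => hC1 (le_bot_iff.mp (h ▸ hCK₀))
  obtain ⟨q, y, hq, hy, hyo⟩ := exists_prime_elt hC1
  set Y := Subgroup.zpowers y with hY
  have hYK₀ : Y ≤ K₀ := Subgroup.zpowers_le.mpr (hCK₀ hy)
  obtain ⟨hNY, -, -⟩ :=
    (kappa_hall_structure hG hN hK₀ hK₀1).2.2 Y hYK₀ ((prime_of_zpowers hyo).symm ▸ hq)
  set D := Cfsg.sigmaCore N ⊓ Subgroup.centralizer (K₀ : Set G) with hD
  have hMN : M ⊓ N ≤ Z := fun m hm => by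
    obtain ⟨e, he, s, hs, rfl⟩ := hKE.2.2.2 m hm.1
    refine Subgroup.mul_mem _ (Subgroup.mem_sup_left he) (Subgroup.mem_sup_right ?_)
    have hsN : s ∈ N := by
      simpa using N.mul_mem (N.inv_mem (hZN (Subgroup.mem_sup_left he))) hm.2
    rw [hC, ← ha x (hXK hx) hx1]
    exact ⟨hs, Subgroup.mem_centralizer_singleton_iff.mpr
      (Kappa.cross_commute hG hM hN hnc hs hsN (hXN hx) ((hXK.trans hK.1) hx))⟩
  have hZY : Z ≤ N ⊓ Subgroup.normalizer (Y : Set G) := le_inf hZN (sup_le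
    (((Subgroup.le_centralizer_iff.mp (inf_le_right : C ≤ _)).trans
      (Subgroup.centralizer_le (Subgroup.zpowers_le.mpr hy))).trans (Subgroup.centralizer_le_normalizer _))
    (hCK₀.trans ((le_sup_left.trans hNY.ge).trans inf_le_right)))
  have heq : K₀ ⊔ D = Z := by
    rw [← hNY]
    exact le_antisymm ((le_inf ((inf_le_right.trans (key q y hq hy hyo).2)) inf_le_left).trans hMN) hZY
  refine ⟨N, K₀, ⟨hN, hK₀, hK₀1, ?_, heq⟩, htN⟩
  by_cases hK₀c : IsMulCommutative K₀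
  · -- then the part of `N` is not abelian
    refine typeOne_of_not_nilpotent hG hN fun hnil => hKc ?_
    have hnD : Group.IsNilpotent D := by
      have := hnil
      exact Group.nilpotent_of_mulEquiv (Subgroup.subgroupOfEquivOfLe
        (inf_le_left : D ≤ Cfsg.sigmaCore N))
    have hDM : D ≤ M := (le_sup_right.trans heq.le).trans (sup_le hK.1 (inf_le_left.trans (piCoreOf_le _ _)))
    have hDc : IsMulCommutative D := (propSigmaPrimeNilpotent hG M hM K hKE).1 D hDM hnD fun p hp hd hpM =>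
      Kappa.not_mem_sigma hG hM hN hnc hpM
        (piNat_card_piCoreOf (Cfsg.sigma N) N p hp (hd.trans (Subgroup.card_dvd_of_le inf_le_left)))
    have hZc : Z ≤ Subgroup.centralizer (Z : Set G) := heq ▸ OddOrder38.sup_le_centralizer hK₀c hDc inf_le_right
    exact Subgroup.le_centralizer_iff_isMulCommutative.mp
      (le_sup_left.trans (hZc.trans (Subgroup.centralizer_le (le_sup_left : K ≤ Z))))
  · rcases kappaTauOne_or N with h1 | ⟨p, hp, hd⟩
    · exact absurd (haveI := isCyclic_of_tauOne hG hN hK₀ h1; IsCyclic.isMulCommutative) hK₀c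
    obtain ⟨P, L, c, -⟩ := kappa_tau3 hG hN hK₀ hp hd
    intro r hr hrd hrσ
    rw [← card_mul_relIndex_of_le c.compl.1, IsComplIn.relIndex_left c.compl] at hrd
    exact hK₀.2.1 r hr ((hr.dvd_mul.mp hrd).resolve_right
      fun h => hrσ (piNat_card_piCoreOf (Cfsg.sigma N) N r hr h))

/-- The mixed elements of `Z`. -/
def mixed (Z : Subgroup G) : Set G :=
  {z | z ∈ Z ∧ z ≠ 1 ∧ ∀ N : Subgroup G, IsCoatom N → ∃ p : ℕ, p.Prime ∧ p ∣ orderOf z ∧ p ∉ Cfsg.sigma N}

include hG in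
/-- A part is at most a third of its `σ`-core. -/
theorem three_mul_card_le {Z N K₀ : Subgroup G} (h : IsPart Z N K₀) :
    3 * Nat.card ↥(Cfsg.sigmaCore N ⊓ Subgroup.centralizer (K₀ : Set G)) ≤
      Nat.card ↥(Cfsg.sigmaCore N) := by
  have hI := inputs hG
  set D := Cfsg.sigmaCore N ⊓ Subgroup.centralizer (K₀ : Set G) with hD
  obtain ⟨p, hp, hpd⟩ := Nat.exists_prime_and_dvd (n := Nat.card D)
    fun h1 => OddOrder38.kstar_ne_bot hI h.coatom h.hall h.ne (Subgroup.card_eq_one.mp h1)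
  have := Fact.mk hp
  obtain ⟨T⟩ : Nonempty (Sylow p ↥(Cfsg.sigmaCore N)) := inferInstance
  have hne := (sylow_kstar hG hI h.coatom h.hall h.ne hpd (sylowOf_map T)).2.2
  obtain ⟨j, hj⟩ := Subgroup.card_dvd_of_le (inf_le_left : D ≤ Cfsg.sigmaCore N)
  obtain ⟨i, hi⟩ : Odd (Nat.card ↥(Cfsg.sigmaCore N)) := minSimple_odd hG _
  rw [hj, mul_comm]
  refine Nat.mul_le_mul_left _ ?_
  rcases Nat.lt_or_ge j 3 with hj3 | hj3
  swap
  · exact hj3
  interval_cases j
  · rw [mul_zero] at hj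
    exact absurd hj Nat.card_pos.ne'
  · refine absurd ((Subgroup.map_subtype_le (T : Subgroup ↥(Cfsg.sigmaCore N))).trans
      (Subgroup.eq_of_le_of_card_ge (inf_le_left : D ≤ Cfsg.sigmaCore N) ?_).ge) hne
    rw [hj, mul_one]
  · omega

include hG in
/-- The contribution of one part to the counting. -/
theorem part_count {Z N K₀ : Subgroup G} (h : IsPart Z N K₀) :
    Nat.card G * (3 * (Nat.card ↥(Cfsg.sigmaCore N ⊓ Subgroup.centralizer (K₀ : Set G)) - 1) + 2) ≤
      3 * Nat.card Z * (tildeSet N).ncard := by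
  have hlow := card_tildeSet_ge hG (inputs hG) h.coatom
  rw [card_eq_of_type_one hG h.coatom h.hall h.typeOne] at hlow
  have h3 := three_mul_card_le hG h
  rw [card_part hG h]
  obtain ⟨a, ha⟩ : ∃ a, Nat.card ↥(Cfsg.sigmaCore N ⊓ Subgroup.centralizer (K₀ : Set G)) = a + 1 :=
    ⟨_, (Nat.succ_pred_eq_of_pos Nat.card_pos).symm⟩
  obtain ⟨A, hA⟩ : ∃ A, Nat.card ↥(Cfsg.sigmaCore N) = A + 1 :=
    ⟨_, (Nat.succ_pred_eq_of_pos Nat.card_pos).symm⟩
  rw [ha, hA] at h3
  rw [hA] at hlow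
  rw [ha]
  simp only [Nat.add_sub_cancel] at hlow ⊢
  refine Nat.le_of_mul_le_mul_left (?_ : (A + 1) * _ ≤ (A + 1) * _) (Nat.succ_pos A)
  have e1 := Nat.mul_le_mul_left (3 * (a + 1)) hlow
  have e2 : (A + 1) * (Nat.card G * (3 * a + 2)) ≤ 3 * (a + 1) * (Nat.card G * A) := by
    nlinarith only [Nat.mul_le_mul_left (Nat.card G) h3]
  calc _ ≤ _ := e2
    _ ≤ _ := e1
    _ = _ := by ring

include hG in
/-- The conjugates of mixed elements avoid the tilde set of every part. -/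
theorem mixed_avoid {Z N K₀ : Subgroup G} (h : IsPart Z N K₀) {z : G} (hz : z ∈ mixed Z) (g : G) :
    g * z * g⁻¹ ∉ tildeSet N := by
  have hI := inputs hG
  obtain ⟨hzZ, -, hmix⟩ := hz
  obtain ⟨p, hp, hpd, hpσ⟩ := hmix N h.coatom
  obtain ⟨k, hk, c, hc, rfl⟩ := h.exists_mul hzZ
  have hk1 : k ≠ 1 := fun e => hpσ (by
    rw [e, one_mul] at hpd
    exact mem_sigma_of_mem_sigmaCore hc.1 hp hpd)
  by_cases hc1 : c = 1
  · rintro ⟨g', x, hx, hx1, r, hr, he⟩
    obtain ⟨q, hq, hqd⟩ := Nat.exists_prime_and_dvd (n := orderOf x) fun e => hx1 (orderOf_eq_one_iff.mp e)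
    have hqσ := mem_sigma_of_mem_sigmaCore hx hq hqd
    obtain ⟨hxr, -⟩ := supportR_spec hG hI h.coatom hx hx1 hr
    have hcop : (orderOf x).Coprime (orderOf r) := Nat.coprime_of_dvd fun s hs h1 h2 =>
      not_mem_sigma_of_supportR hG hI h.coatom hx hx1 hr hs h2 (mem_sigma_of_mem_sigmaCore hx hs h1)
    have hord : orderOf (g * (k * c) * g⁻¹) = orderOf (g' * (x * r) * g'⁻¹) := congrArg orderOf he
    rw [show g * (k * c) * g⁻¹ = MulAut.conj g (k * c) from rfl,
      show g' * (x * r) * g'⁻¹ = MulAut.conj g' (x * r) from rfl, MulEquiv.orderOf_eq, MulEquiv.orderOf_eq,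
      hxr.orderOf_mul_eq_mul_orderOf_of_coprime hcop, hc1, mul_one] at hord
    exact h.not_sigma hk hq (hord ▸ hqd.mul_right _) hqσ
  · rw [(commute_of_mem hk hc).eq]
    exact not_mem_tildeSet hG hI h.coatom h.hall h.ne hk hk1 hc hc1 g

include hG in
/-- Mixed elements of `Z` are TI with normalizer `Z`. -/
theorem mixed_TI {Z : Subgroup G}
    (hparts : ∀ t : ℕ, t.Prime → t ∣ Nat.card Z → ∃ N K₀, IsPart Z N K₀ ∧ t ∈ Cfsg.sigma N)
    {g z : G} (hz : z ∈ mixed Z) (hz' : g * z * g⁻¹ ∈ mixed Z) : g ∈ Z := by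
  have hI := inputs hG
  obtain ⟨hzZ, hz1, hmix⟩ := hz
  obtain ⟨t, ht, htd⟩ := Nat.exists_prime_and_dvd (n := orderOf z) fun h => hz1 (orderOf_eq_one_iff.mp h)
  obtain ⟨N, K₀, h, htN⟩ := hparts t ht (htd.trans (Subgroup.orderOf_dvd_natCard _ hzZ))
  obtain ⟨p, hp, hpd, hpσ⟩ := hmix N h.coatom
  obtain ⟨k, hk, c, hc, rfl⟩ := h.exists_mul hzZ
  obtain ⟨k', hk', c', hc', he⟩ := h.exists_mul hz'.1
  have hkc := commute_of_mem hk hc
  have hcop : (orderOf k).Coprime (orderOf c) := Nat.coprime_of_dvd fun s hs h1 h2 =>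
    h.not_sigma hk hs h1 (mem_sigma_of_mem_sigmaCore hc.1 hs h2)
  have hord := hkc.orderOf_mul_eq_mul_orderOf_of_coprime hcop
  have hk1 : k ≠ 1 := fun e => hpσ (by
    rw [e, one_mul] at hpd
    exact mem_sigma_of_mem_sigmaCore hc.1 hp hpd)
  have hc1 : c ≠ 1 := fun e => by
    rw [e, mul_one] at htd
    exact h.not_sigma hk ht htd htN
  have hko : orderOf (g * k * g⁻¹) = orderOf k := MulEquiv.orderOf_eq (MulAut.conj g) k
  have hco : orderOf (g * c * g⁻¹) = orderOf c := MulEquiv.orderOf_eq (MulAut.conj g) c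
  have he' : g * c * g⁻¹ * (g * k * g⁻¹) = c' * k' := by
    rw [← (commute_of_mem hk' hc').eq, ← he,
      show g * c * g⁻¹ * (g * k * g⁻¹) = g * (c * k) * g⁻¹ by group, hkc.eq]
  have hceq : g * c * g⁻¹ = c' := by
    refine eq_of_parts (hkc.symm.map (MulAut.conj g)) (commute_of_mem hk' hc').symm he'
      (Nat.coprime_of_dvd fun s hs h1 h2 => ?_)
    simp only [MulAut.conj_apply, hko, hco] at h1 h2
    have hsσ : s ∈ Cfsg.sigma N := (hs.dvd_mul.mp h2).elim
      (mem_sigma_of_mem_sigmaCore hc.1 hs) (mem_sigma_of_mem_sigmaCore hc'.1 hs)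
    exact (hs.dvd_mul.mp h1).elim (fun h' => h.not_sigma hk hs h' hsσ) (fun h' => h.not_sigma hk' hs h' hsσ)
  have hgN : g ∈ N := mem_of_conj_kstar hG hI h.coatom h.hall h.ne hc hc1
    (hceq ▸ OddOrder38.sigmaCore_le N hc'.1)
  have hkeq : g * k * g⁻¹ = k' := mul_left_cancel (hceq ▸ he' : c' * (g * k * g⁻¹) = c' * k')
  rw [← h.eq]
  by_contra hnot
  have hbot := kappa_inf_conj hG hI h.coatom h.hall h.ne hgN hnot
  have hin : k' ∈ K₀ ⊓ cj g K₀ := ⟨hk', hkeq ▸ mem_cj_self.mpr hk⟩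
  rw [hbot, Subgroup.mem_bot, ← hkeq] at hin
  exact hk1 (by simpa using hin)

include hG in
/-- **BG 14.2 (a) / 14.7**: a Hall `κ(M)`-subgroup is cyclic. -/
theorem isCyclic_hall {M K : Subgroup G} (hM : IsCoatom M) (hK : Cfsg.IsPiHallOf (Cfsg.kappa M) K M) :
    IsCyclic K := by
  classical
  by_cases hKc : IsMulCommutative K
  · exact isCyclic_of_tauOne hG hM hK (kappaTauOne_of_comm hG hM hK hKc)
  exfalso
  rcases kappaTauOne_or M with h1 | ⟨p, hp, hd⟩
  · exact hKc (haveI := isCyclic_of_tauOne hG hM hK h1; IsCyclic.isMulCommutative)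
  obtain ⟨P, L, c, -⟩ := kappa_tau3 hG hM hK hp hd
  have hK1 : K ≠ ⊥ := fun h => hKc (h ▸ inferInstance)
  have hI := inputs hG
  set C := Cfsg.sigmaCore M ⊓ Subgroup.centralizer (K : Set G) with hC
  set Z := K ⊔ C with hZ
  have hMpart : IsPart Z M K := ⟨hM, hK, hK1, fun r hr hrd hrσ => by
    rw [← card_mul_relIndex_of_le c.compl.1, IsComplIn.relIndex_left c.compl] at hrd
    exact hK.2.1 r hr ((hr.dvd_mul.mp hrd).resolve_right
      fun h => hrσ (piNat_card_piCoreOf (Cfsg.sigma M) M r hr h)), rfl⟩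
  have hcard := card_part hG hMpart
  have hC1 : C ≠ ⊥ := OddOrder38.kstar_ne_bot hI hM hK hK1
  have hparts : ∀ t : ℕ, t.Prime → t ∣ Nat.card Z → ∃ N K₀, IsPart Z N K₀ ∧ t ∈ Cfsg.sigma N := by
    intro t ht htd
    rw [hcard] at htd
    have := Fact.mk ht
    rcases ht.dvd_mul.mp htd with h | h
    · obtain ⟨x, hx⟩ := exists_prime_orderOf_dvd_card' (G := K) t h
      have hXc : Nat.card (Subgroup.zpowers (x : G)) = t := prime_of_zpowers ((Subgroup.orderOf_coe x).trans hx)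
      obtain ⟨N, K₀, hpart, hσ⟩ :=
        exists_part hG hM hK c.compl hKc (Subgroup.zpowers_le.mpr x.2) (hXc.symm ▸ ht)
      exact ⟨N, K₀, hpart, hXc ▸ hσ⟩
    · exact ⟨M, K, hMpart, piNat_card_piCoreOf (Cfsg.sigma M) M t ht
        (h.trans (Subgroup.card_dvd_of_le inf_le_left))⟩
  haveI : Fintype (Subgroup G) := Fintype.ofFinite _
  let s : Finset (Subgroup G) := Finset.univ.filter fun D =>
    ∃ N K₀, IsPart Z N K₀ ∧ D = Cfsg.sigmaCore N ⊓ Subgroup.centralizer (K₀ : Set G)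
  have hs : ∀ D : s, ∃ N K₀, IsPart Z N K₀ ∧
      (D : Subgroup G) = Cfsg.sigmaCore N ⊓ Subgroup.centralizer (K₀ : Set G) := fun D =>
    (Finset.mem_filter.mp D.2).2
  choose N K₀ hpart hDeq using hs
  -- distinct parts have disjoint `σ`
  have hdis : ∀ D D' : s, D ≠ D' → ∀ t ∈ Cfsg.sigma (N D), t ∉ Cfsg.sigma (N D') := by
    intro D D' hne t ht ht'
    refine hne (Subtype.ext ?_)
    have he := sigma_eq_of_sigma hI.disjoint (hpart D).coatom (hpart D').coatom ht ht'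
    rw [hDeq D, hDeq D']
    refine le_antisymm (fun z hz => (hpart D').mem_of_sigma ((hpart D).le_Z hz) fun q hq hqd => ?_)
      (fun z hz => (hpart D).mem_of_sigma ((hpart D').le_Z hz) fun q hq hqd => ?_)
    · rw [he]; exact mem_sigma_of_mem_sigmaCore hz.1 hq hqd
    · rw [← he]; exact mem_sigma_of_mem_sigmaCore hz.1 hq hqd
  -- two parts
  have htwo : 2 ≤ s.card := by
    obtain ⟨t, x, ht, hx, hxo⟩ := exists_prime_elt hK1
    have := Fact.mk ht
    obtain ⟨N', K', hpart', htN⟩ := hparts t ht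
      ((hxo ▸ Subgroup.orderOf_dvd_natCard _ hx).trans (Subgroup.card_dvd_of_le (le_sup_left : K ≤ Z)))
    refine Finset.one_lt_card.mpr ⟨C, Finset.mem_filter.mpr ⟨Finset.mem_univ _, M, K, hMpart, rfl⟩, _,
      Finset.mem_filter.mpr ⟨Finset.mem_univ _, N', K', hpart', rfl⟩, fun he => ?_⟩
    obtain ⟨q, y, hq, hy, hyo⟩ := exists_prime_elt hC1
    have hqM := mem_sigma_of_mem_sigmaCore hy.1 hq (hyo.symm ▸ dvd_rfl)
    have hqN := mem_sigma_of_mem_sigmaCore (he ▸ hy).1 hq (hyo.symm ▸ dvd_rfl)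
    exact (hK.2.1 t ht (hxo ▸ Subgroup.orderOf_dvd_natCard _ hx)).2.2.1
      (sigma_eq_of_sigma hI.disjoint hM hpart'.coatom hqM hqN ▸ htN)
  set W := mixed Z with hW
  set TW := {a : G | ∃ g : G, ∃ z ∈ W, a = g * z * g⁻¹} with hTW
  have hinv : ∀ z ∈ W, ∀ w ∈ Z, w * z * w⁻¹ ∈ W := by
    intro z hz w hw
    refine ⟨mul_mem (mul_mem hw hz.1) (inv_mem hw), fun h => hz.2.1 (by simpa using h), fun L hL => ?_⟩
    obtain ⟨q, hq, hqd, hqσ⟩ := hz.2.2 L hL
    exact ⟨q, hq, by rwa [show orderOf (w * z * w⁻¹) = orderOf z from MulEquiv.orderOf_eq (MulAut.conj w) z], hqσ⟩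
  have hcount := card_conjugates_of_invariant hinv fun g z hz hz' => mixed_TI hG hparts hz hz'
  -- `Z` is covered
  have hcover : Nat.card Z ≤ W.ncard + 1 + ∑ D : s, (Nat.card (D : Subgroup G) - 1) := by
    have hsub : (Z : Set G) ⊆ (W ∪ {1}) ∪ ⋃ D ∈ (Finset.univ : Finset s), (((D : Subgroup G) : Set G) \ {1}) := by
      intro z hz
      by_cases hz1 : z = 1
      · exact Or.inl (Or.inr hz1)
      by_cases hm : ∀ L : Subgroup G, IsCoatom L → ∃ q : ℕ, q.Prime ∧ q ∣ orderOf z ∧ q ∉ Cfsg.sigma L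
      · exact Or.inl (Or.inl ⟨hz, hz1, hm⟩)
      push Not at hm
      obtain ⟨L', hL', hσ⟩ := hm
      obtain ⟨t, ht, htd⟩ := Nat.exists_prime_and_dvd (n := orderOf z) fun h => hz1 (orderOf_eq_one_iff.mp h)
      obtain ⟨N', K', hpart', htN⟩ := hparts t ht (htd.trans (Subgroup.orderOf_dvd_natCard _ hz))
      refine Or.inr ?_
      simp only [Set.mem_iUnion]
      refine ⟨⟨_, Finset.mem_filter.mpr ⟨Finset.mem_univ _, N', K', hpart', rfl⟩⟩, Finset.mem_univ _, ?_, hz1⟩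
      exact hpart'.mem_of_sigma hz fun q hq hqd =>
        sigma_eq_of_sigma hI.disjoint hL' hpart'.coatom (hσ t ht htd) htN ▸ hσ q hq hqd
    have e : Nat.card Z = (Z : Set G).ncard := Nat.card_coe_set_eq _
    rw [e]
    refine (Set.ncard_le_ncard hsub).trans ((Set.ncard_union_le _ _).trans (Nat.add_le_add
      ((Set.ncard_union_le _ _).trans (by rw [Set.ncard_singleton])) ((Finset.set_ncard_biUnion_le _ _).trans
        (le_of_eq (Finset.sum_congr rfl fun D _ => ?_)))))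
    rw [Set.ncard_sdiff_singleton_of_mem (one_mem _)]
    rfl
  -- the sets are disjoint
  have hsum : ∑ D : s, (tildeSet (N D)).ncard + TW.ncard ≤ Nat.card G := by
    have hpair : ∀ t : Finset s, ∑ D ∈ t, (tildeSet (N D)).ncard = (⋃ D ∈ t, tildeSet (N D)).ncard := by
      intro t
      induction t using Finset.induction_on with
      | empty => simp
      | insert D t hD ih =>
        rw [Finset.sum_insert hD, ih, Finset.set_biUnion_insert, Set.ncard_union_eq]
        simp only [Set.disjoint_iUnion_right]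
        intro D' hD'
        exact tildeSet_disjoint hG hI (hpart D).coatom (hpart D').coatom
          (hdis D D' fun h => hD (h ▸ hD'))
    rw [hpair, ← Set.ncard_union_eq]
    · exact Set.ncard_le_card _
    simp only [Set.disjoint_iUnion_left]
    intro D _
    refine Set.disjoint_right.mpr ?_
    rintro a ⟨g, z, hz, rfl⟩
    exact mixed_avoid hG (hpart D) hz g
  have hper : ∑ D : s, Nat.card G * (3 * (Nat.card (D : Subgroup G) - 1) + 2) ≤
      3 * Nat.card Z * ∑ D : s, (tildeSet (N D)).ncard := by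
    rw [Finset.mul_sum]
    refine Finset.sum_le_sum fun D _ => ?_
    rw [hDeq D]
    exact part_count hG (hpart D)
  rw [← Finset.mul_sum, Finset.sum_add_distrib, ← Finset.mul_sum, Finset.sum_const, Finset.card_univ,
    Fintype.card_coe, smul_eq_mul] at hper
  nlinarith only [hper, hcount, Nat.mul_le_mul_left (3 * Nat.card Z) hsum,
    Nat.mul_le_mul_left (3 * Nat.card G) hcover, Nat.mul_le_mul_left (Nat.card G) htwo,
    Nat.card_pos (α := G)]

end CfsgLib.OddOrder41.Hall14
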