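import Mathlib
import Cfsg.Agent.Lib.OddOrder41.Sigma14Cyclic

/-!
# `PropKappaCyclic` as a theorem
-/

set_option autoImplicit false

namespace CfsgLib.OddOrder41.Hall14

universe u

variable {G : Type u} [Group G] [Finite G] (hG : Cfsg.IsMinSimpleOddOrder G)

include hG in
theorem propKappaCyclic : OddOrder38.PropKappaCyclic G := fun _ hM =>
  ⟨exists_hall hG hM, fun _ hK => isCyclic_hall hG hM hK⟩

end CfsgLib.OddOrder41.Hall14
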