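import Mathlib
import Cfsg.Agent.Lib.OddOrder41.Sigma13Tau1

/-!
# BG 12.13 -- 13.4 in the form of the statements, given BG 12.2, 12.5, 12.6, 12.11
-/

set_option autoImplicit false

namespace CfsgLib.OddOrder41.Final

open Subgroup CfsgLib.OddOrder CfsgLib.OddOrder.Transitivity

universe u

variable {G : Type u} [Group G] [Finite G] (hG : Cfsg.IsMinSimpleOddOrder G)
  (h2 : PropRankTwoInMaximal G) (h5 : PropTauTwoStructure G) (h6 : PropTauTwoInComplement G)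
  (h12 : PropSigmaPrimeNilpotent G)

include hG h2 h12 in
theorem s1422 (p : ℕ) [Fact p.Prime] (P : Subgroup G) (hP : IsPGroup p P) (hPna : ¬ IsMulCommutative P) :
    Cfsg.InUniqueMaximal P := inUnique_of_not_comm hG h2 h12 hP hPna

include hG h2 h12 in
theorem s1423 (M : Subgroup G) (hM : IsCoatom M) (p : ℕ) [Fact p.Prime] (hp : p ∈ Cfsg.sigma M)
    (X : Subgroup G) (hXM : X ≤ M) (hX : Nat.card X = p) (P : Sylow p ↥(Cfsg.sigmaCore M))
    (h : p ∈ Cfsg.beta M ∨ X ≤ ⁅Cfsg.sigmaCore M, Cfsg.sigmaCore M⁆) :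
    (Subgroup.centralizer (X : Set G) ≤ M ∧ ∀ L : Subgroup G, IsCoatom L → Subgroup.centralizer (X : Set G) ≤ L → L = M) ∧ Cfsg.InUniqueMaximal ((P : Subgroup ↥(Cfsg.sigmaCore M)).map (Cfsg.sigmaCore M).subtype) ∧
      (P : Subgroup ↥(Cfsg.sigmaCore M)).map (Cfsg.sigmaCore M).subtype ≤ M :=
  centralizer_unique hG h2 h12 hM hp hXM hX (sylowOf_map P) h

include hG h12 in
theorem s1424 (M : Subgroup G) (hM : IsCoatom M) (q : ℕ) [Fact q.Prime] (hq : q ∈ Cfsg.sigma M)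
    (X : Subgroup G) (hXq : IsPGroup q X) (hX1 : X ≠ ⊥) (hXM : X ≤ M)
    (Mstar : Subgroup G) (_ : IsCoatom Mstar) (hne : Mstar ≠ M) (hNX : Subgroup.normalizer (X : Set G) ≤ Mstar)
    (S : Sylow q ↥(M ⊓ Mstar)) (hXS : X ≤ (S : Subgroup ↥(M ⊓ Mstar)).map (M ⊓ Mstar).subtype) :
    (∀ g : G, Mstar ≠ M.map (MulAut.conj g).toMonoidHom) ∧
      Subgroup.normalizer (((S : Subgroup ↥(M ⊓ Mstar)).map (M ⊓ Mstar).subtype : Subgroup G) : Set G) ≤ M ∧
      ¬ q ∣ ((S : Subgroup ↥(M ⊓ Mstar)).map (M ⊓ Mstar).subtype).relIndex Mstar :=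
  ⟨partner_not_conj hG hM hq hXq hX1 hXM hne hNX,
    (partner_sylow hG hM hq hNX h12 (sylowOf_map S) hXS).1,
    not_dvd_relIndex_of_sylowOf (partner_sylow hG hM hq hNX h12 (sylowOf_map S) hXS).2⟩

include hG h5 h6 h12 in
theorem s1425 (M : Subgroup G) (hM : IsCoatom M) (Y : Subgroup G) (hY1 : Y ≠ ⊥)
    (hY : ∀ p : ℕ, p.Prime → p ∣ Nat.card Y → p ∈ Cfsg.sigma M) :
    ∃ g : G, Y.map (MulAut.conj g).toMonoidHom ≤ Cfsg.sigmaCore M :=
  sigma_subgroup_conj hG h5 h6 h12 hM hY1 hY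

include hG h2 h12 in
theorem s1426 (M : Subgroup G) (hM : IsCoatom M) (E : Subgroup G)
    (hE : Cfsg.IsComplIn E (Cfsg.sigmaCore M) M) :
    Cfsg.sigmaCore M ⊓ Subgroup.centralizer (E : Set G) ≤ ⁅Cfsg.sigmaCore M, Cfsg.sigmaCore M⁆ ∧
      ⁅Cfsg.sigmaCore M, E⁆ = Cfsg.sigmaCore M ∧
      ∀ g : G, g ∉ M → IsCyclic ↥(Cfsg.sigmaCore M ⊓ M.map (MulAut.conj g).toMonoidHom) ∧
        (∀ p : ℕ, p.Prime → p ∣ Nat.card ↥(Cfsg.sigmaCore M ⊓ M.map (MulAut.conj g).toMonoidHom) → p ∉ Cfsg.beta M) ∧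
        Cfsg.sigmaCore M ⊓ M.map (MulAut.conj g).toMonoidHom ⊓ ⁅Cfsg.sigmaCore M, Cfsg.sigmaCore M⁆ = ⊥ :=
  ⟨sigmaCore_inf_centralizer_le hG hM hE, commutator_sigmaCore_compl hG hM hE,
    fun _ hg => sigmaCore_inter_conj hG hM h2 h12 hg⟩

include hG h2 h5 h6 h12 in
theorem s1427 (M : Subgroup G) (hM : IsCoatom M) (E : Subgroup G)
    (hE : Cfsg.IsComplIn E (Cfsg.sigmaCore M) M) (p : ℕ) [hp : Fact p.Prime] (S : Sylow p E)
    (hS1 : (S : Subgroup E) ≠ ⊥) (hSc : IsCyclic (S : Subgroup E)) :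
    ∀ x ∈ (S : Subgroup E).map E.subtype, x ≠ 1 →
        Cfsg.sigmaCore M ⊓ Subgroup.centralizer ({x} : Set G) = Cfsg.sigmaCore M ⊓ Subgroup.centralizer (((S : Subgroup E).map E.subtype : Subgroup G) : Set G) := by
  intro x hx hx1
  set S' := (S : Subgroup E).map E.subtype with hS'
  have hS'p : IsPGroup p S' := S.isPGroup'.map _
  have hpd : p ∣ Nat.card E := (Uniq.prime_dvd_card S.isPGroup' hS1).trans (Subgroup.card_subgroup_dvd_card _)
  have hpσ : p ∉ Cfsg.sigma M := Sigma10.not_mem_sigma_of_dvd_compl hG hM hE hp.out hpd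
  have hc : IsCyclic S' := isCyclic_of_injective (G' := (S : Subgroup E))
    ((Subgroup.equivMapOfInjective (S : Subgroup E) E.subtype E.subtype_injective).symm.toMonoidHom)
    (MulEquiv.injective _)
  refine le_antisymm (le_inf inf_le_left ?_) (inf_le_inf_left _ (Subgroup.centralizer_le ?_))
  · obtain ⟨y, hy⟩ : ∃ y : Subgroup.zpowers x, orderOf y = p := exists_prime_orderOf_dvd_card' p
      (Uniq.prime_dvd_card (hS'p.to_le (Subgroup.zpowers_le.mpr hx)) (Subgroup.zpowers_ne_bot.mpr hx1))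
    refine le_trans (inf_le_inf_left _ ?_) (centralizes_of_cyclic_sylow hG h2 h5 h6 h12 hM hpσ
      (sylowOf_of_compl hG hM hE (sylowOf_map S) hpσ) hc (X := Subgroup.zpowers (y : G))
      ((Subgroup.zpowers_le.mpr y.2).trans (Subgroup.zpowers_le.mpr hx))
      (by rw [Nat.card_zpowers, Subgroup.orderOf_coe, hy]))
    rw [← centralizer_zpowers x]
    exact Subgroup.centralizer_le (Subgroup.zpowers_le.mpr y.2)
  · exact Set.singleton_subset_iff.mpr hx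

include hG h2 h5 h6 h12 in
theorem s1428 (M : Subgroup G) (hM : IsCoatom M) (E : Subgroup G)
    (hE : Cfsg.IsComplIn E (Cfsg.sigmaCore M) M) (p : ℕ) (hp : p ∈ Cfsg.tau1 M) (P : Subgroup G)
    (hPE : P ≤ E) (hP : Nat.card P = p) (R : Subgroup G)
    (hRE : R ≤ E ⊓ Subgroup.centralizer (P : Set G)) (hR : (Nat.card R).Prime) :
    Cfsg.sigmaCore M ⊓ Subgroup.centralizer (P : Set G) ≤ Cfsg.sigmaCore M ⊓ Subgroup.centralizer (R : Set G) :=
  centralizer_le_of_tau1 hG h2 h5 h6 h12 hM hE hp hPE hP hRE hR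

end CfsgLib.OddOrder41.Final
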