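import Cfsg.Agent.Lib.OddOrder41.SmallOmega
import Cfsg.Agent.Lib.OddOrder41.RankTwoStructure

set_option autoImplicit false

/-! Blackburn's theorem (BG 4.16): rank-two `p`-groups moved by a coprime group of odd order. -/

namespace CfsgLib.OddOrder41

open scoped commutatorElement

/-- In a group of order `p ^ 3` and exponent `p` with centre of order `p`, commutators are central. -/
theorem commutator_le_center_of_cube {Q : Type*} [Group Q] [Finite Q] {p : ℕ} [hp : Fact p.Prime]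
    (hQ : Nat.card Q = p ^ 3) (hZ : Nat.card (Subgroup.center Q) = p) :
    commutator Q ≤ Subgroup.center Q := by
  have h : Nat.card (Q ⧸ Subgroup.center Q) = p ^ 2 := by
    have h1 := (Subgroup.center Q).card_mul_index
    rw [hQ, hZ, Subgroup.index_eq_card, pow_succ' p 2] at h1
    exact Nat.eq_of_mul_eq_mul_left hp.out.pos h1
  haveI := IsPGroup.isMulCommutative_of_card_eq_prime_sq h
  rw [commutator_def, Subgroup.commutator_le]
  intro x _ y _
  refine (QuotientGroup.eq_one_iff _).mp ?_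
  show QuotientGroup.mk' (Subgroup.center Q) ⁅x, y⁆ = 1
  rw [map_commutatorElement, commutatorElement_eq_one_iff_commute]
  exact (inferInstance : IsMulCommutative (Q ⧸ Subgroup.center Q)).is_comm.comm _ _

/-- BG 4.16, for an automorphism action. -/
theorem moved_rank_two_structure {R : Type*} [Group R] [Finite R] {p : ℕ} [hp : Fact p.Prime] (hp3 : 3 < p)
    (hR : IsPGroup p R) (hrk : ∀ E : Subgroup R, Cfsg.IsElementaryAbelian p E → Nat.card E ≤ p ^ 2)
    {A : Type*} [Group A] [Finite A] (hodd : Odd (Nat.card A)) (hcop : (Nat.card A).Coprime p)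
    (φ : A →* MulAut R)
    (hgen : Subgroup.closure {g : R | ∃ (a : A) (x : R), g = x⁻¹ * φ a x} = ⊤) :
    IsMulCommutative R ∨ ∃ R₁ R₂ : Subgroup R, R₁ ⊔ R₂ = ⊤ ∧ (∀ a ∈ R₁, ∀ b ∈ R₂, a * b = b * a) ∧
      ¬ IsMulCommutative R₁ ∧ Nat.card R₁ = p ^ 3 ∧ Monoid.exponent R₁ = p ∧ IsCyclic R₂ ∧
      Subgroup.closure {x : R | x ∈ R₂ ∧ x ^ p = 1} = ⁅R₁, R₁⁆ := by
  classical
  have hp2 : p ≠ 2 := by omega
  haveI : Group.IsNilpotent R := hR.isNilpotent
  haveI : Fintype A := Fintype.ofFinite A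
  let Q : Subgroup R :=
    { carrier := {x | x ^ p = 1}
      one_mem' := one_pow p
      mul_mem' := fun {x y} hx hy => CfsgLib.SmallRank.mul_pow_eq_one_rank_two hp3 _ R rfl hR hrk x y hx hy
      inv_mem' := fun {x} hx => by
        show x⁻¹ ^ p = 1
        rw [inv_pow, hx, inv_one] }
  have hQexp : ∀ q : Q, q ^ p = 1 := fun q => Subtype.ext (by rw [SubgroupClass.coe_pow]; exact q.2)
  have hQ3 : Nat.card Q ≤ p ^ 3 := by
    refine CfsgLib.SmallRank.card_le_of_exponent_rank_two hQexp fun E hE => ?_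
    rw [← Subgroup.card_map_of_injective Q.subtype_injective]
    exact hrk _ (CfsgLib.OddOrder.elemAb_map hE Q.subtype)
  by_cases hQlt : Nat.card Q < p ^ 3
  · exact Or.inl (moved_abelian_of_noExpCube hp3 hR
      (fun S hS => lt_of_le_of_lt (Subgroup.card_le_of_le (fun x hx => hS x hx : S ≤ Q)) hQlt) hcop φ hgen)
  have hQ3 : Nat.card Q = p ^ 3 := le_antisymm hQ3 (not_lt.mp hQlt)
  haveI hQn : Q.Normal := ⟨fun x hx g => by
    show (g * x * g⁻¹) ^ p = 1
    rw [conj_pow, (hx : x ^ p = 1)]; group⟩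
  have hQφ : ∀ (a : A) (x : R), x ∈ Q → φ a x ∈ Q := fun a x hx => by
    show (φ a x) ^ p = 1
    rw [← map_pow, (hx : x ^ p = 1), map_one]
  have hQna : ∀ E : Subgroup R, E ≤ Q → IsMulCommutative E → Nat.card E ≤ p ^ 2 :=
    fun E hE hEc => hrk E ⟨hEc, fun x hx => hE hx⟩
  -- the centre of `Q`
  set Zq : Subgroup R := Q ⊓ Subgroup.centralizer (Q : Set R) with hZq
  have hZqcomm : IsMulCommutative Zq :=
    ⟨⟨fun a b => Subtype.ext (Subgroup.mem_centralizer_iff.mp b.2.2 a a.2.1)⟩⟩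
  have hZqe : Cfsg.IsElementaryAbelian p Zq := ⟨hZqcomm, fun x hx => hx.1⟩
  have hZqne : Zq ≠ ⊥ := by
    obtain ⟨z, hz, hz1, hzc⟩ := exists_central_step Q ⊥ (fun h => by
      rw [le_bot_iff] at h
      rw [h, Subgroup.card_bot] at hQ3
      exact (Nat.one_lt_pow (by norm_num) hp.out.one_lt).ne hQ3)
    intro h
    refine hz1 (h ▸ ⟨hz, Subgroup.mem_centralizer_iff.mpr fun q _ => ?_⟩)
    exact (commutatorElement_eq_one_iff_commute.mp (Subgroup.mem_bot.mp (hzc q))).symm.eq
  have hZqcard : Nat.card Zq = p := by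
    obtain ⟨k, hk⟩ := IsPGroup.iff_card.mp (hR.to_subgroup Zq)
    have hk2 : k ≤ 2 := (Nat.pow_le_pow_iff_right hp.out.one_lt).mp (hk ▸ hQna Zq inf_le_left hZqcomm)
    have hk0 : k ≠ 0 := fun h0 => hZqne (Subgroup.card_eq_one.mp (by rw [hk, h0, pow_zero]))
    rcases (show k = 1 ∨ k = 2 by omega) with rfl | rfl
    · rw [hk, pow_one]
    exfalso
    obtain ⟨y, hy, hyZ⟩ : ∃ y ∈ Q, y ∉ Zq := by
      by_contra hcon
      push Not at hcon
      have := Subgroup.card_le_of_le (show Q ≤ Zq from hcon)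
      rw [hQ3, hk] at this
      exact absurd this (not_le.mpr (Nat.pow_lt_pow_right hp.out.one_lt (by norm_num)))
    have hE := CfsgLib.OddOrder.elemAb_sup_zpowers hZqe (x := y) hy
      (Subgroup.mem_centralizer_iff.mpr fun z hz => (Subgroup.mem_centralizer_iff.mp hz.2 y hy).symm)
    have h1 := hrk _ hE
    have hlt : Nat.card Zq < Nat.card ↥(Zq ⊔ Subgroup.zpowers y) :=
      lt_of_le_of_ne (Subgroup.card_le_of_le le_sup_left) fun h => hyZ
        ((Subgroup.eq_of_le_of_card_ge le_sup_left h.ge).symm ▸ (le_sup_right (a := Zq) (Subgroup.mem_zpowers y)))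
    omega
  have hQna' : ¬ IsMulCommutative Q := fun h => by
    have := hQna Q le_rfl h
    rw [hQ3] at this
    exact absurd this (not_le.mpr (Nat.pow_lt_pow_right hp.out.one_lt (by norm_num)))
  have hcQ : ∀ x ∈ Q, ∀ y ∈ Q, ⁅x, y⁆ ∈ Zq := by
    intro x hx y hy
    have hcZ : Nat.card (Subgroup.center Q) = p := by
      rw [← hZqcard, ← Subgroup.card_map_of_injective Q.subtype_injective]
      congr 2
      ext z
      constructor
      · rintro ⟨w, hw, rfl⟩
        exact ⟨w.2, Subgroup.mem_centralizer_iff.mpr fun v hv =>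
          congrArg Subtype.val (Subgroup.mem_center_iff.mp hw ⟨v, hv⟩)⟩
      · rintro ⟨hz, hzc⟩
        exact ⟨⟨z, hz⟩, Subgroup.mem_center_iff.mpr fun v =>
          Subtype.ext (Subgroup.mem_centralizer_iff.mp hzc v v.2), rfl⟩
    have h := commutator_le_center_of_cube hQ3 hcZ
      (Subgroup.commutator_mem_commutator (Subgroup.mem_top (⟨x, hx⟩ : Q)) (Subgroup.mem_top (⟨y, hy⟩ : Q)))
    exact ⟨(Q.mul_mem (Q.mul_mem (Q.mul_mem hx hy) (Q.inv_mem hx)) (Q.inv_mem hy)),
      Subgroup.mem_centralizer_iff.mpr fun v hv =>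
        congrArg Subtype.val (Subgroup.mem_center_iff.mp h ⟨v, hv⟩)⟩
  -- the centraliser of `Q`
  set C₀ := Subgroup.centralizer (Q : Set R) with hC₀
  have hC₀Q : ∀ c ∈ C₀, ∀ q ∈ Q, c * q = q * c := fun c hc q hq =>
    (Subgroup.mem_centralizer_iff.mp hc q hq).symm
  have hC₀φ : ∀ (a : A) (x : R), x ∈ C₀ → φ a x ∈ C₀ := fun a x hx =>
    Subgroup.mem_centralizer_iff.mpr fun q hq => by
      have h := hC₀Q x hx _ (hQφ a⁻¹ q hq)
      have h' := congrArg (φ a) h
      rw [map_mul, map_mul, ← MulAut.mul_apply, ← map_mul, mul_inv_cancel, map_one, MulAut.one_apply] at h'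
      exact h'.symm
  haveI hC₀cyc : IsCyclic C₀ := by
    refine CfsgLib.Isolated.isCyclic_of_small_abelian hp2 (hR.to_subgroup C₀) fun B _ hBp => ?_
    rw [← hZqcard, ← Subgroup.card_map_of_injective C₀.subtype_injective]
    refine Subgroup.card_le_of_le ?_
    rintro _ ⟨z, hz, rfl⟩
    exact ⟨congrArg Subtype.val (hBp z hz), z.2⟩
  obtain ⟨⟨c, hc⟩, hcgen⟩ := hC₀cyc.exists_generator
  have hC₀gen : ∀ z ∈ C₀, ∃ i : ℤ, c ^ i = z := fun z hz => by
    obtain ⟨i, hi⟩ := Subgroup.mem_zpowers_iff.mp (hcgen ⟨z, hz⟩)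
    exact ⟨i, congrArg Subtype.val hi⟩
  have hC₀Z : C₀ ≤ Subgroup.center R := by
    have hall : (⊤ : Subgroup R) ≤ Subgroup.centralizer (C₀ : Set R) := by
      rw [← hgen, Subgroup.closure_le]
      rintro g ⟨a, x, rfl⟩
      rw [SetLike.mem_coe, Subgroup.mem_centralizer_iff]
      intro z hz
      have hn : C₀.Normal := inferInstance
      obtain ⟨i, hi⟩ := hC₀gen _ (hn.conj_mem c hc x)
      have hi' : MulAut.conj x c = c ^ i := hi.symm
      have e1 : ∀ w ∈ C₀, x * w * x⁻¹ = w ^ i := fun w hw => by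
        obtain ⟨n, rfl⟩ := hC₀gen w hw
        show MulAut.conj x (c ^ n) = _
        rw [map_zpow, hi', ← zpow_mul, ← zpow_mul, mul_comm]
      have e3 : φ a x * z * (φ a x)⁻¹ = x * z * x⁻¹ := by
        obtain ⟨z', hz', rfl⟩ : ∃ z' ∈ C₀, φ a z' = z :=
          ⟨φ a⁻¹ z, hC₀φ a⁻¹ z hz, by rw [← MulAut.mul_apply, ← map_mul, mul_inv_cancel, map_one, MulAut.one_apply]⟩
        rw [← map_inv, ← map_mul, ← map_mul, e1 z' hz', map_zpow, e1 _ (hC₀φ a z' hz')]
      calc z * (x⁻¹ * φ a x) = x⁻¹ * (x * z * x⁻¹) * φ a x := by group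
        _ = x⁻¹ * (φ a x * z * (φ a x)⁻¹) * φ a x := by rw [e3]
        _ = x⁻¹ * φ a x * z := by group
    exact fun z hz => Subgroup.mem_center_iff.mpr fun g =>
      (Subgroup.mem_centralizer_iff.mp (hall (Subgroup.mem_top g)) z hz).symm
  have hZqZ : Zq ≤ Subgroup.center R := inf_le_right.trans hC₀Z
  haveI hZqn : Zq.Normal := inferInstance
  set M := Q ⊔ C₀ with hM
  have hexpQ : Monoid.exponent Q = p := by
    haveI : Nontrivial Q := Finite.one_lt_card_iff_nontrivial.mp (by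
      rw [hQ3]; exact Nat.one_lt_pow (by norm_num) hp.out.one_lt)
    exact ((Nat.dvd_prime hp.out).mp (Monoid.exponent_dvd_of_forall_pow_eq_one hQexp)).resolve_left
      fun h1 => (not_subsingleton Q) (Monoid.exp_eq_one_iff.mp h1)
  by_cases hMtop : M = ⊤
  · refine Or.inr ⟨Q, C₀, hMtop, fun a ha b hb => (hC₀Q b hb a ha).symm, hQna', hQ3, hexpQ, hC₀cyc, ?_⟩
    have h1 : Subgroup.closure {x : R | x ∈ C₀ ∧ x ^ p = 1} = Zq := by
      refine le_antisymm ((Subgroup.closure_le _).mpr fun x hx => ⟨hx.2, hx.1⟩) ?_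
      exact fun x hx => Subgroup.subset_closure ⟨hx.2, hx.1⟩
    rw [h1]
    refine (Subgroup.eq_of_le_of_card_ge ((Subgroup.commutator_le).mpr hcQ) ?_).symm
    obtain ⟨k, hk⟩ := IsPGroup.iff_card.mp (hR.to_subgroup ⁅Q, Q⁆)
    rw [hZqcard, hk]
    refine Nat.le_self_pow (fun h0 => hQna' ⟨⟨fun x y => Subtype.ext ?_⟩⟩) p
    rw [h0, pow_zero] at hk
    have := Subgroup.commutator_mem_commutator x.2 y.2
    rw [Subgroup.card_eq_one.mp hk, Subgroup.mem_bot] at this
    exact (commutatorElement_eq_one_iff_commute.mp this).eq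
  exfalso
  set q₁ := QuotientGroup.mk' Zq with hq₁
  let L : Subgroup R := Q ⊓ (Subgroup.center (R ⧸ Zq)).comap q₁
  have hLmem : ∀ x, x ∈ L ↔ x ∈ Q ∧ ∀ g : R, ⁅x, g⁆ ∈ Zq := by
    intro x
    constructor
    · rintro ⟨h1, h2⟩
      refine ⟨h1, fun g => (QuotientGroup.eq_one_iff _).mp ?_⟩
      show q₁ ⁅x, g⁆ = 1
      rw [map_commutatorElement, commutatorElement_eq_one_iff_commute]
      exact (Subgroup.mem_center_iff.mp h2 (q₁ g)).symm
    · rintro ⟨h1, h2⟩
      refine ⟨h1, Subgroup.mem_center_iff.mpr fun g => ?_⟩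
      obtain ⟨g, rfl⟩ := QuotientGroup.mk'_surjective Zq g
      have : q₁ ⁅x, g⁆ = 1 := (QuotientGroup.eq_one_iff _).mpr (h2 g)
      rw [map_commutatorElement, commutatorElement_eq_one_iff_commute] at this
      exact this.symm.eq
  haveI hLn : L.Normal := inferInstance
  have hZqL : Zq ≤ L := fun z hz => (hLmem z).mpr ⟨hz.1, fun g => by
    rw [commutatorElement_eq_one_iff_commute.mpr (Subgroup.mem_center_iff.mp (hZqZ hz) g).symm]
    exact one_mem _⟩
  -- elements acting trivially on `Q / Zq` lie in `M`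
  have hswap : ∀ x g : R, ⁅x, g⁆ ∈ Zq → ⁅g, x⁆ ∈ Zq := fun x g h => by
    rw [← commutatorElement_inv x g]; exact Zq.inv_mem h
  let Hs : Subgroup R :=
    { carrier := {g | ∀ q ∈ Q, ⁅g, q⁆ ∈ Zq}
      one_mem' := fun q _ => by rw [commutatorElement_one_left]; exact one_mem _
      mul_mem' := fun {g h} hg hh q hq => by
        rw [CfsgLib.PGroup.commutatorElement_mul_left_of_central g h q (hZqZ (hh q hq))]
        exact Zq.mul_mem (hg q hq) (hh q hq)
      inv_mem' := fun {g} hg q hq => by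
        have h1 : ⁅g⁻¹, q⁆ = g⁻¹ * ⁅g, q⁆⁻¹ * g := by simp only [commutatorElement_def]; group
        rw [h1]
        simpa using hZqn.conj_mem _ (Zq.inv_mem (hg q hq)) g⁻¹ }
  have hMHs : M ≤ Hs := sup_le (fun g hg q hq => hcQ g hg q hq) fun g hg q hq => by
    rw [commutatorElement_eq_one_iff_commute.mpr (hC₀Q g hg q hq)]; exact one_mem _
  have hcardM : Nat.card M * p = p ^ 3 * Nat.card C₀ := by
    have h := CfsgLib.Coprime.card_sup_mul_card_inf (H := C₀) (N := Q) (by rw [Subgroup.normalizer_eq_top]; exact le_top)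
    rw [sup_comm C₀ Q, ← hM, ← hZq, hZqcard, hQ3] at h
    rw [h, mul_comm]
  -- a flag `Zq < L < Q`
  have hQnotZ : ¬ Q ≤ Zq := fun h => by
    have := Subgroup.card_le_of_le h
    rw [hQ3, hZqcard] at this
    exact absurd this (not_le.mpr (by simpa using Nat.pow_lt_pow_right hp.out.one_lt (show 1 < 3 by norm_num)))
  obtain ⟨x, hxQ, hxZ, hxc⟩ := exists_central_step Q Zq hQnotZ
  have hxL : x ∈ L := (hLmem x).mpr ⟨hxQ, hxc⟩
  have hgen2 : ∀ y ∈ Q, y ∉ Zq ⊔ Subgroup.zpowers x → Zq ⊔ Subgroup.zpowers x ⊔ Subgroup.zpowers y = Q := by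
    intro y hy hyn
    refine Subgroup.eq_of_le_of_card_ge (sup_le (sup_le inf_le_left (Subgroup.zpowers_le.mpr hxQ))
      (Subgroup.zpowers_le.mpr hy)) ?_
    set M₁ := Zq ⊔ Subgroup.zpowers x
    set M₂ := M₁ ⊔ Subgroup.zpowers y
    have h1 : Nat.card Zq < Nat.card M₁ := lt_of_le_of_ne (Subgroup.card_le_of_le le_sup_left) fun h => hxZ
      ((Subgroup.eq_of_le_of_card_ge le_sup_left h.ge).symm ▸ (le_sup_right (a := Zq) (Subgroup.mem_zpowers x)))
    have h2 : Nat.card M₁ < Nat.card M₂ := lt_of_le_of_ne (Subgroup.card_le_of_le le_sup_left) fun h => hyn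
      ((Subgroup.eq_of_le_of_card_ge le_sup_left h.ge).symm ▸ (le_sup_right (a := M₁) (Subgroup.mem_zpowers y)))
    obtain ⟨i, hi⟩ := IsPGroup.iff_card.mp (hR.to_subgroup M₁)
    obtain ⟨j, hj⟩ := IsPGroup.iff_card.mp (hR.to_subgroup M₂)
    rw [hZqcard, hi] at h1
    rw [hi, hj] at h2
    have hij := (Nat.pow_lt_pow_iff_right hp.out.one_lt).mp h2
    have hi1 : 1 < i := (Nat.pow_lt_pow_iff_right hp.out.one_lt).mp (by rwa [pow_one])
    rw [hQ3, hj]
    exact Nat.pow_le_pow_right hp.out.pos (by omega)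
  obtain ⟨y₀, hy₀Q, hy₀n⟩ : ∃ y ∈ Q, y ∉ Zq ⊔ Subgroup.zpowers x := by
    by_contra hcon
    push Not at hcon
    refine hQna' ⟨⟨fun a b => Subtype.ext ?_⟩⟩
    have : Zq ⊔ Subgroup.zpowers x ≤ Subgroup.centralizer ({x} : Set R) :=
      sup_le (fun z hz => Subgroup.mem_centralizer_singleton_iff.mpr
        (Subgroup.mem_center_iff.mp (hZqZ hz) x).symm)
        (Subgroup.zpowers_le.mpr (Subgroup.mem_centralizer_singleton_iff.mpr rfl))
    have hab : Zq ⊔ Subgroup.zpowers x ≤ Subgroup.centralizer (Q : Set R) := by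
      refine sup_le inf_le_right (Subgroup.zpowers_le.mpr (Subgroup.mem_centralizer_iff.mpr fun v hv => ?_))
      exact (Subgroup.mem_centralizer_singleton_iff.mp (this (hcon v hv)))
    exact Subgroup.mem_centralizer_iff.mp (hab (hcon b b.2)) a a.2
  have hHsM : Hs ≤ M := by
    -- the two commutator maps with generators of `Q` have kernel `C₀`
    have hgenQ := hgen2 y₀ hy₀Q hy₀n
    let f : Hs →* Zq × Zq := MonoidHom.mk' (fun g => (⟨⁅(g : R), x⁆, g.2 x hxQ⟩, ⟨⁅(g : R), y₀⁆, g.2 y₀ hy₀Q⟩))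
      fun g h => Prod.ext
        (Subtype.ext (CfsgLib.PGroup.commutatorElement_mul_left_of_central _ _ _ (hZqZ (h.2 x hxQ))))
        (Subtype.ext (CfsgLib.PGroup.commutatorElement_mul_left_of_central _ _ _ (hZqZ (h.2 y₀ hy₀Q))))
    have hker : f.ker.map Hs.subtype ≤ C₀ := by
      rintro _ ⟨g, hg, rfl⟩
      have h1 : ⁅(g : R), x⁆ = 1 := congrArg (fun w : Zq × Zq => (w.1 : R)) hg
      have h2 : ⁅(g : R), y₀⁆ = 1 := congrArg (fun w : Zq × Zq => (w.2 : R)) hg
      have : Q ≤ Subgroup.centralizer ({(g : R)} : Set R) := by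
        rw [← hgenQ]
        refine sup_le (sup_le ?_ (Subgroup.zpowers_le.mpr ?_)) (Subgroup.zpowers_le.mpr ?_)
        · exact fun z hz => Subgroup.mem_centralizer_singleton_iff.mpr
            (Subgroup.mem_center_iff.mp (hZqZ hz) _).symm
        · exact Subgroup.mem_centralizer_singleton_iff.mpr (commutatorElement_eq_one_iff_commute.mp h1).symm.eq
        · exact Subgroup.mem_centralizer_singleton_iff.mpr (commutatorElement_eq_one_iff_commute.mp h2).symm.eq
      exact Subgroup.mem_centralizer_iff.mpr fun q hq => Subgroup.mem_centralizer_singleton_iff.mp (this hq)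
    have h1 : Nat.card Hs ≤ Nat.card C₀ * (p * p) := by
      rw [← f.ker.card_mul_index, Subgroup.index_ker]
      refine Nat.mul_le_mul ?_ ?_
      · rw [← Subgroup.card_map_of_injective Hs.subtype_injective]
        exact Subgroup.card_le_of_le hker
      · calc Nat.card f.range ≤ Nat.card (Zq × Zq) := Subgroup.card_le_card_group _
          _ = p * p := by rw [Nat.card_prod, hZqcard]
    refine (Subgroup.eq_of_le_of_card_ge hMHs ?_).ge
    refine Nat.le_of_mul_le_mul_right ?_ hp.out.pos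
    rw [hcardM]
    calc Nat.card Hs * p ≤ Nat.card C₀ * (p * p) * p := Nat.mul_le_mul_right p h1
      _ = p ^ 3 * Nat.card C₀ := by ring
  have hQL : ¬ Q ≤ L := fun h => hMtop (eq_top_iff.mpr fun g _ => hHsM fun q hq =>
    hswap q g (((hLmem q).mp (h hq)).2 g))
  obtain ⟨y, hyQ, hyL, hyc⟩ := exists_central_step Q L hQL
  have hLeq : L = Zq ⊔ Subgroup.zpowers x := by
    have hle : Zq ⊔ Subgroup.zpowers x ≤ L := sup_le hZqL (Subgroup.zpowers_le.mpr hxL)
    refine le_antisymm (fun l hl => ?_) hle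
    by_contra hln
    have := hgen2 l hl.1 hln
    exact hQL (this ▸ sup_le hle (Subgroup.zpowers_le.mpr hl))
  have hyn : y ∉ Zq ⊔ Subgroup.zpowers x := hLeq ▸ hyL
  have hQeq : L ⊔ Subgroup.zpowers y = Q := by rw [hLeq]; exact hgen2 y hyQ hyn
  have hLab : ∀ u ∈ L, ∀ v ∈ L, u * v = v * u := by
    have : L ≤ Subgroup.centralizer (L : Set R) := by
      conv_lhs => rw [hLeq]
      refine sup_le (fun z hz => Subgroup.mem_centralizer_iff.mpr fun w _ => Subgroup.mem_center_iff.mp (hZqZ hz) w)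
        (Subgroup.zpowers_le.mpr (Subgroup.mem_centralizer_iff.mpr fun w hw => ?_))
      rw [hLeq] at hw
      have : Zq ⊔ Subgroup.zpowers x ≤ Subgroup.centralizer ({x} : Set R) :=
        sup_le (fun z hz => Subgroup.mem_centralizer_singleton_iff.mpr
          (Subgroup.mem_center_iff.mp (hZqZ hz) x).symm)
          (Subgroup.zpowers_le.mpr (Subgroup.mem_centralizer_singleton_iff.mpr rfl))
      exact Subgroup.mem_centralizer_singleton_iff.mp (this hw)
    exact fun u hu v hv => (Subgroup.mem_centralizer_iff.mp (this hu) v hv).symm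
  -- `M` has index at most `p`
  let fy : R →* R ⧸ Zq := MonoidHom.mk' (fun g => q₁ ⁅g, y⁆) fun g h => by
    have e : ⁅g * h, y⁆ = g * ⁅h, y⁆ * g⁻¹ * ⁅g, y⁆ := by simp only [commutatorElement_def]; group
    have hL1 : ∀ k : R, ⁅k, y⁆ ∈ L := fun k => by rw [← commutatorElement_inv y k]; exact L.inv_mem (hyc k)
    have hcen := Subgroup.mem_center_iff.mp (hL1 h).2
    rw [e, map_mul, map_mul, map_mul, hcen (q₁ g), map_inv, mul_inv_cancel_right, ← map_mul]
    rw [map_mul]; exact (hcen _).symm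
  have hkerM : fy.ker ≤ M := by
    refine le_trans (fun g hg => ?_) hHsM
    have hgy : ⁅g, y⁆ ∈ Zq := (QuotientGroup.eq_one_iff _).mp hg
    intro v hv
    refine hswap v g ?_
    have : Q ≤ (Subgroup.centralizer ({q₁ g} : Set (R ⧸ Zq))).comap q₁ := by
      rw [← hQeq]
      refine sup_le ?_ (Subgroup.zpowers_le.mpr ?_)
      · exact fun l hl => Subgroup.mem_centralizer_singleton_iff.mpr (Subgroup.mem_center_iff.mp hl.2 _).symm
      · refine Subgroup.mem_centralizer_singleton_iff.mpr (commutatorElement_eq_one_iff_commute.mp ?_).eq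
        rw [← map_commutatorElement]
        exact (QuotientGroup.eq_one_iff _).mpr (hswap g y hgy)
    refine (QuotientGroup.eq_one_iff _).mp ?_
    show q₁ ⁅v, g⁆ = 1
    rw [map_commutatorElement, commutatorElement_eq_one_iff_commute]
    exact Subgroup.mem_centralizer_singleton_iff.mp (this hv)
  have hMidx : M.index = p := by
    have h1 : M.index ≤ p := by
      refine le_trans (Nat.le_of_dvd (Nat.pos_of_ne_zero Subgroup.index_ne_zero_of_finite)
        (Subgroup.index_dvd_of_le hkerM)) ?_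
      rw [Subgroup.index_ker]
      refine le_trans (Subgroup.card_le_of_le (K := L.map q₁) ?_) ?_
      · rintro _ ⟨g, rfl⟩
        exact ⟨⁅g, y⁆, by rw [← commutatorElement_inv y g]; exact L.inv_mem (hyc g), rfl⟩
      · rw [hLeq, Subgroup.map_sup, MonoidHom.map_zpowers]
        have : Zq.map q₁ = ⊥ := by rw [Subgroup.map_eq_bot_iff, hq₁, QuotientGroup.ker_mk']
        rw [this, bot_sup_eq, Nat.card_zpowers]
        refine Nat.le_of_dvd hp.out.pos (orderOf_dvd_iff_pow_eq_one.mpr ?_)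
        rw [← map_pow, (hxQ : x ^ p = 1), map_one]
    obtain ⟨i, hi⟩ := hR.index M
    have hi0 : i ≠ 0 := fun h0 => hMtop (Subgroup.index_eq_one.mp (by rw [hi, h0, pow_zero]))
    rw [hi] at h1 ⊢
    have : i ≤ 1 := (Nat.pow_le_pow_iff_right hp.out.one_lt).mp (by rwa [pow_one])
    rw [show i = 1 by omega, pow_one]
  haveI hMn : M.Normal := inferInstance
  -- `R / L` is abelian
  obtain ⟨t, -, htM⟩ : ∃ t ∈ (⊤ : Subgroup R), t ∉ M := SetLike.not_le_iff_exists.mp fun h => hMtop (top_le_iff.mp h)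
  have hMt : M ⊔ Subgroup.zpowers t = ⊤ := by
    rw [← Subgroup.index_eq_one]
    have h := Subgroup.index_dvd_of_le (le_sup_left : M ≤ M ⊔ Subgroup.zpowers t)
    rw [hMidx, Nat.dvd_prime hp.out] at h
    refine h.resolve_right fun h1 => htM ?_
    have h2 := Subgroup.relIndex_mul_index (le_sup_left : M ≤ M ⊔ Subgroup.zpowers t)
    rw [h1, hMidx] at h2
    exact Subgroup.relIndex_eq_one.mp (Nat.eq_of_mul_eq_mul_right hp.out.pos (h2.trans (one_mul p).symm))
      (le_sup_right (a := M) (Subgroup.mem_zpowers t))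
  have hderL : commutator R ≤ L := by
    set q₂ := QuotientGroup.mk' L with hq₂
    let C := Subgroup.centralizer ({q₂ t, q₂ y} : Set (R ⧸ L))
    have hyt : Commute (q₂ y) (q₂ t) := by
      rw [← commutatorElement_eq_one_iff_commute, ← map_commutatorElement]
      exact (QuotientGroup.eq_one_iff _).mpr (hyc t)
    have hgenR : (⊤ : Subgroup R).map q₂ ≤ C := by
      rw [← hMt, hM, ← hQeq, Subgroup.map_sup, Subgroup.map_sup, Subgroup.map_sup, MonoidHom.map_zpowers,
        MonoidHom.map_zpowers]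
      refine sup_le (sup_le (sup_le ?_ (Subgroup.zpowers_le.mpr ?_)) ?_) (Subgroup.zpowers_le.mpr ?_)
      · rintro _ ⟨l, hl, rfl⟩
        rw [show q₂ l = 1 from (QuotientGroup.eq_one_iff l).mpr hl]; exact one_mem _
      · rw [Subgroup.mem_centralizer_iff]
        rintro w (rfl | rfl)
        · exact hyt.symm.eq
        · rfl
      · rintro _ ⟨z, hz, rfl⟩
        rw [Subgroup.mem_centralizer_iff]
        rintro w (rfl | rfl) <;> rw [← map_mul, ← map_mul, Subgroup.mem_center_iff.mp (hC₀Z hz)]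
      · rw [Subgroup.mem_centralizer_iff]
        rintro w (rfl | rfl)
        · rfl
        · exact hyt.eq
    have htwo : ∀ g : R, Commute (q₂ g) (q₂ t) ∧ Commute (q₂ g) (q₂ y) := fun g =>
      ⟨((Subgroup.mem_centralizer_iff.mp (hgenR ⟨g, Subgroup.mem_top g, rfl⟩)) _ (Or.inl rfl)).symm,
       ((Subgroup.mem_centralizer_iff.mp (hgenR ⟨g, Subgroup.mem_top g, rfl⟩)) _ (Or.inr rfl)).symm⟩
    rw [commutator_def, Subgroup.commutator_le]
    intro g _ h _
    refine (QuotientGroup.eq_one_iff _).mp ?_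
    show q₂ ⁅g, h⁆ = 1
    rw [map_commutatorElement, commutatorElement_eq_one_iff_commute]
    have : (⊤ : Subgroup R).map q₂ ≤ Subgroup.centralizer ({q₂ h} : Set (R ⧸ L)) := by
      rw [← hMt, hM, ← hQeq, Subgroup.map_sup, Subgroup.map_sup, Subgroup.map_sup, MonoidHom.map_zpowers,
        MonoidHom.map_zpowers]
      refine sup_le (sup_le (sup_le ?_ (Subgroup.zpowers_le.mpr ?_)) ?_) (Subgroup.zpowers_le.mpr ?_)
      · rintro _ ⟨l, hl, rfl⟩
        rw [show q₂ l = 1 from (QuotientGroup.eq_one_iff l).mpr hl]; exact one_mem _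
      · exact Subgroup.mem_centralizer_singleton_iff.mpr (htwo h).2.symm.eq
      · rintro _ ⟨z, hz, rfl⟩
        rw [Subgroup.mem_centralizer_singleton_iff, ← map_mul, ← map_mul, Subgroup.mem_center_iff.mp (hC₀Z hz) h]
      · exact Subgroup.mem_centralizer_singleton_iff.mpr (htwo h).1.symm.eq
    exact Subgroup.mem_centralizer_singleton_iff.mp (this ⟨g, Subgroup.mem_top g, rfl⟩)
  have hderQ : commutator R ≤ Q := hderL.trans inf_le_left
  have hcl : CfsgLib.Class3.SmallClass p R := by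
    refine Or.inr ⟨hp3, ?_⟩
    have h1 : ⁅L, (⊤ : Subgroup R)⁆ ≤ Zq := Subgroup.commutator_le.mpr fun l hl g _ => ((hLmem l).mp hl).2 g
    rw [eq_bot_iff]
    refine (Subgroup.commutator_mono ((Subgroup.commutator_mono hderL le_rfl).trans h1) le_rfl).trans ?_
    rw [le_bot_iff, Subgroup.commutator_eq_bot_iff_le_centralizer]
    exact fun z hz => Subgroup.mem_centralizer_iff.mpr fun g _ => Subgroup.mem_center_iff.mp (hZqZ hz) g
  -- the power map
  let π : R →* R := MonoidHom.mk' (fun g => g ^ p) fun g h =>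
    CfsgLib.Class3.mul_pow_of_commutator_le hp.out hcl (fun z hz => Subgroup.subset_closure (hderQ hz)) g h
  have hπC : π.range ≤ C₀ := by
    rintro _ ⟨g, rfl⟩
    refine Subgroup.mem_centralizer_iff.mpr fun q _ => ?_
    have e : q * g ^ p * q⁻¹ = g ^ p := by
      rw [← conj_pow, show q * g * q⁻¹ = ⁅q, g⁆ * g by rw [commutatorElement_def]; group]
      show π (⁅q, g⁆ * g) = π g
      have : π ⁅q, g⁆ = 1 := hderQ (Subgroup.commutator_mem_commutator (Subgroup.mem_top q) (Subgroup.mem_top g))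
      rw [map_mul, this, one_mul]
    show q * g ^ p = g ^ p * q
    conv_rhs => rw [← e]
    group
  have hπeq : π.range = C₀ := by
    refine Subgroup.eq_of_le_of_card_ge hπC ?_
    have hker : π.ker = Q := Subgroup.ext fun g => Iff.rfl
    have h1 := π.ker.card_mul_index
    rw [Subgroup.index_ker, hker, hQ3] at h1
    have h2 := M.card_mul_index
    rw [hMidx, hcardM, ← h1] at h2
    exact (Nat.eq_of_mul_eq_mul_left (pow_pos hp.out.pos 3) h2).le
  obtain ⟨t₀, ht₀⟩ : ∃ t₀ : R, t₀ ^ p = c := by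
    have : c ∈ π.range := hπeq.symm ▸ hc
    exact this
  have hRt : ∀ g : R, ∃ i : ℤ, (t₀ ^ i)⁻¹ * g ∈ Q := by
    intro g
    obtain ⟨i, hi⟩ := hC₀gen (g ^ p) (hπC ⟨g, rfl⟩)
    refine ⟨i, ?_⟩
    show π ((t₀ ^ i)⁻¹ * g) = 1
    rw [map_mul, map_inv, map_zpow, show π t₀ = c from ht₀, hi]
    exact inv_mul_cancel _
  have ht₀M : t₀ ∉ M := fun h => hMtop (eq_top_iff.mpr fun g _ => by
    obtain ⟨i, hi⟩ := hRt g
    have := M.mul_mem (M.zpow_mem h i) (Subgroup.mem_sup_left (T := C₀) hi)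
    rwa [mul_inv_cancel_left] at this)
  set x₀ := ⁅t₀, y⁆ with hx₀
  have hx₀L : x₀ ∈ L := hderL (Subgroup.commutator_mem_commutator (Subgroup.mem_top t₀) (Subgroup.mem_top y))
  have hx₀Z : x₀ ∉ Zq := fun h => ht₀M (hkerM ((QuotientGroup.eq_one_iff _).mpr h))
  set z₀ := ⁅x₀, y⁆ with hz₀
  have hz₀Z : z₀ ∈ Zq := hcQ x₀ hx₀L.1 y hyQ
  have hz₀1 : z₀ ≠ 1 := fun h => by
    have hx₀' : L ≤ Subgroup.centralizer ({y} : Set R) := by
      intro l hl
      have hgen' : Zq ⊔ Subgroup.zpowers x₀ = L := by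
        have hle : Zq ⊔ Subgroup.zpowers x₀ ≤ L := sup_le hZqL (Subgroup.zpowers_le.mpr hx₀L)
        refine Subgroup.eq_of_le_of_card_ge hle ?_
        have h1 : Nat.card Zq < Nat.card ↥(Zq ⊔ Subgroup.zpowers x₀) :=
          lt_of_le_of_ne (Subgroup.card_le_of_le le_sup_left) fun h => hx₀Z
            ((Subgroup.eq_of_le_of_card_ge le_sup_left h.ge).symm ▸ (le_sup_right (a := Zq) (Subgroup.mem_zpowers x₀)))
        obtain ⟨i, hi⟩ := IsPGroup.iff_card.mp (hR.to_subgroup (Zq ⊔ Subgroup.zpowers x₀))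
        rw [hZqcard, hi] at h1
        have hi1 : 1 < i := (Nat.pow_lt_pow_iff_right hp.out.one_lt).mp (by rwa [pow_one])
        rw [hi]
        exact le_trans (hQna L inf_le_left ⟨⟨fun u v => Subtype.ext (hLab u u.2 v v.2)⟩⟩)
          (Nat.pow_le_pow_right hp.out.pos hi1)
      have : Zq ⊔ Subgroup.zpowers x₀ ≤ Subgroup.centralizer ({y} : Set R) :=
        sup_le (fun z hz => Subgroup.mem_centralizer_singleton_iff.mpr (Subgroup.mem_center_iff.mp (hZqZ hz) y).symm)
          (Subgroup.zpowers_le.mpr (Subgroup.mem_centralizer_singleton_iff.mpr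
            (commutatorElement_eq_one_iff_commute.mp h).eq))
      exact this (hgen'.symm ▸ hl)
    apply hQna'
    refine ⟨⟨fun u v => Subtype.ext ?_⟩⟩
    have hQc : Q ≤ Subgroup.centralizer (Q : Set R) := by
      conv_lhs => rw [← hQeq]
      refine sup_le (fun l hl => Subgroup.mem_centralizer_iff.mpr fun w hw => ?_)
        (Subgroup.zpowers_le.mpr (Subgroup.mem_centralizer_iff.mpr fun w hw => ?_))
      · rw [← hQeq] at hw
        have : L ⊔ Subgroup.zpowers y ≤ Subgroup.centralizer ({l} : Set R) :=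
          sup_le (fun u hu => Subgroup.mem_centralizer_singleton_iff.mpr (hLab u hu l hl))
            (Subgroup.zpowers_le.mpr (Subgroup.mem_centralizer_singleton_iff.mpr
              (Subgroup.mem_centralizer_singleton_iff.mp (hx₀' hl)).symm))
        exact Subgroup.mem_centralizer_singleton_iff.mp (this hw)
      · rw [← hQeq] at hw
        have : L ⊔ Subgroup.zpowers y ≤ Subgroup.centralizer ({y} : Set R) :=
          sup_le hx₀' (Subgroup.zpowers_le.mpr (Subgroup.mem_centralizer_singleton_iff.mpr rfl))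
        exact Subgroup.mem_centralizer_singleton_iff.mp (this hw)
    exact Subgroup.mem_centralizer_iff.mp (hQc v.2) u u.2
  -- every operator fixes `y` modulo `L`
  have hLφ : ∀ (a : A) (l : R), l ∈ L → φ a l ∈ L := by
    intro a l hl
    obtain ⟨h1, h2⟩ := (hLmem l).mp hl
    refine (hLmem _).mpr ⟨hQφ a l h1, fun g => ?_⟩
    obtain ⟨g, rfl⟩ := (φ a).surjective g
    rw [← map_commutatorElement]
    exact ⟨hQφ a _ (h2 g).1, hC₀φ a _ (h2 g).2⟩
  have hnat : ∀ (g : R) (i : ℤ), ∃ n : ℕ, g ^ n = g ^ i := fun g i =>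
    Submonoid.mem_powers_iff _ _ |>.mp (mem_powers_iff_mem_zpowers.mpr (Subgroup.mem_zpowers_iff.mpr ⟨i, rfl⟩))
  have hfix : ∀ a : A, y⁻¹ * φ a y ∈ L := by
    intro a
    have hdec : ∀ b : A, ∃ (β : ℕ) (l : R), l ∈ L ∧ φ b y = l * y ^ β := by
      intro b
      have := hQφ b y hyQ
      rw [← hQeq, ← SetLike.mem_coe, Subgroup.normal_mul L (Subgroup.zpowers y)] at this
      obtain ⟨l, hl, w, hw, hlw⟩ := this
      obtain ⟨β, hβ⟩ := Submonoid.mem_powers_iff _ _ |>.mp (mem_powers_iff_mem_zpowers.mpr hw)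
      exact ⟨β, l, hl, by rw [hβ]; exact hlw.symm⟩
    obtain ⟨β, l, hl, hβ⟩ := hdec a
    obtain ⟨i, hi⟩ := hRt (φ a t₀)
    obtain ⟨μ, hμ⟩ := hnat t₀ i
    rw [← hμ] at hi
    obtain ⟨w, hwQ, hat⟩ : ∃ w, w ∈ Q ∧ φ a t₀ = t₀ ^ μ * w :=
      ⟨_, hi, (mul_inv_cancel_left _ _).symm⟩
    clear hi
    have hz₀μ : φ a z₀ = z₀ ^ μ := by
      obtain ⟨g, hg⟩ : z₀ ∈ π.range := hπeq.symm ▸ hz₀Z.2
      obtain ⟨j, hj⟩ := hRt g
      obtain ⟨n, hn⟩ := hnat t₀ j
      rw [← hn] at hj
      have hzn : z₀ = π t₀ ^ n := by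
        rw [← hg, ← map_pow π t₀ n]
        have : π ((t₀ ^ n)⁻¹ * g) = 1 := hj
        rw [map_mul, map_inv, inv_mul_eq_one] at this
        exact this.symm
      have h1 : φ a (π t₀) = π t₀ ^ μ := by
        have hwp : π w = 1 := hwQ
        calc φ a (π t₀) = π (φ a t₀) := map_pow (φ a) t₀ p
          _ = π t₀ ^ μ := by rw [hat, map_mul, hwp, mul_one, map_pow]
      rw [hzn, map_pow, h1, ← pow_mul, ← pow_mul, mul_comm]
    -- computation of `φ a z₀`
    have hcomL : ∀ g h : R, ⁅g, h⁆ ∈ L := fun g h =>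
      hderL (Subgroup.commutator_mem_commutator (Subgroup.mem_top g) (Subgroup.mem_top h))
    have hcz : ∀ g h : R ⧸ Zq, ⁅g, h⁆ ∈ Subgroup.center (R ⧸ Zq) := by
      intro g h
      obtain ⟨g, rfl⟩ := QuotientGroup.mk'_surjective Zq g
      obtain ⟨h, rfl⟩ := QuotientGroup.mk'_surjective Zq h
      rw [← map_commutatorElement]
      exact (hcomL g h).2
    have hx₀a : (x₀ ^ (μ * β))⁻¹ * φ a x₀ ∈ Zq := by
      refine (QuotientGroup.eq_one_iff _).mp ?_
      show q₁ ((x₀ ^ (μ * β))⁻¹ * φ a x₀) = 1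
      rw [map_mul, map_inv, inv_mul_eq_one, map_pow, hx₀, map_commutatorElement (φ a), map_commutatorElement,
        map_commutatorElement, hat, hβ, map_mul, map_mul, map_pow, map_pow,
        CfsgLib.PGroup.commutatorElement_mul_left_of_central _ _ _ (hcz _ _)]
      have hw1 : ⁅q₁ w, q₁ l * q₁ y ^ β⁆ = 1 := by
        rw [← map_pow, ← map_mul, ← map_commutatorElement]
        exact (QuotientGroup.eq_one_iff _).mpr (hcQ w hwQ _ (Q.mul_mem hl.1 (Q.pow_mem hyQ β)))
      have hl1 : ⁅q₁ t₀ ^ μ, q₁ l⁆ = 1 := by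
        rw [commutatorElement_eq_one_iff_commute]
        exact Subgroup.mem_center_iff.mp hl.2 _
      rw [hw1, mul_one, CfsgLib.PGroup.commutatorElement_mul_right_of_central _ _ _ (hcz _ _), hl1, one_mul,
        CfsgLib.PGroup.commutatorElement_pow_left_of_central (hcz _ _),
        CfsgLib.PGroup.commutatorElement_pow_right_of_central (hcz _ _), ← pow_mul, mul_comm β μ]
    have hzc : ∀ g ∈ Q, ∀ h ∈ Q, ⁅g, h⁆ ∈ Subgroup.center R := fun g hg h hh => hZqZ (hcQ g hg h hh)
    have hz₀β : φ a z₀ = z₀ ^ (μ * β * β) := by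
      have hyβ := Q.pow_mem hyQ β
      have hxμ := Q.pow_mem hx₀L.1 (μ * β)
      have hax : φ a x₀ = x₀ ^ (μ * β) * ((x₀ ^ (μ * β))⁻¹ * φ a x₀) := by group
      have hζ1 : ⁅(x₀ ^ (μ * β))⁻¹ * φ a x₀, l * y ^ β⁆ = 1 :=
        commutatorElement_eq_one_iff_commute.mpr (Subgroup.mem_center_iff.mp (hZqZ hx₀a) _).symm
      have hl1 : ⁅x₀ ^ (μ * β), l⁆ = 1 :=
        commutatorElement_eq_one_iff_commute.mpr (hLab _ (L.pow_mem hx₀L _) l hl)
      rw [hz₀, map_commutatorElement, hax, hβ,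
        CfsgLib.PGroup.commutatorElement_mul_left_of_central _ _ _
          (hzc _ hx₀a.1 _ (Q.mul_mem hl.1 hyβ)), hζ1, mul_one,
        CfsgLib.PGroup.commutatorElement_mul_right_of_central _ _ _ (hzc _ hxμ _ hyβ), hl1, one_mul,
        CfsgLib.PGroup.commutatorElement_pow_left_of_central (hzc _ hx₀L.1 _ hyβ),
        CfsgLib.PGroup.commutatorElement_pow_right_of_central (hzc _ hx₀L.1 _ hyQ), ← pow_mul]
      congr 1; ring
    have hord : orderOf z₀ = p := orderOf_eq_prime hz₀Z.1 hz₀1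
    have hmod : μ * β * β ≡ μ [MOD p] := hord ▸ pow_eq_pow_iff_modEq.mp (hz₀β.symm.trans hz₀μ)
    have hμp : ¬ p ∣ μ := fun hd => hz₀1 <| (φ a).injective <| by
      rw [hz₀μ, map_one]; exact orderOf_dvd_iff_pow_eq_one.mp (hord ▸ hd)
    have hβ2 : β * β ≡ 1 [MOD p] :=
      Nat.ModEq.cancel_left_of_coprime ((Nat.Prime.coprime_iff_not_dvd hp.out).mpr hμp)
        (by rwa [← mul_assoc, mul_one])
    -- iterate
    have hit : ∀ n : ℕ, (y ^ β ^ n)⁻¹ * φ (a ^ n) y ∈ L := by
      intro n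
      induction n with
      | zero => simp
      | succ n ih =>
        have e1 : φ (a ^ (n + 1)) y = φ a (y ^ β ^ n) * φ a ((y ^ β ^ n)⁻¹ * φ (a ^ n) y) := by
          rw [← map_mul, mul_inv_cancel_left, pow_succ', map_mul, MulAut.mul_apply]
        rw [e1, ← mul_assoc]
        refine L.mul_mem ?_ (hLφ a _ ih)
        rw [map_pow, hβ]
        refine (QuotientGroup.eq_one_iff _).mp ?_
        show QuotientGroup.mk' L _ = 1
        rw [map_mul, map_inv, map_pow, map_pow, map_mul,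
          show QuotientGroup.mk' L l = 1 from (QuotientGroup.eq_one_iff l).mpr hl, one_mul, map_pow,
          ← pow_mul, pow_succ', inv_mul_cancel]
    have hn := hit (orderOf a)
    rw [pow_orderOf_eq_one, map_one, MulAut.one_apply] at hn
    obtain ⟨m, hm⟩ : Odd (orderOf a) := hodd.of_dvd_nat (orderOf_dvd_natCard a)
    have hymem : ∀ k : ℕ, y ^ k ∈ L → p ∣ k := fun k hk => by
      by_contra hpk
      obtain ⟨j, hj⟩ := exists_pow_eq_self_of_coprime (x := y)
        ((orderOf_eq_prime hyQ (fun h => hyL (h ▸ one_mem _)) ▸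
          ((Nat.Prime.coprime_iff_not_dvd hp.out).mpr hpk).symm) : k.Coprime (orderOf y))
      exact hyL (hj ▸ L.pow_mem hk j)
    have hpow1 : β ^ orderOf a ≡ β [MOD p] := by
      rw [hm, pow_succ, pow_mul]
      have := (hβ2.pow m).mul_right β
      rw [← pow_two, one_pow, one_mul] at this
      exact this
    have hy1 : orderOf y = p := orderOf_eq_prime hyQ (fun h => hyL (h ▸ one_mem _))
    have hyβ : (y ^ β)⁻¹ * y ∈ L := by
      rwa [pow_eq_pow_iff_modEq.mpr (hy1.symm ▸ hpow1)] at hn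
    refine (QuotientGroup.eq_one_iff _).mp ?_
    have h1 : QuotientGroup.mk' L ((y ^ β)⁻¹ * y) = 1 := (QuotientGroup.eq_one_iff _).mpr hyβ
    rw [map_mul, map_inv, inv_mul_eq_one] at h1
    show QuotientGroup.mk' L (y⁻¹ * φ a y) = 1
    rw [hβ, map_mul, map_mul, show QuotientGroup.mk' L l = 1 from (QuotientGroup.eq_one_iff l).mpr hl,
      one_mul, h1, map_inv, inv_mul_cancel]
  -- averaging
  let ψ : R →* Abelianization R := ∏ a : A, Abelianization.of.comp (φ a).toMonoidHom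
  have hψ : ∀ g : R, ψ g = ∏ a : A, Abelianization.of (φ a g) := fun g => by
    simp [ψ, MonoidHom.finsetProd_apply]
  have hψ1 : ψ y = 1 := by
    have : (⊤ : Subgroup R) ≤ ψ.ker := by
      rw [← hgen, Subgroup.closure_le]
      rintro g ⟨b, v, rfl⟩
      rw [SetLike.mem_coe, MonoidHom.mem_ker, map_mul, map_inv, inv_mul_eq_one, hψ, hψ]
      exact (Fintype.prod_equiv (Equiv.mulRight b) _ _ fun a => by simp [map_mul]).symm
    exact this (Subgroup.mem_top y)
  have hyn' : Abelianization.of (y ^ Nat.card A) ∈ L.map Abelianization.of := by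
    have h1 : (∏ a : A, Abelianization.of (y⁻¹ * φ a y)) * Abelianization.of (y ^ Nat.card A) = 1 := by
      rw [← hψ1, hψ, Nat.card_eq_fintype_card, map_pow]
      simp only [map_mul, map_inv, Finset.prod_mul_distrib, Finset.prod_const, Finset.card_univ]
      rw [inv_pow, mul_comm (_⁻¹), mul_assoc, inv_mul_cancel, mul_one]
    rw [eq_inv_of_mul_eq_one_right h1]
    exact inv_mem (Subgroup.prod_mem _ fun a _ => ⟨_, hfix a, rfl⟩)
  obtain ⟨z, hz, hzy⟩ := hyn'
  have hynL : y ^ Nat.card A ∈ L := by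
    have : z⁻¹ * y ^ Nat.card A ∈ commutator R := by
      rw [← Abelianization.ker_of, MonoidHom.mem_ker, map_mul, map_inv, hzy, inv_mul_cancel]
    have := L.mul_mem hz (hderL this)
    rwa [mul_inv_cancel_left] at this
  refine hyL ((QuotientGroup.eq_one_iff _).mp ?_)
  have e1 : ((y : R ⧸ L)) ^ Nat.card A = 1 := by
    rw [← QuotientGroup.mk_pow]; exact (QuotientGroup.eq_one_iff _).mpr hynL
  have e2 : ((y : R ⧸ L)) ^ p = 1 := by
    rw [← QuotientGroup.mk_pow, (hyQ : y ^ p = 1)]; rfl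
  have := pow_gcd_eq_one.mpr ⟨e1, e2⟩
  rwa [hcop.gcd_eq_one, pow_one] at this

end CfsgLib.OddOrder41
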