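import Cfsg.Agent.Lib.OddOrder41.FixedFormulaSplit

set_option autoImplicit false

/-! Wielandt's fixed point formula for abelian groups. -/

namespace CfsgLib.OddOrder41.FixedFormula

open Finset
open scoped commutatorElement

variable {G : Type*} [Group G] [Finite G]

/-- Sum-zero functions on `ZMod q`. -/
def sumZeroFun (q : ℕ) [NeZero q] (V : Type*) [AddCommGroup V] : AddSubgroup (ZMod q → V) where
  carrier := {f | ∑ i, f i = 0}
  zero_mem' := by simp
  add_mem' := fun {f g} hf hg => by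
    show ∑ i, (f i + g i) = 0
    rw [Finset.sum_add_distrib, hf, hg, add_zero]
  neg_mem' := fun {f} hf => by
    show ∑ i, -f i = 0
    rw [Finset.sum_neg_distrib, hf, neg_zero]

theorem mem_sumZeroFun {q : ℕ} [NeZero q] {V : Type*} [AddCommGroup V] {f : ZMod q → V} :
    f ∈ sumZeroFun q V ↔ ∑ i, f i = 0 := Iff.rfl

theorem card_sumZeroFun_mul (q : ℕ) [NeZero q] (V : Type*) [AddCommGroup V] [Finite V] :
    Nat.card (sumZeroFun q V) * Nat.card V = Nat.card V ^ q := by
  let S : (ZMod q → V) →+ V := AddMonoidHom.mk' (fun f => ∑ i, f i) fun f g => Finset.sum_add_distrib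
  have h := S.ker.card_mul_index
  have hr : S.range = ⊤ := eq_top_iff.mpr fun v _ => ⟨Pi.single 0 v, by
    show ∑ i, (Pi.single 0 v : ZMod q → V) i = v
    simp⟩
  rw [AddSubgroup.index_ker, hr, AddSubgroup.card_top, Nat.card_fun, Nat.card_zmod] at h
  exact h

/-- The splitting lemma with the roots of unity removed. -/
theorem card_eq_of_section' {q : ℕ} [hq : Fact q.Prime] {V : Type*} [AddCommGroup V] [Finite V]
    (ρ : G →* AddMonoid.End V) (N' E : Subgroup G) [N'.Normal]
    (hcomm : ∀ u ∈ N', ∀ v ∈ N', ρ ⁅u, v⁆ = 1) (hpow : ∀ u ∈ N', ρ (u ^ q) = 1)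
    (hfpf : ∀ e ∈ E, e ≠ 1 → ∀ u ∈ N', ρ (e * u * e⁻¹ * u⁻¹) = 1 → ρ u = 1)
    (hcopE : (Nat.card E).Coprime q) (hcopV : (Nat.card N').Coprime (Nat.card V)) (hqV : q.Coprime (Nat.card V))
    (h0 : ∀ v, (∀ u ∈ N', ρ u v = v) → v = 0) :
    Nat.card V = Nat.card (fixSet ρ E) ^ Nat.card E := by
  classical
  haveI : NeZero q := ⟨hq.out.ne_zero⟩
  set W := sumZeroFun q V with hW
  let ρW : G →* AddMonoid.End W :=
    { toFun := fun g =>
        { toFun := fun f => ⟨fun i => ρ g (f.1 i), by
            rw [mem_sumZeroFun, ← map_sum, mem_sumZeroFun.mp f.2, map_zero]⟩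
          map_zero' := Subtype.ext (funext fun i => map_zero (ρ g))
          map_add' := fun f f' => Subtype.ext (funext fun i => map_add (ρ g) (f.1 i) (f'.1 i)) }
      map_one' := AddMonoidHom.ext fun f => Subtype.ext (funext fun i => by
        show ρ 1 (f.1 i) = f.1 i; rw [map_one]; rfl)
      map_mul' := fun g h => AddMonoidHom.ext fun f => Subtype.ext (funext fun i => by
        show ρ (g * h) (f.1 i) = ρ g (ρ h (f.1 i)); rw [map_mul]; rfl) }
  let T : AddMonoid.End W :=
    { toFun := fun f => ⟨fun i => f.1 (i + 1), by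
        rw [mem_sumZeroFun]
        exact (Equiv.sum_comp (Equiv.addRight (1 : ZMod q)) f.1).trans (mem_sumZeroFun.mp f.2)⟩
      map_zero' := rfl
      map_add' := fun f f' => rfl }
  have hTpow : ∀ (k : ℕ) (f : W) (i : ZMod q), ((T ^ k) f).1 i = f.1 (i + k) := by
    intro k
    induction k with
    | zero => intro f i; simp [pow_zero]
    | succ k ih =>
      intro f i
      rw [pow_succ]
      show ((T ^ k) (T f)).1 i = _
      rw [ih]
      show f.1 (i + k + 1) = _
      rw [Nat.cast_add, Nat.cast_one, add_assoc]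
  have hTq : T ^ q = 1 := AddMonoidHom.ext fun f => Subtype.ext (funext fun i => by
    exact (hTpow q f i).trans (by rw [ZMod.natCast_self, add_zero]; rfl))
  have hT0 : ∀ f, T f = f → f = 0 := by
    intro f hf
    have hall : ∀ k : ℕ, f.1 (k : ZMod q) = f.1 0 := by
      intro k
      induction k with
      | zero => rw [Nat.cast_zero]
      | succ k ih =>
        rw [← ih, Nat.cast_add, Nat.cast_one]
        exact congrFun (congrArg Subtype.val hf) _
    have hconst : ∀ i, f.1 i = f.1 0 := fun i => by rw [← hall i.val, ZMod.natCast_zmod_val]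
    have hsum := mem_sumZeroFun.mp f.2
    rw [Finset.sum_congr rfl fun i _ => hconst i, Finset.sum_const, Finset.card_univ, ZMod.card] at hsum
    exact Subtype.ext (funext fun i => (hconst i).trans (eq_zero_of_coprime_nsmul hqV hsum))
  have hρ1 : ∀ g, ρ g = 1 → ρW g = 1 := fun g hg => AddMonoidHom.ext fun f => Subtype.ext (funext fun i => by
    show ρ g (f.1 i) = f.1 i; rw [hg]; rfl)
  have hρ1' : ∀ g, ρW g = 1 → ρ g = 1 := by
    intro g hg
    refine AddMonoidHom.ext fun v => ?_
    show ρ g v = v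
    have h01 : (0 : ZMod q) ≠ 1 := zero_ne_one
    let f : W := ⟨Pi.single 0 v - Pi.single 1 v, by
      rw [mem_sumZeroFun]; simp⟩
    have : (ρW g f).1 0 = f.1 0 := by rw [hg]; rfl
    change ρ g (f.1 0) = f.1 0 at this
    simpa [f, h01] using this
  have hVpos : 0 < Nat.card V := Nat.card_pos
  have hcW : Nat.card W = Nat.card V ^ (q - 1) := by
    refine Nat.eq_of_mul_eq_mul_right hVpos ?_
    rw [← pow_succ, Nat.sub_add_cancel hq.out.pos]
    exact card_sumZeroFun_mul q V
  have hmain := card_eq_of_section ρW T hTq hT0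
    (fun g => AddMonoidHom.ext fun f => Subtype.ext (funext fun i => rfl)) N' E
    (fun u hu v hv => hρ1 _ (hcomm u hu v hv)) (fun u hu => hρ1 _ (hpow u hu))
    (fun e he he1 u hu h => hρ1 _ (hfpf e he he1 u hu (hρ1' _ h))) hcopE
    (hcW ▸ hcopV.pow_right _) (hcW ▸ hqV.pow_right _)
    (fun f hf => Subtype.ext (funext fun i => h0 _ fun u hu => congrFun (congrArg Subtype.val (hf u hu)) i))
  have hC : Nat.card (fixSet ρW E) = Nat.card (fixSet ρ E) ^ (q - 1) := by
    have e : Nat.card (fixSet ρW E) = Nat.card (sumZeroFun q (fixSet ρ E)) := Nat.card_congr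
      { toFun := fun f => ⟨fun i => ⟨f.1.1 i, fun g hg => congrFun (congrArg Subtype.val (f.2 g hg)) i⟩, by
          rw [mem_sumZeroFun]
          exact Subtype.ext (by rw [AddSubmonoidClass.coe_finsetSum]; exact mem_sumZeroFun.mp f.1.2)⟩
        invFun := fun f => ⟨⟨fun i => (f.1 i : V), by
          rw [mem_sumZeroFun, ← AddSubmonoidClass.coe_finsetSum, mem_sumZeroFun.mp f.2]; rfl⟩,
          fun g hg => Subtype.ext (funext fun i => (f.1 i).2 g hg)⟩
        left_inv := fun f => rfl
        right_inv := fun f => rfl }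
    have h := card_sumZeroFun_mul q (fixSet ρ E)
    rw [← e] at h
    refine Nat.eq_of_mul_eq_mul_right (Nat.card_pos (α := fixSet ρ E)) ?_
    rw [h, ← pow_succ, Nat.sub_add_cancel hq.out.pos]
  rw [hcW, hC, ← pow_mul, mul_comm, pow_mul] at hmain
  exact Nat.pow_left_injective (by have := hq.out.two_le; omega) hmain

universe u in
/-- Wielandt's formula for an abelian group: `|C(UE)| ^ |E| * |V| = |C(E)| ^ |E| * |C(U)|`. -/
theorem abelian_fixed_formula (U E : Subgroup G) [U.Normal] (hU : Group.IsSolvable U)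
    (hcop : (Nat.card U).Coprime (Nat.card E))
    (hfpf : ∀ e ∈ E, e ≠ 1 → ∀ u ∈ U, e * u = u * e → u = 1)
    {V : Type u} [AddCommGroup V] [Finite V] (ρ : G →* AddMonoid.End V)
    (hV : (Nat.card U).Coprime (Nat.card V)) :
    Nat.card (fixSet ρ U ⊓ fixSet ρ E : AddSubgroup V) ^ Nat.card E * Nat.card V =
      Nat.card (fixSet ρ E) ^ Nat.card E * Nat.card (fixSet ρ U) := by
  suffices H : ∀ n, ∀ {V : Type u} [AddCommGroup V] [Finite V] (ρ : G →* AddMonoid.End V),
      Nat.card V = n → (Nat.card U).Coprime (Nat.card V) →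
      Nat.card (fixSet ρ U ⊓ fixSet ρ E : AddSubgroup V) ^ Nat.card E * Nat.card V =
        Nat.card (fixSet ρ E) ^ Nat.card E * Nat.card (fixSet ρ U) from H _ ρ rfl hV
  intro n
  induction n using Nat.strongRecOn with
  | _ n ih =>
  intro V _ _ ρ hn hV
  subst hn
  classical
  set N : Subgroup G := U ⊓ MonoidHom.ker ρ with hN
  by_cases hUN : U ≤ N
  · have htop : fixSet ρ U = ⊤ := eq_top_iff.mpr fun v _ g hg => by
      rw [show ρ g = 1 from (hUN hg).2]; rfl
    rw [htop, top_inf_eq, AddSubgroup.card_top]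
  -- an elementary abelian section of `U` acting nontrivially
  haveI : N.Normal := inferInstance
  haveI : (U.map (QuotientGroup.mk' N)).Normal :=
    Subgroup.Normal.map inferInstance _ (QuotientGroup.mk'_surjective N)
  haveI := hU
  obtain ⟨V₀, q, hq, hV₀n, hV₀1, hV₀U, hV₀c, hV₀e⟩ :=
    CfsgLib.Spectrum.exists_normal_elementary_le (U.map (QuotientGroup.mk' N))
      (fun h => hUN (by rw [Subgroup.map_eq_bot_iff, QuotientGroup.ker_mk'] at h; exact h))
      (solvable_of_surjective ((QuotientGroup.mk' N).subgroupMap_surjective U))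
  haveI := Fact.mk hq
  set N' : Subgroup G := V₀.comap (QuotientGroup.mk' N) with hN'
  haveI : N'.Normal := hV₀n.comap _
  have hN'U : N' ≤ U := by
    refine (Subgroup.comap_mono hV₀U).trans ?_
    rw [Subgroup.comap_map_eq, QuotientGroup.ker_mk']
    exact sup_le le_rfl inf_le_left
  have hN'N : ∀ g, g ∈ N → ρ g = 1 := fun g hg => hg.2
  have hcomm : ∀ u ∈ N', ∀ v ∈ N', ρ ⁅u, v⁆ = 1 := fun u hu v hv => by
    refine hN'N _ ((QuotientGroup.eq_one_iff _).mp ?_)
    show QuotientGroup.mk' N ⁅u, v⁆ = 1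
    rw [map_commutatorElement, commutatorElement_eq_one_iff_commute]
    exact congrArg Subtype.val (hV₀c.is_comm.comm ⟨_, hu⟩ ⟨_, hv⟩)
  have hpow : ∀ u ∈ N', ρ (u ^ q) = 1 := fun u hu => by
    refine hN'N _ ((QuotientGroup.eq_one_iff _).mp ?_)
    show QuotientGroup.mk' N (u ^ q) = 1
    rw [map_pow]; exact hV₀e _ hu
  have hqU : q ∣ Nat.card U := by
    obtain ⟨z, hz, hz1⟩ := V₀.bot_or_exists_ne_one.resolve_left hV₀1
    have h1 : orderOf z = q := orderOf_eq_prime (hV₀e z hz) hz1
    rw [← h1]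
    exact ((U.map (QuotientGroup.mk' N)).orderOf_dvd_natCard (hV₀U hz)).trans (Subgroup.card_map_dvd U _)
  have hfpf' : ∀ e ∈ E, e ≠ 1 → ∀ u ∈ N', ρ (e * u * e⁻¹ * u⁻¹) = 1 → ρ u = 1 := by
    intro e he he1 u hu h
    have hsol : Group.IsSolvable (Subgroup.zpowers e) ∨ Group.IsSolvable U := Or.inr inferInstance
    have hUn : Subgroup.normalizer (U : Set G) = ⊤ := Subgroup.normalizer_eq_top U
    have hNn : Subgroup.normalizer (N : Set G) = ⊤ := Subgroup.normalizer_eq_top N
    have hcope : (Nat.card (Subgroup.zpowers e)).Coprime (Nat.card U) :=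
      hcop.symm.coprime_dvd_left (Subgroup.card_dvd_of_le (Subgroup.zpowers_le.mpr he))
    have hfix : ∀ a ∈ Subgroup.zpowers e, u⁻¹ * (a * u * a⁻¹) ∈ N := by
      have : Subgroup.zpowers e ≤ (Subgroup.centralizer {(u : G ⧸ N)}).comap (QuotientGroup.mk' N) := by
        rw [Subgroup.zpowers_le, Subgroup.mem_comap, Subgroup.mem_centralizer_singleton_iff]
        have h1 : QuotientGroup.mk' N (e * u * e⁻¹ * u⁻¹) = 1 := (QuotientGroup.eq_one_iff _).mpr
          ⟨U.mul_mem (Subgroup.Normal.conj_mem inferInstance _ (hN'U hu) e) (U.inv_mem (hN'U hu)), h⟩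
        rw [map_mul, map_inv, mul_inv_eq_one, map_mul, map_inv, mul_inv_eq_iff_eq_mul, map_mul] at h1
        exact h1
      intro a ha
      have h2 := Subgroup.mem_centralizer_singleton_iff.mp (this ha)
      refine (QuotientGroup.eq_one_iff _).mp ?_
      show QuotientGroup.mk' N (u⁻¹ * (a * u * a⁻¹)) = 1
      rw [map_mul, map_mul, map_mul, map_inv, map_inv,
        show QuotientGroup.mk' N a * QuotientGroup.mk' N u = QuotientGroup.mk' N u * QuotientGroup.mk' N a from h2,
        mul_inv_cancel_right, inv_mul_cancel]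
    obtain ⟨c, ⟨hcU, hcc⟩, hcN⟩ := CfsgLib.Coprime.exists_centralizing_rep (Subgroup.zpowers e) U
      (hUn ▸ le_top) hcope hsol N inf_le_left (hNn ▸ le_top) (hN'U hu) hfix
    rw [hfpf e he he1 c hcU (Subgroup.mem_centralizer_iff.mp hcc e (Subgroup.mem_zpowers e)), mul_one] at hcN
    exact hN'N u ((inv_mem_iff (H := N)).mp hcN)
  -- split along the averaging idempotent of `N'`
  haveI := Fintype.ofFinite N'
  have hcN' : (Nat.card N').Coprime (Nat.card V) := hV.coprime_dvd_left (Subgroup.card_dvd_of_le hN'U)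
  obtain ⟨c, hc⟩ := exists_inverse_scalar hcN'
  set a := avg c (ρ.comp N'.subtype) with ha
  have hidem : ∀ v, a (a v) = a v := avg_idem hc _
  have hfixN' : ∀ v, v ∈ AddMonoidHom.range (a : V →+ V) ↔ ∀ u ∈ N', ρ u v = v := by
    intro v
    constructor
    · rintro ⟨w, rfl⟩ u hu
      exact apply_avg c (ρ.comp N'.subtype) ⟨u, hu⟩ w
    · exact fun h => ⟨v, avg_of_fixed hc _ v fun u => h u u.2⟩
  have hcommA : ∀ g v, ρ g (a v) = a (ρ g v) := by
    intro g v
    rw [ha, avg_apply, avg_apply, map_nsmul, map_sum]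
    congr 1
    refine Fintype.sum_equiv (MulAut.conjNormal g : MulAut N').toEquiv _ _ fun u => ?_
    show (ρ g * ρ (u : G)) v = (ρ (MulAut.conjNormal g u : N') * ρ g) v
    rw [← map_mul, ← map_mul, MulAut.conjNormal_apply, inv_mul_cancel_right]
  set V₁ := AddMonoidHom.range (a : V →+ V) with hV₁
  set V₂ := AddMonoidHom.ker (a : V →+ V) with hV₂
  have h1inv : ∀ g, ∀ v ∈ V₁, ρ g v ∈ V₁ := by
    rintro g _ ⟨w, rfl⟩
    exact ⟨ρ g w, (hcommA g w).symm⟩
  have h2inv : ∀ g, ∀ v ∈ V₂, ρ g v ∈ V₂ := fun g v hv => by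
    show a (ρ g v) = 0
    rw [← hcommA, show a v = 0 from hv, map_zero]
  have hVsplit : Nat.card V = Nat.card V₁ * Nat.card V₂ := by
    have h := card_fixSet_split ρ a hidem hcommA ⊥
    have hbot : fixSet ρ (⊥ : Subgroup G) = ⊤ := eq_top_iff.mpr fun v _ g hg => by
      rw [Subgroup.mem_bot.mp hg, map_one]; rfl
    rwa [hbot, AddSubgroup.card_top, top_inf_eq, top_inf_eq] at h
  -- the fixed module
  have hlt : Nat.card V₁ < Nat.card V := by
    refine lt_of_le_of_ne (Nat.card_le_card_of_injective (fun v : V₁ => (v : V)) Subtype.val_injective) fun h => hV₀1 ?_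
    have htop : V₁ = ⊤ := AddSubgroup.eq_top_of_card_eq _ h
    rw [eq_bot_iff]
    intro z hz
    obtain ⟨g, rfl⟩ := QuotientGroup.mk'_surjective N z
    refine Subgroup.mem_bot.mpr ((QuotientGroup.eq_one_iff g).mpr ⟨hN'U hz, ?_⟩)
    exact AddMonoidHom.ext fun v => (hfixN' v).mp (by rw [htop]; trivial) g hz
  have ih1 := ih _ hlt (restrict ρ V₁ h1inv) rfl (hV.coprime_dvd_right V₁.card_addSubgroup_dvd_card)
  have hUle : fixSet ρ U ≤ V₁ := fun v hv => (hfixN' v).mpr fun u hu => hv u (hN'U hu)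
  rw [card_fixSet_restrict, card_fixSet_restrict, inf_eq_left.mpr hUle,
    show Nat.card (fixSet (restrict ρ V₁ h1inv) U ⊓ fixSet (restrict ρ V₁ h1inv) E : AddSubgroup V₁) =
      Nat.card (fixSet ρ U ⊓ fixSet ρ E : AddSubgroup V) from Nat.card_congr
      { toFun := fun v => ⟨v.1.1, fun g hg => congrArg Subtype.val (v.2.1 g hg),
          fun g hg => congrArg Subtype.val (v.2.2 g hg)⟩
        invFun := fun v => ⟨⟨v.1, hUle v.2.1⟩, fun g hg => Subtype.ext (v.2.1 g hg),
          fun g hg => Subtype.ext (v.2.2 g hg)⟩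
        left_inv := fun _ => rfl
        right_inv := fun _ => rfl }] at ih1
  -- the moved module
  have hfree := card_eq_of_section' (q := q) (restrict ρ V₂ h2inv) N' E
    (fun u hu v hv => by
      refine AddMonoidHom.ext fun w => Subtype.ext ?_
      show ρ ⁅u, v⁆ (w : V) = w
      rw [hcomm u hu v hv]; rfl)
    (fun u hu => by
      refine AddMonoidHom.ext fun w => Subtype.ext ?_
      show ρ (u ^ q) (w : V) = w
      rw [hpow u hu]; rfl)
    (fun e he he1 u hu h => by
      have hU' : ρ (e * u * e⁻¹ * u⁻¹) = 1 := by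
        refine AddMonoidHom.ext fun v => ?_
        have hmem : v - a v ∈ V₂ := by show a (v - a v) = 0; rw [map_sub, hidem, sub_self]
        have h0 := DFunLike.congr_fun h (⟨v - a v, hmem⟩ : V₂)
        have h1 : ρ (e * u * e⁻¹ * u⁻¹) (v - a v) = v - a v := congrArg Subtype.val h0
        have h2 : ρ (e * u * e⁻¹ * u⁻¹) (a v) = a v := (hfixN' (a v)).mp ⟨v, rfl⟩ _
          (N'.mul_mem (Subgroup.Normal.conj_mem inferInstance _ hu e) (N'.inv_mem hu))
        rw [map_sub, h2, sub_left_inj] at h1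
        exact h1
      refine AddMonoidHom.ext fun w => Subtype.ext ?_
      show ρ u (w : V) = w
      rw [hfpf' e he he1 u hu hU']; rfl)
    (hcop.symm.coprime_dvd_right hqU) (hcN'.coprime_dvd_right V₂.card_addSubgroup_dvd_card)
    ((hV.coprime_dvd_left hqU).coprime_dvd_right V₂.card_addSubgroup_dvd_card)
    (fun v hv => Subtype.ext (by
      have h1 : a (v : V) = v := avg_of_fixed hc _ _ fun u => congrArg Subtype.val (hv u u.2)
      rw [← h1]; exact v.2))
  rw [card_fixSet_restrict] at hfree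
  rw [card_fixSet_split ρ a hidem hcommA E, mul_pow, hVsplit, ← mul_assoc, ih1, hfree]
  ring

end CfsgLib.OddOrder41.FixedFormula
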