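import Cfsg.Agent.Lib.Coprime.Action
import Cfsg.Agent.Lib.Spectrum.Solvable
import Mathlib

set_option autoImplicit false

/-! Wielandt's fixed point formula for a Frobenius group acting on an abelian group.

No splitting field is used: roots of unity are adjoined by passing from `V` to the sum-zero
functions `ZMod q → V`, on which the shift has no fixed point. -/

namespace CfsgLib.OddOrder41.FixedFormula

open Finset

section Fixed

variable {G : Type*} [Group G] {V : Type*} [AddCommGroup V]

/-- The points of `V` fixed by a subgroup of `G`. -/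
def fixSet (ρ : G →* AddMonoid.End V) (S : Subgroup G) : AddSubgroup V where
  carrier := {v | ∀ g ∈ S, ρ g v = v}
  zero_mem' := fun g _ => map_zero (ρ g)
  add_mem' := fun {v w} hv hw g hg => by rw [map_add, hv g hg, hw g hg]
  neg_mem' := fun {v} hv g hg => by rw [map_neg, hv g hg]

theorem mem_fixSet {ρ : G →* AddMonoid.End V} {S : Subgroup G} {v : V} :
    v ∈ fixSet ρ S ↔ ∀ g ∈ S, ρ g v = v := Iff.rfl

theorem mul_inv_apply (ρ : G →* AddMonoid.End V) (g : G) (v : V) : ρ g (ρ g⁻¹ v) = v := by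
  show (ρ g * ρ g⁻¹) v = v
  rw [← map_mul, mul_inv_cancel, map_one]; rfl

/-- The action on an invariant subgroup. -/
def restrict (ρ : G →* AddMonoid.End V) (A : AddSubgroup V) (hA : ∀ g, ∀ v ∈ A, ρ g v ∈ A) :
    G →* AddMonoid.End A where
  toFun g :=
    { toFun := fun v => ⟨ρ g v, hA g v v.2⟩
      map_zero' := Subtype.ext (map_zero (ρ g))
      map_add' := fun v w => Subtype.ext (map_add (ρ g) (v : V) w) }
  map_one' := AddMonoidHom.ext fun v => Subtype.ext (by show ρ 1 (v : V) = v; rw [map_one]; rfl)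
  map_mul' g h := AddMonoidHom.ext fun v =>
    Subtype.ext (by show ρ (g * h) (v : V) = ρ g (ρ h v); rw [map_mul]; rfl)

theorem card_fixSet_restrict (ρ : G →* AddMonoid.End V) (A : AddSubgroup V)
    (hA : ∀ g, ∀ v ∈ A, ρ g v ∈ A) (S : Subgroup G) :
    Nat.card (fixSet (restrict ρ A hA) S) = Nat.card (fixSet ρ S ⊓ A : AddSubgroup V) :=
  Nat.card_congr
    { toFun := fun v => ⟨v.1.1, fun g hg => congrArg Subtype.val (v.2 g hg), v.1.2⟩
      invFun := fun v => ⟨⟨v.1, v.2.2⟩, fun g hg => Subtype.ext (v.2.1 g hg)⟩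
      left_inv := fun _ => rfl
      right_inv := fun _ => rfl }

/-- An idempotent projection whose `E`-conjugates decompose `1` gives a free `E`-module. -/
theorem card_eq_of_projection {E : Type*} [Group E] [Fintype E] (ρ : E →* AddMonoid.End V)
    (P : AddMonoid.End V) (hsum : ∀ w : V, ∑ e, ρ e (P (ρ e⁻¹ w)) = w)
    (hidem : ∀ w, P (P w) = P w) (horth : ∀ e, e ≠ 1 → ∀ w, P (ρ e (P w)) = 0) :
    Nat.card V = Nat.card (fixSet ρ ⊤) ^ Nat.card E := by
  classical
  have hpick : ∀ (f : E → AddMonoidHom.range (P : V →+ V)) (e₀ : E),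
      P (ρ e₀⁻¹ (∑ e, ρ e (f e : V))) = f e₀ := by
    intro f e₀
    rw [map_sum, map_sum, Finset.sum_eq_single e₀]
    · obtain ⟨w, hw⟩ := (f e₀).2
      rw [show ρ e₀⁻¹ (ρ e₀ (f e₀ : V)) = f e₀ by
        simpa using mul_inv_apply ρ e₀⁻¹ (f e₀ : V), ← hw]
      exact hidem w
    · intro e _ he
      obtain ⟨w, hw⟩ := (f e).2
      have h := horth (e₀⁻¹ * e) (fun h => he (inv_mul_eq_one.mp h).symm) w
      rw [map_mul] at h
      rw [← hw]
      exact h
    · simp
  have h1 : Nat.card V = Nat.card (AddMonoidHom.range (P : V →+ V)) ^ Nat.card E := by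
    rw [← Nat.card_fun]
    exact Nat.card_congr
      { toFun := fun w e => ⟨P (ρ e⁻¹ w), _, rfl⟩
        invFun := fun f => ∑ e, ρ e (f e : V)
        left_inv := fun w => hsum w
        right_inv := fun f => funext fun e₀ => Subtype.ext (hpick f e₀) }
  have h2 : Nat.card (fixSet ρ ⊤) = Nat.card (AddMonoidHom.range (P : V →+ V)) := Nat.card_congr
    { toFun := fun w => ⟨P w, _, rfl⟩
      invFun := fun x => ⟨∑ e, ρ e (x : V), fun g _ => by
        rw [map_sum]
        refine Fintype.sum_equiv (Equiv.mulLeft g) _ _ fun e => ?_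
        rw [Equiv.coe_mulLeft, map_mul]; rfl⟩
      left_inv := fun w => Subtype.ext (by
        conv_rhs => rw [← hsum (w : V)]
        exact Finset.sum_congr rfl fun e _ => by rw [w.2 e⁻¹ (Subgroup.mem_top _)])
      right_inv := fun x => Subtype.ext (by
        have := hpick (fun _ => x) 1
        simpa using this) }
  rw [h2, h1]

/-- Fixed points split along an equivariant idempotent. -/
theorem card_fixSet_split [Finite V] (ρ : G →* AddMonoid.End V) (a : AddMonoid.End V)
    (hidem : ∀ v, a (a v) = a v) (hcomm : ∀ g v, ρ g (a v) = a (ρ g v)) (S : Subgroup G) :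
    Nat.card (fixSet ρ S) = Nat.card (fixSet ρ S ⊓ AddMonoidHom.range (a : V →+ V) : AddSubgroup V) *
      Nat.card (fixSet ρ S ⊓ AddMonoidHom.ker (a : V →+ V) : AddSubgroup V) := by
  rw [← Nat.card_prod]
  exact Nat.card_congr
    { toFun := fun v => (⟨a v, fun g hg => by rw [hcomm, v.2 g hg], _, rfl⟩,
        ⟨(v : V) - a v, fun g hg => by rw [map_sub, hcomm, v.2 g hg],
          by show a ((v : V) - a v) = 0; rw [map_sub, hidem, sub_self]⟩)
      invFun := fun x => ⟨(x.1 : V) + x.2, fun g hg => by rw [map_add, x.1.2.1 g hg, x.2.2.1 g hg]⟩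
      left_inv := fun v => Subtype.ext (add_sub_cancel (a (v : V)) _)
      right_inv := fun x => by
        obtain ⟨w, hw⟩ := x.1.2.2
        have hk : a (x.2 : V) = 0 := x.2.2.2
        have hx : a (x.1 : V) = x.1 := by rw [← hw]; exact hidem w
        refine Prod.ext (Subtype.ext ?_) (Subtype.ext ?_)
        · show a ((x.1 : V) + x.2) = x.1
          rw [map_add, hx, hk, add_zero]
        · show (x.1 : V) + x.2 - a ((x.1 : V) + x.2) = x.2
          rw [map_add, hx, hk, add_zero, add_sub_cancel_left] }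

end Fixed

section Average

variable {M : Type*} [Group M] {W : Type*} [AddCommGroup W]

/-- The averaging idempotent. -/
def avg [Fintype M] (c : ℕ) (σ : M →* AddMonoid.End W) : AddMonoid.End W :=
  (c : AddMonoid.End W) * ∑ u, σ u

theorem avg_apply [Fintype M] (c : ℕ) (σ : M →* AddMonoid.End W) (w : W) :
    avg c σ w = c • ∑ u, σ u w := by
  rw [avg]
  show (c : AddMonoid.End W) ((∑ u, σ u : AddMonoid.End W) w) = _
  rw [show ((∑ u, σ u : AddMonoid.End W)) w = ∑ u, σ u w from AddMonoidHom.finsetSum_apply _ _ _]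
  rfl

theorem apply_avg [Fintype M] (c : ℕ) (σ : M →* AddMonoid.End W) (v : M) (w : W) :
    σ v (avg c σ w) = avg c σ w := by
  rw [avg_apply, map_nsmul, map_sum]
  congr 1
  exact Fintype.sum_equiv (Equiv.mulLeft v) _ _ fun u => by rw [Equiv.coe_mulLeft, map_mul]; rfl

theorem avg_of_fixed [Fintype M] {c : ℕ} (hc : ∀ w : W, c • (Nat.card M • w) = w)
    (σ : M →* AddMonoid.End W) (w : W) (h : ∀ v, σ v w = w) : avg c σ w = w := by
  rw [avg_apply, Finset.sum_congr rfl fun u _ => h u, Finset.sum_const, Finset.card_univ,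
    ← Nat.card_eq_fintype_card]
  exact hc w

theorem avg_idem [Fintype M] {c : ℕ} (hc : ∀ w : W, c • (Nat.card M • w) = w)
    (σ : M →* AddMonoid.End W) (w : W) : avg c σ (avg c σ w) = avg c σ w :=
  avg_of_fixed hc σ _ fun v => apply_avg c σ v w

/-- An inverse of a number prime to the order. -/
theorem exists_inverse_scalar [Finite W] {n : ℕ} (h : n.Coprime (Nat.card W)) :
    ∃ c : ℕ, ∀ w : W, c • (n • w) = w := by
  rcases (Nat.one_le_iff_ne_zero.mpr (Nat.card_pos (α := W)).ne').lt_or_eq with hlt | heq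
  · obtain ⟨c, -, hc⟩ := Nat.exists_mul_mod_eq_one_of_coprime h hlt
    refine ⟨c, fun w => ?_⟩
    rw [← mul_nsmul', mul_comm]
    conv_lhs => rw [← Nat.div_add_mod (n * c) (Nat.card W), hc]
    rw [add_nsmul, mul_nsmul, card_nsmul_eq_zero', one_nsmul, nsmul_zero, zero_add]
  · haveI : Subsingleton W := (Nat.card_eq_one_iff_unique.mp heq.symm).1
    exact ⟨0, fun w => Subsingleton.elim _ _⟩

theorem eq_zero_of_coprime_nsmul [Finite W] {n : ℕ} (h : n.Coprime (Nat.card W)) {w : W}
    (hw : n • w = 0) : w = 0 := by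
  obtain ⟨c, hc⟩ := exists_inverse_scalar h
  rw [← hc w, hw, nsmul_zero]

end Average

end CfsgLib.OddOrder41.FixedFormula
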