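import Cfsg.Agent.Lib.OddOrder41.FixedFormulaModule

set_option autoImplicit false

/-! A fixed-point-free elementary abelian section splits a module into a free module for the
complement. -/

namespace CfsgLib.OddOrder41.FixedFormula

open Finset
open scoped commutatorElement

variable {G : Type*} [Group G] [Finite G]

/-- An elementary abelian group has enough homomorphisms onto `ZMod q`. -/
theorem exists_hom_ne_one {q : ℕ} [Fact q.Prime] {Q : Type*} [CommGroup Q] (hQ : ∀ a : Q, a ^ q = 1)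
    {x : Q} (hx : x ≠ 1) : ∃ f : Q →* Multiplicative (ZMod q), f x ≠ 1 := by
  letI : Module (ZMod q) (Additive Q) :=
    AddCommGroup.zmodModule fun a => congrArg Additive.ofMul (hQ (Additive.toMul a))
  obtain ⟨f, hf⟩ : ∃ f : Additive Q →+ ZMod q, f (Additive.ofMul x) ≠ 0 := by
    by_contra hcon
    push Not at hcon
    exact hx ((Module.forall_dual_apply_eq_zero_iff (ZMod q) (Additive.ofMul x)).mp fun g =>
      hcon g.toAddMonoidHom)
  exact ⟨AddMonoidHom.toMultiplicativeRight f, fun h => hf (congrArg Multiplicative.toAdd h)⟩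

/-- Characters with values in `ZMod q` separate points of an elementary abelian quotient. -/
theorem exists_character {q : ℕ} [Fact q.Prime] {M : Type*} [Group M] (N : Subgroup M) [N.Normal]
    (hcomm : ∀ u v : M, ⁅u, v⁆ ∈ N) (hpow : ∀ u : M, u ^ q ∈ N) (u : M) (hu : u ∉ N) :
    ∃ lam : M →* Multiplicative (ZMod q), (∀ n ∈ N, lam n = 1) ∧ lam u ≠ 1 := by
  letI : CommGroup (M ⧸ N) :=
    { (inferInstance : Group (M ⧸ N)) with
      mul_comm := fun a b => by
        obtain ⟨a, rfl⟩ := QuotientGroup.mk'_surjective N a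
        obtain ⟨b, rfl⟩ := QuotientGroup.mk'_surjective N b
        rw [← commute_iff_eq, ← commutatorElement_eq_one_iff_commute, ← map_commutatorElement]
        exact (QuotientGroup.eq_one_iff _).mpr (hcomm a b) }
  have hQ : ∀ a : M ⧸ N, a ^ q = 1 := fun a => by
    obtain ⟨a, rfl⟩ := QuotientGroup.mk'_surjective N a
    rw [← map_pow]
    exact (QuotientGroup.eq_one_iff _).mpr (hpow a)
  obtain ⟨f, hf⟩ := exists_hom_ne_one hQ (x := QuotientGroup.mk' N u) fun h =>
    hu ((QuotientGroup.eq_one_iff u).mp h)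
  exact ⟨f.comp (QuotientGroup.mk' N),
    fun n hn => by
      rw [MonoidHom.comp_apply, show QuotientGroup.mk' N n = 1 from (QuotientGroup.eq_one_iff n).mpr hn, map_one],
    hf⟩

/-- The splitting lemma: the module is free for `E` once roots of unity are available. -/
theorem card_eq_of_section {q : ℕ} [Fact q.Prime] {W : Type*} [AddCommGroup W] [Finite W]
    (ρ : G →* AddMonoid.End W) (T : AddMonoid.End W) (hTq : T ^ q = 1) (hT0 : ∀ w, T w = w → w = 0)
    (hTρ : ∀ g, Commute T (ρ g)) (N' E : Subgroup G) [N'.Normal]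
    (hcomm : ∀ u ∈ N', ∀ v ∈ N', ρ ⁅u, v⁆ = 1) (hpow : ∀ u ∈ N', ρ (u ^ q) = 1)
    (hfpf : ∀ e ∈ E, e ≠ 1 → ∀ u ∈ N', ρ (e * u * e⁻¹ * u⁻¹) = 1 → ρ u = 1)
    (hcopE : (Nat.card E).Coprime q) (hcopW : (Nat.card N').Coprime (Nat.card W)) (hqW : q.Coprime (Nat.card W))
    (h0 : ∀ w, (∀ u ∈ N', ρ u w = w) → w = 0) :
    Nat.card W = Nat.card (fixSet ρ E) ^ Nat.card E := by
  classical
  haveI := Fintype.ofFinite N'
  obtain ⟨c, hc⟩ := exists_inverse_scalar hcopW
  -- the scalar action of the roots of unity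
  let χ : Multiplicative (ZMod q) →* AddMonoid.End W :=
    { toFun := fun a => T ^ (Multiplicative.toAdd a : ZMod q).val
      map_one' := by rw [toAdd_one, ZMod.val_zero, pow_zero]
      map_mul' := fun a b => by rw [← pow_add, toAdd_mul, ZMod.val_add, ← pow_eq_pow_mod _ hTq] }
  have hχρ : ∀ a g, Commute (χ a) (ρ g) := fun a g => (hTρ g).pow_left _
  have hχfix : ∀ a, a ≠ 1 → ∀ w, χ a w = w → w = 0 := by
    intro a ha w hw
    refine hT0 w ?_
    have ha' : Multiplicative.toAdd a ≠ 0 := fun h => ha (Multiplicative.toAdd.injective h)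
    obtain ⟨k, hk⟩ : ∃ k : ℕ, a ^ k = Multiplicative.ofAdd (1 : ZMod q) :=
      ⟨(Multiplicative.toAdd a)⁻¹.val, Multiplicative.toAdd.injective (by
        rw [toAdd_pow, toAdd_ofAdd, nsmul_eq_mul, ZMod.natCast_val, ZMod.cast_id, inv_mul_cancel₀ ha'])⟩
    have hall : ∀ k : ℕ, χ (a ^ k) w = w := by
      intro k
      induction k with
      | zero => rw [pow_zero, map_one]; rfl
      | succ k ih => rw [pow_succ, map_mul]; show χ (a ^ k) (χ a w) = w; rw [hw, ih]
    have h1 := hall k
    rw [hk] at h1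
    have : χ (Multiplicative.ofAdd (1 : ZMod q)) = T := by
      show T ^ (1 : ZMod q).val = T
      rw [ZMod.val_one, pow_one]
    rwa [this] at h1
  -- the kernel inside `N'` and the characters killing it
  let K : Subgroup N' := (MonoidHom.ker ρ).subgroupOf N'
  have hK : ∀ u : N', u ∈ K ↔ ρ (u : G) = 1 := fun u => Iff.rfl
  let Λ : Subgroup (N' →* Multiplicative (ZMod q)) :=
    { carrier := {lam | ∀ u ∈ K, lam u = 1}
      one_mem' := fun u _ => rfl
      mul_mem' := fun {x y} hx hy u hu => by rw [MonoidHom.mul_apply, hx u hu, hy u hu, one_mul]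
      inv_mem' := fun {x} hx u hu => by rw [MonoidHom.inv_apply, hx u hu, inv_one] }
  haveI : Finite (N' →* Multiplicative (ZMod q)) :=
    Finite.of_injective (fun f => (f : N' → Multiplicative (ZMod q))) DFunLike.coe_injective
  haveI := Fintype.ofFinite Λ
  let σ : Λ → N' →* AddMonoid.End W := fun lam =>
    { toFun := fun u => χ (lam.1 u)⁻¹ * ρ (u : G)
      map_one' := by rw [map_one, inv_one, map_one, Subgroup.coe_one, map_one, mul_one]
      map_mul' := fun u v => by
        rw [map_mul, mul_inv, map_mul, Subgroup.coe_mul, map_mul]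
        exact (hχρ _ _).mul_mul_mul_comm _ _ }
  let P : Λ → AddMonoid.End W := fun lam => avg c (σ lam)
  have hP : ∀ (lam : Λ) (u : N') (w : W), ρ (u : G) (P lam w) = χ (lam.1 u) (P lam w) := by
    intro lam u w
    conv_rhs => rw [← apply_avg c (σ lam) u w]
    show _ = χ (lam.1 u) (χ (lam.1 u)⁻¹ (ρ (u : G) (P lam w)))
    exact (mul_inv_apply χ (lam.1 u) (ρ (u : G) (P lam w))).symm
  have hchar : ∀ (f : N' →* Multiplicative (ZMod q)), f ≠ 1 → ∀ w, ∑ u, χ (f u) w = 0 := by
    intro f hf w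
    obtain ⟨u₀, hu₀⟩ : ∃ u₀, f u₀ ≠ 1 := by
      by_contra hcon
      push Not at hcon
      exact hf (MonoidHom.ext hcon)
    refine hχfix _ hu₀ _ ?_
    rw [map_sum]
    exact Fintype.sum_equiv (Equiv.mulLeft u₀) _ _ fun u => by
      rw [Equiv.coe_mulLeft, map_mul, map_mul]; rfl
  have horth : ∀ lam mu : Λ, lam ≠ mu → ∀ w, P mu (P lam w) = 0 := by
    intro lam mu hne w
    show avg c (σ mu) (P lam w) = 0
    rw [avg_apply]
    have : ∀ u, σ mu u (P lam w) = χ ((mu⁻¹ * lam).1 u) (P lam w) := by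
      intro u
      show χ (mu.1 u)⁻¹ (ρ (u : G) (P lam w)) = _
      rw [hP, Subgroup.coe_mul, MonoidHom.mul_apply, map_mul]
      rfl
    rw [Finset.sum_congr rfl fun u _ => this u, hchar _ (fun h => hne ?_), nsmul_zero]
    exact (inv_mul_eq_one.mp (Subtype.ext h)).symm
  -- completeness
  let S : AddMonoid.End W := ∑ lam, P lam
  have hSapply : ∀ w, S w = ∑ lam, P lam w := fun w => AddMonoidHom.finsetSum_apply _ _ _
  have hSidem : ∀ w, S (S w) = S w := by
    intro w
    rw [hSapply (S w), hSapply w]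
    refine Finset.sum_congr rfl fun mu _ => ?_
    rw [map_sum, Finset.sum_eq_single mu]
    · exact avg_idem hc _ w
    · exact fun lam _ hne => horth lam mu hne w
    · simp
  haveI : K.Normal := by rw [show K = _ from rfl]; infer_instance
  have hsep : ∀ u : N', u ∉ K → ∃ lam : Λ, lam.1 u ≠ 1 := fun u hu => by
    obtain ⟨lam, hl, hlu⟩ := exists_character K (fun a b => (hK _).mpr (by
      rw [show ((⁅a, b⁆ : N') : G) = ⁅(a : G), (b : G)⁆ from map_commutatorElement N'.subtype a b]
      exact hcomm a a.2 b b.2)) (fun a => (hK _).mpr (hpow a a.2)) u hu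
    exact ⟨⟨lam, hl⟩, hlu⟩
  have hSscalar : ∀ w, S w = (c * Nat.card K * Nat.card Λ) • w := by
    intro w
    rw [hSapply]
    have : ∀ lam, P lam w = c • ∑ u, χ (lam.1 u)⁻¹ (ρ (u : G) w) := fun lam => avg_apply c (σ lam) w
    rw [Finset.sum_congr rfl fun lam _ => this lam, ← Finset.smul_sum, Finset.sum_comm]
    have hin : ∀ u : N', (∑ lam : Λ, χ (lam.1 u)⁻¹ (ρ (u : G) w)) = if u ∈ K then Nat.card Λ • w else 0 := by
      intro u
      split_ifs with hu
      · rw [Finset.sum_congr rfl fun lam _ => show χ (lam.1 u)⁻¹ (ρ (u : G) w) = w by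
          rw [(hK u).mp hu, lam.2 u hu, inv_one, map_one]; rfl, Finset.sum_const, Finset.card_univ,
          ← Nat.card_eq_fintype_card]
      · obtain ⟨lam₀, h₀⟩ := hsep u hu
        refine hχfix _ (inv_ne_one.mpr h₀) _ ?_
        rw [map_sum]
        refine Fintype.sum_equiv (Equiv.mulLeft lam₀) _ _ fun lam => ?_
        rw [Equiv.coe_mulLeft, Subgroup.coe_mul, MonoidHom.mul_apply, mul_inv, map_mul]
        rfl
    rw [Finset.sum_congr rfl fun u _ => hin u, ← Finset.sum_filter, Finset.sum_const, ← mul_nsmul',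
      ← mul_nsmul']
    simp [Nat.card_eq_fintype_card, Fintype.card_subtype, mul_comm, mul_assoc, mul_left_comm]
  have hStot : ∀ w, S w = w := by
    intro w
    set m := c * Nat.card K * Nat.card Λ with hm
    have hpg : IsPGroup q Λ := fun lam => ⟨1, by
      rw [pow_one]
      refine Subtype.ext (MonoidHom.ext fun u => ?_)
      show (lam.1 u) ^ q = 1
      refine Multiplicative.toAdd.injective ?_
      rw [toAdd_pow, toAdd_one, nsmul_eq_mul, ZMod.natCast_self, zero_mul]⟩
    obtain ⟨k, hk⟩ := IsPGroup.iff_card.mp hpg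
    have hmW : m.Coprime (Nat.card W) := by
      refine Nat.Coprime.mul_left (Nat.Coprime.mul_left ?_ (hcopW.coprime_dvd_left K.card_subgroup_dvd_card)) ?_
      · by_contra hcon
        obtain ⟨r, hr, hrc, hrW⟩ := Nat.Prime.not_coprime_iff_dvd.mp hcon
        haveI := Fact.mk hr
        obtain ⟨w₀, hw₀⟩ := exists_prime_addOrderOf_dvd_card' r hrW
        have hr0 : r • w₀ = 0 := hw₀ ▸ addOrderOf_nsmul_eq_zero w₀
        have h := hc w₀
        obtain ⟨d, rfl⟩ := hrc
        rw [mul_comm r d, mul_nsmul', smul_comm r, hr0, smul_zero, smul_zero] at h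
        rw [← h, addOrderOf_zero] at hw₀
        exact hr.ne_one hw₀.symm
      · rw [hk]; exact hqW.pow_left k
    refine sub_eq_zero.mp (eq_zero_of_coprime_nsmul hmW ?_)
    rw [← hSscalar, map_sub, hSidem, sub_self]
  -- the action of `E` on characters
  let act : E → Λ → Λ := fun e lam =>
    ⟨lam.1.comp (((MulAut.conjNormal (e : G)⁻¹) : MulAut N') : N' →* N'), fun u hu => lam.2 _ <| (hK _).mpr <| by
      show ρ ((MulAut.conjNormal (e : G)⁻¹ u : N') : G) = 1
      rw [MulAut.conjNormal_apply, map_mul, map_mul, (hK u).mp hu, mul_one, ← map_mul, mul_inv_cancel, map_one]⟩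
  letI : MulAction E Λ :=
    { smul := act
      one_smul := fun lam => Subtype.ext (MonoidHom.ext fun u => congrArg lam.1 (Subtype.ext (by simp)))
      mul_smul := fun a b lam => Subtype.ext (MonoidHom.ext fun u => congrArg lam.1 (Subtype.ext (by
        simp [mul_assoc]))) }
  have hactP : ∀ (e : E) (lam : Λ) (w : W), ρ (e : G) (P lam (ρ (e : G)⁻¹ w)) = P (e • lam) w := by
    intro e lam w
    show ρ (e : G) (avg c (σ lam) _) = avg c (σ (e • lam)) w
    rw [avg_apply, avg_apply, map_nsmul, map_sum]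
    congr 1
    refine Fintype.sum_equiv (MulAut.conjNormal (e : G) : MulAut N').toEquiv _ _ fun u => ?_
    show (ρ (e : G) * (χ (lam.1 u)⁻¹ * ρ (u : G)) * ρ (e : G)⁻¹) w =
      (χ ((act e lam).1 (MulAut.conjNormal (e : G) u))⁻¹ * ρ (MulAut.conjNormal (e : G) u : N')) w
    congr 1
    rw [MulAut.conjNormal_apply, map_mul, map_mul,
      show (act e lam).1 (MulAut.conjNormal (e : G) u) = lam.1 u from congrArg lam.1 (Subtype.ext (by simp [mul_assoc])),
      ← mul_assoc (ρ (e : G)), ← (hχρ _ (e : G)).eq]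
    simp only [mul_assoc]
  have hfree : ∀ (e : E) (lam : Λ), e • lam = lam → lam ≠ 1 → e = 1 := by
    intro e lam he hlam
    by_contra he1
    refine hlam (Subtype.ext (MonoidHom.ext fun u => ?_))
    have heN : ∀ (k : ℕ) (v : N'), (e : G) ^ k * v * ((e : G) ^ k)⁻¹ ∈ N' :=
      fun k v => Subgroup.Normal.conj_mem inferInstance _ v.2 _
    have hconj : ∀ v : N', lam.1 ⟨(e : G) * v * (e : G)⁻¹, Subgroup.Normal.conj_mem inferInstance _ v.2 _⟩ = lam.1 v := by
      intro v
      conv_lhs => rw [← he]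
      exact congrArg lam.1 (Subtype.ext (by simp [mul_assoc]))
    -- the norm of `u`
    have key : ∀ n : ℕ, ∃ x : N', ((u : G) * e) ^ n = x * (e : G) ^ n ∧ lam.1 x = lam.1 u ^ n := by
      intro n
      induction n with
      | zero => exact ⟨1, by simp, by rw [map_one, pow_zero]⟩
      | succ n ih =>
        obtain ⟨x, hx, hlx⟩ := ih
        refine ⟨u * ⟨(e : G) * x * (e : G)⁻¹, Subgroup.Normal.conj_mem inferInstance _ x.2 _⟩, ?_, ?_⟩
        · rw [pow_succ', hx, Subgroup.coe_mul, pow_succ' (e : G)]; group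
        · rw [map_mul, hconj, hlx, pow_succ']
    obtain ⟨x, hx, hlx⟩ := key (orderOf (e : G))
    rw [pow_orderOf_eq_one, mul_one] at hx
    have hxK : ρ (x : G) = 1 := by
      refine hfpf e e.2 (fun h => he1 (Subtype.ext h)) x x.2 ?_
      have h2 : (u : G) * e * x * ((u : G) * e)⁻¹ = x := by
        rw [← hx, (Commute.self_pow ((u : G) * e) _).eq, mul_inv_cancel_right]
      have h3 : (e : G) * x * (e : G)⁻¹ * (x : G)⁻¹ = ⁅(u : G)⁻¹, (x : G)⁆ := by
        rw [commutatorElement_def, inv_inv]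
        conv_rhs => arg 1; arg 1; arg 2; rw [← h2]
        group
      rw [h3]
      exact hcomm _ (N'.inv_mem u.2) _ x.2
    rw [lam.2 x ((hK x).mpr hxK)] at hlx
    refine orderOf_eq_one_iff.mp (Nat.eq_one_of_dvd_coprimes hcopE
      ((orderOf_dvd_of_pow_eq_one hlx.symm).trans ?_) (orderOf_dvd_of_pow_eq_one ?_))
    · exact E.orderOf_dvd_natCard e.2
    · refine Multiplicative.toAdd.injective ?_
      rw [toAdd_pow, toAdd_one, nsmul_eq_mul, ZMod.natCast_self, zero_mul]
  -- orbit representatives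
  haveI := Fintype.ofFinite E
  haveI : Fintype (MulAction.orbitRel.Quotient E Λ) := Fintype.ofFinite _
  let rep : MulAction.orbitRel.Quotient E Λ → Λ := Quotient.out
  let R : Finset (MulAction.orbitRel.Quotient E Λ) := Finset.univ.filter fun o => rep o ≠ 1
  have hone : ∀ e : E, e • (1 : Λ) = 1 := fun e => Subtype.ext rfl
  have hbij : ∀ w, ∑ e : E, ∑ o ∈ R, P (e • rep o) w = ∑ lam ∈ Finset.univ.erase (1 : Λ), P lam w := by
    intro w
    rw [← Finset.sum_product']
    refine Finset.sum_bij (fun x _ => x.1 • rep x.2) ?_ ?_ ?_ (fun _ _ => rfl)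
    · intro x hx
      refine Finset.mem_erase.mpr ⟨fun h => (Finset.mem_filter.mp (Finset.mem_product.mp hx).2).2 ?_,
        Finset.mem_univ _⟩
      rw [← inv_smul_smul x.1 (rep x.2), h, hone]
    · rintro ⟨e, o⟩ hx ⟨e', o'⟩ hx' h
      dsimp only at h
      have ho : o = o' := by
        rw [← Quotient.out_eq o, ← Quotient.out_eq o']
        exact Quotient.sound (MulAction.orbitRel_apply.mpr ⟨e⁻¹ * e', by
          show (e⁻¹ * e') • rep o' = rep o
          rw [mul_smul, ← h, inv_smul_smul]⟩)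
      subst ho
      refine Prod.ext (inv_mul_eq_one.mp (hfree _ (rep o) (by rw [mul_smul, ← h, inv_smul_smul])
        (Finset.mem_filter.mp (Finset.mem_product.mp hx).2).2)) rfl
    · intro lam hlam
      obtain ⟨e, he⟩ : ∃ e : E, e • rep (Quotient.mk'' lam) = lam := by
        have : (MulAction.orbitRel E Λ) (rep (Quotient.mk'' lam)) lam := Quotient.mk_out lam
        obtain ⟨e, he⟩ := MulAction.orbitRel_apply.mp this
        exact ⟨e⁻¹, by rw [inv_smul_eq_iff]; exact he.symm⟩
      refine ⟨(e, Quotient.mk'' lam), Finset.mem_product.mpr ⟨Finset.mem_univ _,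
        Finset.mem_filter.mpr ⟨Finset.mem_univ _, fun h => (Finset.mem_erase.mp hlam).1 ?_⟩⟩, he⟩
      rw [← he, h, hone]
  have hP1 : ∀ w, P 1 w = 0 := fun w => h0 _ fun u hu => by
    rw [hP 1 ⟨u, hu⟩ w]
    show χ 1 _ = _
    rw [map_one]; rfl
  let Q : AddMonoid.End W := ∑ o ∈ R, P (rep o)
  have hQ : ∀ w, Q w = ∑ o ∈ R, P (rep o) w := fun w => AddMonoidHom.finsetSum_apply _ _ _
  have hrep_inj : ∀ o o', rep o = rep o' → o = o' := fun o o' h => Quotient.out_injective h
  have hfix : fixSet (ρ.comp E.subtype) ⊤ = fixSet ρ E := by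
    ext w
    exact ⟨fun h g hg => h ⟨g, hg⟩ (Subgroup.mem_top _), fun h g _ => h g g.2⟩
  rw [← hfix]
  refine card_eq_of_projection (ρ.comp E.subtype) Q ?_ ?_ ?_
  · intro w
    have : ∀ e : E, ρ (e : G) (Q (ρ ((e⁻¹ : E) : G) w)) = ∑ o ∈ R, P (e • rep o) w := by
      intro e
      rw [hQ, map_sum]
      exact Finset.sum_congr rfl fun o _ => by rw [Subgroup.coe_inv]; exact hactP e _ w
    refine (Finset.sum_congr rfl fun e _ => this e).trans ?_
    conv_rhs => rw [← hStot w, hSapply, ← Finset.add_sum_erase _ _ (Finset.mem_univ (1 : Λ)), hP1, zero_add]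
    exact hbij w
  · intro w
    rw [hQ (Q w), hQ w]
    refine Finset.sum_congr rfl fun o ho => ?_
    rw [map_sum, Finset.sum_eq_single o]
    · exact avg_idem hc _ w
    · exact fun o' _ hne => horth _ _ (fun h => hne (hrep_inj _ _ h)) w
    · exact fun h => absurd ho h
  · intro e he w
    show Q (ρ (e : G) (Q w)) = 0
    have h : ∀ o, ρ (e : G) (P (rep o) w) = P (e • rep o) (ρ (e : G) w) := fun o => by
      rw [← hactP e (rep o) (ρ (e : G) w)]
      congr 2
      simpa using (mul_inv_apply ρ (e : G)⁻¹ w).symm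
    rw [hQ w, map_sum, hQ]
    refine Finset.sum_eq_zero fun o ho => ?_
    rw [map_sum]
    refine Finset.sum_eq_zero fun o' _ => ?_
    rw [h]
    refine horth _ _ (fun heq => he ?_) _
    have : o' = o := by
      rw [← Quotient.out_eq o', ← Quotient.out_eq o]
      exact Quotient.sound (MulAction.orbitRel_apply.mpr ⟨e⁻¹, by
        show e⁻¹ • rep o = rep o'
        rw [← heq, inv_smul_smul]⟩)
    subst this
    exact hfree e (rep o') heq (Finset.mem_filter.mp ho).2

end CfsgLib.OddOrder41.FixedFormula
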