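import Cfsg.Agent.Lib.OddOrder41.SymplecticFpf

set_option autoImplicit false

/-! BG 3.4: an operator of odd prime order without fixed points on `V` acts trivially on the image
of an odd order group it normalises. -/

namespace CfsgLib.OddOrder41.SymplecticCount

open Finset CfsgLib.OddOrder41.RootProj
open scoped commutatorElement

universe u v w

variable {k : Type u} [Field k] [IsAlgClosed k] {p q : ℕ}

theorem fpf_linear [hp : Fact p.Prime] [hq : Fact q.Prime] (hp2 : p ≠ 2) (hq2 : q ≠ 2) (hpq : p ≠ q)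
    (hpk : (p : k) ≠ 0) (hqk : (q : k) ≠ 0)
    {Q : Type v} [Group Q] [Finite Q] (hQ : IsPGroup q Q)
    {W : Type w} [AddCommGroup W] [Module k W] [FiniteDimensional k W]
    (ρ : Q →* Module.End k W) (σ : MulAut Q) (hσ : σ ^ p = 1) (U : Module.End k W)
    (hU : ∀ x, U * ρ x = ρ (σ x) * U) (hsum : ∀ w, ∑ i ∈ range p, (U ^ i) w = 0) :
    ∀ x, ρ (σ x) = ρ x := by
  suffices H : ∀ n, ∀ {Q : Type v} [Group Q] [Finite Q] {W : Type w} [AddCommGroup W] [Module k W]
      [FiniteDimensional k W] (ρ : Q →* Module.End k W) (σ : MulAut Q) (U : Module.End k W),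
      Nat.card Q + Module.finrank k W = n → IsPGroup q Q → σ ^ p = 1 →
      (∀ x, U * ρ x = ρ (σ x) * U) → (∀ w, ∑ i ∈ range p, (U ^ i) w = 0) →
      ∀ x, ρ (σ x) = ρ x from H _ ρ σ U rfl hQ hσ hU hsum
  intro n
  induction n using Nat.strongRecOn with
  | _ n ih =>
  intro Q _ _ W _ _ _ ρ σ U hn hQ hσ hU hsum
  subst hn
  classical
  rcases subsingleton_or_nontrivial W with hW | hW
  · intro x; exact Subsingleton.elim _ _
  have hUp : U ^ p = 1 := by
    have h0 : ∑ i ∈ range p, U ^ i = 0 := LinearMap.ext fun w => by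
      rw [LinearMap.sum_apply]; exact hsum w
    have := mul_geom_sum U p
    rw [h0, mul_zero] at this
    exact (sub_eq_zero.mp this.symm)
  have hUinv : U * U ^ (p - 1) = 1 := by rw [← pow_succ', Nat.sub_add_cancel hp.out.pos, hUp]
  have hσker : ∀ x, ρ x = 1 → ρ (σ x) = 1 := fun x hx => by
    have h := hU x
    rw [hx, mul_one] at h
    calc ρ (σ x) = ρ (σ x) * (U * U ^ (p - 1)) := by rw [hUinv, mul_one]
      _ = U * U ^ (p - 1) := by rw [← mul_assoc, ← h]
      _ = 1 := hUinv
  -- faithfulness
  by_cases hinj : Function.Injective ρ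
  swap
  · set K := MonoidHom.ker ρ with hK
    have hKmap : K.map σ.toMonoidHom = K := by
      refine Subgroup.eq_of_le_of_card_ge ?_ ?_
      · rintro _ ⟨x, hx, rfl⟩; exact hσker x hx
      · rw [Subgroup.card_map_of_injective σ.injective]
    have hlt : Nat.card (Q ⧸ K) < Nat.card Q := by
      have hK1 : K ≠ ⊥ := fun h => hinj ((MonoidHom.ker_eq_bot_iff ρ).mp h)
      rw [K.card_eq_card_quotient_mul_card_subgroup]
      exact lt_mul_of_one_lt_right Nat.card_pos (K.one_lt_card_iff_ne_bot.mpr hK1)
    let ρ' : Q ⧸ K →* Module.End k W := QuotientGroup.lift K ρ le_rfl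
    let σ' : MulAut (Q ⧸ K) := QuotientGroup.congr K K σ hKmap
    have hσ' : ∀ (i : ℕ) (x : Q), (σ' ^ i) (QuotientGroup.mk x) = QuotientGroup.mk ((σ ^ i) x) := by
      intro i
      induction i with
      | zero => intro x; rfl
      | succ i ih => intro x; rw [pow_succ', pow_succ', MulAut.mul_apply, ih]; rfl
    intro x
    exact ih _ (by omega) ρ' σ' U rfl (hQ.to_quotient K)
      (MulEquiv.ext fun c => by
        obtain ⟨c, rfl⟩ := QuotientGroup.mk_surjective c
        rw [hσ', hσ]; rfl)
      (fun c => by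
        obtain ⟨c, rfl⟩ := QuotientGroup.mk_surjective c
        exact hU c) hsum (QuotientGroup.mk x)
  -- invariant proper subgroups are fixed
  have hproper : ∀ H : Subgroup Q, H ≠ ⊤ → (∀ x ∈ H, σ x ∈ H) → ∀ x ∈ H, σ x = x := by
    intro H hH hHσ x hx
    have hlt : Nat.card H < Nat.card Q := lt_of_le_of_ne (Subgroup.card_le_card_group H)
      fun h => hH (Subgroup.eq_top_of_card_eq H h)
    have hbij : Function.Bijective (fun y : H => (⟨σ y, hHσ y y.2⟩ : H)) :=
      Finite.injective_iff_bijective.mp fun a b h => Subtype.ext (σ.injective (congrArg Subtype.val h))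
    let σ' : MulAut H := MulEquiv.ofBijective
      (MonoidHom.mk' (fun y : H => (⟨σ y, hHσ y y.2⟩ : H)) fun a b => Subtype.ext (map_mul σ _ _)) hbij
    have hσ' : ∀ (i : ℕ) (y : H), ((σ' ^ i) y : Q) = (σ ^ i) (y : Q) := by
      intro i
      induction i with
      | zero => intro y; rfl
      | succ i ih => intro y; rw [pow_succ', pow_succ', MulAut.mul_apply, MulAut.mul_apply, ← ih]; rfl
    have h := ih _ (by omega) (ρ.comp H.subtype) σ' U rfl (hQ.to_subgroup H)
      (MulEquiv.ext fun y => Subtype.ext (by rw [hσ', hσ]; rfl)) (fun y => hU y) hsum ⟨x, hx⟩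
    exact hinj h
  have hmem_inv : ∀ H : Subgroup Q, (∀ x, x⁻¹ * σ x ∈ H) → ∀ x ∈ H, σ x ∈ H := fun H hH x hx => by
    have := H.mul_mem hx (hH x); rwa [mul_inv_cancel_left] at this
  set H₀ := Subgroup.closure {y : Q | ∃ x, y = x⁻¹ * σ x} with hH₀
  have hgen₀ : ∀ x, x⁻¹ * σ x ∈ H₀ := fun x => Subgroup.subset_closure ⟨x, rfl⟩
  by_cases hH₀top : H₀ ≠ ⊤
  · intro x
    have hfix := hproper H₀ hH₀top (hmem_inv H₀ hgen₀)
    set y := x⁻¹ * σ x with hy
    have hyfix : σ y = y := hfix y (hgen₀ x)
    have hiter : ∀ i : ℕ, (σ ^ i) x = x * y ^ i := by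
      intro i
      induction i with
      | zero => simp
      | succ i ih =>
        rw [pow_succ', MulAut.mul_apply, ih, map_mul, map_pow, hyfix, pow_succ' y, hy, ← mul_assoc,
          mul_inv_cancel_left]
    have h1 : y ^ p = 1 := by
      have h := hiter p
      rw [hσ, MulAut.one_apply] at h
      exact left_eq_mul.mp h
    have hy1 : y = 1 := orderOf_eq_one_iff.mp (by
      obtain ⟨j, hj⟩ := IsPGroup.iff_orderOf.mp hQ y
      exact Nat.eq_one_of_dvd_coprimes ((Nat.coprime_primes hp.out hq.out).mpr hpq |>.pow_right j)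
        (orderOf_dvd_of_pow_eq_one h1) hj.dvd)
    rw [show σ x = x from (inv_mul_eq_one.mp hy1).symm]
  push Not at hH₀top
  have hpow1 : ∀ y : Q, y ^ p = 1 → y = 1 := fun y hy => orderOf_eq_one_iff.mp (by
      obtain ⟨j, hj⟩ := IsPGroup.iff_orderOf.mp hQ y
      exact Nat.eq_one_of_dvd_coprimes ((Nat.coprime_primes hp.out hq.out).mpr hpq |>.pow_right j)
        (orderOf_dvd_of_pow_eq_one hy) hj.dvd)
  -- fixed elements lie in the derived subgroup
  have hfixcomm : ∀ x, σ x = x → x ∈ commutator Q := by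
    intro x hx
    let φ : Q →* Abelianization Q := ∏ i ∈ range p, Abelianization.of.comp (σ ^ i).toMonoidHom
    have hφ : ∀ g, φ g = ∏ i ∈ range p, Abelianization.of ((σ ^ i) g) := fun g => by
      simp [φ, MonoidHom.finsetProd_apply]
    have hker : H₀ ≤ φ.ker := by
      rw [hH₀, Subgroup.closure_le]
      rintro _ ⟨g, rfl⟩
      rw [SetLike.mem_coe, MonoidHom.mem_ker, map_mul, map_inv, inv_mul_eq_one, hφ, hφ]
      have hs : ∀ i, (σ ^ i) (σ g) = (σ ^ (i + 1)) g := fun i => by rw [pow_succ, MulAut.mul_apply]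
      simp only [hs]
      have h1 := Finset.prod_range_succ' (fun i => Abelianization.of ((σ ^ i) g)) p
      rw [Finset.prod_range_succ, hσ, pow_zero] at h1
      exact mul_right_cancel h1
    have hfix : ∀ i : ℕ, (σ ^ i) x = x := fun i => by
      induction i with
      | zero => rfl
      | succ i ih => rw [pow_succ, MulAut.mul_apply, hx, ih]
    have h1 : φ x = 1 := hker (hH₀top ▸ Subgroup.mem_top x)
    rw [hφ, Finset.prod_congr rfl fun i _ => congrArg Abelianization.of (hfix i), Finset.prod_const,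
      Finset.card_range] at h1
    rw [← Abelianization.ker_of, MonoidHom.mem_ker]
    refine orderOf_eq_one_iff.mp ?_
    obtain ⟨j, hj⟩ := IsPGroup.iff_orderOf.mp hQ x
    exact Nat.eq_one_of_dvd_coprimes ((Nat.coprime_primes hp.out hq.out).mpr hpq |>.pow_right j)
      (orderOf_dvd_of_pow_eq_one h1) ((orderOf_map_dvd _ x).trans hj.dvd)
  have hQk : (Nat.card Q : k) ≠ 0 := by
    obtain ⟨j, hj⟩ := hQ.exists_card_eq
    rw [hj, Nat.cast_pow]; exact pow_ne_zero _ hqk
  haveI := Fintype.ofFinite Q
  by_cases hab : ∀ a b : Q, a * b = b * a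
  · -- the abelian case
    have hcomm : commutator Q = ⊥ := by
      rw [commutator_def, Subgroup.commutator_eq_bot_iff_le_centralizer]
      exact fun a _ => Subgroup.mem_centralizer_iff.mpr fun b _ => (hab a b).symm
    set S : Module.End k W := ∑ y, ρ y with hS
    have hUρ : ∀ (i : ℕ) (x : Q), U ^ i * ρ x = ρ ((σ ^ i) x) * U ^ i := by
      intro i
      induction i with
      | zero => intro x; simp
      | succ i ih =>
        intro x
        rw [pow_succ', mul_assoc, ih, ← mul_assoc, hU, mul_assoc, pow_succ', MulAut.mul_apply]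
    have hi : ∀ i ∈ (range p).erase 0, ∑ u, ρ (u * (σ ^ i) u⁻¹) = S := by
      intro i hi
      have hi0 : i ≠ 0 := (Finset.mem_erase.mp hi).1
      have hip : i < p := Finset.mem_range.mp (Finset.mem_erase.mp hi).2
      let f : Q →* Q := MonoidHom.mk' (fun u => u * (σ ^ i) u⁻¹) fun a b => by
        rw [mul_inv_rev, map_mul, hab ((σ ^ i) b⁻¹), mul_assoc, ← mul_assoc b, hab b ((σ ^ i) a⁻¹)]
        simp only [mul_assoc]
      have hf : Function.Injective f := by
        rw [← MonoidHom.ker_eq_bot_iff, Subgroup.eq_bot_iff_forall]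
        intro u hu
        have h1 : (σ ^ i) u = u := by
          have : u * ((σ ^ i) u)⁻¹ = 1 := by rw [← map_inv]; exact hu
          exact (mul_inv_eq_one.mp this).symm
        have h2 : σ u = u := by
          obtain ⟨j, hj⟩ : ∃ j : ℕ, i * j % p = 1 :=
            (Nat.exists_mul_mod_eq_one_of_coprime ((Nat.Prime.coprime_iff_not_dvd hp.out).mpr
              (fun h => hi0 (Nat.eq_zero_of_dvd_of_lt h hip))).symm hp.out.one_lt).imp fun j hj => hj.2
          have h3 : ∀ j : ℕ, ((σ ^ i) ^ j) u = u := by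
            intro j
            induction j with
            | zero => rfl
            | succ j ih => rw [pow_succ, MulAut.mul_apply, h1, ih]
          have h4 := h3 j
          rw [← pow_mul, pow_eq_pow_mod _ hσ, hj, pow_one] at h4
          exact h4
        have := hfixcomm u h2
        rwa [hcomm, Subgroup.mem_bot] at this
      exact Fintype.sum_bijective f (Finite.injective_iff_bijective.mp hf) _ _ fun u => rfl
    have hzero : ∀ u, ∑ i ∈ range p, ρ (u * (σ ^ i) u⁻¹) * U ^ i = 0 := by
      intro u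
      have h0 : ∑ i ∈ range p, U ^ i = 0 := LinearMap.ext fun w => by
        rw [LinearMap.sum_apply]; exact hsum w
      have : ρ u * (∑ i ∈ range p, U ^ i) * ρ u⁻¹ = 0 := by rw [h0, mul_zero, zero_mul]
      rw [← this, Finset.mul_sum, Finset.sum_mul]
      exact Finset.sum_congr rfl fun i _ => by rw [mul_assoc (ρ u), hUρ, ← mul_assoc, ← map_mul]
    have htot : (Nat.card Q : k) • (1 : Module.End k W) = S := by
      have h := Finset.sum_eq_zero (s := (Finset.univ : Finset Q)) fun u _ => hzero u
      rw [Finset.sum_comm, ← Finset.add_sum_erase _ _ (Finset.mem_range.mpr hp.out.pos),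
        Finset.sum_congr rfl fun i hi' => show ∑ u, ρ (u * (σ ^ i) u⁻¹) * U ^ i = S * U ^ i by
          rw [← Finset.sum_mul, hi i hi'], ← Finset.mul_sum] at h
      have h0 : ∑ i ∈ range p, U ^ i = 0 := LinearMap.ext fun w => by
        rw [LinearMap.sum_apply]; exact hsum w
      rw [← Finset.add_sum_erase _ _ (Finset.mem_range.mpr hp.out.pos), pow_zero] at h0
      rw [eq_neg_of_add_eq_zero_right h0, mul_neg, mul_one, ← sub_eq_add_neg, sub_eq_zero] at h
      rw [← h]
      simp [Finset.sum_const, ← Nat.card_eq_fintype_card, Nat.cast_smul_eq_nsmul]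
    intro x
    have hx : ∀ x, ρ x = 1 := by
      intro x
      have h : ρ x * S = S := by
        rw [hS, Finset.mul_sum]
        exact Fintype.sum_equiv (Equiv.mulLeft x) _ _ fun y => (map_mul ρ x y).symm
      rw [← htot, mul_smul_comm, mul_one] at h
      exact smul_right_injective _ hQk h
    rw [hx, hx]
  -- the nonabelian case
  exfalso
  haveI : Group.IsNilpotent Q := hQ.isNilpotent
  have hcfix : ∀ c ∈ commutator Q, σ c = c := by
    haveI : Nontrivial Q := by
      by_contra hs
      rw [not_nontrivial_iff_subsingleton] at hs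
      exact hab fun a b => Subsingleton.elim _ _
    refine hproper _ (Group.IsSolvable.commutator_lt_top_of_nontrivial Q).ne ?_
    intro c hc
    have := (Subgroup.characteristic_iff_map_le.mp (inferInstance : (commutator Q).Characteristic) σ)
      (Subgroup.mem_map_of_mem σ.toMonoidHom hc)
    exact this
  have hclass : ∀ x y : Q, ⁅x, y⁆ ∈ Subgroup.center Q := by
    intro x y
    have hc : ∀ c ∈ commutator Q, H₀ ≤ Subgroup.centralizer ({c} : Set Q) := by
      intro c hc
      rw [hH₀, Subgroup.closure_le]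
      rintro _ ⟨g, rfl⟩
      rw [SetLike.mem_coe, Subgroup.mem_centralizer_singleton_iff]
      have e : σ (g * c * g⁻¹) = g * c * g⁻¹ :=
        hcfix _ (Subgroup.Normal.conj_mem inferInstance _ hc g)
      rw [map_mul, map_mul, map_inv, hcfix c hc] at e
      calc g⁻¹ * σ g * c = g⁻¹ * (σ g * c * (σ g)⁻¹) * σ g := by group
        _ = g⁻¹ * (g * c * g⁻¹) * σ g := by rw [e]
        _ = c * (g⁻¹ * σ g) := by group
    have hxy : ⁅x, y⁆ ∈ commutator Q := Subgroup.commutator_mem_commutator (Subgroup.mem_top x) (Subgroup.mem_top y)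
    refine Subgroup.mem_center_iff.mpr fun g => ?_
    exact Subgroup.mem_centralizer_singleton_iff.mp (hc _ hxy (hH₀top ▸ Subgroup.mem_top g))
  have hna : Subgroup.center Q ≠ ⊤ := fun h => hab fun a b =>
    Subgroup.mem_center_iff.mp (h ▸ Subgroup.mem_top b) a
  have hcenσ : ∀ z ∈ Subgroup.center Q, σ z = z := by
    refine hproper _ hna fun z hz => ?_
    exact (Subgroup.characteristic_iff_map_le.mp (inferInstance : (Subgroup.center Q).Characteristic) σ)
      (Subgroup.mem_map_of_mem σ.toMonoidHom hz)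
  -- central elements act as scalars
  by_cases hscal : ∀ z ∈ Subgroup.center Q, ∃ a : k, ρ z = a • (1 : Module.End k W)
  swap
  · push Not at hscal
    obtain ⟨z, hz, hznot⟩ := hscal
    apply hab
    have hn0 : ((orderOf z : ℕ) : k) ≠ 0 := by
      obtain ⟨j, hj⟩ := IsPGroup.iff_orderOf.mp hQ z
      rw [hj, Nat.cast_pow]; exact pow_ne_zero _ hqk
    haveI : NeZero ((orderOf z : ℕ) : k) := ⟨hn0⟩
    obtain ⟨η, hη⟩ := HasEnoughRootsOfUnity.exists_primitiveRoot k (orderOf z)
    have hT : ρ z ^ orderOf z = 1 := by rw [← map_pow, pow_orderOf_eq_one, map_one]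
    have hfix : ∀ x, ρ (σ x) = ρ x := by
      intro x
      refine LinearMap.ext fun w => ?_
      conv_lhs => rw [eq_sum_proj (T := ρ z) hη hn0 w]
      conv_rhs => rw [eq_sum_proj (T := ρ z) hη hn0 w]
      rw [map_sum, map_sum]
      refine Finset.sum_congr rfl fun i _ => ?_
      set E := eigen η (ρ z) i with hE
      have hEinv : ∀ f : Module.End k W, Commute f (ρ z) → ∀ w ∈ E, f w ∈ E := by
        intro f hf w hw
        rw [hE, mem_eigen] at hw ⊢
        rw [← Module.End.mul_apply, ← hf.eq, Module.End.mul_apply, hw, map_smul]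
      have hρE : ∀ y, ∀ w ∈ E, ρ y w ∈ E := fun y => hEinv _ (by
        rw [commute_iff_eq, ← map_mul, ← map_mul, Subgroup.mem_center_iff.mp hz y])
      have hUE : ∀ w ∈ E, U w ∈ E := hEinv _ (by
        rw [commute_iff_eq, hU, hcenσ z hz])
      have hlt : Module.finrank k E < Module.finrank k W := by
        refine Submodule.finrank_lt fun htop => hznot (η ^ i) (LinearMap.ext fun w => ?_)
        have : w ∈ E := htop ▸ Submodule.mem_top
        rw [hE, mem_eigen] at this
        rw [this]; rfl
      let ρE : Q →* Module.End k E :=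
        { toFun := fun y => (ρ y).restrict (hρE y)
          map_one' := LinearMap.ext fun w => Subtype.ext (by
            show ρ 1 (w : W) = w
            rw [map_one]; rfl)
          map_mul' := fun a b => LinearMap.ext fun w => Subtype.ext (by
            show ρ (a * b) (w : W) = ρ a (ρ b w)
            rw [map_mul]; rfl) }
      have hUEpow : ∀ (i : ℕ) (w : E), (((U.restrict hUE) ^ i) w : W) = (U ^ i) (w : W) := by
        intro i
        induction i with
        | zero => intro w; rfl
        | succ i ih =>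
          intro w
          rw [pow_succ', pow_succ', Module.End.mul_apply, Module.End.mul_apply, ← ih]; rfl
      have h := ih _ (by omega) ρE σ (U.restrict hUE) rfl hQ hσ
        (fun y => LinearMap.ext fun w => Subtype.ext (LinearMap.congr_fun (hU y) (w : W)))
        (fun w => Subtype.ext (by
          rw [AddSubmonoidClass.coe_finsetSum, Finset.sum_congr rfl fun i _ => hUEpow i w, hsum]; rfl)) x
      exact congrArg Subtype.val (LinearMap.congr_fun h
        (⟨proj (orderOf z) η (ρ z) i w, mem_eigen.mpr (apply_proj hη hn0 hT i w)⟩ : E))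
    intro a b
    have hH₀bot : H₀ = ⊥ := by
      rw [hH₀, Subgroup.closure_eq_bot_iff]
      rintro _ ⟨g, rfl⟩
      rw [Set.mem_singleton_iff, inv_mul_eq_one]
      exact (hinj (hfix g)).symm
    have hsub : ∀ g : Q, g = 1 := fun g => Subgroup.mem_bot.mp (hH₀bot ▸ hH₀top.symm ▸ Subgroup.mem_top g)
    rw [hsub a, hsub b]
  choose χ hχ using hscal
  let S : ScalarCentre ρ :=
    { χ := fun z => if hz : z ∈ Subgroup.center Q then χ z hz else 0
      hχ := fun z hz => by rw [dif_pos hz]; exact hχ z hz
      hclass := hclass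
      hinj := hinj }
  let Hf : Subgroup Q :=
    { carrier := {x | x⁻¹ * σ x ∈ Subgroup.center Q}
      one_mem' := by show (1 : Q)⁻¹ * σ 1 ∈ Subgroup.center Q; rw [map_one, inv_one, one_mul]; exact one_mem _
      mul_mem' := fun {a b} ha hb => by
        show (a * b)⁻¹ * σ (a * b) ∈ Subgroup.center Q
        have e : (a * b)⁻¹ * σ (a * b) = (b⁻¹ * (a⁻¹ * σ a) * b) * (b⁻¹ * σ b) := by rw [map_mul]; group
        rw [e]
        exact Subgroup.mul_mem _ (by simpa using Subgroup.Normal.conj_mem inferInstance _ ha b⁻¹) hb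
      inv_mem' := fun {a} ha => by
        show a⁻¹⁻¹ * σ a⁻¹ ∈ Subgroup.center Q
        have e : a⁻¹⁻¹ * σ a⁻¹ = a * (a⁻¹ * σ a)⁻¹ * a⁻¹ := by rw [map_inv]; group
        rw [e]
        exact Subgroup.Normal.conj_mem inferInstance _ (Subgroup.inv_mem _ ha) a }
  have hHtop : Hf ≠ ⊤ := fun h => hna (eq_top_iff.mpr (by
    rw [← hH₀top, hH₀, Subgroup.closure_le]
    rintro _ ⟨g, rfl⟩
    exact (h ▸ Subgroup.mem_top g : g ∈ Hf)))
  have hHfix := hproper Hf hHtop fun a ha => by
    show (σ a)⁻¹ * σ (σ a) ∈ Subgroup.center Q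
    rw [← map_inv, ← map_mul, hcenσ _ ha]
    exact ha
  have hσfix : ∀ x, x⁻¹ * σ x ∈ Subgroup.center Q → x ∈ Subgroup.center Q := by
    intro x hx
    have hle : commutator Q ≤ Subgroup.center Q := by
      rw [commutator_def, Subgroup.commutator_le]
      exact fun a _ b _ => hclass a b
    exact hle (hfixcomm x (hHfix x hx))
  have hQodd : Odd (Nat.card Q) := by
    obtain ⟨j, hj⟩ := hQ.exists_card_eq
    rw [hj]; exact (hq.out.odd_of_ne_two hq2).pow
  haveI : NeZero (p : k) := ⟨hpk⟩
  obtain ⟨ζ, hζ⟩ := HasEnoughRootsOfUnity.exists_primitiveRoot k p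
  exact false_of_fpf S hQk hQodd hna hp2 ζ hζ hpk σ hσ hσfix U hU hsum

end CfsgLib.OddOrder41.SymplecticCount
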