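import Cfsg.Agent.Lib.OddOrder41.FixedFormula

set_option autoImplicit false

/-! A Frobenius group acting with cyclic fixed points of the complement (BG 3.5, 3.10). -/

namespace CfsgLib.OddOrder41.FixedFormula

open scoped commutatorElement

variable {G : Type*} [Group G] [Finite G]

universe u in
/-- If the fixed points of the complement are cyclic, the derived kernel acts trivially. -/
theorem commutator_fixes_of_cyclic_fixed (U E : Subgroup G) [U.Normal] (hU : Group.IsNilpotent U)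
    (hE : E ≠ ⊥) (hcop : (Nat.card U).Coprime (Nat.card E))
    (hfpf : ∀ e ∈ E, e ≠ 1 → ∀ u ∈ U, e * u = u * e → u = 1)
    {V : Type u} [AddCommGroup V] [Finite V] (ρ : G →* AddMonoid.End V)
    (hV : (Nat.card U).Coprime (Nat.card V)) (h0 : fixSet ρ U = ⊥)
    (hcyc : ∃ v, fixSet ρ E = AddSubgroup.zmultiples v) :
    ∀ a ∈ U, ∀ b ∈ U, ρ ⁅a, b⁆ = 1 := by
  suffices H : ∀ n, ∀ {V : Type u} [AddCommGroup V] [Finite V] (ρ : G →* AddMonoid.End V),
      Nat.card V = n → (Nat.card U).Coprime (Nat.card V) → fixSet ρ U = ⊥ →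
      (∃ v, fixSet ρ E = AddSubgroup.zmultiples v) →
      ∀ a ∈ U, ∀ b ∈ U, ρ ⁅a, b⁆ = 1 from H _ ρ rfl hV h0 hcyc
  intro n
  induction n using Nat.strongRecOn with
  | _ n ih =>
  intro V _ _ ρ hn hV h0 hcyc
  subst hn
  classical
  haveI := hU
  set N : Subgroup G := U ⊓ MonoidHom.ker ρ with hN
  by_cases hUN : U ≤ N
  · intro a ha b hb
    rw [commutatorElement_def, map_mul, map_mul, map_mul, show ρ a = 1 from (hUN ha).2,
      show ρ b = 1 from (hUN hb).2, show ρ a⁻¹ = 1 from (hUN (U.inv_mem ha)).2,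
      show ρ b⁻¹ = 1 from (hUN (U.inv_mem hb)).2]
    simp
  -- the preimage of the centre of the image of `U`
  haveI : N.Normal := inferInstance
  set U' := U.map (QuotientGroup.mk' N) with hU'
  haveI : U'.Normal := Subgroup.Normal.map inferInstance _ (QuotientGroup.mk'_surjective N)
  haveI : Group.IsNilpotent ↥U' := nilpotent_of_surjective _ ((QuotientGroup.mk' N).subgroupMap_surjective U)
  haveI : Nontrivial ↥U' := (Subgroup.nontrivial_iff_ne_bot _).mpr fun h => hUN (by
    rw [hU', Subgroup.map_eq_bot_iff, QuotientGroup.ker_mk'] at h; exact h)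
  set Z : Subgroup G := U ⊓ (Subgroup.centralizer (U' : Set (G ⧸ N))).comap (QuotientGroup.mk' N) with hZ
  haveI : Z.Normal := inferInstance
  have hZU : Z ≤ U := inf_le_left
  have hZcomm : ∀ z ∈ Z, ∀ a ∈ U, Commute (ρ z) (ρ a) := by
    intro z hz a ha
    have h1 : QuotientGroup.mk' N (⁅z, a⁆) = 1 := by
      rw [map_commutatorElement, commutatorElement_eq_one_iff_commute]
      exact (Subgroup.mem_centralizer_iff.mp hz.2 _ (Subgroup.mem_map_of_mem _ ha)).symm
    have h2 : ρ ⁅z, a⁆ = 1 := ((QuotientGroup.eq_one_iff _).mp h1).2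
    have h3 : ρ z * ρ a = ρ ⁅z, a⁆ * (ρ a * ρ z) := by
      rw [← map_mul, ← map_mul, ← map_mul, commutatorElement_def]
      congr 1; group
    rw [h2, one_mul] at h3
    exact h3
  have hZne : ¬ Z ≤ MonoidHom.ker ρ := by
    intro hle
    obtain ⟨⟨z, hz⟩, hzc, hz1⟩ := (Subgroup.center ↥U').bot_or_exists_ne_one.resolve_left
      (fun h => (Group.IsNilpotent.center_ne_bot (G := ↥U')) h)
    obtain ⟨g, hg, rfl⟩ := hz
    refine hz1 (Subtype.ext ((QuotientGroup.eq_one_iff g).mpr ⟨hg, hle ⟨hg, Subgroup.mem_centralizer_iff.mpr ?_⟩⟩))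
    exact fun w hw => congrArg Subtype.val (Subgroup.mem_center_iff.mp hzc ⟨w, hw⟩)
  -- split along the averaging idempotent of `Z`
  haveI := Fintype.ofFinite Z
  have hcZ : (Nat.card Z).Coprime (Nat.card V) := hV.coprime_dvd_left (Subgroup.card_dvd_of_le hZU)
  obtain ⟨c, hc⟩ := exists_inverse_scalar hcZ
  set avgZ := avg c (ρ.comp Z.subtype) with havg
  have hidem : ∀ v, avgZ (avgZ v) = avgZ v := avg_idem hc _
  have hfixZ : ∀ v, v ∈ AddMonoidHom.range (avgZ : V →+ V) ↔ ∀ z ∈ Z, ρ z v = v := by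
    intro v
    constructor
    · rintro ⟨w, rfl⟩ z hz
      exact apply_avg c (ρ.comp Z.subtype) ⟨z, hz⟩ w
    · exact fun h => ⟨v, avg_of_fixed hc _ v fun z => h z z.2⟩
  have hcommA : ∀ g v, ρ g (avgZ v) = avgZ (ρ g v) := by
    intro g v
    rw [havg, avg_apply, avg_apply, map_nsmul, map_sum]
    congr 1
    refine Fintype.sum_equiv (MulAut.conjNormal g : MulAut Z).toEquiv _ _ fun z => ?_
    show (ρ g * ρ (z : G)) v = (ρ (MulAut.conjNormal g z : Z) * ρ g) v
    rw [← map_mul, ← map_mul, MulAut.conjNormal_apply, inv_mul_cancel_right]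
  set V₁ := AddMonoidHom.range (avgZ : V →+ V) with hV₁
  set V₂ := AddMonoidHom.ker (avgZ : V →+ V) with hV₂
  have h1inv : ∀ g, ∀ v ∈ V₁, ρ g v ∈ V₁ := by
    rintro g _ ⟨w, rfl⟩
    exact ⟨ρ g w, (hcommA g w).symm⟩
  have h2inv : ∀ g, ∀ v ∈ V₂, ρ g v ∈ V₂ := fun g v hv => by
    show avgZ (ρ g v) = 0
    rw [← hcommA, show avgZ v = 0 from hv, map_zero]
  obtain ⟨v₀, hv₀⟩ := hcyc
  have hv₀E : v₀ ∈ fixSet ρ E := by rw [hv₀]; exact AddSubgroup.mem_zmultiples v₀
  have hlt : Nat.card V₁ < Nat.card V := by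
    refine lt_of_le_of_ne (Nat.card_le_card_of_injective (fun v : V₁ => (v : V)) Subtype.val_injective)
      fun h => hZne fun z hz => ?_
    have htop : V₁ = ⊤ := AddSubgroup.eq_top_of_card_eq _ h
    exact AddMonoidHom.ext fun v => (hfixZ v).mp (by rw [htop]; trivial) z hz
  have h1 := ih _ hlt (restrict ρ V₁ h1inv) rfl (hV.coprime_dvd_right V₁.card_addSubgroup_dvd_card)
    (by
      rw [eq_bot_iff]
      intro v hv
      have : (v : V) ∈ fixSet ρ U := fun g hg => congrArg Subtype.val (hv g hg)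
      rw [h0, AddSubgroup.mem_bot] at this
      exact AddSubgroup.mem_bot.mpr (Subtype.ext this))
    ⟨⟨avgZ v₀, v₀, rfl⟩, by
      refine le_antisymm (fun v hv => ?_) (AddSubgroup.zmultiples_le.mpr fun g hg => Subtype.ext ?_)
      · have : (v : V) ∈ fixSet ρ E := fun g hg => congrArg Subtype.val (hv g hg)
        rw [hv₀, AddSubgroup.mem_zmultiples_iff] at this
        obtain ⟨k, hk⟩ := this
        refine AddSubgroup.mem_zmultiples_iff.mpr ⟨k, Subtype.ext ?_⟩
        show k • avgZ v₀ = v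
        rw [← map_zsmul, hk]
        obtain ⟨w, hw⟩ := v.2
        rw [← hw]; exact hidem w
      · show ρ g (avgZ v₀) = avgZ v₀
        rw [hcommA, hv₀E g hg]⟩
  -- the moved part is generated by the orbit of one vector
  set L := Z ⊔ E with hL
  set v₂ := v₀ - avgZ v₀ with hv₂
  have hv₂E : ∀ g ∈ E, ρ g v₂ = v₂ := fun g hg => by rw [hv₂, map_sub, hcommA, hv₀E g hg]
  set U₀ : AddSubgroup V := AddSubgroup.closure {x | ∃ z ∈ Z, x = ρ z v₂} with hU₀
  have hgen : ∀ g ∈ L, ∀ x ∈ U₀, ρ g x ∈ U₀ := by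
    have hZs : ∀ g ∈ Z, ∀ x ∈ U₀, ρ g x ∈ U₀ := fun g hg x hx => by
      induction hx using AddSubgroup.closure_induction with
      | mem x hx =>
        obtain ⟨z, hz, rfl⟩ := hx
        exact AddSubgroup.subset_closure ⟨g * z, Z.mul_mem hg hz, by rw [map_mul]; rfl⟩
      | zero => rw [map_zero]; exact zero_mem _
      | add x y _ _ hx hy => rw [map_add]; exact add_mem hx hy
      | neg x _ hx => rw [map_neg]; exact neg_mem hx
    have hEs : ∀ g ∈ E, ∀ x ∈ U₀, ρ g x ∈ U₀ := fun g hg x hx => by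
      induction hx using AddSubgroup.closure_induction with
      | mem x hx =>
        obtain ⟨z, hz, rfl⟩ := hx
        refine AddSubgroup.subset_closure ⟨g * z * g⁻¹, Subgroup.Normal.conj_mem inferInstance _ hz g, ?_⟩
        show (ρ g * ρ z) v₂ = ρ (g * z * g⁻¹) v₂
        conv_rhs => rw [← hv₂E g hg]
        show _ = (ρ (g * z * g⁻¹) * ρ g) v₂
        rw [← map_mul, ← map_mul, inv_mul_cancel_right]
      | zero => rw [map_zero]; exact zero_mem _
      | add x y _ _ hx hy => rw [map_add]; exact add_mem hx hy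
      | neg x _ hx => rw [map_neg]; exact neg_mem hx
    intro g hg x hx
    obtain ⟨e, he, z, hz, rfl⟩ := CfsgLib.Coprime.exists_mul_of_mem_sup (H := E) (N := Z)
      (by rw [Subgroup.normalizer_eq_top]; exact le_top) (show g ∈ E ⊔ Z by rwa [sup_comm])
    rw [map_mul]
    exact hEs e he _ (hZs z hz x hx)
  have hU₀le : U₀ ≤ V₂ := by
    rw [hU₀, AddSubgroup.closure_le]
    rintro _ ⟨z, _, rfl⟩
    refine h2inv z v₂ ?_
    show avgZ v₂ = 0
    rw [hv₂, map_sub, hidem, sub_self]
  -- count inside `V₂` and inside `U₀`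
  have hcount : ∀ (A : AddSubgroup V), A ≤ V₂ → (∀ g ∈ L, ∀ x ∈ A, ρ g x ∈ A) →
      Nat.card A = Nat.card (fixSet ρ E ⊓ A : AddSubgroup V) ^ Nat.card E := by
    intro A hA hinv
    let ρA : L →* AddMonoid.End A := restrict (ρ.comp L.subtype) A fun g => hinv g g.2
    haveI : (Z.subgroupOf L).Normal := inferInstance
    have hsol : Group.IsSolvable ↥(Z.subgroupOf L) := by
      haveI : Group.IsSolvable Z := Group.isSolvable_of_isSolvable_injective (Subgroup.inclusion_injective hZU)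
      exact solvable_of_surjective (f := (Subgroup.subgroupOfEquivOfLe (le_sup_left : Z ≤ L)).symm.toMonoidHom)
        (Subgroup.subgroupOfEquivOfLe (le_sup_left : Z ≤ L)).symm.surjective
    have hZc : Nat.card ↥(Z.subgroupOf L) = Nat.card Z :=
      Nat.card_congr (Subgroup.subgroupOfEquivOfLe (le_sup_left : Z ≤ L)).toEquiv
    have hEc : Nat.card ↥(E.subgroupOf L) = Nat.card E :=
      Nat.card_congr (Subgroup.subgroupOfEquivOfLe (le_sup_right : E ≤ L)).toEquiv
    have hf := abelian_fixed_formula (Z.subgroupOf L) (E.subgroupOf L) hsol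
      (by rw [hZc, hEc]; exact hcop.coprime_dvd_left (Subgroup.card_dvd_of_le hZU))
      (fun e he he1 z hz h => Subtype.ext
        (hfpf _ he (fun h1 => he1 (Subtype.ext h1)) _ (hZU hz) (congrArg Subtype.val h)))
      ρA (by rw [hZc]; exact hcZ.coprime_dvd_right A.card_addSubgroup_dvd_card)
    have hbot : fixSet ρA (Z.subgroupOf L) = ⊥ := by
      rw [eq_bot_iff]
      intro x hx
      refine AddSubgroup.mem_bot.mpr (Subtype.ext ?_)
      have h1 : avgZ (x : V) = x := avg_of_fixed hc _ _ fun z =>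
        congrArg Subtype.val (hx ⟨z, (le_sup_left : Z ≤ L) z.2⟩ z.2)
      rw [← h1]; exact hA x.2
    rw [hbot, bot_inf_eq, AddSubgroup.card_bot, one_pow, one_mul, mul_one, hEc] at hf
    rw [hf]
    congr 1
    exact Nat.card_congr
      { toFun := fun x => ⟨x.1.1, fun g hg => congrArg Subtype.val (x.2 ⟨g, le_sup_right (a := Z) hg⟩ hg), x.1.2⟩
        invFun := fun x => ⟨⟨x.1, x.2.2⟩, fun g hg => Subtype.ext (x.2.1 g hg)⟩
        left_inv := fun _ => rfl
        right_inv := fun _ => rfl }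
  have hU₀eq : U₀ = V₂ := by
    refine le_antisymm hU₀le ?_
    have hv₂U : v₂ ∈ U₀ := AddSubgroup.subset_closure ⟨1, Z.one_mem, by rw [map_one]; rfl⟩
    have heq : fixSet ρ E ⊓ V₂ = fixSet ρ E ⊓ U₀ := by
      refine le_antisymm (fun x hx => ⟨hx.1, ?_⟩) (inf_le_inf le_rfl hU₀le)
      have hxE : x ∈ fixSet ρ E := hx.1
      rw [hv₀, AddSubgroup.mem_zmultiples_iff] at hxE
      obtain ⟨k, rfl⟩ := hxE
      have : avgZ (k • v₀) = 0 := hx.2
      rw [map_zsmul] at this
      rw [show k • v₀ = k • v₂ by rw [hv₂, zsmul_sub, this, sub_zero]]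
      exact zsmul_mem hv₂U k
    have hcard : Nat.card U₀ = Nat.card V₂ := by
      rw [hcount U₀ hU₀le hgen, hcount V₂ le_rfl (fun g _ => h2inv g), heq]
    exact (AddSubgroup.eq_of_le_of_card_ge hU₀le hcard.ge).ge
  -- endomorphisms commuting with `Z` commute on the moved part
  have h2 : ∀ a ∈ U, ∀ b ∈ U, ∀ x ∈ V₂, ρ a (ρ b x) = ρ b (ρ a x) := by
    intro a ha b hb
    have key : ∀ y ∈ U₀, ∃ f : AddMonoid.End V,
        f v₂ = y ∧ (∀ z ∈ Z, Commute f (ρ z)) ∧ Commute f (ρ a) := by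
      intro y hy
      induction hy using AddSubgroup.closure_induction with
      | mem y hy =>
        obtain ⟨z, hz, rfl⟩ := hy
        refine ⟨ρ z, rfl, fun z' hz' => hZcomm z hz z' (hZU hz'), hZcomm z hz a ha⟩
      | zero => exact ⟨0, rfl, fun z _ => Commute.zero_left _, Commute.zero_left _⟩
      | add x y _ _ hx hy =>
        obtain ⟨f, hf, hf1, hf2⟩ := hx
        obtain ⟨g, hg, hg1, hg2⟩ := hy
        exact ⟨f + g, by show f v₂ + g v₂ = x + y; rw [hf, hg], fun z hz => (hf1 z hz).add_left (hg1 z hz),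
          hf2.add_left hg2⟩
      | neg x _ hx =>
        obtain ⟨f, hf, hf1, hf2⟩ := hx
        exact ⟨-f, by show -(f v₂) = -x; rw [hf], fun z hz => (hf1 z hz).neg_left, hf2.neg_left⟩
    obtain ⟨f, hf, hfZ, hfa⟩ := key (ρ b v₂) (hU₀eq ▸ h2inv b v₂ (hU₀le
      (AddSubgroup.subset_closure ⟨1, Z.one_mem, by rw [map_one]; rfl⟩)))
    have hagree : ∀ x ∈ U₀, f x = ρ b x := by
      intro x hx
      induction hx using AddSubgroup.closure_induction with
      | mem x hx =>
        obtain ⟨z, hz, rfl⟩ := hx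
        show (f * ρ z) v₂ = (ρ b * ρ z) v₂
        rw [(hfZ z hz).eq, ← (hZcomm z hz b hb).eq]
        show ρ z (f v₂) = ρ z (ρ b v₂)
        rw [hf]
      | zero => rw [map_zero, map_zero]
      | add x y _ _ hx hy => rw [map_add, map_add, hx, hy]
      | neg x _ hx => rw [map_neg, map_neg, hx]
    intro x hx
    rw [← hagree x (hU₀eq.symm ▸ hx), ← hagree (ρ a x) (hU₀eq.symm ▸ h2inv a x hx)]
    show (ρ a * f) x = (f * ρ a) x
    rw [hfa.eq]
  intro a ha b hb
  refine AddMonoidHom.ext fun x => ?_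
  show ρ ⁅a, b⁆ x = x
  have hA : ρ ⁅a, b⁆ (avgZ x) = avgZ x :=
    congrArg Subtype.val (DFunLike.congr_fun (h1 a ha b hb) (⟨avgZ x, x, rfl⟩ : V₁))
  have hB : ρ ⁅a, b⁆ (x - avgZ x) = x - avgZ x := by
    have hx2 : ρ b⁻¹ (x - avgZ x) ∈ V₂ := h2inv _ _ (by show avgZ _ = 0; rw [map_sub, hidem, sub_self])
    rw [commutatorElement_def, map_mul, map_mul, map_mul]
    show ρ a (ρ b (ρ a⁻¹ (ρ b⁻¹ (x - avgZ x)))) = _
    rw [h2 a ha b hb _ (h2inv _ _ hx2), mul_inv_apply, mul_inv_apply]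
  have := congrArg₂ (· + ·) hA hB
  simp only [← map_add, add_sub_cancel] at this
  exact this

variable {X : Type*} [Group X] [Finite X]

/-- BG 3.10 (derived kernel part): cyclic fixed points of the complement force `⁅K, K⁆` to centralise `M`. -/
theorem commutator_le_centralizer_of_cyclic (K R : Subgroup X) (hR : R ≠ ⊥)
    (hRK : R ≤ Subgroup.normalizer (K : Set X)) (hKn : Group.IsNilpotent K)
    (hfpf : ∀ r ∈ R, r ≠ 1 → ∀ k ∈ K, r * k = k * r → k = 1) :
    ∀ M : Subgroup X, K ⊔ R ≤ Subgroup.normalizer (M : Set X) → Group.IsSolvable M →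
      (Nat.card M).Coprime (Nat.card ↥(K ⊔ R)) → M ⊓ Subgroup.centralizer (K : Set X) = ⊥ →
      IsCyclic ↥(M ⊓ Subgroup.centralizer (R : Set X)) → ⁅K, K⁆ ≤ Subgroup.centralizer (M : Set X) := by
  suffices H : ∀ n, ∀ M : Subgroup X, Nat.card M = n → K ⊔ R ≤ Subgroup.normalizer (M : Set X) →
      Group.IsSolvable M → (Nat.card M).Coprime (Nat.card ↥(K ⊔ R)) →
      M ⊓ Subgroup.centralizer (K : Set X) = ⊥ → IsCyclic ↥(M ⊓ Subgroup.centralizer (R : Set X)) →
      ⁅K, K⁆ ≤ Subgroup.centralizer (M : Set X) from fun M => H _ M rfl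
  intro n
  induction n using Nat.strongRecOn with
  | _ n ih =>
  intro M hn hM hsolv hcop h0 hcyc
  subst hn
  haveI := hsolv
  by_cases hM1 : M = ⊥
  · subst hM1
    intro x _
    exact Subgroup.mem_centralizer_iff.mpr fun m hm => by rw [Subgroup.mem_bot.mp hm, one_mul, mul_one]
  haveI : Nontrivial M := (Subgroup.nontrivial_iff_ne_bot M).mpr hM1
  have hDM : ⁅M, M⁆ ≤ M := Subgroup.commutator_le_self M
  have hlt : Nat.card ↥⁅M, M⁆ < Nat.card M := by
    rw [← Subgroup.map_subtype_commutator, Subgroup.card_map_of_injective M.subtype_injective]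
    refine lt_of_le_of_ne (Subgroup.card_le_card_group _) fun h => ?_
    exact (Group.IsSolvable.commutator_lt_top_of_nontrivial M).ne (Subgroup.eq_top_of_card_eq _ h)
  set L := K ⊔ R with hL
  have hKL : K ≤ L := le_sup_left
  have hRL : R ≤ L := le_sup_right
  have hDn : L ≤ Subgroup.normalizer ((⁅M, M⁆ : Subgroup X) : Set X) := by
    refine Subgroup.le_normalizer_iff.2 fun s hs x hx => ?_
    have hmap : M.map (MulAut.conj s).toMonoidHom = M := by
      refine le_antisymm ?_ fun h hh => ⟨s⁻¹ * h * s, ?_, by simp [mul_assoc]⟩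
      · rintro _ ⟨h, hh, rfl⟩
        exact (Subgroup.mem_normalizer_iff.mp (hM hs) h).mp hh
      · have := (Subgroup.mem_normalizer_iff.mp (hM (L.inv_mem hs)) h).mp hh
        simpa using this
    have : MulAut.conj s x ∈ (⁅M, M⁆).map (MulAut.conj s).toMonoidHom := Subgroup.mem_map_of_mem _ hx
    rw [Subgroup.map_commutator, hmap] at this
    exact this
  have ih1 := ih _ hlt ⁅M, M⁆ rfl hDn
    (Group.isSolvable_of_isSolvable_injective (Subgroup.inclusion_injective hDM))
    (hcop.coprime_dvd_left (Subgroup.card_dvd_of_le hDM))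
    (le_bot_iff.mp ((inf_le_inf hDM le_rfl).trans_eq h0))
    (by
      haveI := hcyc
      exact Subgroup.isCyclic_of_le (inf_le_inf hDM le_rfl))
  have hcopK : (Nat.card K).Coprime (Nat.card M) := hcop.symm.coprime_dvd_left (Subgroup.card_dvd_of_le hKL)
  have hcopR : (Nat.card R).Coprime (Nat.card M) := hcop.symm.coprime_dvd_left (Subgroup.card_dvd_of_le hRL)
  -- the action on `M / M'`
  haveI : (K.subgroupOf L).Normal := Subgroup.normal_subgroupOf_of_le_normalizer
    (sup_le Subgroup.le_normalizer hRK)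
  have hnil : Group.IsNilpotent ↥(K.subgroupOf L) := by
    haveI := hKn
    exact nilpotent_of_surjective (Subgroup.subgroupOfEquivOfLe hKL).symm.toMonoidHom
      (Subgroup.subgroupOfEquivOfLe hKL).symm.surjective
  have hKc : Nat.card ↥(K.subgroupOf L) = Nat.card K :=
    Nat.card_congr (Subgroup.subgroupOfEquivOfLe hKL).toEquiv
  have hRc : Nat.card ↥(R.subgroupOf L) = Nat.card R :=
    Nat.card_congr (Subgroup.subgroupOfEquivOfLe hRL).toEquiv
  have hab : Nat.card (Additive (Abelianization M)) ∣ Nat.card M := by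
    rw [Nat.card_congr Additive.toMul]; exact Subgroup.card_quotient_dvd_card _
  have hact := commutator_fixes_of_cyclic_fixed (K.subgroupOf L) (R.subgroupOf L) hnil
    (fun h => hR (by
      have := congrArg (Subgroup.map L.subtype) h
      rwa [Subgroup.map_subgroupOf_eq_of_le hRL, Subgroup.map_bot] at this))
    (by rw [hKc, hRc]; exact coprime_of_fpf hRK hfpf)
    (fun e he he1 u hu h => Subtype.ext (hfpf _ he (fun h1 => he1 (Subtype.ext h1)) _ hu (congrArg Subtype.val h)))
    (abAction L M hM) (by rw [hKc]; exact hcopK.coprime_dvd_right hab)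
    (by
      rw [eq_bot_iff]
      intro v hv
      obtain ⟨c, hc, rfl⟩ := exists_fixed_lift L M K hM hKL hcopK hsolv hv
      have h1 : c = 1 := by rw [h0] at hc; exact Subgroup.mem_bot.mp hc
      subst h1
      exact AddSubgroup.mem_bot.mpr (congrArg Additive.ofMul (map_one (Abelianization.of (G := M)))))
    (by
      obtain ⟨⟨g, hg⟩, hgen⟩ := hcyc.exists_generator
      refine ⟨Additive.ofMul (Abelianization.of (⟨g, hg.1⟩ : M)), le_antisymm (fun v hv => ?_) ?_⟩
      · obtain ⟨c, hc, rfl⟩ := exists_fixed_lift L M R hM hRL hcopR hsolv hv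
        obtain ⟨k, hk⟩ := Subgroup.mem_zpowers_iff.mp (hgen ⟨c, hc⟩)
        refine AddSubgroup.mem_zmultiples_iff.mpr ⟨k, ?_⟩
        show Additive.ofMul (Abelianization.of (⟨g, hg.1⟩ : M) ^ k) = _
        rw [← map_zpow]
        exact congrArg (fun z => Additive.ofMul (Abelianization.of z)) (Subtype.ext (by simpa using congrArg Subtype.val hk))
      · rw [AddSubgroup.zmultiples_le]
        intro r hr
        rw [abAction_of]
        congr 2
        apply Subtype.ext
        show (r : X) * g * (r : X)⁻¹ = g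
        rw [Subgroup.mem_centralizer_iff.mp hg.2 r hr, mul_inv_cancel_right])
  have hKK : ⁅K, K⁆ ≤ L := (Subgroup.commutator_le_self K).trans hKL
  refine CfsgLib.Coprime.le_centralizer_of_trivial_on_series _ M (hKK.trans hM)
    (hcopK.coprime_dvd_left (Subgroup.card_dvd_of_le (Subgroup.commutator_le_self K))) (Or.inr hsolv)
    ⁅M, M⁆ hDM ih1 ?_
  intro x hx m hm
  have hmem : ∀ y ∈ ⁅K, K⁆, ∃ hy : y ∈ L, abAction L M hM ⟨y, hy⟩ = 1 := by
    intro y hy
    induction hy using Subgroup.closure_induction with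
    | mem y hy =>
      obtain ⟨a, ha, b, hb, rfl⟩ := hy
      exact ⟨_, hact ⟨a, hKL ha⟩ ha ⟨b, hKL hb⟩ hb⟩
    | one => exact ⟨L.one_mem, map_one _⟩
    | mul a b _ _ ha hb =>
      obtain ⟨ha, ha'⟩ := ha
      obtain ⟨hb, hb'⟩ := hb
      exact ⟨L.mul_mem ha hb, by
        rw [show (⟨a * b, L.mul_mem ha hb⟩ : L) = ⟨a, ha⟩ * ⟨b, hb⟩ from rfl, map_mul, ha', hb', mul_one]⟩
    | inv a _ ha =>
      obtain ⟨ha, ha'⟩ := ha
      refine ⟨L.inv_mem ha, ?_⟩
      have : abAction L M hM (⟨a, ha⟩⁻¹ * ⟨a, ha⟩) = 1 := by rw [inv_mul_cancel, map_one]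
      rwa [map_mul, ha', mul_one] at this
  obtain ⟨hxL, hx1⟩ := hmem x hx
  have h1 := congrArg (fun f : AddMonoid.End (Additive (Abelianization M)) =>
    Additive.toMul (f (Additive.ofMul (Abelianization.of (⟨m, hm⟩ : M))))) hx1
  have h2 : Abelianization.of ((⟨m, hm⟩ : M)⁻¹ * conjHom M L hM ⟨x, hxL⟩ ⟨m, hm⟩) = 1 := by
    rw [map_mul, map_inv, show Abelianization.of (conjHom M L hM ⟨x, hxL⟩ ⟨m, hm⟩) =
      Abelianization.of (⟨m, hm⟩ : M) from h1, inv_mul_cancel]
  rw [← MonoidHom.mem_ker, Abelianization.ker_of] at h2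
  rw [← Subgroup.map_subtype_commutator]
  exact Subgroup.mem_map_of_mem M.subtype h2

end CfsgLib.OddOrder41.FixedFormula
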