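import Cfsg.Agent.Lib.OddOrder41.ZGroupLinear

set_option autoImplicit false
set_option linter.style.haveILetI false

/-! A Frobenius group of operators on the weights of an abelian group (BG 3.6, abelian case). -/

namespace CfsgLib.OddOrder41.ZGroupLinear

open Finset CfsgLib.OddOrder41.Weights CfsgLib.OddOrder41.SymplecticCount

variable {Γ : Type*} [Group Γ] [Finite Γ] {k : Type*} [Field k] {W : Type*} [AddCommGroup W] [Module k W]
  [FiniteDimensional k W] (ρ : Γ →* Module.End k W) {q s : ℕ} [hq : Fact q.Prime] [hs : Fact s.Prime]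

theorem false_of_frobenius_abelian (hqk : (q : k) ≠ 0) {η : k} (hη : IsPrimitiveRoot η q) (hs2 : s ≠ 2)
    (Q P : Subgroup Γ) (hQ : IsPGroup q Q) (hexp : ∀ a ∈ Q, a ^ q = 1) (hQab : ∀ a ∈ Q, ∀ b ∈ Q, a * b = b * a)
    (hinj : ∀ a ∈ Q, ρ a = 1 → a = 1) (hPQ : P ≤ Subgroup.normalizer (Q : Set Γ))
    (hPab : ∀ a ∈ P, ∀ b ∈ P, a * b = b * a) (hPodd : Odd (Nat.card P)) {r : Γ}
    (hrQ : r ∈ Subgroup.normalizer (Q : Set Γ)) (hrP : r ∈ Subgroup.normalizer (P : Set Γ)) (hrs : r ^ s = 1)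
    (hPr : ∀ y ∈ P, r * y = y * r → y = 1)
    (hirr : ∀ P₁ : Subgroup Γ, P₁ ≤ P → P₁ ≠ P → r ∈ Subgroup.normalizer (P₁ : Set Γ) → P₁ = ⊥)
    (hmove : ∃ y ∈ P, ∃ a ∈ Q, y * a ≠ a * y) (hfix : Module.finrank k (fix (ρ r)) ≤ 1) : False := by
  classical
  haveI : IsMulCommutative Q := ⟨⟨fun a b => Subtype.ext (hQab a a.2 b b.2)⟩⟩
  haveI := Fintype.ofFinite Q
  open scoped IsMulCommutative in
  set N := Subgroup.normalizer (Q : Set Γ) with hN
  set c : N →* MulAut Q := conjHom Q N le_rfl with hc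
  set r' : N := ⟨r, hrQ⟩ with hr'
  have hQk := card_ne_zero_of_qgroup hqk hQ
  have hrUs : (ρ r) ^ s = 1 := by rw [← map_pow, hrs, map_one]
  have hr's : r' ^ s = 1 := Subtype.ext hrs
  have hσs : c r' ^ s = 1 := by rw [← map_pow, hr's, map_one]
  have hU : ∀ a : Q, ρ r * (ρ.comp Q.subtype) a = (ρ.comp Q.subtype) (c r' a) * ρ r := conj_intertwine ρ hrQ
  have hact : ∀ (g h : N) (lam : Q →* kˣ), twist (c (g * h)) lam = twist (c g) (twist (c h) lam) :=
    fun g h lam => by rw [map_mul, twist_mul]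
  have hne0 : ∀ (g : N) (lam : Q →* kˣ), proj (ρ.comp Q.subtype) lam ≠ 0 →
      proj (ρ.comp Q.subtype) (twist (c g) lam) ≠ 0 :=
    fun g lam h => proj_twist_ne_zero ρ g.2 h
  have hfree : ∀ mu : Q →* kˣ, twist (c r') mu ≠ mu →
      ∀ i, 0 < i → i < s → twist (c r' ^ i) mu ≠ mu := fun mu hmu i hi his h =>
    hmu (twist_pow_eq hs.out hσs (fun hd => absurd (Nat.le_of_dvd hi hd) (not_le.mpr his)) h)
  -- no moved weight is fixed by `r`
  have hnofix : ∀ mu : Q →* kˣ, proj (ρ.comp Q.subtype) mu ≠ 0 →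
      (∃ (y : Γ) (hy : y ∈ P), twist (c ⟨y, hPQ hy⟩) mu ≠ mu) → twist (c r') mu ≠ mu := by
    intro mu hmu0 hmoved hrmu
    let P₁ : Subgroup Γ :=
      { carrier := {g | ∃ h : g ∈ P, twist (c ⟨g, hPQ h⟩) mu = mu}
        one_mem' := ⟨P.one_mem, by
          rw [show (⟨1, hPQ P.one_mem⟩ : N) = 1 from rfl, map_one, twist_one]⟩
        mul_mem' := fun {a b} ⟨ha, ha'⟩ ⟨hb, hb'⟩ => ⟨P.mul_mem ha hb, by
          rw [show (⟨a * b, hPQ (P.mul_mem ha hb)⟩ : N) = ⟨a, hPQ ha⟩ * ⟨b, hPQ hb⟩ from rfl, hact, hb', ha']⟩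
        inv_mem' := fun {a} ⟨ha, ha'⟩ => ⟨P.inv_mem ha, by
          conv_lhs => rw [← ha']
          rw [show (⟨a⁻¹, hPQ (P.inv_mem ha)⟩ : N) = ⟨a, hPQ ha⟩⁻¹ from rfl, ← hact, inv_mul_cancel, map_one,
            twist_one]⟩ }
    have hle : P₁ ≤ P := fun g hg => hg.1
    have hne : P₁ ≠ P := by
      obtain ⟨y, hy, hy'⟩ := hmoved
      intro h
      exact hy' (show y ∈ P₁ from h.symm ▸ hy).2
    have hrP₁ : r ∈ Subgroup.normalizer (P₁ : Set Γ) := by
      refine (Subgroup.le_normalizer_iff (H := Subgroup.zpowers r)).2 (fun g hg y hy => ?_) (Subgroup.mem_zpowers r)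
      obtain ⟨i, rfl⟩ := (Submonoid.mem_powers_iff _ _).mp (mem_powers_iff_mem_zpowers.mpr hg)
      obtain ⟨hyP, hy'⟩ := hy
      have hgP : r ^ i * y * (r ^ i)⁻¹ ∈ P :=
        (Subgroup.mem_normalizer_iff.mp (Subgroup.pow_mem _ hrP i) y).mp hyP
      refine ⟨hgP, ?_⟩
      have hfixi : ∀ j : ℕ, twist (c (r' ^ j)) mu = mu := by
        intro j
        induction j with
        | zero => rw [pow_zero, map_one, twist_one]
        | succ j ih => rw [pow_succ, hact, hrmu, ih]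
      have hfixi' : twist (c (r' ^ i)⁻¹) mu = mu := by
        conv_lhs => rw [← hfixi i]
        rw [← hact, inv_mul_cancel, map_one, twist_one]
      rw [show (⟨r ^ i * y * (r ^ i)⁻¹, hPQ hgP⟩ : N) = r' ^ i * ⟨y, hPQ hyP⟩ * (r' ^ i)⁻¹ from
        Subtype.ext (by simp [hr']), hact, hfixi', hact, hy', hfixi]
    have hbot := hirr P₁ hle hne hrP₁
    have hfreeP : ∀ (y : Γ) (hy : y ∈ P), twist (c ⟨y, hPQ hy⟩) mu = mu → y = 1 := fun y hy h =>
      Subgroup.mem_bot.mp (hbot ▸ (⟨hy, h⟩ : y ∈ P₁))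
    obtain ⟨y, hy, hy'⟩ := hmoved
    -- conjugating `y` by powers of `r`
    have hconj : ∀ (z : Γ) (hz : z ∈ P) (i : ℕ), ∃ hz' : r ^ i * z * (r ^ i)⁻¹ ∈ P,
        twist (c r' ^ i) (twist (c ⟨z, hPQ hz⟩) mu) = twist (c ⟨_, hPQ hz'⟩) mu := by
      intro z hz i
      have hz' : r ^ i * z * (r ^ i)⁻¹ ∈ P := (Subgroup.mem_normalizer_iff.mp (Subgroup.pow_mem _ hrP i) z).mp hz
      refine ⟨hz', ?_⟩
      have hfixi : ∀ j : ℕ, twist (c r' ^ j) mu = mu := by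
        intro j
        induction j with
        | zero => rw [pow_zero, twist_one]
        | succ j ih => rw [pow_succ, twist_mul, hrmu, ih]
      conv_rhs => rw [← hfixi i]
      rw [← map_pow, ← hact, ← hact]
      congr 2
      exact Subtype.ext (by simp [hr'])
    -- equal images give equal elements
    have heq : ∀ (a : Γ) (ha : a ∈ P) (b : Γ) (hb : b ∈ P),
        twist (c ⟨a, hPQ ha⟩) mu = twist (c ⟨b, hPQ hb⟩) mu → a = b := by
      intro a ha b hb h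
      refine mul_inv_eq_one.mp ?_
      rw [hPab a ha b⁻¹ (P.inv_mem hb)]
      refine hfreeP _ (P.mul_mem (P.inv_mem hb) ha) ?_
      rw [show (⟨b⁻¹ * a, hPQ (P.mul_mem (P.inv_mem hb) ha)⟩ : N) = ⟨b, hPQ hb⟩⁻¹ * ⟨a, hPQ ha⟩ from rfl, hact,
        h, ← hact, inv_mul_cancel, map_one, twist_one]
    have hyinv : y⁻¹ ∈ P := P.inv_mem hy
    have hmov : ∀ (z : Γ) (hz : z ∈ P), z ≠ 1 →
        twist (c r') (twist (c ⟨z, hPQ hz⟩) mu) ≠ twist (c ⟨z, hPQ hz⟩) mu := by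
      intro z hz hz1 h
      obtain ⟨hz', h'⟩ := hconj z hz 1
      rw [pow_one] at h'
      have := heq _ hz' z hz (h'.symm.trans h)
      rw [pow_one] at this
      exact hz1 (hPr z hz (mul_inv_eq_iff_eq_mul.mp this))
    have hy1 : y ≠ 1 := fun h => hy' (by
      subst h
      rw [show (⟨1, hPQ hy⟩ : N) = 1 from rfl, map_one, twist_one])
    refine false_of_two_orbits (c r') hs.out.pos hQk hU hrUs hfix
      (twist (c ⟨y, hPQ hy⟩) mu) (twist (c ⟨y⁻¹, hPQ hyinv⟩) mu) (hne0 _ _ hmu0) (hne0 _ _ hmu0)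
      (hfree _ (hmov y hy hy1)) (hfree _ (hmov _ hyinv (inv_ne_one.mpr hy1))) fun i _ h => ?_
    obtain ⟨hz', h'⟩ := hconj y hy i
    have hg := heq _ hz' _ hyinv (h'.symm.trans h)
    -- `r ^ i` inverts `y`, so `y ^ 2 = 1`
    have hit : ∀ j : ℕ, r ^ (i * j) * y * (r ^ (i * j))⁻¹ = y ^ ((-1 : ℤ) ^ j) := by
      intro j
      induction j with
      | zero => simp
      | succ j ih =>
        calc r ^ (i * (j + 1)) * y * (r ^ (i * (j + 1)))⁻¹
            = r ^ i * (r ^ (i * j) * y * (r ^ (i * j))⁻¹) * (r ^ i)⁻¹ := by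
              rw [mul_add, mul_one, add_comm, pow_add]; group
          _ = (r ^ i * y * (r ^ i)⁻¹) ^ ((-1 : ℤ) ^ j) := by rw [ih, conj_zpow]
          _ = _ := by rw [hg, inv_zpow, ← zpow_neg, pow_succ, mul_neg_one]
    have hs_odd : Odd s := hs.out.odd_of_ne_two hs2
    have h2 := hit s
    rw [mul_comm, pow_mul, hrs, one_pow, one_mul, inv_one, mul_one, hs_odd.neg_one_pow, zpow_neg, zpow_one] at h2
    have h3 : y ^ 2 = 1 := by rw [pow_two]; exact mul_eq_one_iff_eq_inv.mpr h2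
    refine hy1 (orderOf_eq_one_iff.mp ?_)
    rcases (Nat.dvd_prime Nat.prime_two).mp (orderOf_dvd_of_pow_eq_one h3) with h4 | h4
    · exact h4
    · refine absurd ?_ (Nat.not_even_iff_odd.mpr hPodd)
      rw [even_iff_two_dvd, ← h4, ← Subgroup.orderOf_mk y hy]
      exact orderOf_dvd_natCard _
  obtain ⟨y₀, hy₀, a₀, ha₀, hne₀⟩ := hmove
  obtain ⟨lam, h0, hlam⟩ := exists_moved_weight ρ hη hqk hexp hQk hinj (hPQ hy₀)
    ⟨a₀, ha₀, fun h => hne₀ (mul_inv_eq_iff_eq_mul.mp h)⟩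
  set y : N := ⟨y₀, hPQ hy₀⟩ with hy
  have hlam' : twist (c y) lam ≠ lam := hlam
  have hr0 : twist (c r') lam ≠ lam := hnofix lam h0 ⟨y₀, hy₀, hlam⟩
  have hr1 : twist (c r') (twist (c y) lam) ≠ twist (c y) lam := by
    refine hnofix _ (hne0 _ _ h0) ⟨y₀, hy₀, fun h => hlam' ?_⟩
    have := congrArg (twist (c y⁻¹)) h
    rwa [← hact, inv_mul_cancel, map_one, twist_one, ← hact, inv_mul_cancel, map_one, twist_one] at this
  refine false_of_two_orbits (c r') hs.out.pos hQk hU hrUs hfix lam (twist (c y) lam) h0 (hne0 _ _ h0)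
    (hfree _ hr0) (hfree _ hr1) fun i his h => ?_
  rcases Nat.eq_zero_or_pos i with rfl | hi
  · rw [pow_zero, twist_one] at h
    exact hlam' h.symm
  -- a translate of `lam` is fixed by `r ^ i`
  set g : N := r' ^ i with hg
  have hgP : g.1 ∈ Subgroup.normalizer (P : Set Γ) := by
    rw [hg, SubgroupClass.coe_pow]; exact Subgroup.pow_mem _ hrP i
  let f : P → P := fun z => ⟨g.1 * z * g.1⁻¹ * (z : Γ)⁻¹,
    P.mul_mem ((Subgroup.mem_normalizer_iff.mp hgP z).mp z.2) (P.inv_mem z.2)⟩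
  have hf : Function.Injective f := by
    intro a b hab
    have h1 : g.1 * a * g.1⁻¹ * (a : Γ)⁻¹ = g.1 * b * g.1⁻¹ * (b : Γ)⁻¹ := congrArg Subtype.val hab
    have h2 : g.1 * ((b : Γ)⁻¹ * a) * g.1⁻¹ = (b : Γ)⁻¹ * a := by
      calc g.1 * ((b : Γ)⁻¹ * a) * g.1⁻¹
          = (g.1 * b * g.1⁻¹)⁻¹ * (g.1 * a * g.1⁻¹ * (a : Γ)⁻¹) * a := by group
        _ = _ := by rw [h1]; group
    have hcom : Commute (r ^ i) ((b : Γ)⁻¹ * a) := by
      rw [hg, SubgroupClass.coe_pow] at h2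
      exact mul_inv_eq_iff_eq_mul.mp h2
    have h4 : (b : Γ)⁻¹ * a = 1 := hPr _ (P.mul_mem (P.inv_mem b.2) a.2)
      (commute_of_pow_commute hs.out hrs (fun hd => absurd (Nat.le_of_dvd hi hd) (not_le.mpr his)) hcom).eq
    exact Subtype.ext (inv_mul_eq_one.mp h4).symm
  obtain ⟨z, hz⟩ := (Finite.injective_iff_surjective.mp hf) ⟨y₀⁻¹, P.inv_mem hy₀⟩
  set z' : N := ⟨z, hPQ z.2⟩ with hz'
  have hzval : g.1 * z * g.1⁻¹ * (z : Γ)⁻¹ = y₀⁻¹ := congrArg Subtype.val hz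
  have key : g * z' * g⁻¹ * y = z' := Subtype.ext (by
    show g.1 * z * g.1⁻¹ * y₀ = z
    calc g.1 * z * g.1⁻¹ * y₀ = (g.1 * z * g.1⁻¹ * (z : Γ)⁻¹) * (z * y₀) := by group
      _ = y₀⁻¹ * (y₀ * z) := by rw [hzval, hPab z z.2 y₀ hy₀]
      _ = z := by group)
  have hglam : twist (c g) lam = twist (c y) lam := by rw [hg, map_pow]; exact h
  have hgmu : twist (c r' ^ i) (twist (c z') lam) = twist (c z') lam := by
    rw [← map_pow, ← hg, ← hact, show g * z' = g * z' * g⁻¹ * g by group, hact, hglam, ← hact, key]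
  refine hnofix _ (hne0 _ _ h0) ⟨y₀, hy₀, fun hh => hlam' ?_⟩
    (twist_pow_eq hs.out hσs (fun hd => absurd (Nat.le_of_dvd hi hd) (not_le.mpr his)) hgmu)
  have hzy : z'⁻¹ * y * z' = y := Subtype.ext (by
    show (z : Γ)⁻¹ * y₀ * z = y₀
    rw [mul_assoc, ← hPab z z.2 y₀ hy₀, inv_mul_cancel_left])
  have := congrArg (twist (c z'⁻¹)) hh
  rw [← hact, ← hact, ← hact, hzy, inv_mul_cancel, map_one, twist_one] at this
  exact this

end CfsgLib.OddOrder41.ZGroupLinear
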