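import Cfsg.Agent.Lib.OddOrder41.SymplecticBound

set_option autoImplicit false

/-! Linear algebra for BG 3.6: quadratic operators have large centralizers; an arithmetic lemma. -/

namespace CfsgLib.OddOrder41.SymplecticCount

open Finset

variable {k : Type*} [Field k] {W : Type*} [AddCommGroup W] [Module k W] [FiniteDimensional k W]

/-- An operator with `(U - 1) ^ 2 = 0` commutes with at least half of all endomorphisms. -/
theorem sq_le_two_mul_commSub (U : Module.End k W) (hU : (U - 1) * (U - 1) = 0) :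
    Module.finrank k W * Module.finrank k W ≤ 2 * Module.finrank k (commSub U) := by
  obtain ⟨A, hA⟩ : ∃ A : Module.End k W, A = U - 1 := ⟨_, rfl⟩
  rw [← hA] at hU
  set K := LinearMap.ker A with hK
  set I := LinearMap.range A with hI
  let ad : Module.End k W →ₗ[k] Module.End k W := LinearMap.mulLeft k A - LinearMap.mulRight k A
  have had : ∀ f, ad f = A * f - f * A := fun f => rfl
  have hker : LinearMap.ker ad = commSub U := by
    ext f
    rw [LinearMap.mem_ker, had, sub_eq_zero]
    show _ ↔ U * f = f * U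
    rw [hA, sub_mul, mul_sub, one_mul, mul_one, sub_left_inj]
  set L := LinearMap.range ad with hL
  have hgK : ∀ g ∈ L, ∀ v ∈ K, g v ∈ I := by
    rintro _ ⟨f, rfl⟩ v hv
    refine ⟨f v, ?_⟩
    show A (f v) = A (f v) - f (A v)
    rw [LinearMap.mem_ker.mp hv, map_zero, sub_zero]
  have hganti : ∀ g ∈ L, A * g = -(g * A) := by
    rintro _ ⟨f, rfl⟩
    rw [had, mul_sub, sub_mul, ← mul_assoc A A f, hU, zero_mul, zero_sub, mul_assoc f A A, hU, mul_zero, sub_zero,
      mul_assoc]
  let φ : L →ₗ[k] (K →ₗ[k] I) :=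
    { toFun := fun g => (g.1.comp K.subtype).codRestrict I fun v => hgK g.1 g.2 v v.2
      map_add' := fun g h => by ext v; rfl
      map_smul' := fun c g => by ext v; rfl }
  let ψ : LinearMap.ker φ →ₗ[k] (W ⧸ K →ₗ[k] K) :=
    { toFun := fun g => Submodule.liftQ K (g.1.1.codRestrict K fun v => by
          have h0 : (g.1 : Module.End k W) (A v) = 0 := by
            have hAv : A v ∈ K := LinearMap.congr_fun hU v
            exact congrArg Subtype.val (LinearMap.congr_fun g.2 ⟨A v, hAv⟩)
          have h1 := LinearMap.congr_fun (hganti g.1.1 g.1.2) v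
          rw [LinearMap.mem_ker]
          rw [Module.End.mul_apply, LinearMap.neg_apply, Module.End.mul_apply, h0, neg_zero] at h1
          exact h1) fun v hv => by
            rw [LinearMap.mem_ker]
            exact Subtype.ext (congrArg Subtype.val (LinearMap.congr_fun g.2 ⟨v, hv⟩) : _)
      map_add' := fun g h => by ext v; rfl
      map_smul' := fun c g => by ext v; rfl }
  have hψ : Function.Injective ψ := by
    intro g h hgh
    refine Subtype.ext (Subtype.ext (LinearMap.ext fun v => ?_))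
    exact congrArg Subtype.val (LinearMap.congr_fun hgh (Submodule.Quotient.mk v))
  set d := Module.finrank k W with hd
  set a := Module.finrank k I with ha
  set c := Module.finrank k K with hc
  have hdac : a + c = d := LinearMap.finrank_range_add_finrank_ker A
  have hq : Module.finrank k (W ⧸ K) = a := by
    have := K.finrank_quotient_add_finrank
    omega
  have h1 : Module.finrank k (LinearMap.range φ) ≤ c * a :=
    (Submodule.finrank_le _).trans_eq (Module.finrank_linearMap k k K I)
  have h2 : Module.finrank k (LinearMap.ker φ) ≤ a * c := by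
    refine (LinearMap.finrank_le_finrank_of_injective hψ).trans_eq ?_
    rw [Module.finrank_linearMap k k (W ⧸ K) K, hq]
  have h3 := LinearMap.finrank_range_add_finrank_ker φ
  have h4 := LinearMap.finrank_range_add_finrank_ker ad
  rw [hker, Module.finrank_linearMap k k W W, ← hd] at h4
  rw [← hdac] at h4 ⊢
  change Module.finrank k L + _ = _ at h4
  nlinarith [Nat.mul_comm a c, sq_nonneg ((a : ℤ) - c)]

/-- The arithmetic of BG 3.6: a one-dimensional fixed space leaves room only for blocks of size two. -/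
theorem blocks_two {s N b o d : ℕ} [hs : Fact s.Prime] (hs2 : s ≠ 2) (hN : 1 < N) (hNodd : Odd N)
    (horb : s * o = N * N + (s - 1)) (hdim : d * d = N * N * b) (hd0 : 0 < d) (m : Fin s → ℕ)
    (hm0 : m ⟨0, hs.out.pos⟩ ≤ 1) (hsum : d ≤ ∑ i, m i) (hsq : ∑ i, m i * m i ≤ o * b) :
    N + 1 = 2 * s ∧ ∀ i, m i ≤ 2 := by
  classical
  obtain ⟨e, rfl⟩ : ∃ e, d = N * e :=
    (Nat.pow_dvd_pow_iff (two_ne_zero)).mp (by rw [pow_two, pow_two, hdim]; exact dvd_mul_right _ _)
  have hbe : b = e * e := by
    have : N * N * b = N * N * (e * e) := by rw [← hdim]; ring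
    exact Nat.eq_of_mul_eq_mul_left (Nat.mul_pos (by omega) (by omega)) this
  subst hbe
  have hs0 := hs.out.two_le
  set i0 : Fin s := ⟨0, hs.out.pos⟩ with hi0
  set T := Finset.univ.erase i0 with hT
  have hTcard : T.card = s - 1 := by
    rw [hT, Finset.card_erase_of_mem (Finset.mem_univ _), Finset.card_univ, Fintype.card_fin]
  have hS1 : ∑ i, m i = m i0 + ∑ i ∈ T, m i := (Finset.add_sum_erase _ _ (Finset.mem_univ i0)).symm
  have hS2 : ∑ i, m i * m i = m i0 * m i0 + ∑ i ∈ T, m i * m i :=
    (Finset.add_sum_erase _ _ (Finset.mem_univ i0)).symm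
  have hCS : (∑ i ∈ T, m i) * (∑ i ∈ T, m i) ≤ (s - 1) * ∑ i ∈ T, m i * m i := by
    rw [← pow_two, ← hTcard]
    refine le_of_le_of_eq (a := (∑ i ∈ T, m i) ^ 2) (b := T.card * ∑ i ∈ T, (m i) ^ 2) ?_ ?_
    · exact_mod_cast sq_sum_le_card_mul_sum_sq (s := T) (f := m)
    · simp only [pow_two]
  have he0 : 0 < e := Nat.pos_of_ne_zero fun h => by rw [h, mul_zero] at hd0; omega
  have hdvd : s ∣ (N - 1) * (N + 1) := by
    refine ⟨o - 1, ?_⟩
    rw [Nat.mul_sub, horb, mul_one]
    obtain ⟨j, rfl⟩ : ∃ j, N = j + 1 := ⟨N - 1, by omega⟩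
    have : (j + 1 - 1) * (j + 1 + 1) + 1 = (j + 1) * (j + 1) := by rw [Nat.add_sub_cancel]; ring
    omega
  have hlow : 2 * s ≤ N + 1 := by
    obtain ⟨u, hu⟩ := hNodd
    have hso : ∀ v, s ∣ 2 * v → s ∣ v := fun v hv =>
      ((Nat.coprime_primes hs.out Nat.prime_two).mpr hs2).dvd_of_dvd_mul_left hv
    rcases (Nat.Prime.dvd_mul hs.out).mp hdvd with h | h
    · have := Nat.le_of_dvd (by omega) (hso u (by rwa [show N - 1 = 2 * u by omega] at h))
      omega
    · have := Nat.le_of_dvd (by omega) (hso (u + 1) (by rwa [show N + 1 = 2 * (u + 1) by omega] at h))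
      omega
  have hNe : N * e ≤ s + (s - 1) * e ∧ m i0 = 1 := by
    set S := ∑ i ∈ T, m i
    set Q2 := ∑ i ∈ T, m i * m i
    obtain ⟨t, rfl⟩ : ∃ t, s = t + 1 := ⟨s - 1, by omega⟩
    simp only [Nat.add_sub_cancel] at hCS horb ⊢
    rcases Nat.le_one_iff_eq_zero_or_eq_one.mp hm0 with h0 | h0
    · exfalso
      rw [h0] at hS1 hS2
      have h1 : (N * e) * (N * e) ≤ t * (o * (e * e)) := by
        refine le_trans (Nat.mul_le_mul (by omega : N * e ≤ S) (by omega : N * e ≤ S)) (hCS.trans ?_)
        exact Nat.mul_le_mul_left t (by omega)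
      have h2 : N * N ≤ t * o := by
        refine Nat.le_of_mul_le_mul_right (c := e * e) ?_ (Nat.mul_pos he0 he0)
        calc N * N * (e * e) = N * e * (N * e) := by ring
          _ ≤ t * (o * (e * e)) := h1
          _ = t * o * (e * e) := by ring
      have h3 : (t + 1) * (N * N) ≤ t * (N * N + t) := by
        calc (t + 1) * (N * N) ≤ (t + 1) * (t * o) := Nat.mul_le_mul_left _ h2
          _ = t * ((t + 1) * o) := by ring
          _ = _ := by rw [horb]
      nlinarith
    · refine ⟨?_, h0⟩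
      rw [h0] at hS1 hS2
      obtain ⟨u, hu⟩ : ∃ u, N * e = u + 1 := ⟨N * e - 1, by omega⟩
      have h1 : u * u ≤ t * Q2 := le_trans (Nat.mul_le_mul (by omega) (by omega)) hCS
      have h2 : Q2 + 1 ≤ o * (e * e) := by omega
      have h3 : (t + 1) * (u * u) + (t + 1) * t ≤ t * ((N * e) * (N * e) + t * (e * e)) := by
        calc (t + 1) * (u * u) + (t + 1) * t ≤ (t + 1) * (t * Q2) + (t + 1) * t := by
              exact Nat.add_le_add_right (Nat.mul_le_mul_left _ h1) _
          _ = t * ((t + 1) * (Q2 + 1)) := by ring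
          _ ≤ t * ((t + 1) * (o * (e * e))) := Nat.mul_le_mul_left _ (Nat.mul_le_mul_left _ h2)
          _ = t * (((t + 1) * o) * (e * e)) := by ring
          _ = _ := by rw [horb]; ring
      rw [hu] at h3
      by_contra hgt
      push Not at hgt
      rw [hu] at hgt
      obtain ⟨v, rfl⟩ : ∃ v, u = t + t * e + 1 + v := ⟨u - (t + t * e + 1), by omega⟩
      nlinarith [Nat.zero_le (v * v), Nat.zero_le (v * (t * e)), Nat.zero_le (t * e), Nat.zero_le v]
  obtain ⟨hNe, hm1⟩ := hNe
  have he1 : e = 1 := by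
    by_contra hne
    have he2 : 2 ≤ e := by omega
    obtain ⟨t, rfl⟩ : ∃ t, s = t + 1 := ⟨s - 1, by omega⟩
    simp only [Nat.add_sub_cancel] at hNe
    nlinarith
  subst he1
  simp only [mul_one] at *
  have hN2 : N + 1 = 2 * s := by omega
  refine ⟨hN2, fun i => ?_⟩
  rcases eq_or_ne i i0 with rfl | hi
  · omega
  -- equality in Cauchy's inequality
  have hQle : ∑ j ∈ T, m j * m j ≤ 4 * (s - 1) := by
    obtain ⟨t, rfl⟩ : ∃ t, s = t + 1 := ⟨s - 1, by omega⟩
    simp only [Nat.add_sub_cancel] at horb ⊢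
    have hN' : N = 2 * t + 1 := by omega
    subst hN'
    have ho : o = 4 * t + 1 := Nat.eq_of_mul_eq_mul_left (show 0 < t + 1 by omega) (by rw [horb]; ring)
    rw [hm1] at hS2
    omega
  have hTsum : 2 * (s - 1) ≤ ∑ j ∈ T, m j := by omega
  have hz : ∑ j ∈ T, ((m j : ℤ) - 2) * ((m j : ℤ) - 2) ≤ 0 := by
    have e1 : ∑ j ∈ T, ((m j : ℤ) - 2) * ((m j : ℤ) - 2) =
        ((∑ j ∈ T, m j * m j : ℕ) : ℤ) - 4 * ((∑ j ∈ T, m j : ℕ) : ℤ) + 4 * (T.card : ℤ) := by
      push_cast
      rw [Finset.mul_sum, ← Finset.sum_sub_distrib, Finset.card_eq_sum_ones]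
      push_cast
      rw [Finset.mul_sum, ← Finset.sum_add_distrib]
      exact Finset.sum_congr rfl fun j _ => by ring
    rw [e1, hTcard]
    omega
  have hall := (Finset.sum_eq_zero_iff_of_nonneg fun j _ => mul_self_nonneg ((m j : ℤ) - 2)).mp
    (le_antisymm hz (Finset.sum_nonneg fun j _ => mul_self_nonneg _)) i (Finset.mem_erase.mpr ⟨hi, Finset.mem_univ _⟩)
  have := mul_self_eq_zero.mp hall
  omega

end CfsgLib.OddOrder41.SymplecticCount
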