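import Mathlib

set_option autoImplicit false

/-! Eigenspace projections of an endomorphism of finite order prime to the characteristic. -/

namespace CfsgLib.OddOrder41.RootProj

open Finset

variable {k : Type*} [Field k] {W : Type*} [AddCommGroup W] [Module k W]

/-- The projection on the `ζ ^ i` eigenspace of `T`. -/
noncomputable def proj (n : ℕ) (ζ : k) (T : Module.End k W) (i : ℕ) : Module.End k W :=
  (n : k)⁻¹ • ∑ j ∈ range n, (ζ⁻¹) ^ (i * j) • T ^ j

variable {n : ℕ} {ζ : k} {T : Module.End k W}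

theorem sum_proj (hζ : IsPrimitiveRoot ζ n) (hn0 : (n : k) ≠ 0) : ∑ i ∈ range n, proj n ζ T i = 1 := by
  have hn : 0 < n := Nat.pos_of_ne_zero fun h => hn0 (by rw [h, Nat.cast_zero])
  unfold proj
  rw [← Finset.smul_sum, Finset.sum_comm]
  have h : ∀ j ∈ range n, ∑ i ∈ range n, (ζ⁻¹) ^ (i * j) • T ^ j = if j = 0 then (n : k) • (1 : Module.End k W) else 0 := by
    intro j hj
    rw [← Finset.sum_smul]
    split_ifs with h0
    · subst h0; simp
    · have h1 : (ζ⁻¹) ^ j ≠ 1 := by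
        rw [inv_pow, Ne, inv_eq_one]
        exact fun h2 => h0 (Nat.eq_zero_of_dvd_of_lt ((hζ.pow_eq_one_iff_dvd j).mp h2) (Finset.mem_range.mp hj))
      have h2 : ∑ i ∈ range n, (ζ⁻¹) ^ (i * j) = 0 := by
        simp_rw [mul_comm _ j, pow_mul]
        rw [geom_sum_eq h1, ← pow_mul, mul_comm j n, pow_mul, inv_pow, hζ.pow_eq_one]
        simp
      rw [h2, zero_smul]
  rw [Finset.sum_congr rfl h, Finset.sum_ite_eq' (range n) 0, if_pos (Finset.mem_range.mpr hn), smul_smul,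
    inv_mul_cancel₀ hn0, one_smul]

theorem mul_proj (hζ : IsPrimitiveRoot ζ n) (hn0 : (n : k) ≠ 0) (hT : T ^ n = 1) (i : ℕ) :
    T * proj n ζ T i = ζ ^ i • proj n ζ T i := by
  have hz : ζ ≠ 0 := hζ.ne_zero (fun h => hn0 (by rw [h, Nat.cast_zero]))
  unfold proj
  rw [mul_smul_comm, Finset.mul_sum, smul_comm (ζ ^ i), Finset.smul_sum (r := ζ ^ i)]
  congr 1
  let g : ℕ → Module.End k W := fun j => (ζ ^ i * (ζ⁻¹) ^ (i * j)) • T ^ j
  have hl : ∀ j ∈ range n, T * (ζ⁻¹) ^ (i * j) • T ^ j = g (j + 1) := by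
    intro j _
    show _ = (ζ ^ i * (ζ⁻¹) ^ (i * (j + 1))) • T ^ (j + 1)
    rw [mul_smul_comm, ← pow_succ']
    congr 1
    rw [mul_add, mul_one, pow_add, mul_comm ((ζ⁻¹) ^ (i * j)), ← mul_assoc,
      ← mul_pow, mul_inv_cancel₀ hz, one_pow, one_mul]
  have hr : ∀ j ∈ range n, ζ ^ i • (ζ⁻¹) ^ (i * j) • T ^ j = g j := fun j _ => smul_smul _ _ _
  rw [Finset.sum_congr rfl hl, Finset.sum_congr rfl hr]
  have hgn : g n = g 0 := by
    show (ζ ^ i * (ζ⁻¹) ^ (i * n)) • T ^ n = (ζ ^ i * (ζ⁻¹) ^ (i * 0)) • T ^ 0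
    rw [mul_comm i n, pow_mul, inv_pow, hζ.pow_eq_one, inv_one, one_pow, mul_zero, pow_zero, hT, pow_zero]
  have h1 := Finset.sum_range_succ' g n
  have h2 := Finset.sum_range_succ g n
  rw [h1, hgn] at h2
  exact add_right_cancel h2

theorem apply_proj (hζ : IsPrimitiveRoot ζ n) (hn0 : (n : k) ≠ 0) (hT : T ^ n = 1) (i : ℕ) (w : W) :
    T (proj n ζ T i w) = ζ ^ i • proj n ζ T i w := LinearMap.congr_fun (mul_proj hζ hn0 hT i) w

theorem proj_apply_of_eigen (hζ : IsPrimitiveRoot ζ n) (hn0 : (n : k) ≠ 0) {i : ℕ} {w : W}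
    (hw : T w = ζ ^ i • w) : proj n ζ T i w = w := by
  have hz : ζ ≠ 0 := hζ.ne_zero (fun h => hn0 (by rw [h, Nat.cast_zero]))
  have hpow : ∀ j, (T ^ j) w = ζ ^ (i * j) • w := by
    intro j
    induction j with
    | zero => simp
    | succ j ih =>
      rw [pow_succ', Module.End.mul_apply, ih, map_smul, hw, smul_smul, ← pow_add, mul_add, mul_one]
  unfold proj
  rw [LinearMap.smul_apply, LinearMap.sum_apply]
  have : ∀ j ∈ range n, ((ζ⁻¹) ^ (i * j) • T ^ j) w = w := by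
    intro j _
    rw [LinearMap.smul_apply, hpow, smul_smul, ← mul_pow, inv_mul_cancel₀ hz, one_pow, one_smul]
  rw [Finset.sum_congr rfl this, Finset.sum_const, Finset.card_range, ← Nat.cast_smul_eq_nsmul k, smul_smul,
    inv_mul_cancel₀ hn0, one_smul]

theorem proj_commute {f : Module.End k W} (hf : Commute f T) (i : ℕ) : Commute f (proj n ζ T i) := by
  unfold proj
  exact (Commute.sum_right _ _ _ fun j _ => (hf.pow_right j).smul_right _).smul_right _

/-- The eigenspace. -/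
noncomputable def eigen (ζ : k) (T : Module.End k W) (i : ℕ) : Submodule k W :=
  LinearMap.ker (T - ζ ^ i • (1 : Module.End k W))

theorem mem_eigen {i : ℕ} {w : W} : w ∈ eigen ζ T i ↔ T w = ζ ^ i • w := by
  simp [eigen, sub_eq_zero]

theorem iSupIndep_eigen (hζ : IsPrimitiveRoot ζ n) : iSupIndep fun i : Fin n => eigen ζ T i := by
  have h := (Module.End.eigenspaces_iSupIndep T).comp (f := fun i : Fin n => ζ ^ (i : ℕ))
    fun a b hab => Fin.ext (hζ.pow_inj a.2 b.2 hab)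
  refine h.mono fun i w hw => ?_
  rw [mem_eigen] at hw
  exact Module.End.mem_eigenspace_iff.mpr hw

theorem eq_sum_proj (hζ : IsPrimitiveRoot ζ n) (hn0 : (n : k) ≠ 0) (w : W) :
    w = ∑ i ∈ range n, proj n ζ T i w := by
  conv_lhs => rw [show w = (1 : Module.End k W) w from rfl, ← sum_proj (T := T) hζ hn0, LinearMap.sum_apply]

/-- A finite order endomorphism has a nonzero eigenspace for every eigenvalue it needs. -/
theorem exists_eigen_ne_bot [Nontrivial W] (hζ : IsPrimitiveRoot ζ n) (hn0 : (n : k) ≠ 0) (hT : T ^ n = 1)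
    (hne : T ≠ 1) : ∃ i, i < n ∧ i ≠ 0 ∧ eigen ζ T i ≠ ⊥ := by
  by_contra hcon
  push Not at hcon
  refine hne (LinearMap.ext fun w => ?_)
  rw [Module.End.one_apply]
  have h : ∀ i ∈ range n, T (proj n ζ T i w) = proj n ζ T i w := by
    intro i hi
    by_cases h0 : i = 0
    · rw [apply_proj hζ hn0 hT, h0, pow_zero, one_smul]
    · have : proj n ζ T i w ∈ eigen ζ T i := mem_eigen.mpr (apply_proj hζ hn0 hT i w)
      rw [hcon i (Finset.mem_range.mp hi) h0, Submodule.mem_bot] at this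
      rw [this, map_zero]
  conv_lhs => rw [eq_sum_proj (T := T) hζ hn0 w]
  conv_rhs => rw [eq_sum_proj (T := T) hζ hn0 w]
  rw [map_sum]
  exact Finset.sum_congr rfl h

end CfsgLib.OddOrder41.RootProj
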