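import Mathlib
import Cfsg.Agent.Lib.OddOrder41.Sigma14CyclicInput
import Cfsg.Agent.Lib.OddOrder38.Main1435
import Cfsg.Agent.Lib.OddOrder40.PairUnique
import Cfsg.Agent.Lib.OddOrder.NarrowOperators
import Cfsg.Agent.Lib.Frobenius.Basic

/-!
# BG 14.10: an element of `M_σ` whose centralizer lies in a maximal subgroup with non-empty `κ`
-/

set_option autoImplicit false

namespace CfsgLib.OddOrder41.Hall14

open Subgroup CfsgLib.OddOrder CfsgLib.OddOrder.Transitivity CfsgLib.OddOrder41 CfsgLib.OddOrder38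

universe u

variable {G : Type u} [Group G]

open scoped IsMulCommutative in
/-- The norm map of an element permuting fixed point subgroups cyclically is injective. -/
theorem card_le_of_norm [Finite G] {V B : Subgroup G} {a b : G} {m : ℕ} (hVc : IsMulCommutative V)
    (haV : a ∈ Subgroup.normalizer (V : Set G)) (hBV : B ≤ Subgroup.normalizer (V : Set G))
    (hBc : IsMulCommutative B) (hb : b ∈ B) (haB : a ∈ Subgroup.normalizer (B : Set G))
    (haq : a ^ (m + 1) = 1)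
    (hfix : ∀ β ∈ B, β ∉ Subgroup.zpowers b →
      ∀ w ∈ V, w * b = b * w → w * β = β * w → w = 1)
    (hmove : ∀ j : ℕ, j < m → a ^ (j + 1) * b * (a ^ (j + 1))⁻¹ ∉ Subgroup.zpowers b) :
    Nat.card ↥(V ⊓ Subgroup.centralizer ({b} : Set G)) ≤
      Nat.card ↥(V ⊓ Subgroup.centralizer ({a} : Set G)) := by
  have := hVc
  let cv : (g : G) → g ∈ Subgroup.normalizer (V : Set G) → (V →* V) := fun g hg =>
    { toFun := fun v => ⟨g * v * g⁻¹, (Subgroup.mem_normalizer_iff.mp hg v).mp v.2⟩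
      map_one' := Subtype.ext (by simp)
      map_mul' := fun u v => Subtype.ext (by simp [mul_assoc]) }
  let f : ℕ → (V →* V) := fun i => cv (a ^ i) (pow_mem haV i)
  let β : ℕ → G := fun i => a ^ i * b * (a ^ i)⁻¹
  have hβB : ∀ i, β i ∈ B := fun i => (Subgroup.mem_normalizer_iff.mp (pow_mem haB i) b).mp hb
  -- no element fixed by `b` is a product of elements fixed by the other `β i`
  have key : ∀ n, n ≤ m → ∀ (w : V) (t : ℕ → V), (w : G) * b = b * w →
      (∀ i, i < n → (t i : G) * β (i + 1) = β (i + 1) * t i) → w = ∏ i ∈ Finset.range n, t i → w = 1 := by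
    intro n
    induction n with
    | zero => intro _ w t _ _ he; simpa using he
    | succ n ih =>
      intro hn w t hw ht he
      let φ : V →* V := cv (β (n + 1)) (hBV (hβB _)) * (MonoidHom.id V)⁻¹
      have hφ : ∀ v : V, (φ v : G) = β (n + 1) * v * (β (n + 1))⁻¹ * (v : G)⁻¹ := fun v => rfl
      have hcomm : ∀ (γ : G), γ ∈ B → ∀ v : V, (v : G) * γ = γ * v → (φ v : G) * γ = γ * φ v := by
        intro γ hγ v hv
        rw [hφ]
        have h1 : Commute γ (β (n + 1)) := mul_comm_of_mem hBc hγ (hβB _)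
        exact ((h1.mul_right hv.symm).mul_right h1.inv_right |>.mul_right (Commute.inv_right hv.symm)).symm.eq
      have h1 : φ w = 1 := by
        refine ih (by omega) (φ w) (fun i => φ (t i)) (hcomm b hb w hw)
          (fun i hi => hcomm _ (hβB _) _ (ht i (by omega))) ?_
        rw [he, map_prod, Finset.prod_range_succ]
        convert mul_one _ using 2
        exact Subtype.ext (by rw [hφ, ← ht n (by omega)]; simp)
      have h2 : β (n + 1) * w * (β (n + 1))⁻¹ * (w : G)⁻¹ = 1 := by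
        rw [← hφ, h1]; rfl
      exact Subtype.ext (hfix _ (hβB _) (hmove n (by omega)) w w.2 hw
        (mul_inv_eq_iff_eq_mul.mp (mul_inv_eq_one.mp h2)).symm)
  let N : V →* V := ∏ i ∈ Finset.range (m + 1), f i
  have hN : ∀ v, N v = ∏ i ∈ Finset.range (m + 1), f i v := fun v => by
    simp only [N, MonoidHom.finsetProd_apply]
  have hNa : ∀ v, (N v : G) ∈ Subgroup.centralizer ({a} : Set G) := fun v => by
    have h1 : f 1 (N v) = N v := by
      rw [hN, map_prod]
      have h2 : ∀ i, f 1 (f i v) = f (i + 1) v := fun i => Subtype.ext (by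
        show a ^ 1 * (a ^ i * (v : G) * (a ^ i)⁻¹) * (a ^ 1)⁻¹ = _
        show _ = a ^ (i + 1) * (v : G) * (a ^ (i + 1))⁻¹
        rw [pow_one, pow_succ']; group)
      simp only [h2]
      have h3 : f (m + 1) v = f 0 v := Subtype.ext (by
        show a ^ (m + 1) * (v : G) * (a ^ (m + 1))⁻¹ = a ^ 0 * (v : G) * (a ^ 0)⁻¹
        rw [haq, pow_zero])
      rw [Finset.prod_range_succ, h3, ← Finset.prod_range_succ' (fun i => f i v)]
    have h4 := congrArg Subtype.val h1
    have h5 : a * (N v : G) * a⁻¹ = N v := by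
      have h6 : (f 1 (N v) : G) = a ^ 1 * (N v : G) * (a ^ 1)⁻¹ := rfl
      rwa [h6, pow_one] at h4
    exact Subgroup.mem_centralizer_singleton_iff.mpr (mul_inv_eq_iff_eq_mul.mp h5).symm
  refine Nat.card_le_card_of_injective
    (fun w => (⟨(N ⟨w, w.2.1⟩ : G), (N _).2, hNa _⟩ : ↥(V ⊓ Subgroup.centralizer ({a} : Set G))))
    fun u v h => ?_
  have h1 : N ⟨u, u.2.1⟩ = N ⟨v, v.2.1⟩ := Subtype.ext (congrArg Subtype.val h :)
  set w : V := ⟨u, u.2.1⟩⁻¹ * ⟨v, v.2.1⟩ with hw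
  have hwb : (w : G) * b = b * w :=
    Subgroup.mem_centralizer_singleton_iff.mp (mul_mem (inv_mem u.2.2) v.2.2)
  have h2 : N w = 1 := by rw [hw, map_mul, map_inv, h1, inv_mul_cancel]
  rw [hN, Finset.prod_range_succ'] at h2
  have hf0 : f 0 w = w := Subtype.ext (by show a ^ 0 * (w : G) * (a ^ 0)⁻¹ = w; simp)
  rw [hf0] at h2
  have h3 : w⁻¹ = 1 := key m le_rfl w⁻¹ (fun i => f (i + 1) w)
    (Commute.inv_left hwb)
    (fun i _ => by
      show a ^ (i + 1) * (w : G) * (a ^ (i + 1))⁻¹ * (a ^ (i + 1) * b * (a ^ (i + 1))⁻¹) = _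
      show _ = (a ^ (i + 1) * b * (a ^ (i + 1))⁻¹) * (a ^ (i + 1) * (w : G) * (a ^ (i + 1))⁻¹)
      exact Commute.eq (by
        simpa only [MulAut.conj_apply] using (show Commute (w : G) b from hwb).map (MulAut.conj (a ^ (i + 1)))))
    (inv_eq_of_mul_eq_one_left h2)
  have h4 := congrArg Subtype.val (inv_eq_one.mp h3)
  exact Subtype.ext (by simpa [hw, inv_mul_eq_one] using h4)

/-- A group with a central element of prime order outside which an operator of prime order acts freely. -/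
theorem isNilpotent_of_free_mod [Finite G] {S : Subgroup G} {a c : G} {q s : ℕ} (hq : q.Prime) (hs : s.Prime)
    (hsq : s ≠ q) (haq : a ^ q = 1) (hcs : c ^ s = 1) (hcS : c ∈ Subgroup.normalizer (S : Set G))
    (hca : c * a = a * c) (hSa : S ≤ Subgroup.centralizer ({a} : Set G))
    (hfix : ∀ d ∈ S, c * d = d * c → d ∈ Subgroup.zpowers a) : Group.IsNilpotent S := by
  set X := Subgroup.centralizer ({a} : Set G) with hX
  set Z := (Subgroup.zpowers a).subgroupOf X with hZ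
  have hcomm : ∀ z ∈ Subgroup.zpowers a, ∀ y ∈ X, z * y = y * z := by
    rintro _ ⟨i, rfl⟩ y hy
    exact ((show Commute a y from (Subgroup.mem_centralizer_singleton_iff.mp hy).symm).zpow_left i).eq
  have : Z.Normal := ⟨fun z hz y => by
    rw [hZ, Subgroup.mem_subgroupOf] at hz ⊢
    simpa [← hcomm _ hz y y.2] using hz⟩
  let π := QuotientGroup.mk' Z
  set S' := S.subgroupOf X with hS'
  have hcX : c ∈ X := Subgroup.mem_centralizer_singleton_iff.mpr hca
  have hn : π ⟨c, hcX⟩ ∈ Subgroup.normalizer ((S'.map π : Subgroup (X ⧸ Z)) : Set (X ⧸ Z)) := by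
    refine Subgroup.le_normalizer_map π ⟨⟨c, hcX⟩, ?_, rfl⟩
    exact Subgroup.mem_normalizer_iff.mpr fun y => Subgroup.mem_normalizer_iff.mp hcS y
  have hnil : Group.IsNilpotent ↥(S'.map π) := by
    refine CfsgLib.Frobenius.Thompson.isNilpotent_of_element _ hn hs ?_ ?_
    · rw [← map_pow, show (⟨c, hcX⟩ : X) ^ s = 1 from Subtype.ext hcs, map_one]
    rintro _ ⟨d, hd, rfl⟩ hcd
    rw [← map_mul, ← map_mul, QuotientGroup.mk'_eq_mk'] at hcd
    obtain ⟨z, hz, he⟩ := hcd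
    have hz' : (z : G) ∈ Subgroup.zpowers a := hz
    have he' : c * (d : G) * z = d * c := congrArg Subtype.val he
    -- `z` commutes with `c` and `d`, so it is trivial
    have hzc := hcomm _ hz' c hcX
    have hzd := hcomm _ hz' d d.2
    have hit : ∀ n : ℕ, c ^ n * (d : G) * (z : G) ^ n = d * c ^ n := by
      intro n
      induction n with
      | zero => simp
      | succ n ih =>
        have hzn : Commute ((z : G) ^ n) c := (show Commute (z : G) c from hzc).pow_left n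
        calc c ^ (n + 1) * (d : G) * (z : G) ^ (n + 1)
            = c ^ n * (c * d * z) * (z : G) ^ n := by rw [pow_succ, pow_succ']; group
          _ = c ^ n * d * (z : G) ^ n * c := by rw [he']; rw [mul_assoc, mul_assoc, mul_assoc, ← hzn.eq]; group
          _ = d * c ^ (n + 1) := by rw [ih, pow_succ, mul_assoc]
    have hzs : (z : G) ^ s = 1 := by simpa [hcs] using hit s
    have hzq : (z : G) ^ q = 1 := orderOf_dvd_iff_pow_eq_one.mp
      ((orderOf_dvd_of_mem_zpowers hz').trans (orderOf_dvd_of_pow_eq_one haq))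
    have hz1 : (z : G) = 1 := by
      rw [← pow_one (z : G), ← ((Nat.coprime_primes hs hq).mpr hsq).gcd_eq_one]
      exact pow_gcd_eq_one.mpr ⟨hzs, hzq⟩
    rw [hz1, mul_one] at he'
    exact (QuotientGroup.eq_one_iff _).mpr (hfix d hd he')
  let g : S →* (S'.map π : Subgroup (X ⧸ Z)) :=
    ((π.comp (Subgroup.inclusion hSa)).codRestrict _ fun y => ⟨Subgroup.inclusion hSa y, y.2, rfl⟩)
  have := hnil
  refine Subgroup.isNilpotent_of_ker_le_center g fun y hy => Subgroup.mem_center_iff.mpr fun w => ?_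
  have h1 : π (Subgroup.inclusion hSa y) = 1 := congrArg Subtype.val hy
  have h2 : Subgroup.inclusion hSa y ∈ Z := (QuotientGroup.eq_one_iff (Subgroup.inclusion hSa y)).mp h1
  exact Subtype.ext (hcomm y h2 w (hSa w.2)).symm

variable [Finite G] (hG : Cfsg.IsMinSimpleOddOrder G)

/-- An element of `U K` without primes of `K` lies in `U`. -/
theorem mem_left_of_coprime {U K : Subgroup G} (hKU : K ≤ Subgroup.normalizer (U : Set G))
    (hinf : U ⊓ K = ⊥) {e : G} (he : e ∈ U ⊔ K)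
    (hcop : (orderOf e).Coprime (Nat.card K)) : e ∈ U := by
  rw [sup_comm] at he
  obtain ⟨k, hk, u, hu, rfl⟩ := CfsgLib.Coprime.exists_mul_of_mem_sup hKU he
  have hit : ∀ n : ℕ, (k ^ n)⁻¹ * (k * u) ^ n ∈ U := by
    intro n
    induction n with
    | zero => simp
    | succ n ih =>
      rw [show (k ^ (n + 1))⁻¹ * (k * u) ^ (n + 1) = k⁻¹ * ((k ^ n)⁻¹ * (k * u) ^ n) * k * u by
        rw [pow_succ, pow_succ]; group]
      exact mul_mem ((Subgroup.mem_normalizer_iff''.mp (hKU hk) _).mp ih) hu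
  have h1 : k ^ orderOf (k * u) ∈ U ⊓ K := ⟨by
    have h := hit (orderOf (k * u))
    rw [pow_orderOf_eq_one, mul_one] at h
    simpa using inv_mem h, pow_mem hk _⟩
  rw [hinf, Subgroup.mem_bot] at h1
  have h2 : k = 1 := orderOf_eq_one_iff.mp (Nat.eq_one_of_dvd_coprimes hcop
    (orderOf_dvd_of_pow_eq_one h1) (Subgroup.orderOf_dvd_natCard _ hk))
  rwa [h2, one_mul]

/-- The situation after BG 14.8 has been applied to `N`. -/
structure BackCfg (M N Ns K U : Subgroup G) (a : G) (q p : ℕ) : Prop where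
  coatom : IsCoatom M
  coatomN : IsCoatom N
  coatomS : IsCoatom Ns
  compl : Cfsg.IsComplIn (M ⊓ N) (Cfsg.sigmaCore N) N
  nil : Group.IsNilpotent (Cfsg.sigmaCore N)
  dec : Cfsg.IsSigmaDecomposition N K U
  ne : K ≠ ⊥
  sup : M ⊓ N = U ⊔ K
  comm : IsMulCommutative U
  gen : K = Subgroup.zpowers a
  prime : q.Prime
  order : orderOf a = q
  star : K = Cfsg.sigmaCore Ns ⊓ Subgroup.centralizer
    ((Cfsg.sigmaCore N ⊓ Subgroup.centralizer (K : Set G) : Subgroup G) : Set G)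
  starHall : Cfsg.IsPiHallOf (Cfsg.kappa Ns) (Cfsg.sigmaCore N ⊓ Subgroup.centralizer (K : Set G)) Ns
  tau : p ∈ Cfsg.tau2 N
  sigma : p ∈ Cfsg.sigma M
  kappa : Cfsg.kappa M = ∅
  U_le : U ≤ Cfsg.sigmaCore M
  compl' : Cfsg.IsComplIn (M ⊓ Ns) (Cfsg.sigmaCore M) M
  a_mem : a ∈ M ⊓ Ns

variable {M N Ns K U : Subgroup G} {a : G} {q p : ℕ} (h : BackCfg M N Ns K U a q p)

omit [Finite G] in
include h in
theorem BackCfg.mem_K : a ∈ K := h.gen.symm ▸ Subgroup.mem_zpowers a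

omit [Finite G] in
include h in
theorem BackCfg.a_ne : a ≠ 1 := fun e => h.prime.ne_one (by rw [← h.order, e, orderOf_one])

include hG h in
theorem BackCfg.fpf {u : G} (hu : u ∈ U) {k : G} (hk : k ∈ K) (hk1 : k ≠ 1) (huk : u * k = k * u) :
    u = 1 :=
  Subgroup.mem_bot.mp (decomposition_fpf hG h.coatomN h.dec hk hk1 ▸
    (⟨hu, Subgroup.mem_centralizer_singleton_iff.mpr huk⟩ : u ∈ U ⊓ Subgroup.centralizer ({k} : Set G)))

include hG h in
/-- A plane of order `p ^ 2` inside `U`. -/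
theorem BackCfg.exists_plane :
    ∃ B : Subgroup G, B ≤ U ∧ Cfsg.IsElementaryAbelian p B ∧ Nat.card B = p ^ 2 ∧
      a ∈ Subgroup.normalizer (B : Set G) ∧
      Cfsg.sigmaCore N ⊓ Subgroup.centralizer (B : Set G) = ⊥ := by
  have := Fact.mk h.tau.1
  have hI := inputs hG
  obtain ⟨B, hBE, hBe, hB2⟩ := exists_plane_compl hG h.coatomN h.compl h.tau
  obtain ⟨⟨hn, -⟩, -, -⟩ := hI.tauTwoCompl N h.coatomN _ h.compl p h.tau B ⟨hBE, hBe, hB2⟩
  obtain ⟨-, -, -, hfix, -, -⟩ := hI.tauTwo N h.coatomN p h.tau B ⟨hBE.trans inf_le_right, hBe, hB2⟩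
  refine ⟨B, fun y hy => ?_, hBe, hB2, hn (h.sup.ge (Subgroup.mem_sup_right h.mem_K)), hfix⟩
  refine mem_left_of_coprime h.dec.normal ?_ (h.sup.le (hBE hy)) (Nat.coprime_of_dvd fun r hr h1 h2 => ?_)
  · exact le_bot_iff.mp (h.dec.compl.2.2.1 ▸ inf_le_inf_left U le_sup_left)
  · have hrp : r = p := (Nat.prime_dvd_prime_iff_eq hr h.tau.1).mp
      (h1.trans (orderOf_dvd_of_pow_eq_one (hBe.2 y hy)))
    exact h.tau.2.2.2 (hrp ▸ pRankLE_one_of_kappa (h.dec.hall.2.1 r hr h2))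

include hG h in
/-- An element of `M` centralizing `b ∈ U` with `C_{N_σ}(b) ≠ 1` lies in `U`. -/
theorem BackCfg.mem_U {b : G} (hb : b ∈ U) (hbo : orderOf b = p) {z : G} (hz : z ∈ Cfsg.sigmaCore N)
    (hz1 : z ≠ 1) (hbz : b * z = z * b) {e : G} (he : e ∈ M) (heb : e * b = b * e) : e ∈ U := by
  have hI := inputs hG
  have hb1 : b ≠ 1 := fun e => h.tau.1.ne_one (by rw [← hbo, e, orderOf_one])
  have hbN : b ∈ N := (Subgroup.mem_inf.mp (h.sup.ge (Subgroup.mem_sup_left hb))).2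
  have honly := (hI.nilpotent N h.coatomN _ h.compl).2.2.2 b hbN hb1 (fun r hr hd => by
    rw [hbo] at hd
    rw [(Nat.prime_dvd_prime_iff_eq hr h.tau.1).mp hd]
    exact h.tau) ⟨hbN, z, hz, hz1, hbz⟩
  have heN : e ∈ K ⊔ U := sup_comm U K ▸ h.sup.le
    ⟨he, honly.1 (Subgroup.mem_centralizer_singleton_iff.mpr heb)⟩
  obtain ⟨k, hk, u, hu, rfl⟩ := CfsgLib.Coprime.exists_mul_of_mem_sup h.dec.normal heN
  by_cases hk1 : k = 1
  · rwa [hk1, one_mul]
  refine absurd (h.fpf hG hb hk hk1 ?_) hb1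
  have hub : u * b = b * u := mul_comm_of_mem h.comm hu hb
  refine mul_right_cancel (b := u) ?_
  calc b * k * u = k * u * b := by rw [mul_assoc]; exact heb.symm
    _ = k * b * u := by rw [mul_assoc, hub, mul_assoc]

include hG h in
/-- `C_E(b) = 1`. -/
theorem BackCfg.centralizer_E {b : G} (hb : b ∈ U) (hbo : orderOf b = p) {z : G}
    (hz : z ∈ Cfsg.sigmaCore N) (hz1 : z ≠ 1) (hbz : b * z = z * b) {e : G} (he : e ∈ M ⊓ Ns)
    (heb : e * b = b * e) : e = 1 :=
  Subgroup.mem_bot.mp (h.compl'.2.2.1 ▸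
    (⟨he, h.U_le (h.mem_U hG hb hbo hz hz1 hbz he.1 heb)⟩ : e ∈ (M ⊓ Ns) ⊓ Cfsg.sigmaCore M))

include hG h in
/-- `E` is abelian. -/
theorem BackCfg.comm_E {b : G} (hb : b ∈ U) (hbo : orderOf b = p) {z : G}
    (hz : z ∈ Cfsg.sigmaCore N) (hz1 : z ≠ 1) (hbz : b * z = z * b) :
    IsMulCommutative ↥(M ⊓ Ns) := by
  have := Fact.mk h.tau.1
  set E := M ⊓ Ns with hE
  set S := Cfsg.sigmaCore M with hS
  have := minSimple_solvable hG h.coatom.1
  have hEs : Group.IsSolvable E :=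
    solvable_of_solvable_injective (Subgroup.inclusion_injective (inf_le_left : E ≤ M))
  have hEσ : ∀ r : ℕ, r.Prime → r ∣ Nat.card E → r ∉ Cfsg.sigma M :=
    fun r hr hd => not_mem_sigma_of_compl hG h.coatom h.compl' hr hd
  have hEn : E ≤ Subgroup.normalizer (S : Set G) := inf_le_left.trans (piCoreOf_normal _ _)
  obtain ⟨T, hT⟩ := CfsgLib.Coprime.exists_invariant_sylow E S hEn
    (Nat.coprime_of_dvd fun r hr h1 h2 => hEσ r hr h1 (piNat_card_piCoreOf (Cfsg.sigma M) M r hr h2))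
    (Or.inl hEs) p
  set P := (T : Subgroup S).map S.subtype with hPdef
  have hPS : SylowOf p P S := sylowOf_map T
  obtain ⟨R, hR, hPR⟩ := exists_sylowOf_ge (hPS.1.trans (sigmaCore_le M)) hPS.2.1
  obtain rfl : R = P := hPS.2.2 R
    (Sigma10.sylow_le_piCore hG h.coatom (Sigma10.alpha_subset_sigma hG h.coatom) h.sigma h.sigma hR)
    hR.2.1 hPR
  obtain ⟨PG, hPG⟩ := Sigma10.exists_sylow_of_mem_sigma h.sigma hR
  -- `P` is narrow
  obtain ⟨B₀, hB₀e, hB₀2, hB₀max⟩ := hasMaxPlane_of_tau2 hG h.coatomN h.tau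
  obtain ⟨P₀, hB₀P⟩ := (isPGroup_of_elemAb hB₀e).exists_le_sylow
  have hne : (P₀ : Subgroup G) ≠ ⊥ := fun e => by
    have h2 := Subgroup.card_le_of_le (hB₀P.trans e.le)
    rw [hB₀2, Subgroup.card_bot] at h2
    exact absurd h2 (not_le.mpr (Nat.one_lt_pow two_ne_zero h.tau.1.one_lt))
  have hp2 : p ≠ 2 := Uniq.prime_ne_two hG P₀.isPGroup' hne
  have hnar : Cfsg.IsNarrow p P := by
    refine Sigma10.isNarrow_congr (MulEquiv.subgroupCongr hPG) (Sigma10.isNarrow_congr (Sylow.equiv P₀ PG)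
      (Narrow.isNarrow_of_maximal_sq hp2 P₀.isPGroup' hB₀P hB₀e hB₀2 fun y _ hy hyc => ?_))
    exact (hB₀max _ (elemAb_sup_zpowers hB₀e hy hyc) le_sup_left).le
      (Subgroup.mem_sup_right (Subgroup.mem_zpowers y))
  -- no element of `E` centralizes `P`
  obtain ⟨m, hm, hle⟩ := Sigma10.exists_conj_le hPS (Q := Subgroup.zpowers b)
    (Subgroup.zpowers_le.mpr (h.U_le hb))
    (IsPGroup.of_card (n := 1) (by rw [Nat.card_zpowers, hbo, pow_one]))
  have hfaith : E ⊓ Subgroup.centralizer (P : Set G) = ⊥ := (Subgroup.eq_bot_iff_forall _).mpr fun e he => by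
    have h1 : m * b * m⁻¹ ∈ P := hle (mem_cj_self.mpr (Subgroup.mem_zpowers b))
    have h2 := Subgroup.mem_centralizer_iff.mp he.2 _ h1
    have hmM : m ∈ M := sigmaCore_le M hm
    have h3 : m⁻¹ * e * m ∈ U := h.mem_U hG hb hbo hz hz1 hbz
      (mul_mem (mul_mem (inv_mem hmM) he.1.1) hmM) (by
        calc m⁻¹ * e * m * b = m⁻¹ * (e * (m * b * m⁻¹)) * m := by group
          _ = m⁻¹ * (m * b * m⁻¹ * e) * m := by rw [h2]
          _ = b * (m⁻¹ * e * m) := by group)
    have h4 : e ∈ S := by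
      have := (Subgroup.mem_normalizer_iff.mp (piCoreOf_normal (Cfsg.sigma M) M hmM) _).mp (h.U_le h3)
      rwa [show m * (m⁻¹ * e * m) * m⁻¹ = e by group] at this
    exact Subgroup.mem_bot.mp (h.compl'.2.2.1 ▸ (⟨he.1, h4⟩ : e ∈ E ⊓ S))
  have hodd : Odd (Nat.card E) :=
    hG.1.of_dvd_nat (Subgroup.card_subgroup_dvd_card E)
  have hd := Narrow.derived_isPGroup hp2 P E hR.2.1 hnar hT hEs hodd hfaith
  have hbot : commutator E = ⊥ := by
    by_contra hne'
    exact hEσ p h.tau.1 ((Uniq.prime_dvd_card hd hne').trans (Subgroup.card_subgroup_dvd_card _)) h.sigma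
  exact ⟨⟨fun u v => commutatorElement_eq_one_iff_mul_comm.mp (Subgroup.mem_bot.mp (hbot ▸
    Subgroup.commutator_mem_commutator (Subgroup.mem_top u) (Subgroup.mem_top v)))⟩⟩

include hG h in
/-- An element of prime order of `N_σ ∩ C(K)` has to move a plane of `E` and acts with small order. -/
theorem BackCfg.kstar_action (hEc : IsMulCommutative ↥(M ⊓ Ns)) {r : ℕ} (hr : r ∈ Cfsg.tau2 M)
    (hab : ∀ S : Sylow r G, IsMulCommutative (S : Subgroup G)) {A : Subgroup G} (hAE : A ≤ M ⊓ Ns)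
    (hAe : Cfsg.IsElementaryAbelian r A) (hA2 : Nat.card A = r ^ 2) {c : G} {s : ℕ} (hs : s.Prime)
    (hc : c ∈ Cfsg.sigmaCore N ⊓ Subgroup.centralizer (K : Set G)) (hco : orderOf c = s) :
    c ∈ Subgroup.normalizer (A : Set G) ∧ s < r := by
  have hI := inputs hG
  have := Fact.mk hr.1
  have := Fact.mk hs
  set C := Cfsg.sigmaCore N ⊓ Subgroup.centralizer (K : Set G) with hC
  have hC1 : C ≠ ⊥ := OddOrder38.kstar_ne_bot hI h.coatomN h.dec.hall h.ne
  have hc1 : c ≠ 1 := fun e => hs.ne_one (by rw [← hco, e, orderOf_one])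
  have hsκ : s ∈ Cfsg.kappa Ns := h.starHall.2.1 s hs (hco ▸ Subgroup.orderOf_dvd_natCard _ hc)
  have hAC : A ≤ Subgroup.centralizer ({a} : Set G) := fun y hy =>
    Subgroup.mem_centralizer_singleton_iff.mpr (mul_comm_of_mem hEc (hAE hy) h.a_mem)
  have haS := (Subgroup.mem_inf.mp (h.star.le h.mem_K)).1
  have hrS : r ∈ Cfsg.sigma Ns := by
    by_contra hrS
    have hτ : r ∈ Cfsg.tau2 Ns := (tau2_or_rank_one hG h.coatomS hr.1 hrS).resolve_right fun h1 =>
      not_plane_le_of_rank_one hr.1 h1 (hAE.trans inf_le_right) hAe hA2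
    obtain ⟨-, -, -, hfix, -, -⟩ := hI.tauTwo Ns h.coatomS r hτ A ⟨hAE.trans inf_le_right, hAe, hA2⟩
    refine h.a_ne (Subgroup.mem_bot.mp (hfix ▸
      (⟨haS, Subgroup.mem_centralizer_iff.mpr fun y hy => ?_⟩ :
        a ∈ Cfsg.sigmaCore Ns ⊓ Subgroup.centralizer (A : Set G))))
    exact Subgroup.mem_centralizer_singleton_iff.mp (hAC hy)
  have hsr : s ≠ r := fun e => hsκ.2.2.1 (e ▸ hrS)
  have hsq : s ≠ q := fun e => hsκ.2.2.1 (e ▸ mem_sigma_of_mem_sigmaCore haS h.prime h.order.symm.dvd)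
  have hAS : A ≤ Cfsg.sigmaCore Ns := le_sigmaCore hG h.coatomS (hAE.trans inf_le_right) fun t ht htd => by
    rw [hA2] at htd
    rwa [(Nat.prime_dvd_prime_iff_eq ht hr.1).mp (ht.dvd_of_dvd_pow htd)]
  set D := Cfsg.sigmaCore Ns ⊓ Subgroup.centralizer ({a} : Set G) with hD
  have hfixed : ∀ d ∈ Cfsg.sigmaCore Ns, c * d = d * c → d ∈ K := fun d hd hcd => by
    rw [h.star, ← (hI.kappaHall Ns h.coatomS C h.starHall hC1).1 c hc hc1]
    exact ⟨hd, Subgroup.mem_centralizer_singleton_iff.mpr hcd.symm⟩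
  have hca : c * a = a * c := (Subgroup.mem_centralizer_iff.mp hc.2 a h.mem_K).symm
  have hcD : c ∈ Subgroup.normalizer (D : Set G) := mem_normalizer_inf
    (piCoreOf_normal (Cfsg.sigma Ns) Ns (h.starHall.1 hc))
    (Subgroup.le_normalizer (Subgroup.mem_centralizer_singleton_iff.mpr hca))
  have hDnil : Group.IsNilpotent D := isNilpotent_of_free_mod h.prime hs hsq
    (h.order ▸ pow_orderOf_eq_one a) (hco ▸ pow_orderOf_eq_one c) hcD hca inf_le_right
    fun d hd hcd => h.gen.le (hfixed d hd.1 hcd)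
  obtain ⟨R, hR, hAR⟩ := exists_sylowOf_ge (le_inf hAS hAC : A ≤ D) (isPGroup_of_elemAb hAe)
  obtain ⟨T, rfl⟩ := hR.toSylow
  have := hDnil
  have hTn : (T : Subgroup D).Normal := inferInstance
  have hTc : (T : Subgroup D).Characteristic := Sylow.characteristic_of_normal T hTn
  obtain ⟨S, hS⟩ := hR.2.1.exists_le_sylow
  obtain ⟨-, ⟨hCA, hNA, -⟩, -⟩ := hI.tauTwoCompl M h.coatom _ h.compl' r hr A ⟨hAE, hAe, hA2⟩
  obtain ⟨⟨-, hall⟩, -, -⟩ := hI.tauTwoCompl M h.coatom _ h.compl' r hr A ⟨hAE, hAe, hA2⟩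
  have homega : ∀ y ∈ (T : Subgroup D).map D.subtype, y ^ r = 1 → y ∈ A := fun y hy hyr => by
    by_cases hy1 : y = 1
    · rw [hy1]; exact one_mem _
    have hyE : y ∈ M ⊓ Ns := hNA ▸ hCA (Subgroup.mem_centralizer_iff.mpr fun e he =>
      mul_comm_of_mem (hab S) (hS (hAR he)) (hS hy))
    exact hall _ (Subgroup.zpowers_le.mpr hyE)
      (by rw [Nat.card_zpowers, orderOf_eq_prime hyr hy1]) (Subgroup.mem_zpowers y)
  have hcR : c ∈ Subgroup.normalizer (((T : Subgroup D).map D.subtype : Subgroup G) : Set G) := by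
    obtain ⟨d, hd, hle⟩ := Sigma10.exists_conj_le (sylowOf_map T)
      ((cj_mono (Subgroup.map_subtype_le _)).trans (cj_eq_of_mem_normalizer hcD).le)
      (Q := cj c ((T : Subgroup D).map D.subtype)) (hR.2.1.map _)
    refine mem_normalizer_of_cj_eq (Subgroup.eq_of_le_of_card_ge ?_ (by rw [card_cj]))
    exact (cj_le_iff.mp hle).trans
      (cj_eq_of_mem_normalizer (map_subtype_normalized _ (inv_mem hd))).le
  have hcA : c ∈ Subgroup.normalizer (A : Set G) := by
    refine CfsgLib.Coprime.mem_normalizer_of_forall_conj fun e he => homega _ ?_ ?_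
    · exact (Subgroup.mem_normalizer_iff.mp hcR e).mp (hAR he)
    · rw [conj_pow, hAe.2 e he, mul_one, mul_inv_cancel]
  refine ⟨hcA, prime_lt_of_action (minSimple_prime_ne_two' hG ?_) (minSimple_prime_ne_two' hG ?_) hsr
    le_rfl hA2 (hco ▸ pow_orderOf_eq_one c) hcA fun hle => ?_⟩
  · exact hsκ.2.1.trans (Subgroup.card_subgroup_dvd_card Ns)
  · exact (dvd_pow_self r two_ne_zero).trans (hA2 ▸ Subgroup.card_subgroup_dvd_card A)
  · have hAK : A ≤ K := fun e he => hfixed e (hAS he)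
      (Subgroup.mem_centralizer_singleton_iff.mp (hle he)).symm
    exact Sigma11.not_isCyclic_plane hAe hA2 (haveI := h.dec.cyclic; Subgroup.isCyclic_of_le hAK)

include hG h in
/-- Either some element of prime order of `K*` centralizes `b`, or the prime is above `p`. -/
theorem BackCfg.exists_layer :
    ∃ b z : G, b ∈ U ∧ orderOf b = p ∧ z ∈ Cfsg.sigmaCore N ∧ z ≠ 1 ∧ b * z = z * b ∧
      ∃ c s, s.Prime ∧ c ∈ Cfsg.sigmaCore N ⊓ Subgroup.centralizer (K : Set G) ∧ orderOf c = s ∧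
        (b * c = c * b ∨ p < s) := by
  have hI := inputs hG
  have := Fact.mk h.tau.1
  obtain ⟨B, hBU, hBe, hB2, haB, hfix⟩ := h.exists_plane hG
  set C := Cfsg.sigmaCore N ⊓ Subgroup.centralizer (K : Set G) with hC
  have hC1 : C ≠ ⊥ := OddOrder38.kstar_ne_bot hI h.coatomN h.dec.hall h.ne
  obtain ⟨s, hs, hsd⟩ := Nat.exists_prime_and_dvd (n := Nat.card ↥(Cfsg.sigmaCore N))
    fun e => hC1 (le_bot_iff.mp (Subgroup.card_eq_one.mp e ▸ inf_le_left))
  have := Fact.mk hs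
  have hsσ : s ∈ Cfsg.sigma N := piNat_card_piCoreOf (Cfsg.sigma N) N s hs hsd
  have hsp : s ≠ p := fun e => h.tau.2.1 (e ▸ hsσ)
  obtain ⟨V, hVS, -, hVe, hV1, hVn⟩ := OddOrder40.exists_central_layer h.nil hsd
  have hNV : N ≤ Subgroup.normalizer (V : Set G) := (piCoreOf_normal _ _).trans hVn
  have hBN : B ≤ N := fun y hy => (Subgroup.mem_inf.mp (h.sup.ge (Subgroup.mem_sup_left (hBU hy)))).2
  have haN : a ∈ N := (Subgroup.mem_inf.mp (h.sup.ge (Subgroup.mem_sup_right h.mem_K))).2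
  obtain ⟨b, hb, hb1, hW1⟩ : ∃ b ∈ B, b ≠ 1 ∧ V ⊓ Subgroup.centralizer ({b} : Set G) ≠ ⊥ := by
    by_contra hcon
    push Not at hcon
    refine hV1 (le_bot_iff.mp (Uniq.le_of_centralizers_noncyclic hBe (Sigma11.not_isCyclic_plane hBe hB2)
      ?_ (hBN.trans hNV) fun y hy hy1 => (hcon y hy hy1).le))
    obtain ⟨n, hn⟩ := (isPGroup_of_elemAb hVe).exists_card_eq
    rw [hn]
    exact ((Nat.coprime_primes hs h.tau.1).mpr hsp).pow_left n
  have hbo : orderOf b = p := orderOf_eq_prime (hBe.2 b hb) hb1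
  set W := V ⊓ Subgroup.centralizer ({b} : Set G) with hW
  obtain ⟨z, hz, hz1⟩ := (Subgroup.bot_or_exists_ne_one W).resolve_left hW1
  refine ⟨b, z, hBU hb, hbo, hVS hz.1, hz1, (Subgroup.mem_centralizer_singleton_iff.mp hz.2).symm, ?_⟩
  have hWB : W ⊓ Subgroup.centralizer (B : Set G) = ⊥ :=
    le_bot_iff.mp (hfix ▸ inf_le_inf (inf_le_left.trans hVS) le_rfl)
  have hsW : ∀ y ∈ V, y ≠ 1 → orderOf y = s := fun y hy hy1 => orderOf_eq_prime (hVe.2 y hy) hy1
  by_cases hab : a ∈ Subgroup.normalizer ((Subgroup.zpowers b : Subgroup G) : Set G)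
  · -- `B K` acts on `W`
    rw [← centralizer_zpowers] at hW
    have hn : B ⊔ K ≤ Subgroup.normalizer (W : Set G) := by
      refine sup_le (fun y hy => ?_) (h.gen.le.trans (Subgroup.zpowers_le.mpr ?_)) <;> rw [hW]
      · refine mem_normalizer_inf (hNV (hBN hy)) (Subgroup.le_normalizer ?_)
        rw [centralizer_zpowers]
        exact Subgroup.mem_centralizer_singleton_iff.mpr (elemAb_commute hBe hy hb)
      · exact mem_normalizer_inf (hNV haN) (normalizer_centralizer_le _ hab)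
    have hKB : K ≤ Subgroup.normalizer (B : Set G) := h.gen.le.trans (Subgroup.zpowers_le.mpr haB)
    have hfree : ∀ e ∈ K, e ≠ 1 → ∀ u ∈ B, e * u = u * e → u = 1 :=
      fun e he he1 u hu heu => h.fpf hG (hBU hu) he he1 heu.symm
    have hWp : IsPGroup s W := (isPGroup_of_elemAb hVe).to_le (hW.le.trans inf_le_left)
    have hcop : (Nat.card W).Coprime (Nat.card ↥(B ⊔ K)) := Nat.coprime_of_dvd fun t ht h1 h2 => by
      obtain ⟨n, hn'⟩ := hWp.exists_card_eq
      rw [hn'] at h1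
      obtain rfl := (Nat.prime_dvd_prime_iff_eq ht hs).mp (ht.dvd_of_dvd_pow h1)
      rw [sup_comm] at h2
      rcases ht.dvd_mul.mp (h2.trans (card_sup_dvd_mul hKB)) with h3 | h3
      · exact (h.dec.hall.2.1 t ht h3).2.2.1 hsσ
      · rw [hB2] at h3
        exact hsp ((Nat.prime_dvd_prime_iff_eq ht h.tau.1).mp (ht.dvd_of_dvd_pow h3))
    have hWs : Group.IsSolvable W := by
      have := hWp.isNilpotent
      infer_instance
    have hf := FixedFormula.fixed_formula B K h.ne hKB (FixedFormula.coprime_of_fpf hKB hfree) hfree W hn hWs hcop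
    have hWBK : W ⊓ Subgroup.centralizer ((B ⊔ K : Subgroup G) : Set G) = ⊥ :=
      le_bot_iff.mp (hWB ▸ inf_le_inf le_rfl (Subgroup.centralizer_le fun _ hy => Subgroup.mem_sup_left hy))
    rw [hWBK, hWB, Subgroup.card_bot, one_pow, one_mul, mul_one] at hf
    obtain ⟨c, hc, hc1⟩ := (Subgroup.bot_or_exists_ne_one
      (W ⊓ Subgroup.centralizer (K : Set G))).resolve_left fun e => hW1 (Subgroup.card_eq_one.mp (by
        rw [hf, e, Subgroup.card_bot, one_pow]))
    have hcW : c ∈ V ⊓ Subgroup.centralizer ((Subgroup.zpowers b : Subgroup G) : Set G) := hW ▸ hc.1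
    exact ⟨c, s, hs, ⟨hVS hcW.1, hc.2⟩, hsW c hcW.1 hc1, Or.inl
      (Subgroup.mem_centralizer_iff.mp hcW.2 b (Subgroup.mem_zpowers b))⟩
  · have hmove : ∀ j : ℕ, j < q - 1 →
        a ^ (j + 1) * b * (a ^ (j + 1))⁻¹ ∉ Subgroup.zpowers b := by
      intro j hj hmem
      apply hab
      have h1 : a ^ (j + 1) ∈ Subgroup.normalizer ((Subgroup.zpowers b : Subgroup G) : Set G) := by
        refine mem_normalizer_of_cj_eq (Subgroup.eq_of_le_of_card_ge ?_ (by rw [card_cj]))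
        rw [cj_zpowers]
        exact Subgroup.zpowers_le.mpr hmem
      refine Subgroup.zpowers_le.mpr h1 (?_ : a ∈ Subgroup.zpowers (a ^ (j + 1)))
      refine mem_zpowers_pow_iff.mpr ?_
      rw [h.order]
      exact ((h.prime.coprime_iff_not_dvd).mpr fun hd => by
        have := Nat.le_of_dvd (Nat.succ_pos j) hd
        omega).symm.gcd_eq_one
    have hgen : ∀ β ∈ B, β ∉ Subgroup.zpowers b → ∀ w ∈ V, w * b = b * w → w * β = β * w → w = 1 := by
      intro β hβ hβb w hw hwb hwβ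
      refine Subgroup.mem_bot.mp (hfix ▸ (⟨hVS hw, ?_⟩ :
        w ∈ Cfsg.sigmaCore N ⊓ Subgroup.centralizer (B : Set G)))
      rw [← Sigma11.eq_sup_zpowers hBe hB2 hb hb1 hβ hβb, Subgroup.zpowers_eq_closure,
        Subgroup.zpowers_eq_closure, ← Subgroup.closure_union, Subgroup.centralizer_closure]
      refine Subgroup.mem_centralizer_iff.mpr ?_
      rintro y (rfl | rfl)
      exacts [hwb.symm, hwβ.symm]
    have hq1 : q - 1 + 1 = q := Nat.sub_add_cancel h.prime.one_le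
    have hle := card_le_of_norm hVe.1 (hNV haN) (hBN.trans hNV) hBe.1 hb haB
      (by rw [hq1, ← h.order, pow_orderOf_eq_one]) hgen hmove
    set X := V ⊓ Subgroup.centralizer ({a} : Set G) with hX
    have hXC : X ≤ C := by
      rw [hX, ← centralizer_zpowers, ← h.gen]
      exact inf_le_inf hVS le_rfl
    have hWs' : s ≤ Nat.card W := Nat.le_of_dvd Nat.card_pos
      (hsW z hz.1 hz1 ▸ Subgroup.orderOf_dvd_natCard _ hz)
    have hXc : IsCyclic X :=
      haveI := OddOrder40.kappa_cyclic hG hI h.coatomS h.starHall; Subgroup.isCyclic_of_le hXC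
    have hXs : Nat.card X ≤ s := by
      rw [← IsCyclic.exponent_eq_card]
      exact Nat.le_of_dvd hs.pos (Monoid.exponent_dvd_of_forall_pow_eq_one fun y =>
        Subtype.ext (by simpa using hVe.2 y y.2.1))
    have hWc : Nat.card W = s ^ 1 := by rw [pow_one]; exact le_antisymm (hle.trans hXs) hWs'
    obtain ⟨c, hc, hc1⟩ := (Subgroup.bot_or_exists_ne_one X).resolve_left fun e => by
      rw [e, Subgroup.card_bot] at hle
      exact absurd (hWs'.trans hle) (not_le.mpr hs.one_lt)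
    obtain ⟨β, hβ, hβW⟩ : ∃ β ∈ B, ¬ W ≤ Subgroup.centralizer ({β} : Set G) := by
      by_contra hcon
      push Not at hcon
      refine hz1 (Subgroup.mem_bot.mp (hWB ▸ (⟨hz, Subgroup.mem_centralizer_iff.mpr fun y hy =>
        ((Subgroup.mem_centralizer_singleton_iff.mp (hcon y hy hz))).symm⟩ :
        z ∈ W ⊓ Subgroup.centralizer (B : Set G))))
    refine ⟨c, s, hs, hXC hc, hsW c hc.1 hc1, Or.inr ?_⟩
    refine prime_lt_of_action (minSimple_prime_ne_two' hG ?_) (minSimple_prime_ne_two' hG ?_) hsp.symm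
      (one_le_two) hWc (hBe.2 β hβ) ?_ hβW
    · exact (dvd_pow_self p two_ne_zero).trans (hB2 ▸ Subgroup.card_subgroup_dvd_card B)
    · exact hsd.trans (Subgroup.card_subgroup_dvd_card _)
    · rw [hW]
      exact mem_normalizer_inf (hNV (hBN hβ)) (Subgroup.le_normalizer
        (Subgroup.mem_centralizer_singleton_iff.mpr (elemAb_commute hBe hβ hb)))

include hG h in
/-- The complement of `M_σ` is abelian and `τ₂(M) = ∅`. -/
theorem BackCfg.comm_and_tau2 : IsMulCommutative ↥(M ⊓ Ns) ∧ ∀ r, r ∉ Cfsg.tau2 M := by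
  have hI := inputs hG
  obtain ⟨b, z, hb, hbo, hz, hz1, hbz, c, s, hs, hc, hco, hcase⟩ := h.exists_layer hG
  have hEc := h.comm_E hG hb hbo hz hz1 hbz
  refine ⟨hEc, fun r hr => ?_⟩
  have := Fact.mk hr.1
  obtain ⟨A, hAE, hAe, hA2⟩ := exists_plane_compl hG h.coatom h.compl' hr
  obtain ⟨-, -, hXone⟩ := hI.tauTwoCompl M h.coatom _ h.compl' r hr A ⟨hAE, hAe, hA2⟩
  have hab : ∀ S : Sylow r G, IsMulCommutative (S : Subgroup G) := by
    intro S
    by_contra hS
    have hall : ∀ T : Sylow r G, ¬ IsMulCommutative (T : Subgroup G) := fun T hT => hS (by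
      have := hT
      obtain ⟨e⟩ : Nonempty ((S : Subgroup G) ≃* (T : Subgroup G)) := ⟨S.equiv T⟩
      exact ⟨⟨fun u v => e.injective (by rw [map_mul, map_mul]; exact this.is_comm.comm _ _)⟩⟩)
    obtain ⟨-, ⟨hcard, -⟩, -⟩ := hI.nonabelian M h.coatom _ h.compl' r hr hall A ⟨hAE, hAe, hA2⟩
    obtain ⟨e, he, he1⟩ := (Subgroup.bot_or_exists_ne_one
      (A ⊓ Subgroup.centralizer (Cfsg.sigmaCore M : Set G))).resolve_left fun e => by
        rw [e, Subgroup.card_bot] at hcard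
        exact hr.1.ne_one hcard.symm
    exact he1 (h.centralizer_E hG hb hbo hz hz1 hbz (hAE he.1)
      (Subgroup.mem_centralizer_iff.mp he.2 b (h.U_le hb)).symm)
  obtain ⟨hcA, hsr⟩ := h.kstar_action hG hEc hr hab hAE hAe hA2 hs hc hco
  rcases hcase with hbc | hps
  swap
  · exact lt_asymm (hsr.trans (tau2_lt_sigma hG hI.toLocal h.coatom hr h.sigma
      (hasMaxPlane_of_tau2 hG h.coatomN h.tau))) hps
  have hc1 : c ≠ 1 := fun e => hs.ne_one (by rw [← hco, e, orderOf_one])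
  have hcM : c ∉ M := fun hcM => hc1 (Subgroup.mem_bot.mp (h.compl.2.2.1 ▸
    (⟨⟨hcM, sigmaCore_le N hc.1⟩, hc.1⟩ : c ∈ (M ⊓ N) ⊓ Cfsg.sigmaCore N)))
  set S := Cfsg.sigmaCore M with hS
  set Y := S ⊓ cj c S with hY
  have hAM : A ≤ M := hAE.trans inf_le_left
  have hAS : A ≤ Subgroup.normalizer (S : Set G) := hAM.trans (piCoreOf_normal _ _)
  have hAY : A ≤ Subgroup.normalizer (Y : Set G) := fun e he => by
    refine mem_normalizer_inf (hAS he) ?_
    rw [← cj_normalizer]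
    exact cj_mono hAS ((cj_eq_of_mem_normalizer hcA).ge he)
  have hb1 : b ≠ 1 := fun e => h.tau.1.ne_one (by rw [← hbo, e, orderOf_one])
  have hbY : b ∈ Y := ⟨h.U_le hb, mem_cj.mpr (by
    rw [show c⁻¹ * b * c = b by rw [mul_assoc, hbc, inv_mul_cancel_left]]
    exact h.U_le hb)⟩
  obtain ⟨e, he, he1, hY1⟩ : ∃ e ∈ A, e ≠ 1 ∧ Y ⊓ Subgroup.centralizer ({e} : Set G) ≠ ⊥ := by
    by_contra hcon
    push Not at hcon
    refine hb1 (Subgroup.mem_bot.mp (Uniq.le_of_centralizers_noncyclic hAe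
      (Sigma11.not_isCyclic_plane hAe hA2) ?_ hAY (fun y hy hy1 => (hcon y hy hy1).le) hbY))
    exact ((hr.1.coprime_iff_not_dvd).mpr fun hd => hr.2.1
      (piNat_card_piCoreOf (Cfsg.sigma M) M r hr.1 (hd.trans (Subgroup.card_dvd_of_le inf_le_left)))).symm
  obtain ⟨y, hy, hy1⟩ := (Subgroup.bot_or_exists_ne_one _).resolve_left hY1
  have honly : ∀ e ∈ A, e ≠ 1 → ∀ y ∈ S, y ≠ 1 → y * e = e * y →
      OnlyIn (Subgroup.centralizer ({e} : Set G)) M := fun e he he1 y hy hy1 hye => by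
    exact (hI.nilpotent M h.coatom _ h.compl').2.2.2 e (hAM he) he1 (fun t ht hd => by
      rw [orderOf_eq_prime (hAe.2 e he) he1] at hd
      rw [(Nat.prime_dvd_prime_iff_eq ht hr.1).mp hd]
      exact hr) ⟨hAM he, y, hy, hy1, hye.symm⟩
  have hye := Subgroup.mem_centralizer_singleton_iff.mp hy.2
  have h1 := honly e he he1 y hy.1.1 hy1 hye
  have h2 := (honly (c⁻¹ * e * c) ((Subgroup.mem_normalizer_iff''.mp hcA e).mp he)
    (fun h0 => he1 (by simpa [mul_assoc] using congrArg (fun t => c * t * c⁻¹) h0))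
    (c⁻¹ * y * c) (mem_cj.mp hy.1.2)
    (fun h0 => hy1 (by simpa [mul_assoc] using congrArg (fun t => c * t * c⁻¹) h0))
    (by
      calc c⁻¹ * y * c * (c⁻¹ * e * c) = c⁻¹ * (y * e) * c := by group
        _ = c⁻¹ * (e * y) * c := by rw [hye]
        _ = _ := by group)).cj c
  rw [Sigma11.cj_centralizer_singleton, show c * (c⁻¹ * e * c) * c⁻¹ = e by group] at h2
  exact hcM (mem_of_cj_eq hG h.coatom (h1.eq (isCoatom_map_conj h.coatom c) h2))

include hG h in
/-- No non-trivial element of `E` has a fixed point in `M_σ`. -/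
theorem BackCfg.free {e : G} (he : e ∈ M ⊓ Ns) (he1 : e ≠ 1) :
    Cfsg.sigmaCore M ⊓ Subgroup.centralizer ({e} : Set G) = ⊥ := by
  refine (Subgroup.eq_bot_iff_forall _).mpr fun y hy => ?_
  by_contra hy1
  obtain ⟨t, ht, htd⟩ := Nat.exists_prime_and_dvd (n := orderOf e) fun h0 => he1 (orderOf_eq_one_iff.mp h0)
  have := Fact.mk ht
  obtain ⟨w, hw, hwo⟩ := exists_mem_zpowers_prime ht htd
  have htσ : t ∉ Cfsg.sigma M := not_mem_sigma_of_compl hG h.coatom h.compl' ht
    (htd.trans (Subgroup.orderOf_dvd_natCard _ he))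
  have hr1 := (tau2_or_rank_one hG h.coatom ht htσ).resolve_left ((h.comm_and_tau2 hG).2 t)
  have hκ := OddOrder38.mem_kappa hG h.coatom htσ hr1
    (Subgroup.zpowers_le.mpr he.1 hw : w ∈ M) hwo hy.1 hy1
    (Subgroup.mem_centralizer_singleton_iff.mp (centralizer_le_of_mem_zpowers hw hy.2)).symm
  rw [h.kappa] at hκ
  exact hκ

include hG h in
/-- The complement is cyclic. -/
theorem BackCfg.cyclic : IsCyclic ↥(M ⊓ Ns) := by
  obtain ⟨hc, hτ⟩ := h.comm_and_tau2 hG
  have hnil : Group.IsNilpotent ↥(M ⊓ Ns) := by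
    open scoped IsMulCommutative in
    have := hc
    infer_instance
  have hZ : IsZGroup ↥(M ⊓ Ns) := ⟨fun t ht T => by
    have := Fact.mk ht
    by_cases htd : t ∣ Nat.card ↥(M ⊓ Ns)
    swap
    · have hT : (T : Subgroup ↥(M ⊓ Ns)) = ⊥ := by
        by_contra h0
        exact htd ((Uniq.prime_dvd_card T.isPGroup' h0).trans (Subgroup.card_subgroup_dvd_card _))
      exact isCyclic_of_surjective (MulEquiv.subgroupCongr hT).symm.toMonoidHom (MulEquiv.surjective _)
    have hr1 := (tau2_or_rank_one hG h.coatom ht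
      (not_mem_sigma_of_compl hG h.coatom h.compl' ht htd)).resolve_left (hτ t)
    set T' := (T : Subgroup ↥(M ⊓ Ns)).map (M ⊓ Ns).subtype with hT'
    have hcT : IsCyclic T' := isCyclic_of_pRankLE_one (minSimple_prime_ne_two' hG
      (htd.trans (Subgroup.card_subgroup_dvd_card _))) (T.isPGroup'.map _)
      (PRankLE.of_le ((Subgroup.map_subtype_le _).trans inf_le_left) hr1)
    exact isCyclic_of_injective
      ((T : Subgroup ↥(M ⊓ Ns)).equivMapOfInjective (M ⊓ Ns).subtype (M ⊓ Ns).subtype_injective).toMonoidHom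
      (MulEquiv.injective _)⟩
  infer_instance

include hG in
/-- **BG 14.10**: the configuration of `S1376`. -/
theorem exists_backCfg {x : G} (hM : IsCoatom M) (hx : x ∈ Cfsg.sigmaCore M) (hx1 : x ≠ 1)
    (hxM : ¬ Subgroup.centralizer ({x} : Set G) ≤ M) (hN : IsCoatom N)
    (hxN : Subgroup.centralizer ({x} : Set G) ≤ N) (hkN : (Cfsg.kappa N).Nonempty) :
    ∃ (Ns K U : Subgroup G) (a : G) (q p : ℕ), BackCfg M N Ns K U a q p := by
  have hI := inputs hG
  obtain ⟨L, hL, honly, -, hnil, hc, hτx⟩ := centralizer_partner hG hI hM hx hx1 hxM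
  obtain rfl : N = L := honly.2 N hN hxN
  set E := M ⊓ N with hE
  set S := Cfsg.sigmaCore N with hS
  have hxN' : x ∈ N := hxN (self_mem_centralizer x)
  have hxE : x ∈ E := ⟨sigmaCore_le M hx, hxN'⟩
  -- a Hall `κ(N)`-subgroup in `E`
  have := minSimple_solvable hG hN.1
  obtain ⟨K₀, hK₀⟩ := exists_hall hG hN
  obtain ⟨g, hg, hgle⟩ := exists_conj_into hc.1 (π := Cfsg.kappa N) (fun r hr hrκ hd => by
    rw [IsComplIn.relIndex_left hc] at hd
    exact hrκ.2.2.1 (piNat_card_piCoreOf (Cfsg.sigma N) N r hr hd)) hK₀.1 hK₀.2.1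
  set K := cj g K₀ with hKdef
  have hK : Cfsg.IsPiHallOf (Cfsg.kappa N) K N := by
    refine ⟨hgle.trans hc.1, fun r hr hd => hK₀.2.1 r hr (by rwa [hKdef, card_cj] at hd), fun r hr hrκ hd => ?_⟩
    refine hK₀.2.2 r hr hrκ ?_
    have h1 := card_mul_relIndex_of_le (hgle.trans hc.1)
    rw [← card_mul_relIndex_of_le hK₀.1, hKdef, card_cj] at h1
    exact Nat.eq_of_mul_eq_mul_left Nat.card_pos h1 ▸ hd
  obtain ⟨t, ht⟩ := hkN
  have hK1 : K ≠ ⊥ := fun e => ht.1.ne_one (Nat.dvd_one.mp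
    (by simpa [e, Subgroup.card_bot] using dvd_card_of_mem hK ht))
  have hKcyc := OddOrder40.kappa_cyclic hG hI hN hK
  have h1 := kappaTauOne_of_comm hG hN hK (haveI := hKcyc; IsCyclic.isMulCommutative)
  obtain ⟨U, hUE, hU, hEn, hdec, hDU, hinf⟩ := exists_u hG hN hK h1 hc hgle
  have hsup : E = U ⊔ K := le_antisymm (fun e he => by
    obtain ⟨u, hu, k, hk, rfl⟩ := hdec e he
    exact mul_mem (Subgroup.mem_sup_left hu) (Subgroup.mem_sup_right hk)) (sup_le hUE hgle)
  have hxU : x ∈ U := mem_left_of_coprime (hgle.trans hEn) hinf (hsup.le hxE)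
    (Nat.coprime_of_dvd fun r hr h2 h3 => (hτx r hr h2).2.2.2 (pRankLE_one_of_kappa (hK.2.1 r hr h3)))
  have hU1 : U ≠ ⊥ := fun e => hx1 (Subgroup.mem_bot.mp (e ▸ hxU))
  have hKU : Cfsg.IsSigmaDecomposition N K U := by
    refine ⟨hKcyc, hK, ⟨hU.1, sup_le hK.1 (piCoreOf_le _ _), ?_, fun n hn => ?_⟩, hgle.trans hEn⟩
    · refine (Subgroup.disjoint_of_coprime_natCard (Nat.coprime_of_dvd fun r hr ha hb => ?_)).eq_bot
      rcases hr.dvd_mul.mp (hb.trans (Coprime.card_sup_dvd (hK.1.trans (piCoreOf_normal (Cfsg.sigma N) N))))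
        with h2 | h2
      · exact (hU.2.1 r hr ha).2.1 (hK.2.1 r hr h2)
      · exact (hU.2.1 r hr ha).2.2 (piNat_card_piCoreOf (Cfsg.sigma N) N r hr h2)
    · obtain ⟨e, he, s, hs, rfl⟩ := hc.2.2.2 n hn
      obtain ⟨u, hu, k, hk, rfl⟩ := hdec e he
      exact ⟨u, hu, k * s, Subgroup.mul_mem _ (Subgroup.mem_sup_left hk) (Subgroup.mem_sup_right hs),
        mul_assoc u k s⟩
  obtain ⟨p, hp, hpd⟩ := Nat.exists_prime_and_dvd (n := orderOf x) fun e => hx1 (orderOf_eq_one_iff.mp e)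
  have := Fact.mk hp
  have hpM : p ∈ Cfsg.sigma M := mem_sigma_of_mem_sigmaCore hx hp hpd
  have hpτ := hτx p hp hpd
  have hpU : p ∣ Nat.card U := hpd.trans (Subgroup.orderOf_dvd_natCard _ hxU)
  have hq := OddOrder40.card_prime_of_not_type_one hG hI hN hK hK1
    ⟨p, hp, hpd.trans (Subgroup.orderOf_dvd_natCard _ hxN'), hpτ.2.1,
      (hU.2.1 p hp hpU).2.1⟩
  have := Fact.mk hq
  obtain ⟨a', ha'⟩ := exists_prime_orderOf_dvd_card' (G := K) (Nat.card K) dvd_rfl
  set a : G := (a' : G) with hadef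
  have hao : orderOf a = Nat.card K := by rw [hadef, Subgroup.orderOf_coe, ha']
  have hgen : K = Subgroup.zpowers a := (Subgroup.eq_of_le_of_card_ge (Subgroup.zpowers_le.mpr a'.2)
    (by rw [Nat.card_zpowers, hao])).symm
  obtain ⟨Ns, hNs, hst, hstH, -⟩ := OddOrder40.exists_pair hG hI hN hK hK1
  obtain ⟨R⟩ : Nonempty (Sylow p U) := inferInstance
  have hR1 : (R : Subgroup U).map U.subtype ≠ ⊥ := fun e => R.ne_bot_of_dvd_card hpU
    ((Subgroup.map_eq_bot_iff_of_injective _ U.subtype_injective).mp e)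
  obtain ⟨H, hH, hNH⟩ := exists_isCoatom_ge (minSimple_normalizer_ne_top hG hR1
    (minSimple_pgroup_ne_top hG (R.isPGroup'.map _)))
  obtain ⟨hκH, hUH, hNH', -, hKF, hcH⟩ :=
    over_normalizer_U hG hI N hN K U hKU hK1 hU1 Ns hNs hst hstH p hpU R H hH hNH
  -- `H = M`
  obtain rfl : H = M := by
    obtain ⟨g, hgH⟩ := exists_cj_eq_of_sigma hI.disjoint hM hH hpM
      (mem_sigma_of_mem_sigmaCore (hUH hxU) hp hpd)
    have hxg : g⁻¹ * x * g⁻¹⁻¹ ∈ M := by
      rw [inv_inv]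
      exact mem_cj.mp (hgH ▸ sigmaCore_le H (hUH hxU))
    obtain ⟨m, hm, c, hcx, hgc⟩ := exists_mul_centralizer hG hI.toLocal hM (sigmaCore_le M hx) hp hpM hpd hxg
    obtain ⟨e, he, s, hs, rfl⟩ := hc.2.2.2 c (hxN hcx)
    have hHs : H = cj s⁻¹ M := by
      rw [hgH, show g = s⁻¹ * (e⁻¹ * m⁻¹) by rw [← inv_inv g, hgc]; group, ← cj_mul,
        cj_eq_of_mem (mul_mem (inv_mem he.1) (inv_mem hm))]
    obtain ⟨A, hAE, hAe, hA2⟩ := exists_plane_compl hG hN hc hpτ
    obtain ⟨-, -, -, hfix, -, -⟩ := hI.tauTwo N hN p hpτ A ⟨hAE.trans inf_le_right, hAe, hA2⟩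
    have hs1 : s = 1 := by
      refine Subgroup.mem_bot.mp (hfix ▸ (⟨hs, Subgroup.mem_centralizer_iff.mpr fun y hy => ?_⟩ :
        s ∈ S ⊓ Subgroup.centralizer (A : Set G)))
      have hyE := hAE hy
      have hyH : y ∈ cj s⁻¹ M := hHs ▸ (Subgroup.mem_inf.mp (hNH'.ge (hsup.le hyE))).2
      have h2 : s * y * s⁻¹ * y⁻¹ ∈ E ⊓ S := by
        refine ⟨⟨M.mul_mem (by simpa using mem_cj.mp hyH) (M.inv_mem hyE.1), N.mul_mem (N.mul_mem (N.mul_mem
          (sigmaCore_le N hs) hyE.2) (N.inv_mem (sigmaCore_le N hs))) (N.inv_mem hyE.2)⟩, ?_⟩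
        rw [show s * y * s⁻¹ * y⁻¹ = s * (y * s⁻¹ * y⁻¹) by group]
        exact mul_mem hs ((Subgroup.mem_normalizer_iff.mp (piCoreOf_normal (Cfsg.sigma N) N hyE.2) _).mp
          (inv_mem hs))
      rw [hc.2.2.1, Subgroup.mem_bot] at h2
      exact (mul_inv_eq_iff_eq_mul.mp (mul_inv_eq_one.mp h2)).symm
    rw [hHs, hs1, inv_one, cj_one]
  have hUc : IsMulCommutative U := by
    have h2 := Coprime.commutator_sup_centralizer K U (hgle.trans hEn)
      (Nat.coprime_of_dvd fun r hr ha hb => (hU.2.1 r hr hb).2.1 (hK.2.1 r hr ha))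
      (Or.inr (solvable_of_solvable_injective (Subgroup.inclusion_injective hU.1)))
    have ha1 : a ≠ 1 := fun e => hq.ne_one (by rw [← hao, e, orderOf_one])
    rw [le_bot_iff.mp ((inf_le_inf_left U (Subgroup.centralizer_le
      (Set.singleton_subset_iff.mpr (show a ∈ K from a'.2)))).trans
      (decomposition_fpf hG hN hKU a'.2 ha1).le), sup_bot_eq] at h2
    rw [← Subgroup.le_centralizer_iff_isMulCommutative]
    have hUD : U ≤ ⁅E, E⁆ := h2.ge.trans (Subgroup.commutator_mono hUE hgle)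
    exact hUD.trans ((Subgroup.le_centralizer_iff_isMulCommutative.mpr
      (hI.nilpotent N hN E hc).2.1).trans (Subgroup.centralizer_le hUD))
  exact ⟨Ns, K, U, a, Nat.card K, p, hM, hN, hNs, hc, hnil, hKU, hK1, hsup, hUc, hgen, hq, hao, hst,
    hstH, hpτ, hpM, hκH, hUH, hcH, fittingOf_le _ (hKF a'.2)⟩

include hG in
/-- **S1376**. -/
theorem frobenius_of_kappa_partner {x : G} (hM : IsCoatom M) (hx : x ∈ Cfsg.sigmaCore M) (hx1 : x ≠ 1)
    (hxM : ¬ Subgroup.centralizer ({x} : Set G) ≤ M) (hN : IsCoatom N)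
    (hxN : Subgroup.centralizer ({x} : Set G) ≤ N) (hkN : (Cfsg.kappa N).Nonempty) :
    Cfsg.kappa M = ∅ ∧ (∃ E : Subgroup ↥M, Cfsg.IsFrobeniusComplement E ∧ IsCyclic E) ∧
      ¬ Cfsg.IsTISubset (Cfsg.fittingHallOf M : Set G) := by
  obtain ⟨Ns, K, U, a, q, p, h⟩ := exists_backCfg hG hM hx hx1 hxM hN hxN hkN
  set S := Cfsg.sigmaCore M with hS
  set E := M ⊓ Ns with hE
  have hEM : E ≤ M := inf_le_left
  have hSM : S ≤ M := sigmaCore_le M
  have hfree : ∀ e ∈ E, e ≠ 1 → ∀ y ∈ S, e * y = y * e → y = 1 := fun e he he1 y hy hey =>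
    Subgroup.mem_bot.mp (h.free hG he he1 ▸
      (⟨hy, Subgroup.mem_centralizer_singleton_iff.mpr hey.symm⟩ : y ∈ S ⊓ Subgroup.centralizer ({e} : Set G)))
  have hnil : Group.IsNilpotent S := CfsgLib.Frobenius.Thompson.isNilpotent_of_element S
    (piCoreOf_normal _ _ (hEM h.a_mem)) h.prime (h.order ▸ pow_orderOf_eq_one a)
    fun y hy hay => hfree a h.a_mem h.a_ne y hy hay
  refine ⟨h.kappa, ⟨E.subgroupOf M, ?_, ?_⟩, fun hTI => ?_⟩
  · have : (S.subgroupOf M).Normal :=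
      (Subgroup.normal_subgroupOf_iff_le_normalizer hSM).mpr (piCoreOf_normal _ _)
    refine CfsgLib.Frobenius.isFrobeniusComplement_of_normal_complement (K := S.subgroupOf M) ?_
      (fun e => hx1 ?_) (fun e => h.a_ne ?_) fun e he he1 y hy hey => Subtype.ext
        (hfree e he (fun e0 => he1 (Subtype.ext e0)) y hy (congrArg Subtype.val hey))
    · refine Subgroup.isComplement'_of_disjoint_and_mul_eq_univ ?_ (Set.eq_univ_of_forall fun m => ?_)
      · rw [disjoint_iff, Subgroup.eq_bot_iff_forall]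
        exact fun y hy => Subtype.ext (Subgroup.mem_bot.mp (h.compl'.2.2.1 ▸
          (⟨hy.2, hy.1⟩ : (y : G) ∈ E ⊓ S)))
      · obtain ⟨e, he, s, hs, hm⟩ := h.compl'.2.2.2 m m.2
        refine ⟨⟨e * s * e⁻¹, mul_mem (mul_mem (hEM he) (hSM hs)) (inv_mem (hEM he))⟩,
          (Subgroup.mem_normalizer_iff.mp (piCoreOf_normal (Cfsg.sigma M) M (hEM he)) s).mp hs,
          ⟨e, hEM he⟩, he, Subtype.ext ?_⟩
        show e * s * e⁻¹ * e = (m : G)
        rw [inv_mul_cancel_right, hm]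
    · have h2 : (⟨x, hSM hx⟩ : M) ∈ S.subgroupOf M := hx
      rw [e, Subgroup.mem_bot] at h2
      exact congrArg Subtype.val h2
    · have h2 : (⟨a, hEM h.a_mem⟩ : M) ∈ E.subgroupOf M := h.a_mem
      rw [e, Subgroup.mem_bot] at h2
      exact congrArg Subtype.val h2
  · have := h.cyclic hG
    exact isCyclic_of_surjective (Subgroup.subgroupOfEquivOfLe hEM).symm.toMonoidHom (MulEquiv.surjective _)
  · rw [fittingHallOf_eq_sigmaCore hG hM hnil (fun r hr => absurd hr ((h.comm_and_tau2 hG).2 r))] at hTI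
    obtain ⟨g, hg, hgM⟩ := SetLike.not_le_iff_exists.mp hxM
    refine hx1 (hTI g (fun hgn => hgM ?_) x hx ?_)
    · rwa [normalizer_eq_of_isCoatom hG hM hSM (fun e => hx1 (Subgroup.mem_bot.mp (e ▸ hx)))
        (piCoreOf_normal _ _)] at hgn
    · rwa [Subgroup.mem_centralizer_singleton_iff.mp hg, mul_inv_cancel_right]

end CfsgLib.OddOrder41.Hall14
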