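import Mathlib
import Cfsg.Agent.Lib.OddOrder40.Theorem14
import Cfsg.Agent.Lib.OddOrder41.Sigma14CyclicInput

/-!
# Theorem C: the mixed elements of `K K*`, and `F(M)` for type `P₂`
-/

set_option autoImplicit false

namespace CfsgLib.OddOrder41.Hall14

open Subgroup CfsgLib.OddOrder CfsgLib.OddOrder.Transitivity CfsgLib.OddOrder41 CfsgLib.OddOrder38

universe u

variable {G : Type u} [Group G] [Finite G] (hG : Cfsg.IsMinSimpleOddOrder G)
  {M K U : Subgroup G} (hM : IsCoatom M) (hKU : Cfsg.IsSigmaDecomposition M K U) (hK1 : K ≠ ⊥)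

/-- `Z = K × K*`. -/
local notation "Cst" => Cfsg.sigmaCore M ⊓ Subgroup.centralizer (SetLike.coe K)

include hG hM hKU hK1 in
/-- The mixed elements are TI with normalizer `Z`. -/
theorem mem_of_conj_zhat {g z : G} (hz : z ∈ K ⊔ (Cst)) (hzK : z ∉ K) (hzC : z ∉ (Cst))
    (hz' : g * z * g⁻¹ ∈ K ⊔ (Cst)) : g ∈ K ⊔ (Cst) := by
  have hI := inputs hG
  obtain ⟨k, hk, c, hc, rfl, hkc, -⟩ := OddOrder40.exists_coords hKU.hall hz
  obtain ⟨k', hk', c', hc', he, hkc', -⟩ := OddOrder40.exists_coords hKU.hall hz'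
  have hk1 : k ≠ 1 := fun e => hzC (by rw [e, one_mul]; exact hc)
  have hc1 : c ≠ 1 := fun e => hzK (by rw [e, mul_one]; exact hk)
  have he' : g * c * g⁻¹ * (g * k * g⁻¹) = c' * k' := by
    rw [show c' * k' = k' * c' from hkc'.symm.eq, ← he,
      show g * c * g⁻¹ * (g * k * g⁻¹) = g * (c * k) * g⁻¹ by group, hkc.eq]
  have hceq : g * c * g⁻¹ = c' := by
    refine OddOrder38.eq_of_parts (hkc.symm.map (MulAut.conj g)) hkc'.symm he'
      (Nat.coprime_of_dvd fun s hs h1 h2 => ?_)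
    simp only [MulAut.conj_apply] at h1 h2
    rw [show g * k * g⁻¹ = MulAut.conj g k from rfl, MulEquiv.orderOf_eq] at h1
    rw [show g * c * g⁻¹ = MulAut.conj g c from rfl, MulEquiv.orderOf_eq] at h2
    have hsσ : s ∈ Cfsg.sigma M := (hs.dvd_mul.mp h2).elim
      (OddOrder40.kst_sigma hc hs) (OddOrder40.kst_sigma hc' hs)
    exact (hs.dvd_mul.mp h1).elim (fun h => (OddOrder40.kappa_elem_primes hKU.hall hk hs h).2.2.1 hsσ)
      (fun h => (OddOrder40.kappa_elem_primes hKU.hall hk' hs h).2.2.1 hsσ)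
  have hgM : g ∈ M := mem_of_conj_kstar hG hI hM hKU.hall hK1 hc hc1 (hceq ▸ OddOrder40.kst_le M K hc')
  have hkeq : g * k * g⁻¹ = k' := mul_left_cancel (hceq ▸ he' : c' * (g * k * g⁻¹) = c' * k')
  by_contra hnot
  have hin : k' ∈ K ⊓ cj g K := ⟨hk', hkeq ▸ mem_cj_self.mpr hk⟩
  rw [kappa_inf_conj hG hI hM hKU.hall hK1 hgM hnot, Subgroup.mem_bot, ← hkeq] at hin
  exact hk1 (by simpa using hin)

include hG hM hKU hK1 in
/-- `Z` is abelian. -/
theorem sup_kstar_comm {u v : G} (hu : u ∈ K ⊔ (Cst)) (hv : v ∈ K ⊔ (Cst)) : u * v = v * u := by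
  have hI := inputs hG
  obtain ⟨L, hL, h1, h2, -⟩ := OddOrder40.exists_pair hG hI hM hKU.hall hK1
  have := (OddOrder40.inter_partner hG hI hM hKU hK1 hL h1 h2).2
  exact mul_comm_of_mem IsCyclic.isMulCommutative hu hv

include hG hM hKU hK1 in
theorem exists_zhat : ∃ z ∈ K ⊔ (Cst), z ∉ K ∧ z ∉ (Cst) := by
  have hI := inputs hG
  obtain ⟨k, hk, hk1⟩ := (Subgroup.bot_or_exists_ne_one K).resolve_left hK1
  obtain ⟨c, hc, hc1⟩ := (Subgroup.bot_or_exists_ne_one _).resolve_left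
    (OddOrder38.kstar_ne_bot hI hM hKU.hall hK1)
  have hinf : ∀ y, y ∈ K → y ∈ (Cst) → y = 1 := fun y hy hy' => by
    by_contra hy1
    obtain ⟨p, hp, hd⟩ := Nat.exists_prime_and_dvd (n := orderOf y) fun e => hy1 (orderOf_eq_one_iff.mp e)
    exact (OddOrder40.kappa_elem_primes hKU.hall hy hp hd).2.2.1 (OddOrder40.kst_sigma hy' hp hd)
  refine ⟨k * c, mul_mem (Subgroup.mem_sup_left hk) (Subgroup.mem_sup_right hc), fun h => ?_, fun h => ?_⟩
  · exact hc1 (hinf c (by simpa using mul_mem (inv_mem hk) h) hc)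
  · exact hk1 (hinf k hk (by simpa using mul_mem h (inv_mem hc)))

include hG hM hKU hK1 in
/-- **S1370**. -/
theorem zhat_TI :
    Cfsg.IsTISubset ((↑(K ⊔ (Cst)) : Set G) \ ((K : Set G) ∪ ↑(Cst))) ∧
      Subgroup.normalizer ((↑(K ⊔ (Cst)) : Set G) \ ((K : Set G) ∪ ↑(Cst))) = K ⊔ (Cst) := by
  set Z := K ⊔ (Cst) with hZ
  have hle : Z ≤ Subgroup.normalizer ((↑Z : Set G) \ ((K : Set G) ∪ ↑(Cst))) := fun g hg => by
    rw [Subgroup.mem_set_normalizer_iff']
    intro n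
    have key : ∀ m, m ∈ Z → g * m * g⁻¹ = m := fun m hm => by
      rw [sup_kstar_comm hG hM hKU hK1 hg hm, mul_inv_cancel_right]
    constructor
    · intro hn
      have hnZ : n ∈ Z := by simpa using mul_mem hn.1 (inv_mem hg)
      rwa [sup_kstar_comm hG hM hKU hK1 hg hnZ]
    · intro hn
      have hnZ : n ∈ Z := by simpa using mul_mem (inv_mem hg) hn.1
      rwa [← sup_kstar_comm hG hM hKU hK1 hg hnZ]
  have hge : ∀ g ∈ Subgroup.normalizer ((↑Z : Set G) \ ((K : Set G) ∪ ↑(Cst))), g ∈ Z := fun g hg => by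
    obtain ⟨z, hz, hzK, hzC⟩ := exists_zhat hG hM hKU hK1
    exact mem_of_conj_zhat hG hM hKU hK1 hz hzK hzC
      ((Subgroup.mem_set_normalizer_iff.mp hg z).mp ⟨hz, fun h => h.elim hzK hzC⟩).1
  refine ⟨fun g hg x hx hx' => absurd (hle ?_) hg, le_antisymm hge hle⟩
  exact mem_of_conj_zhat hG hM hKU hK1 hx.1 (fun h => hx.2 (Or.inl h)) (fun h => hx.2 (Or.inr h)) hx'.1

include hG hM hKU hK1 in
/-- **S1371**. -/
theorem zhat_conjugates :
    {a : G | ∃ m ∈ M, ∃ z ∈ ((↑(K ⊔ (Cst)) : Set G) \ ((K : Set G) ∪ ↑(Cst))), a = m * z * m⁻¹} =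
        Cfsg.sigmaA0 M K \ Cfsg.sigmaA M U ∧
      Cfsg.IsTISubset (Cfsg.sigmaA0 M K \ Cfsg.sigmaA M U) := by
  have hI := inputs hG
  have hK := hKU.hall
  set S := Cfsg.sigmaCore M with hS
  set T := {a : G | ∃ m ∈ M, ∃ z ∈ ((↑(K ⊔ (Cst)) : Set G) \ ((K : Set G) ∪ ↑(Cst))), a = m * z * m⁻¹} with hT
  have hUh := decomposition_hall hG hM hKU
  have hN := decomposition_normal hG hM hKU
  set V := U ⊔ S with hV
  have hVM : V ≤ M := sup_le hUh.1 (sigmaCore_le M)
  have hKV : K ≤ Subgroup.normalizer (V : Set G) := hK.1.trans hN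
  have hinf : V ⊓ K = ⊥ := (Subgroup.disjoint_of_coprime_natCard (Nat.coprime_of_dvd fun r hr h1 h2 => by
    rw [hV] at h1
    rcases hr.dvd_mul.mp (h1.trans (card_sup_dvd_mul (hUh.1.trans (piCoreOf_normal _ _)))) with h | h
    · exact (hUh.2.1 r hr h).2.1 (hK.2.1 r hr h2)
    · exact (hK.2.1 r hr h2).2.2.1 (piNat_card_piCoreOf (Cfsg.sigma M) M r hr h))).eq_bot
  have heq : T = Cfsg.sigmaA0 M K \ Cfsg.sigmaA M U := by
    ext a
    constructor
    · rintro ⟨m, hm, z, ⟨hz, hzn⟩, rfl⟩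
      obtain ⟨k, hk, c, hc, rfl, hkc, ho⟩ := OddOrder40.exists_coords hK hz
      have hk1 : k ≠ 1 := fun e => hzn (Or.inr (by rw [e, one_mul]; exact hc))
      have hc1 : c ≠ 1 := fun e => hzn (Or.inl (by rw [e, mul_one]; exact hk))
      have hcS : c ∈ S := (Subgroup.mem_inf.mp hc).1
      have hhat : m * (k * c) * m⁻¹ ∈ Cfsg.sigmaHat M := by
        refine ⟨mul_mem (mul_mem hm (mul_mem (hK.1 hk) (sigmaCore_le M hcS))) (inv_mem hm), m * c * m⁻¹,
          (Subgroup.mem_normalizer_iff.mp (piCoreOf_normal (Cfsg.sigma M) M hm) c).mp hcS,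
          fun e => hc1 (by simpa using e), ?_⟩
        calc m * (k * c) * m⁻¹ * (m * c * m⁻¹) = m * ((k * c) * c) * m⁻¹ := by group
          _ = m * (c * (k * c)) * m⁻¹ := by rw [(hkc.mul_left (Commute.refl c)).eq]
          _ = m * c * m⁻¹ * (m * (k * c) * m⁻¹) := by group
      refine ⟨⟨hhat, ?_⟩, fun hA => hk1 ?_⟩
      · rintro ⟨k₀, hk₀, -, m', -, he⟩
        obtain ⟨p, hp, hd⟩ := Nat.exists_prime_and_dvd (n := orderOf c) fun e => hc1 (orderOf_eq_one_iff.mp e)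
        refine (OddOrder40.kappa_elem_primes hK hk₀ hp ?_).2.2.1 (OddOrder40.kst_sigma hc hp hd)
        have h1 : orderOf (k * c) = orderOf k₀ := by
          rw [← MulEquiv.orderOf_eq (MulAut.conj m) (k * c), ← MulEquiv.orderOf_eq (MulAut.conj m') k₀]
          exact congrArg orderOf he
        exact h1 ▸ ho ▸ hd.mul_left _
      · have h1 : k * c ∈ V := by
          have h2 := (Subgroup.mem_normalizer_iff''.mp (hN hm) _).mp hA.2
          simpa [mul_assoc] using h2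
        have h3 : k ∈ V ⊓ K := ⟨by simpa using mul_mem h1 (inv_mem (Subgroup.mem_sup_right hcS : c ∈ V)), hk⟩
        rwa [hinf, Subgroup.mem_bot] at h3
    · rintro ⟨⟨hhat, hnK⟩, hnA⟩
      have haM : a ∈ M := hhat.1
      have haV : a ∉ V := fun h => hnA ⟨hhat, h⟩
      have hMV : a ∈ V ⊔ K := by
        obtain ⟨u, hu, v, hv, rfl⟩ := hKU.compl.2.2.2 a haM
        exact mul_mem (Subgroup.mem_sup_left (Subgroup.mem_sup_left hu))
          ((sup_le le_sup_right (le_sup_right.trans le_sup_left) : K ⊔ S ≤ V ⊔ K) hv)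
      obtain ⟨r, hr, hra, hrK⟩ : ∃ r : ℕ, r.Prime ∧ r ∣ orderOf a ∧ r ∣ Nat.card K :=
        Nat.Prime.not_coprime_iff_dvd.mp fun hcop => haV (by
          by_contra haV'
          obtain ⟨k, hk, v, hv, rfl⟩ := CfsgLib.Coprime.exists_mul_of_mem_sup hKV (sup_comm V K ▸ hMV)
          exact haV' (mem_left_of_coprime' hKV hinf hk hv hcop))
      have := Fact.mk hr
      obtain ⟨w, hw, hwo⟩ := exists_mem_zpowers_prime hr hra
      have hwM : Subgroup.zpowers w ≤ M := Subgroup.zpowers_le.mpr (Subgroup.zpowers_le.mpr haM hw)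
      have := minSimple_solvable hG hM.1
      obtain ⟨m, hm, hle⟩ := exists_conj_into (π := Cfsg.kappa M) hK.1 (fun s hs hsκ => hK.2.2 s hs hsκ) hwM
        (fun s hs hd => by
          rw [Nat.card_zpowers, hwo] at hd
          rw [(Nat.prime_dvd_prime_iff_eq hs hr).mp hd]
          exact hK.2.1 r hr hrK)
      have hw' : m * w * m⁻¹ ∈ K := hle (mem_cj_self.mpr (Subgroup.mem_zpowers w))
      have hw1 : m * w * m⁻¹ ≠ 1 := fun e => hr.ne_one (by
        rw [← hwo, show w = 1 by simpa using e, orderOf_one])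
      have hmem : m * a * m⁻¹ ∈ K ⊔ (Cst) := by
        rw [← (centralizer_structure hG hM hKU.cyclic hK).2 hK1 _ hw' hw1]
        refine ⟨M.mul_mem (M.mul_mem hm haM) (M.inv_mem hm), Subgroup.mem_centralizer_singleton_iff.mpr ?_⟩
        obtain ⟨i, rfl⟩ := hw
        calc m * a * m⁻¹ * (m * a ^ i * m⁻¹) = m * (a * a ^ i) * m⁻¹ := by group
          _ = m * (a ^ i * a) * m⁻¹ := by rw [(Commute.self_zpow a i).eq]
          _ = m * a ^ i * m⁻¹ * (m * a * m⁻¹) := by group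
      refine ⟨m⁻¹, inv_mem hm, m * a * m⁻¹, ⟨hmem, ?_⟩, by group⟩
      rintro (h | h)
      · refine hnK ⟨_, h, fun e => haV ?_, m⁻¹, inv_mem hm, by group⟩
        rw [show a = 1 by simpa using e]
        exact one_mem _
      · refine haV ?_
        have h2 : m * a * m⁻¹ ∈ V := Subgroup.mem_sup_right (Subgroup.mem_inf.mp h).1
        exact (Subgroup.mem_normalizer_iff.mp (hN hm) a).mpr h2
  refine ⟨heq, ?_⟩
  rw [← heq]
  have hMT : M ≤ Subgroup.normalizer T := fun g hg => by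
    rw [Subgroup.mem_set_normalizer_iff]
    intro n
    constructor
    · rintro ⟨m, hm, z, hz, rfl⟩
      exact ⟨g * m, mul_mem hg hm, z, hz, by group⟩
    · rintro ⟨m, hm, z, hz, he⟩
      refine ⟨g⁻¹ * m, mul_mem (inv_mem hg) hm, z, hz, ?_⟩
      calc n = g⁻¹ * (g * n * g⁻¹) * g := by group
        _ = _ := by rw [he]; group
  rintro g hg x ⟨m, hm, z, hz, rfl⟩ ⟨m', hm', w, hw, he⟩
  refine absurd (hMT ?_) hg
  have h1 : m'⁻¹ * g * m * z * (m'⁻¹ * g * m)⁻¹ = w := by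
    calc _ = m'⁻¹ * (g * (m * z * m⁻¹) * g⁻¹) * m' := by group
      _ = w := by rw [he]; group
  have h2 : m'⁻¹ * g * m ∈ M := OddOrder40.kappa_sup_le hK (mem_of_conj_zhat hG hM hKU hK1 hz.1
    (fun h => hz.2 (Or.inl h)) (fun h => hz.2 (Or.inr h)) (h1 ▸ hw.1))
  simpa [mul_assoc] using mul_mem (mul_mem hm' h2) (inv_mem hm)
where
  mem_left_of_coprime' {V K : Subgroup G} {k v : G} (hKV : K ≤ Subgroup.normalizer (V : Set G))
      (hinf : V ⊓ K = ⊥) (hk : k ∈ K) (hv : v ∈ V) (hcop : (orderOf (k * v)).Coprime (Nat.card K)) :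
      k * v ∈ V := by
    have hit : ∀ n : ℕ, (k ^ n)⁻¹ * (k * v) ^ n ∈ V := by
      intro n
      induction n with
      | zero => simp
      | succ n ih =>
        rw [show (k ^ (n + 1))⁻¹ * (k * v) ^ (n + 1) = k⁻¹ * ((k ^ n)⁻¹ * (k * v) ^ n) * k * v by
          rw [pow_succ, pow_succ]; group]
        exact mul_mem ((Subgroup.mem_normalizer_iff''.mp (hKV hk) _).mp ih) hv
    have h1 : k ^ orderOf (k * v) ∈ V ⊓ K := ⟨by
      have h := hit (orderOf (k * v))
      rw [pow_orderOf_eq_one, mul_one] at h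
      simpa using inv_mem h, pow_mem hk _⟩
    rw [hinf, Subgroup.mem_bot] at h1
    have h2 : k = 1 := orderOf_eq_one_iff.mp (Nat.eq_one_of_dvd_coprimes hcop
      (orderOf_dvd_of_pow_eq_one h1) (Subgroup.orderOf_dvd_natCard _ hk))
    rwa [h2, one_mul]

include hG hM hKU hK1 in
/-- **S1372**. -/
theorem fitting_TI (hU1 : U ≠ ⊥) :
    (Nat.card K).Prime ∧ Cfsg.IsTISubset (Cfsg.fittingOf M : Set G) ∧
      Cfsg.sigmaCore M ≤ Cfsg.fittingOf M := by
  have hI := inputs hG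
  have hP := (OddOrder40.notTypeOne_iff hG hM hKU).mp hU1
  set S := Cfsg.sigmaCore M with hS
  set F := Cfsg.fittingOf M with hF
  obtain ⟨r₀, hr₀, hr₀M, hr₀σ, hr₀κ⟩ := hP
  have := Fact.mk hr₀
  obtain ⟨-, -, -, -, -, hnil⟩ := exists_fpf_subgroup hG hI hM hKU.hall hK1 hr₀M hr₀σ hr₀κ
  have hP : OddOrder40.NotTypeOne M := ⟨r₀, hr₀, hr₀M, hr₀σ, hr₀κ⟩
  have hSF : S ≤ F := le_fittingOf (sigmaCore_le M) (piCoreOf_normal _ _) hnil
  refine ⟨OddOrder40.card_prime_of_not_type_one hG hI hM hKU.hall hK1 hP, ?_, hSF⟩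
  -- `C_G` of an element of prime order of `F` lies only in `M`
  have honly : ∀ (r : ℕ), r.Prime → ∀ w ∈ F, orderOf w = r → OnlyIn (Subgroup.centralizer ({w} : Set G)) M := by
    intro r hr w hw hwo
    have := Fact.mk hr
    have hw1 : w ≠ 1 := fun e => hr.ne_one (by rw [← hwo, e, orderOf_one])
    have hwM : w ∈ M := fittingOf_le M hw
    by_cases hrσ : r ∈ Cfsg.sigma M
    · refine OddOrder40.centralizer_onlyIn_of_not_type_one hG hI hM hKU.hall hK1 hP ?_ hw1
      exact le_sigmaCore hG hM (Subgroup.zpowers_le.mpr hwM) (fun t ht hd => by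
        rw [Nat.card_zpowers, hwo] at hd
        rwa [(Nat.prime_dvd_prime_iff_eq ht hr).mp hd]) (Subgroup.mem_zpowers w)
    have hO : Subgroup.zpowers w ≤ opCore r M := le_opCore_of_le_fittingOf (Subgroup.zpowers_le.mpr hw)
      (IsPGroup.of_card (n := 1) (by rw [Nat.card_zpowers, hwo, pow_one]))
    have hdis : opCore r M ⊓ S = ⊥ := (Subgroup.disjoint_of_coprime_natCard (Nat.coprime_of_dvd fun t ht h1 h2 => by
      obtain ⟨n, hn⟩ := (opCore_isPGroup r M).exists_card_eq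
      rw [hn] at h1
      exact hrσ ((Nat.prime_dvd_prime_iff_eq ht hr).mp (ht.dvd_of_dvd_pow h1) ▸
        piNat_card_piCoreOf (Cfsg.sigma M) M t ht h2))).eq_bot
    have hcomm : ∀ y ∈ S, w * y = y * w := fun y hy => by
      have h1 : w * y * w⁻¹ * y⁻¹ ∈ opCore r M ⊓ S := by
        refine ⟨?_, Subgroup.mul_mem _ ((Subgroup.mem_normalizer_iff.mp (piCoreOf_normal (Cfsg.sigma M) M hwM) y).mp hy)
          (inv_mem hy)⟩
        rw [show w * y * w⁻¹ * y⁻¹ = w * (y * w⁻¹ * y⁻¹) by group]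
        exact Subgroup.mul_mem _ (hO (Subgroup.mem_zpowers w)) ((Subgroup.mem_normalizer_iff.mp
          (opCore_normal r M (sigmaCore_le M hy)) _).mp (inv_mem (hO (Subgroup.mem_zpowers w))))
      rw [hdis, Subgroup.mem_bot] at h1
      exact mul_inv_eq_iff_eq_mul.mp (mul_inv_eq_one.mp h1)
    obtain ⟨y, hy, hy1⟩ := (Subgroup.bot_or_exists_ne_one S).resolve_left (Sigma15.sigmaCore_ne_bot hG hM)
    have hτ : r ∈ Cfsg.tau2 M := (tau2_or_rank_one hG hM hr hrσ).resolve_right fun h1 => by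
      have hκ := OddOrder38.mem_kappa hG hM hrσ h1 hwM hwo hy hy1 (hcomm y hy)
      have := minSimple_solvable hG hM.1
      obtain ⟨m, hm, hle⟩ := exists_conj_into (π := Cfsg.kappa M) hKU.hall.1
        (fun s hs hsκ => hKU.hall.2.2 s hs hsκ) (Subgroup.zpowers_le.mpr hwM) (fun s hs hd => by
          rw [Nat.card_zpowers, hwo] at hd
          rw [(Nat.prime_dvd_prime_iff_eq hs hr).mp hd]
          exact hκ)
      have hw' : m * w * m⁻¹ ∈ K := hle (mem_cj_self.mpr (Subgroup.mem_zpowers w))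
      have hSC : S ≤ (Cst) := by
        rw [← (hI.kappaHall M hM K hKU.hall hK1).1 _ hw' fun e => hw1 (by simpa using e)]
        refine le_inf le_rfl fun s hs => Subgroup.mem_centralizer_singleton_iff.mpr ?_
        have h2 : m⁻¹ * s * m ∈ S :=
          (Subgroup.mem_normalizer_iff''.mp (piCoreOf_normal (Cfsg.sigma M) M hm) s).mp hs
        calc s * (m * w * m⁻¹) = m * ((m⁻¹ * s * m) * w) * m⁻¹ := by group
          _ = m * (w * (m⁻¹ * s * m)) * m⁻¹ := by rw [hcomm _ h2]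
          _ = m * w * m⁻¹ * s := by group
      obtain ⟨p, hp, hpd⟩ := Nat.exists_prime_and_dvd (n := Nat.card ↥(Cst))
        fun e => OddOrder38.kstar_ne_bot hI hM hKU.hall hK1 (Subgroup.card_eq_one.mp e)
      have := Fact.mk hp
      obtain ⟨T⟩ : Nonempty (Sylow p S) := inferInstance
      exact (sylow_kstar hG hI hM hKU.hall hK1 hpd (sylowOf_map T)).2.2
        ((Subgroup.map_subtype_le _).trans hSC)
    obtain ⟨E, hE⟩ := exists_compl hG hM
    exact (hI.nilpotent M hM E hE).2.2.2 w hwM hw1 (fun t ht hd => by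
      rw [hwo] at hd
      rwa [(Nat.prime_dvd_prime_iff_eq ht hr).mp hd]) ⟨hwM, y, hy, hy1, hcomm y hy⟩
  intro g hg x hx hx'
  by_contra hx1
  apply hg
  obtain ⟨r, hr, hd⟩ := Nat.exists_prime_and_dvd (n := orderOf x) fun e => hx1 (orderOf_eq_one_iff.mp e)
  obtain ⟨w, hw, hwo⟩ := exists_mem_zpowers_prime hr hd
  have hwF : w ∈ F := Subgroup.zpowers_le.mpr hx hw
  have hwF' : g * w * g⁻¹ ∈ F := by
    obtain ⟨i, rfl⟩ := hw
    rw [← conj_zpow]
    exact zpow_mem hx' i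
  have h1 := (honly r hr w hwF hwo).cj g
  rw [Sigma11.cj_centralizer_singleton] at h1
  exact fittingOf_normal M (mem_of_cj_eq hG hM
    ((honly r hr _ hwF' ((MulEquiv.orderOf_eq (MulAut.conj g) w).trans hwo)).eq (isCoatom_map_conj hM g) h1))

end CfsgLib.OddOrder41.Hall14
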