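import Cfsg.Agent.Lib.OddOrder41.RootProjection

set_option autoImplicit false

/-! The dimension count behind the fixed-point-free Hall–Higman theorem for odd order. -/

namespace CfsgLib.OddOrder41.SymplecticCount

open Finset
open scoped commutatorElement

variable {k : Type*} [Field k] {W : Type*} [AddCommGroup W] [Module k W]
  {Q : Type*} [Group Q]

/-- A scalar action of the centre turns commutation into a pairing with values in `k`. -/
structure ScalarCentre (ρ : Q →* Module.End k W) where
  χ : Q → k
  hχ : ∀ z ∈ Subgroup.center Q, ρ z = χ z • (1 : Module.End k W)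
  hclass : ∀ x y : Q, ⁅x, y⁆ ∈ Subgroup.center Q
  hinj : Function.Injective ρ

variable {ρ : Q →* Module.End k W}

/-- The pairing. -/
def pairing (S : ScalarCentre ρ) (u x : Q) : k := S.χ ⁅u, x⁆

theorem rho_cancel (ρ : Q →* Module.End k W) (x : Q) : ρ x * ρ x⁻¹ = 1 := by
  rw [← map_mul, mul_inv_cancel, map_one]

theorem rho_cancel' (ρ : Q →* Module.End k W) (x : Q) : ρ x⁻¹ * ρ x = 1 := by
  rw [← map_mul, inv_mul_cancel, map_one]

theorem conj_rho (S : ScalarCentre ρ) (u x : Q) : ρ u * ρ x * ρ u⁻¹ = pairing S u x • ρ x := by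
  have e : u * x * u⁻¹ = ⁅u, x⁆ * x := by rw [commutatorElement_def]; group
  rw [← map_mul, ← map_mul, e, map_mul, S.hχ _ (S.hclass u x), smul_mul_assoc, one_mul]
  rfl

theorem scalar_inj [Nontrivial W] {a b : k} (h : a • (1 : Module.End k W) = b • 1) : a = b := by
  obtain ⟨w, hw⟩ := exists_ne (0 : W)
  have := LinearMap.congr_fun h w
  simp only [LinearMap.smul_apply, Module.End.one_apply] at this
  exact smul_left_injective k hw this

theorem pairing_mul_right [Nontrivial W] (S : ScalarCentre ρ) (u x y : Q) :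
    pairing S u (x * y) = pairing S u x * pairing S u y := by
  have h : (pairing S u x * pairing S u y) • ρ (x * y) = pairing S u (x * y) • ρ (x * y) := by
    rw [← conj_rho S u (x * y), map_mul ρ x y, ← smul_mul_smul_comm, ← conj_rho S u x, ← conj_rho S u y]
    simp only [← map_mul]
    congr 1; group
  have h2 := congrArg (fun f => f * ρ (x * y)⁻¹) h
  simp only [smul_mul_assoc, rho_cancel] at h2
  exact (scalar_inj h2).symm

theorem pairing_one_right [Nontrivial W] (S : ScalarCentre ρ) (u : Q) : pairing S u 1 = 1 := by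
  refine scalar_inj (W := W) ?_
  rw [pairing, ← S.hχ _ (S.hclass u 1), commutatorElement_one_right, map_one, one_smul]

theorem pairing_swap [Nontrivial W] (S : ScalarCentre ρ) (u x : Q) : pairing S u x * pairing S x u = 1 := by
  refine scalar_inj (W := W) ?_
  rw [pairing, pairing, one_smul,
    show (S.χ ⁅u, x⁆ * S.χ ⁅x, u⁆) • (1 : Module.End k W) = (S.χ ⁅u, x⁆ • 1) * (S.χ ⁅x, u⁆ • 1) by
      rw [smul_mul_smul_comm, one_mul],
    ← S.hχ _ (S.hclass u x), ← S.hχ _ (S.hclass x u), ← map_mul, ← commutatorElement_inv u x, mul_inv_cancel,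
    map_one]

theorem pairing_mul_left [Nontrivial W] (S : ScalarCentre ρ) (u v x : Q) :
    pairing S (u * v) x = pairing S u x * pairing S v x := by
  have h := pairing_mul_right S x u v
  have e1 := pairing_swap S (u * v) x
  have e2 := pairing_swap S u x
  have e3 := pairing_swap S v x
  rw [h] at e1
  calc pairing S (u * v) x = pairing S (u * v) x * ((pairing S u x * pairing S x u) * (pairing S v x * pairing S x v)) := by
        rw [e2, e3, mul_one, mul_one]
    _ = (pairing S (u * v) x * (pairing S x u * pairing S x v)) * (pairing S u x * pairing S v x) := by ring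
    _ = _ := by rw [e1, one_mul]

theorem pairing_eq_one_iff [Nontrivial W] (S : ScalarCentre ρ) (u x : Q) :
    pairing S u x = 1 ↔ u * x = x * u := by
  rw [← commute_iff_eq, ← commutatorElement_eq_one_iff_commute]
  constructor
  · intro h
    exact S.hinj (by rw [S.hχ _ (S.hclass u x), map_one]; rw [pairing] at h; rw [h, one_smul])
  · intro h
    exact scalar_inj (W := W) (by rw [pairing, ← S.hχ _ (S.hclass u x), h, map_one, one_smul])

theorem sum_pairing_right [Nontrivial W] [Fintype Q] (S : ScalarCentre ρ) {u : Q}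
    (hu : u ∉ Subgroup.center Q) : ∑ x, pairing S u x = 0 := by
  obtain ⟨y, hy⟩ : ∃ y, pairing S u y ≠ 1 := by
    by_contra hcon
    push Not at hcon
    exact hu (Subgroup.mem_center_iff.mpr fun y => ((pairing_eq_one_iff S u y).mp (hcon y)).symm)
  have h : pairing S u y * ∑ x, pairing S u x = ∑ x, pairing S u x := by
    rw [Finset.mul_sum]
    exact Fintype.sum_equiv (Equiv.mulLeft y) _ _ fun x => (pairing_mul_right S u y x).symm
  by_contra hne
  exact hy (mul_right_cancel₀ hne (h.trans (one_mul _).symm))

theorem sum_pairing_left [Nontrivial W] [Fintype Q] (S : ScalarCentre ρ) {x : Q}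
    (hx : x ∉ Subgroup.center Q) : ∑ u, pairing S u x = 0 := by
  obtain ⟨y, hy⟩ : ∃ y, pairing S y x ≠ 1 := by
    by_contra hcon
    push Not at hcon
    exact hx (Subgroup.mem_center_iff.mpr fun y => (pairing_eq_one_iff S y x).mp (hcon y))
  have h : pairing S y x * ∑ u, pairing S u x = ∑ u, pairing S u x := by
    rw [Finset.mul_sum]
    exact Fintype.sum_equiv (Equiv.mulLeft y) _ _ fun u => (pairing_mul_left S y u x).symm
  by_contra hne
  exact hy (mul_right_cancel₀ hne (h.trans (one_mul _).symm))

theorem card_monoidHom_le (A : Type*) [Group A] [Finite A] : Nat.card (A →* k) ≤ Nat.card A := by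
  haveI := Fintype.ofFinite A
  haveI : Finite (A →* k) := (linearIndependent_monoidHom A k).finite
  haveI := Fintype.ofFinite (A →* k)
  have h := (linearIndependent_monoidHom A k).fintype_card_le_finrank
  rwa [Module.finrank_fintype_fun_eq_card, ← Nat.card_eq_fintype_card, ← Nat.card_eq_fintype_card] at h

/-- The index of the centre is a square. -/
theorem exists_sq_index_center [Nontrivial W] [Finite Q] (S : ScalarCentre ρ) :
    ∃ i : ℕ, (Subgroup.center Q).index = i * i := by
  classical
  set Z := Subgroup.center Q with hZ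
  obtain ⟨L, ⟨hZL, hLc⟩, hmax⟩ := Set.Finite.exists_maximal
    (s := {L : Subgroup Q | Z ≤ L ∧ ∀ a ∈ L, ∀ b ∈ L, a * b = b * a}) (Set.toFinite _)
    ⟨Z, le_rfl, fun a _ b hb => (Subgroup.mem_center_iff.mp hb a)⟩
  have hself : ∀ x, (∀ l ∈ L, x * l = l * x) → x ∈ L := by
    intro x hx
    have hle : L ≤ L ⊔ Subgroup.zpowers x := le_sup_left
    have hmem : L ⊔ Subgroup.zpowers x ∈ {L : Subgroup Q | Z ≤ L ∧ ∀ a ∈ L, ∀ b ∈ L, a * b = b * a} := by
      refine ⟨hZL.trans hle, ?_⟩
      have h1 : L ⊔ Subgroup.zpowers x ≤ Subgroup.centralizer ((L ⊔ Subgroup.zpowers x : Subgroup Q) : Set Q) := by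
        refine sup_le ?_ (Subgroup.zpowers_le.mpr ?_)
        · rw [Subgroup.le_centralizer_iff]
          refine sup_le (fun a ha => Subgroup.mem_centralizer_iff.mpr fun b hb => hLc b hb a ha)
            (Subgroup.zpowers_le.mpr (Subgroup.mem_centralizer_iff.mpr fun b hb => (hx b hb).symm))
        · have : L ⊔ Subgroup.zpowers x ≤ Subgroup.centralizer ({x} : Set Q) :=
            sup_le (fun a ha => Subgroup.mem_centralizer_singleton_iff.mpr (hx a ha).symm)
              (Subgroup.zpowers_le.mpr (Subgroup.mem_centralizer_singleton_iff.mpr rfl))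
          exact Subgroup.mem_centralizer_iff.mpr fun b hb => Subgroup.mem_centralizer_singleton_iff.mp (this hb)
      exact fun a ha b hb => (Subgroup.mem_centralizer_iff.mp (h1 ha) b hb).symm
    exact hmax hmem hle (le_sup_right (a := L) (Subgroup.mem_zpowers x))
  haveI hLn : L.Normal := ⟨fun l hl g => by
    have : g * l * g⁻¹ = ⁅g, l⁆ * l := by rw [commutatorElement_def]; group
    rw [this]; exact L.mul_mem (hZL (S.hclass g l)) hl⟩
  haveI : (Z.subgroupOf L).Normal := inferInstance
  have hβZ : ∀ u, ∀ z ∈ Z, pairing S u z = 1 := fun u z hz =>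
    (pairing_eq_one_iff S u z).mpr (Subgroup.mem_center_iff.mp hz u)
  -- cosets of `L` inject into the characters of `L / Z`
  let f₁ : Q → ((↥L ⧸ Z.subgroupOf L) →* k) := fun x =>
    { toFun := fun c => Quotient.liftOn' c (fun l => pairing S x (l : Q)) fun a b hab => by
        rw [QuotientGroup.leftRel_apply, Subgroup.mem_subgroupOf] at hab
        have : (b : Q) = a * ((a⁻¹ * b : L) : Q) := by simp
        rw [this, pairing_mul_right, hβZ x _ hab, mul_one]
      map_one' := pairing_one_right S x
      map_mul' := fun a b => by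
        obtain ⟨a, rfl⟩ := QuotientGroup.mk'_surjective _ a
        obtain ⟨b, rfl⟩ := QuotientGroup.mk'_surjective _ b
        exact pairing_mul_right S x (a : Q) (b : Q) }
  have hf₁ : ∀ x (l : L), f₁ x (QuotientGroup.mk l) = pairing S x (l : Q) := fun x l => rfl
  let f₂ : L → ((Q ⧸ L) →* k) := fun l =>
    { toFun := fun c => Quotient.liftOn' c (fun x => pairing S x (l : Q)) fun a b hab => by
        rw [QuotientGroup.leftRel_apply] at hab
        have : b = a * (a⁻¹ * b) := by group
        rw [this, pairing_mul_left, (pairing_eq_one_iff S (a⁻¹ * b) (l : Q)).mpr (hLc _ hab _ l.2), mul_one]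
      map_one' := (pairing_eq_one_iff S 1 (l : Q)).mpr (by rw [one_mul, mul_one])
      map_mul' := fun a b => by
        obtain ⟨a, rfl⟩ := QuotientGroup.mk'_surjective _ a
        obtain ⟨b, rfl⟩ := QuotientGroup.mk'_surjective _ b
        exact pairing_mul_left S a b (l : Q) }
  have hf₂ : ∀ (l : L) x, f₂ l (QuotientGroup.mk x) = pairing S x (l : Q) := fun l x => rfl
  haveI : Finite ((↥L ⧸ Z.subgroupOf L) →* k) := (linearIndependent_monoidHom _ k).finite
  haveI : Finite ((Q ⧸ L) →* k) := (linearIndependent_monoidHom _ k).finite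
  have h1 : L.index ≤ Z.relIndex L := by
    refine le_trans ?_ (card_monoidHom_le (k := k) (↥L ⧸ Z.subgroupOf L))
    refine Nat.card_le_card_of_injective (fun c : Q ⧸ L => f₁ c.out) fun a b hab => ?_
    rw [← Quotient.out_eq' a, ← Quotient.out_eq' b]
    refine Quotient.sound' (QuotientGroup.leftRel_apply.mpr (hself _ fun l hl => ?_))
    rw [← pairing_eq_one_iff S]
    have h := DFunLike.congr_fun hab (QuotientGroup.mk (⟨l, hl⟩ : L))
    rw [hf₁, hf₁] at h
    have e := pairing_mul_left S a.out⁻¹ a.out l
    rw [inv_mul_cancel] at e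
    rw [pairing_mul_left, ← h, ← e]
    exact (pairing_eq_one_iff S 1 l).mpr (by rw [one_mul, mul_one])
  have h2 : Z.relIndex L ≤ L.index := by
    refine le_trans ?_ (card_monoidHom_le (k := k) (Q ⧸ L))
    refine Nat.card_le_card_of_injective (fun c : ↥L ⧸ Z.subgroupOf L => f₂ c.out) fun a b hab => ?_
    rw [← Quotient.out_eq' a, ← Quotient.out_eq' b]
    refine Quotient.sound' (QuotientGroup.leftRel_apply.mpr ?_)
    rw [Subgroup.mem_subgroupOf]
    refine Subgroup.mem_center_iff.mpr fun x => ?_
    rw [← pairing_eq_one_iff S]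
    have h := DFunLike.congr_fun hab (QuotientGroup.mk x)
    rw [hf₂, hf₂] at h
    have e := pairing_mul_right S x ((a.out : L) : Q)⁻¹ ((a.out : L) : Q)
    rw [inv_mul_cancel, pairing_one_right] at e
    rw [Subgroup.coe_mul, Subgroup.coe_inv, pairing_mul_right, ← h, ← e]
  exact ⟨L.index, by rw [← Subgroup.relIndex_mul_index hZL, le_antisymm h2 h1]⟩

end CfsgLib.OddOrder41.SymplecticCount
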