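import Cfsg.Agent.Lib.OddOrder41.SymplecticBound

set_option autoImplicit false

/-! No operator of odd prime order acts without fixed points in the symplectic configuration. -/

namespace CfsgLib.OddOrder41.SymplecticCount

open Finset CfsgLib.OddOrder41.RootProj
open scoped commutatorElement

variable {k : Type*} [Field k] {W : Type*} [AddCommGroup W] [Module k W] [FiniteDimensional k W] [Nontrivial W]
  {Q : Type*} [Group Q] [Finite Q] {ρ : Q →* Module.End k W}

theorem false_of_fpf (S : ScalarCentre ρ) (hQk : (Nat.card Q : k) ≠ 0) (hQodd : Odd (Nat.card Q))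
    (hna : Subgroup.center Q ≠ ⊤) {p : ℕ} [hp : Fact p.Prime] (hp2 : p ≠ 2) (ζ : k) (hζ : IsPrimitiveRoot ζ p)
    (hpk : (p : k) ≠ 0) (σ : MulAut Q) (hσp : σ ^ p = 1)
    (hσfix : ∀ x, x⁻¹ * σ x ∈ Subgroup.center Q → x ∈ Subgroup.center Q)
    (U : Module.End k W) (hU : ∀ x, U * ρ x = ρ (σ x) * U)
    (hsum : ∀ w, ∑ i ∈ range p, (U ^ i) w = 0) : False := by
  classical
  have hUp : U ^ p = 1 := by
    have h0 : ∑ i ∈ range p, U ^ i = 0 := LinearMap.ext fun w => by
      rw [LinearMap.sum_apply]; exact hsum w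
    have := mul_geom_sum U p
    rw [h0, mul_zero] at this
    exact (sub_eq_zero.mp this.symm)
  obtain ⟨N, b, o, -, hN1, hNodd, horb, hdim, hup⟩ := centralizer_bound S hQk hQodd hna σ hσp hσfix U hU hUp
  obtain ⟨hd1, hd2⟩ := eigen_blocks_le hζ hpk U hUp
  set d := Module.finrank k W with hd
  set m : Fin p → ℕ := fun i => Module.finrank k (eigen ζ U i) with hm
  have he0 : eigen ζ U 0 = ⊥ := by
    rw [Submodule.eq_bot_iff]
    intro w hw
    rw [mem_eigen, pow_zero, one_smul] at hw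
    have hall : ∀ i : ℕ, (U ^ i) w = w := by
      intro i
      induction i with
      | zero => rfl
      | succ i ih => rw [pow_succ', Module.End.mul_apply, ih, hw]
    have h := hsum w
    rw [Finset.sum_congr rfl fun i _ => hall i, Finset.sum_const, Finset.card_range, ← Nat.cast_smul_eq_nsmul k] at h
    exact (smul_eq_zero.mp h).resolve_left hpk
  have hp' : 0 < p := hp.out.pos
  have hm0 : m ⟨0, hp'⟩ = 0 := by
    show Module.finrank k (eigen ζ U ((⟨0, hp'⟩ : Fin p) : ℕ)) = 0
    rw [he0, finrank_bot]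
  set S' := Finset.univ.erase (⟨0, hp'⟩ : Fin p) with hs
  have h1 : ∑ i, m i = ∑ i ∈ S', m i := by
    rw [← Finset.add_sum_erase _ _ (Finset.mem_univ (⟨0, hp'⟩ : Fin p)), hm0, zero_add]
  have hscard : S'.card = p - 1 := by
    rw [hs, Finset.card_erase_of_mem (Finset.mem_univ _), Finset.card_univ, Fintype.card_fin]
  have hd3 : d * d ≤ (p - 1) * (o * b) := by
    calc d * d ≤ (∑ i ∈ S', m i) * (∑ i ∈ S', m i) := Nat.mul_le_mul (h1 ▸ hd1) (h1 ▸ hd1)
      _ = (∑ i ∈ S', m i) ^ 2 := (pow_two _).symm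
      _ ≤ S'.card * ∑ i ∈ S', (m i) ^ 2 := by exact_mod_cast sq_sum_le_card_mul_sum_sq (s := S') (f := m)
      _ ≤ (p - 1) * (o * b) := by
        rw [hscard]
        refine Nat.mul_le_mul_left _ (le_trans ?_ (hd2.trans hup))
        calc ∑ i ∈ S', (m i) ^ 2 = ∑ i ∈ S', m i * m i := Finset.sum_congr rfl fun i _ => pow_two _
          _ ≤ ∑ i, m i * m i := Finset.sum_le_sum_of_subset (Finset.subset_univ _)
  have hdpos : 0 < d := Module.finrank_pos
  have hbpos : 0 < b := by
    rcases Nat.eq_zero_or_pos b with h | h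
    · rw [h, mul_zero] at hdim; exact absurd hdim (Nat.mul_pos hdpos hdpos).ne'
    · exact h
  have hle : N * N ≤ (p - 1) * (p - 1) := by
    have h1 : p * (N * N * b) ≤ (p - 1) * (N * N + (p - 1)) * b := by
      rw [← hdim]
      refine le_trans (Nat.mul_le_mul_left p hd3) (le_of_eq ?_)
      rw [← horb]; ring
    have h2 : p * (N * N) ≤ (p - 1) * (N * N + (p - 1)) :=
      Nat.le_of_mul_le_mul_right (by rwa [mul_assoc]) hbpos
    rw [mul_add] at h2
    have h3 : p * (N * N) = (p - 1) * (N * N) + N * N := by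
      rw [← Nat.succ_mul, Nat.succ_eq_add_one, Nat.sub_add_cancel (show 1 ≤ p from hp')]
    omega
  have hile : N ≤ p - 1 := Nat.mul_self_le_mul_self_iff.mp hle
  have hdvd : p ∣ (N - 1) * (N + 1) := by
    refine ⟨o - 1, ?_⟩
    rw [Nat.mul_sub, horb, mul_one]
    obtain ⟨j, rfl⟩ : ∃ j, N = j + 1 := ⟨N - 1, by omega⟩
    have : (j + 1 - 1) * (j + 1 + 1) + 1 = (j + 1) * (j + 1) := by rw [Nat.add_sub_cancel]; ring
    omega
  rcases (Nat.Prime.dvd_mul hp.out).mp hdvd with h | h
  · exact absurd (Nat.le_of_dvd (by omega) h) (by omega)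
  · have h1 := Nat.le_of_dvd (by omega) h
    have hip : N + 1 = p := by omega
    exact (Nat.not_even_iff_odd.mpr (hp.out.odd_of_ne_two hp2)) (hip ▸ hNodd.add_one)

end CfsgLib.OddOrder41.SymplecticCount
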