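import Cfsg.Agent.Lib.OddOrder41.FixedFormulaSplit

set_option autoImplicit false

/-! Weight spaces of an elementary abelian group prime to the characteristic. -/

namespace CfsgLib.OddOrder41.Weights

open Finset

variable {k : Type*} [Field k] {W : Type*} [AddCommGroup W] [Module k W] {A : Type*} [CommGroup A] [Fintype A]

/-- The projection on the weight space of `lam`. -/
noncomputable def proj (ρ : A →* Module.End k W) (lam : A →* kˣ) : Module.End k W :=
  (Nat.card A : k)⁻¹ • ∑ a, ((lam a⁻¹ : kˣ) : k) • ρ a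

/-- The weight obtained through an automorphism. -/
def twist (τ : MulAut A) (lam : A →* kˣ) : A →* kˣ := lam.comp τ.symm.toMonoidHom

theorem twist_apply (τ : MulAut A) (lam : A →* kˣ) (a : A) : twist τ lam (τ a) = lam a := by
  simp [twist]

variable {ρ : A →* Module.End k W}

theorem mul_proj (lam : A →* kˣ) (a : A) : ρ a * proj ρ lam = (lam a : k) • proj ρ lam := by
  unfold proj
  rw [mul_smul_comm, Finset.mul_sum, smul_comm ((lam a : k)), Finset.smul_sum (r := (lam a : k))]
  congr 1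
  refine Fintype.sum_equiv (Equiv.mulLeft a) _ _ fun b => ?_
  rw [mul_smul_comm, ← map_mul, Equiv.coe_mulLeft, smul_smul, ← Units.val_mul, ← map_mul lam, mul_inv,
    mul_inv_cancel_left]

theorem apply_proj (lam : A →* kˣ) (a : A) (w : W) : ρ a (proj ρ lam w) = (lam a : k) • proj ρ lam w :=
  LinearMap.congr_fun (mul_proj lam a) w

theorem sum_weight_eq_zero {f : A →* kˣ} (hf : f ≠ 1) : ∑ a, ((f a : kˣ) : k) = 0 := by
  obtain ⟨b, hb⟩ : ∃ b, f b ≠ 1 := by
    by_contra hcon
    push Not at hcon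
    exact hf (MonoidHom.ext hcon)
  have h : ((f b : kˣ) : k) * ∑ a, ((f a : kˣ) : k) = ∑ a, ((f a : kˣ) : k) := by
    rw [Finset.mul_sum]
    exact Fintype.sum_equiv (Equiv.mulLeft b) _ _ fun a => by rw [Equiv.coe_mulLeft, map_mul, Units.val_mul]
  by_contra hne
  exact hb (Units.ext (mul_right_cancel₀ hne (h.trans (one_mul _).symm)))

theorem proj_apply_eigen (hA : (Nat.card A : k) ≠ 0) (lam mu : A →* kˣ) {w : W}
    (hw : ∀ a, ρ a w = (mu a : k) • w) [Decidable (lam = mu)] :
    proj ρ lam w = if lam = mu then w else 0 := by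
  unfold proj
  rw [LinearMap.smul_apply, LinearMap.sum_apply]
  have : ∀ a, (((lam a⁻¹ : kˣ) : k) • ρ a) w = (((lam⁻¹ * mu) a : kˣ) : k) • w := fun a => by
    rw [LinearMap.smul_apply, hw, smul_smul, ← Units.val_mul, MonoidHom.mul_apply, MonoidHom.inv_apply, map_inv]
  rw [Finset.sum_congr rfl fun a _ => this a, ← Finset.sum_smul]
  split_ifs with h
  · subst h
    rw [Finset.sum_congr rfl fun a _ => show (((lam⁻¹ * lam : A →* kˣ) a : kˣ) : k) = 1 by
        rw [MonoidHom.mul_apply, MonoidHom.inv_apply, inv_mul_cancel, Units.val_one],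
      Finset.sum_const, Finset.card_univ, nsmul_one, ← Nat.card_eq_fintype_card, smul_smul, inv_mul_cancel₀ hA,
      one_smul]
  · rw [sum_weight_eq_zero (fun h' => h (inv_mul_eq_one.mp h')), zero_smul, smul_zero]

theorem proj_proj (hA : (Nat.card A : k) ≠ 0) (lam mu : A →* kˣ) [Decidable (lam = mu)] (w : W) :
    proj ρ lam (proj ρ mu w) = if lam = mu then proj ρ mu w else 0 :=
  proj_apply_eigen hA lam mu fun a => apply_proj mu a w

theorem mul_proj_twist (τ : MulAut A) {U : Module.End k W} (hU : ∀ a, U * ρ a = ρ (τ a) * U) (lam : A →* kˣ) :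
    U * proj ρ lam = proj ρ (twist τ lam) * U := by
  unfold proj
  rw [mul_smul_comm, smul_mul_assoc, Finset.mul_sum, Finset.sum_mul]
  congr 1
  refine Fintype.sum_equiv τ.toEquiv _ _ fun a => ?_
  show U * ((lam a⁻¹ : kˣ) : k) • ρ a = ((twist τ lam (τ a)⁻¹ : kˣ) : k) • ρ (τ a) * U
  rw [← map_inv τ, twist_apply, mul_smul_comm, smul_mul_assoc, hU]

theorem pow_mul_proj_twist (τ : MulAut A) {U : Module.End k W} (hU : ∀ a, U * ρ a = ρ (τ a) * U)
    (i : ℕ) (a : A) : U ^ i * ρ a = ρ ((τ ^ i) a) * U ^ i := by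
  induction i generalizing a with
  | zero => simp
  | succ i ih => rw [pow_succ', mul_assoc, ih, ← mul_assoc, hU, mul_assoc, pow_succ', MulAut.mul_apply]

theorem exists_weight_ne_one {q : ℕ} [Fact q.Prime] (hAq : ∀ a : A, a ^ q = 1) {η : k}
    (hη : IsPrimitiveRoot η q) {x : A} (hx : x ≠ 1) : ∃ lam : A →* kˣ, lam x ≠ 1 := by
  obtain ⟨f, hf⟩ := FixedFormula.exists_hom_ne_one hAq hx
  have hq0 : q ≠ 0 := (Fact.out : q.Prime).ne_zero
  let u : kˣ := (hη.isUnit hq0).unit
  have hu : IsPrimitiveRoot u q := IsPrimitiveRoot.coe_units_iff.mp (by simpa [u] using hη)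
  let g : Multiplicative (ZMod q) →* kˣ := MonoidHom.mk' (fun a => u ^ (Multiplicative.toAdd a : ZMod q).val)
    fun a b => by rw [← pow_add, toAdd_mul, ZMod.val_add, ← pow_eq_pow_mod _ hu.pow_eq_one]
  refine ⟨g.comp f, fun h => hf (Multiplicative.toAdd.injective (ZMod.val_injective q ?_))⟩
  rw [toAdd_one, ZMod.val_zero]
  exact Nat.eq_zero_of_dvd_of_lt ((hu.pow_eq_one_iff_dvd _).mp h) (ZMod.val_lt _)

theorem finite_weights (k : Type*) [Field k] (A : Type*) [CommGroup A] [Finite A] : Finite (A →* kˣ) := by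
  haveI : Finite (A →* k) := (linearIndependent_monoidHom A k).finite
  refine Finite.of_injective (fun f : A →* kˣ => (Units.coeHom k).comp f) fun f g h => ?_
  exact MonoidHom.ext fun a => Units.ext (DFunLike.congr_fun h a)

/-- The weight projections sum to the identity. -/
theorem sum_proj {q : ℕ} [Fact q.Prime] (hAq : ∀ a : A, a ^ q = 1) (hA : (Nat.card A : k) ≠ 0) (hqk : (q : k) ≠ 0)
    {η : k} (hη : IsPrimitiveRoot η q) [Fintype (A →* kˣ)] (w : W) :
    ∑ lam : A →* kˣ, proj ρ lam w = w := by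
  classical
  have hS : ∀ v : W, ∑ lam : A →* kˣ, proj ρ lam v = ((Nat.card A : k)⁻¹ * Fintype.card (A →* kˣ)) • v := by
    intro v
    unfold proj
    simp only [LinearMap.smul_apply, LinearMap.sum_apply]
    rw [← Finset.smul_sum, Finset.sum_comm, mul_smul]
    congr 1
    have hin : ∀ a : A, ∑ lam : A →* kˣ, ((lam a⁻¹ : kˣ) : k) • ρ a v =
        if a = 1 then (Fintype.card (A →* kˣ) : k) • v else 0 := by
      intro a
      rw [← Finset.sum_smul]
      split_ifs with ha
      · subst ha; simp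
      · obtain ⟨l₀, hl₀⟩ := exists_weight_ne_one hAq hη (x := a⁻¹) (inv_ne_one.mpr ha)
        have h : ((l₀ a⁻¹ : kˣ) : k) * ∑ lam : A →* kˣ, ((lam a⁻¹ : kˣ) : k) =
            ∑ lam : A →* kˣ, ((lam a⁻¹ : kˣ) : k) := by
          rw [Finset.mul_sum]
          exact Fintype.sum_equiv (Equiv.mulLeft l₀) _ _ fun l => by
            rw [Equiv.coe_mulLeft, MonoidHom.mul_apply, Units.val_mul]
        by_cases h0 : ∑ lam : A →* kˣ, ((lam a⁻¹ : kˣ) : k) = 0
        · rw [h0, zero_smul]
        · exact absurd (Units.ext (mul_right_cancel₀ h0 (h.trans (one_mul _).symm))) hl₀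
    rw [Finset.sum_congr rfl fun a _ => hin a, Finset.sum_ite_eq' Finset.univ (1 : A), if_pos (Finset.mem_univ _)]
  set c := (Nat.card A : k)⁻¹ * Fintype.card (A →* kˣ) with hc
  have hc0 : c ≠ 0 := by
    refine mul_ne_zero (inv_ne_zero hA) ?_
    have hpg : IsPGroup q (A →* kˣ) := fun l => ⟨1, MonoidHom.ext fun a => by
      rw [pow_one, MonoidHom.pow_apply, ← map_pow, hAq, map_one, MonoidHom.one_apply]⟩
    obtain ⟨j, hj⟩ := hpg.exists_card_eq
    rw [← Nat.card_eq_fintype_card, hj, Nat.cast_pow]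
    exact pow_ne_zero _ hqk
  have hidem : c • (c • w) = c • w := by
    rw [← hS (c • w), ← hS w]
    refine Finset.sum_congr rfl fun lam _ => ?_
    rw [map_sum, Finset.sum_eq_single lam (fun mu _ hne => by rw [proj_proj hA, if_neg (Ne.symm hne)])
      (fun h => absurd (Finset.mem_univ _) h), proj_proj hA, if_pos rfl]
  rw [hS]
  exact smul_right_injective W hc0 hidem

/-- The fixed vectors of `U`. -/
def fix (U : Module.End k W) : Submodule k W := LinearMap.ker (U - 1)

theorem mem_fix {U : Module.End k W} {w : W} : w ∈ fix U ↔ U w = w := by simp [fix, sub_eq_zero]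

section orbit

variable {s : ℕ} (τ : MulAut A) {U : Module.End k W}

theorem orbitSum_mem_fix (hUs : U ^ s = 1) (w : W) : ∑ i ∈ range s, (U ^ i) w ∈ fix U := by
  rw [mem_fix, map_sum]
  have h1 := Finset.sum_range_succ' (fun i => (U ^ i) w) s
  rw [Finset.sum_range_succ, hUs, pow_zero] at h1
  rw [← add_right_cancel h1.symm]
  exact Finset.sum_congr rfl fun i _ => by rw [pow_succ', Module.End.mul_apply]

theorem proj_orbitSum (hA : (Nat.card A : k) ≠ 0) (hU : ∀ a, U * ρ a = ρ (τ a) * U) (mu nu : A →* kˣ)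
    {j : ℕ} (hj : j ∈ range s) (huniq : ∀ i ∈ range s, i ≠ j → twist (τ ^ i) mu ≠ nu) {w : W}
    (hw : proj ρ mu w = w) :
    proj ρ nu (∑ i ∈ range s, (U ^ i) w) = proj ρ nu ((U ^ j) w) := by
  classical
  rw [map_sum, Finset.sum_eq_single j ?_ (fun h => absurd hj h)]
  intro i hi hij
  have h : (U ^ i) w = proj ρ (twist (τ ^ i) mu) ((U ^ i) w) := by
    conv_lhs => rw [← hw]
    exact LinearMap.congr_fun (mul_proj_twist (τ ^ i) (pow_mul_proj_twist τ hU i) mu) w
  rw [h, proj_proj hA, if_neg (fun h' => huniq i hi hij h'.symm)]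

theorem proj_orbitSum_self (hs : 0 < s) (hA : (Nat.card A : k) ≠ 0) (hU : ∀ a, U * ρ a = ρ (τ a) * U)
    (mu : A →* kˣ) (hfree : ∀ i, 0 < i → i < s → twist (τ ^ i) mu ≠ mu) {w : W} (hw : proj ρ mu w = w) :
    proj ρ mu (∑ i ∈ range s, (U ^ i) w) = w := by
  rw [proj_orbitSum τ hA hU mu mu (Finset.mem_range.mpr hs)
    (fun i hi hi0 => hfree i (Nat.pos_of_ne_zero hi0) (Finset.mem_range.mp hi)) hw]
  simpa using hw

theorem proj_orbitSum_other (hA : (Nat.card A : k) ≠ 0) (hU : ∀ a, U * ρ a = ρ (τ a) * U) (mu nu : A →* kˣ)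
    (hne : ∀ i, i < s → twist (τ ^ i) mu ≠ nu) {w : W} (hw : proj ρ mu w = w) :
    proj ρ nu (∑ i ∈ range s, (U ^ i) w) = 0 := by
  classical
  rw [map_sum]
  refine Finset.sum_eq_zero fun i hi => ?_
  have h : (U ^ i) w = proj ρ (twist (τ ^ i) mu) ((U ^ i) w) := by
    conv_lhs => rw [← hw]
    exact LinearMap.congr_fun (mul_proj_twist (τ ^ i) (pow_mul_proj_twist τ hU i) mu) w
  rw [h, proj_proj hA, if_neg (fun h' => hne i (Finset.mem_range.mp hi) h'.symm)]

variable [FiniteDimensional k W]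

/-- Two free orbits of weights give two independent fixed vectors. -/
theorem false_of_two_orbits (hs : 0 < s) (hA : (Nat.card A : k) ≠ 0) (hU : ∀ a, U * ρ a = ρ (τ a) * U)
    (hUs : U ^ s = 1) (hfix : Module.finrank k (fix U) ≤ 1) (lam mu : A →* kˣ) (hlam : proj ρ lam ≠ 0)
    (hmu : proj ρ mu ≠ 0) (hfl : ∀ i, 0 < i → i < s → twist (τ ^ i) lam ≠ lam)
    (hfm : ∀ i, 0 < i → i < s → twist (τ ^ i) mu ≠ mu) (hne : ∀ i, i < s → twist (τ ^ i) lam ≠ mu) : False := by
  classical
  obtain ⟨w₀, hw₀⟩ : ∃ w, proj ρ lam w ≠ 0 := by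
    by_contra hcon; push Not at hcon; exact hlam (LinearMap.ext hcon)
  obtain ⟨v₀, hv₀⟩ : ∃ v, proj ρ mu v ≠ 0 := by
    by_contra hcon; push Not at hcon; exact hmu (LinearMap.ext hcon)
  set w := proj ρ lam w₀
  set v := proj ρ mu v₀
  have hw : proj ρ lam w = w := by rw [proj_proj hA, if_pos rfl]
  have hv : proj ρ mu v = v := by rw [proj_proj hA, if_pos rfl]
  let e : Fin 2 → fix U :=
    ![⟨_, orbitSum_mem_fix hUs w⟩, ⟨_, orbitSum_mem_fix hUs v⟩]
  have hind : LinearIndependent k e := by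
    rw [Fintype.linearIndependent_iff]
    intro g hg
    rw [Fin.sum_univ_two] at hg
    have hg' := congrArg Subtype.val hg
    change g 0 • (∑ i ∈ range s, (U ^ i) w) + g 1 • (∑ i ∈ range s, (U ^ i) v) = 0 at hg'
    have h1 := congrArg (proj ρ mu) hg'
    rw [map_add, map_smul, map_smul, proj_orbitSum_self τ hs hA hU mu hfm hv,
      proj_orbitSum_other τ hA hU lam mu hne hw, smul_zero, zero_add, map_zero] at h1
    have h1' : g 1 = 0 := (smul_eq_zero.mp h1).resolve_right hv₀
    rw [h1', zero_smul, add_zero] at hg'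
    have h2 := congrArg (proj ρ lam) hg'
    rw [map_smul, proj_orbitSum_self τ hs hA hU lam hfl hw, map_zero] at h2
    have h2' : g 0 = 0 := (smul_eq_zero.mp h2).resolve_right hw₀
    intro i
    fin_cases i
    · exact h2'
    · exact h1'
  have := hind.fintype_card_le_finrank
  rw [Fintype.card_fin] at this
  omega

/-- A free orbit of weights bounds the weight space by the fixed vectors. -/
theorem finrank_range_le_fix (hs : 0 < s) (hA : (Nat.card A : k) ≠ 0) (hU : ∀ a, U * ρ a = ρ (τ a) * U)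
    (hUs : U ^ s = 1) (lam : A →* kˣ) (hfree : ∀ i, 0 < i → i < s → twist (τ ^ i) lam ≠ lam) :
    Module.finrank k (LinearMap.range (proj ρ lam)) ≤ Module.finrank k (fix U) := by
  classical
  let f : LinearMap.range (proj ρ lam) →ₗ[k] fix U :=
    LinearMap.codRestrict _ ((∑ i ∈ range s, U ^ i : Module.End k W).comp (LinearMap.range (proj ρ lam)).subtype)
      fun w => by rw [LinearMap.comp_apply, LinearMap.sum_apply]; exact orbitSum_mem_fix hUs _
  refine LinearMap.finrank_le_finrank_of_injective (f := f) ?_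
  rw [← LinearMap.ker_eq_bot, Submodule.eq_bot_iff]
  rintro ⟨w, w₀, rfl⟩ hw
  apply Subtype.ext
  have h1 : (∑ i ∈ range s, U ^ i : Module.End k W) (proj ρ lam w₀) = 0 := congrArg Subtype.val hw
  rw [LinearMap.sum_apply] at h1
  have h2 := proj_orbitSum_self τ hs hA hU lam hfree (w := proj ρ lam w₀) (by rw [proj_proj hA, if_pos rfl])
  rw [h1, map_zero] at h2
  exact h2.symm

end orbit

end CfsgLib.OddOrder41.Weights
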