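import Cfsg.Agent.Lib.OddOrder41.FrobeniusWeights
import Cfsg.Agent.Lib.OddOrder41.FixedFormula
import Cfsg.Agent.Lib.PGroup.Class2
import Cfsg.Agent.Lib.PGroup.Frattini
import Cfsg.Agent.Lib.Structure.Subnormal

set_option autoImplicit false
set_option linter.style.haveILetI false

/-! The minimal configuration of BG 3.6 is impossible. -/

namespace CfsgLib.OddOrder41

open CfsgLib.OddOrder41.Weights CfsgLib.OddOrder41.ZGroupLinear
open scoped commutatorElement

variable {Γ : Type*} [Group Γ] [Finite Γ]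

/-- The elements of order dividing `p` in the centre of `P`. -/
def omegaCenter (p : ℕ) (P : Subgroup Γ) : Subgroup Γ where
  carrier := {x | x ∈ P ∧ x ^ p = 1 ∧ ∀ y ∈ P, x * y = y * x}
  one_mem' := ⟨P.one_mem, one_pow p, fun y _ => by rw [one_mul, mul_one]⟩
  mul_mem' := fun {a b} ha hb => ⟨P.mul_mem ha.1 hb.1,
    by rw [(show Commute a b from ha.2.2 b hb.1).mul_pow, ha.2.1, hb.2.1, one_mul],
    fun y hy => by rw [mul_assoc, hb.2.2 y hy, ← mul_assoc, ha.2.2 y hy, mul_assoc]⟩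
  inv_mem' := fun {a} ha => ⟨P.inv_mem ha.1, by rw [inv_pow, ha.2.1, inv_one],
    fun y hy => ((show Commute a y from ha.2.2 y hy).inv_left).eq⟩

theorem omegaCenter_le (p : ℕ) (P : Subgroup Γ) : omegaCenter p P ≤ P := fun _ h => h.1

theorem le_normalizer_omegaCenter (p : ℕ) {P A : Subgroup Γ} (h : A ≤ Subgroup.normalizer (P : Set Γ)) :
    A ≤ Subgroup.normalizer (omegaCenter p P : Set Γ) := by
  refine Subgroup.le_normalizer_iff.2 fun g hg x hx => ?_
  refine ⟨(Subgroup.mem_normalizer_iff.mp (h hg) x).mp hx.1, by rw [conj_pow, hx.2.1, mul_one, mul_inv_cancel],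
    fun y hy => ?_⟩
  have h1 := hx.2.2 _ ((Subgroup.mem_normalizer_iff.mp (h (A.inv_mem hg)) y).mp hy)
  calc g * x * g⁻¹ * y = g * (x * (g⁻¹ * y * g⁻¹⁻¹)) * g⁻¹ := by group
    _ = g * ((g⁻¹ * y * g⁻¹⁻¹) * x) * g⁻¹ := by rw [h1]
    _ = y * (g * x * g⁻¹) := by group

theorem omegaCenter_ne_bot {p : ℕ} [hp : Fact p.Prime] {P : Subgroup Γ} (hP : IsPGroup p P) (hP1 : P ≠ ⊥) :
    omegaCenter p P ≠ ⊥ := by
  haveI : Nontrivial P := (Subgroup.nontrivial_iff_ne_bot P).mpr hP1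
  haveI := hP.center_nontrivial
  obtain ⟨j, hj⟩ := (hP.to_subgroup (Subgroup.center P)).exists_card_eq
  have hdvd : p ∣ Nat.card (Subgroup.center P) := by
    rw [hj]
    refine dvd_pow_self p fun h0 => ?_
    rw [h0, pow_zero] at hj
    exact absurd hj Finite.one_lt_card.ne'
  obtain ⟨z, hz⟩ := exists_prime_orderOf_dvd_card' p hdvd
  intro hbot
  have hzp : ((z : P) : Γ) ^ p = 1 := by
    rw [← hz, ← SubgroupClass.coe_pow, ← SubgroupClass.coe_pow, pow_orderOf_eq_one]; rfl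
  have hmem : ((z : P) : Γ) ∈ omegaCenter p P :=
    ⟨(z : P).2, hzp, fun y hy => congrArg Subtype.val (Subgroup.mem_center_iff.mp z.2 ⟨y, hy⟩).symm⟩
  rw [hbot, Subgroup.mem_bot] at hmem
  rw [show z = 1 from Subtype.ext (Subtype.ext hmem), orderOf_one] at hz
  exact hp.out.ne_one hz.symm

theorem le_normalizer_inf_centralizer {Q S A : Subgroup Γ} (h1 : A ≤ Subgroup.normalizer (Q : Set Γ))
    (h2 : A ≤ Subgroup.normalizer (S : Set Γ)) :
    A ≤ Subgroup.normalizer ((Q ⊓ Subgroup.centralizer (S : Set Γ) : Subgroup Γ) : Set Γ) := by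
  refine Subgroup.le_normalizer_iff.2 fun g hg x hx => ⟨(Subgroup.mem_normalizer_iff.mp (h1 hg) x).mp hx.1, ?_⟩
  refine Subgroup.mem_centralizer_iff.mpr fun z hz => ?_
  have h := Subgroup.mem_centralizer_iff.mp hx.2 _ ((Subgroup.mem_normalizer_iff.mp (h2 (A.inv_mem hg)) z).mp hz)
  calc z * (g * x * g⁻¹) = g * ((g⁻¹ * z * g⁻¹⁻¹) * x) * g⁻¹ := by group
    _ = g * (x * (g⁻¹ * z * g⁻¹⁻¹)) * g⁻¹ := by rw [h]
    _ = g * x * g⁻¹ * z := by group

/-- An operator group equal to its commutator with another centralises a cyclic quotient. -/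
theorem commutator_le_of_cyclic_quotient (Q Q₁ D P R : Subgroup Γ) (hQ₁ : Q₁ ≤ Q) (hD : D ≤ Q) [IsCyclic D]
    (hQn : Q ≤ Subgroup.normalizer (Q₁ : Set Γ)) (hsup : Q₁ ⊔ D = Q)
    (hPQ : P ≤ Subgroup.normalizer (Q : Set Γ)) (hP₁ : P ≤ Subgroup.normalizer (Q₁ : Set Γ))
    (hRQ : R ≤ Subgroup.normalizer (Q : Set Γ)) (hR₁ : R ≤ Subgroup.normalizer (Q₁ : Set Γ))
    (hPR : ⁅P, R⁆ = P) : ⁅Q, P⁆ ≤ Q₁ := by
  classical
  haveI hn : (Q₁.subgroupOf Q).Normal := Subgroup.normal_subgroupOf_of_le_normalizer hQn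
  set π := QuotientGroup.mk' (Q₁.subgroupOf Q) with hπ
  set M := Subgroup.normalizer (Q : Set Γ) ⊓ Subgroup.normalizer (Q₁ : Set Γ) with hM
  set c : M →* MulAut Q := conjHom Q M inf_le_left with hc
  obtain ⟨d, hd⟩ := IsCyclic.exists_generator (α := D)
  set d' : Q := ⟨d, hD d.2⟩ with hd'
  have hgen : ∀ y : Q, ∃ i : ℤ, π y = π d' ^ i := by
    intro y
    have hy : (y : Γ) ∈ Q₁ ⊔ D := by rw [hsup]; exact y.2
    rw [sup_comm] at hy
    obtain ⟨a, ha, b, hb, hab⟩ := Coprime.exists_mul_of_mem_sup (hD.trans hQn) hy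
    obtain ⟨i, hi⟩ := Subgroup.mem_zpowers_iff.mp (hd ⟨a, ha⟩)
    refine ⟨i, ?_⟩
    rw [← map_zpow]
    refine QuotientGroup.eq.mpr ?_
    rw [Subgroup.mem_subgroupOf, Subgroup.coe_mul, Subgroup.coe_inv, SubgroupClass.coe_zpow,
      show (d' : Γ) = (d : Γ) from rfl, show (d : Γ) ^ i = a from congrArg Subtype.val hi, hab, mul_inv_rev,
      mul_assoc, inv_mul_cancel, mul_one]
    exact Q₁.inv_mem hb
  have hcong : ∀ (g : M) (y z : Q), π y = π z → π (c g y) = π (c g z) := by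
    intro g y z h
    refine QuotientGroup.eq.mpr ?_
    have h' := QuotientGroup.eq.mp h
    rw [Subgroup.mem_subgroupOf] at h' ⊢
    rw [← map_inv, ← map_mul]
    exact (Subgroup.mem_normalizer_iff.mp g.2.2 _).mp h'
  have hexp : ∀ g : M, ∃ a : ℤ, ∀ y : Q, π (c g y) = π y ^ a := by
    intro g
    obtain ⟨a, ha⟩ := hgen (c g d')
    refine ⟨a, fun y => ?_⟩
    obtain ⟨i, hi⟩ := hgen y
    rw [hcong g y (d' ^ i) (by rw [map_zpow]; exact hi), map_zpow, map_zpow, ha, ← zpow_mul, mul_comm, zpow_mul, ← hi]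
  have hcomm : ∀ (g h : M) (y : Q), π (c (g * h) y) = π (c (h * g) y) := by
    intro g h y
    obtain ⟨a, ha⟩ := hexp g
    obtain ⟨b, hb⟩ := hexp h
    rw [map_mul, map_mul, MulAut.mul_apply, MulAut.mul_apply, ha, hb, hb, ha, ← zpow_mul, ← zpow_mul, mul_comm]
  let T : Subgroup M :=
    { carrier := {g | ∀ y, π (c g y) = π y}
      one_mem' := fun y => by rw [map_one]; rfl
      mul_mem' := fun {a b} ha hb y => by rw [map_mul, MulAut.mul_apply, ha, hb]
      inv_mem' := fun {a} ha y => by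
        have h := ha (c a⁻¹ y)
        rw [← MulAut.mul_apply, ← map_mul, mul_inv_cancel, map_one, MulAut.one_apply] at h
        exact h.symm }
  have hPT : P ≤ T.map M.subtype := by
    refine hPR.symm.le.trans ?_
    rw [Subgroup.commutator_le]
    intro x hx r hr
    refine ⟨⁅(⟨x, hPQ hx, hP₁ hx⟩ : M), ⟨r, hRQ hr, hR₁ hr⟩⁆, fun y => ?_, rfl⟩
    set g : M := ⟨x, hPQ hx, hP₁ hx⟩
    set h : M := ⟨r, hRQ hr, hR₁ hr⟩
    rw [show ⁅g, h⁆ = (g * h) * (h * g)⁻¹ by rw [commutatorElement_def]; group, map_mul, MulAut.mul_apply,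
      hcomm g h, ← MulAut.mul_apply, ← map_mul, mul_inv_cancel, map_one, MulAut.one_apply]
  rw [Subgroup.commutator_le]
  intro y hy x hx
  obtain ⟨g, hg, rfl⟩ := hPT hx
  have h1 : π ((⟨y, hy⟩ : Q) * c g (⟨y, hy⟩ : Q)⁻¹) = 1 := by
    rw [map_mul, hg, map_inv, mul_inv_cancel]
  have h2 := Subgroup.mem_subgroupOf.mp ((QuotientGroup.eq_one_iff _).mp h1)
  have h3 : ((((⟨y, hy⟩ : Q) * c g (⟨y, hy⟩ : Q)⁻¹) : Q) : Γ) = ⁅y, (g : Γ)⁆ := by
    show y * ((g : Γ) * y⁻¹ * (g : Γ)⁻¹) = _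
    rw [commutatorElement_def]; group
  exact h3 ▸ h2

variable {k : Type*} [Field k] {W : Type*} [AddCommGroup W] [Module k W]
  [FiniteDimensional k W] (ρ : Γ →* Module.End k W) {q p s : ℕ} [hq : Fact q.Prime] [hp : Fact p.Prime]
  [hs : Fact s.Prime]

/-- The minimal configuration. -/
theorem config_false (hpk : (p : k) = 0) (hqk : (q : k) ≠ 0) (hsk : (s : k) ≠ 0) (hp2 : p ≠ 2) (hq2 : q ≠ 2)
    (hs2 : s ≠ 2) (hqp : q ≠ p) (hqs : q ≠ s) (hps : p ≠ s) {η : k} (hη : IsPrimitiveRoot η q) {ζ : k}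
    (hζ : IsPrimitiveRoot ζ s) (Q P R : Subgroup Γ) {r : Γ} (hrR : r ∈ R) (hrs : r ^ s = 1)
    (hQ : IsPGroup q Q) (hP : IsPGroup p P) (hPQ : P ≤ Subgroup.normalizer (Q : Set Γ))
    (hRQ : R ≤ Subgroup.normalizer (Q : Set Γ)) (hRP : R ≤ Subgroup.normalizer (P : Set Γ))
    (hPR : ⁅P, R⁆ = P) (hfaith : P ⊓ Subgroup.centralizer (Q : Set Γ) = ⊥) (hP1 : P ≠ ⊥)
    (hmin : ∀ Q₁ : Subgroup Γ, Q₁ ≤ Q → Q₁ ≠ Q → P ≤ Subgroup.normalizer (Q₁ : Set Γ) →
      R ≤ Subgroup.normalizer (Q₁ : Set Γ) → Q₁ ≤ Subgroup.centralizer (P : Set Γ))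
    (hinj : ∀ y ∈ Q, ρ y = 1 → y = 1) (hfix : Module.finrank k (fix (ρ r)) ≤ 1)
    (hQcyc : IsCyclic ↥(Q ⊓ Subgroup.centralizer ({r} : Set Γ)))
    (halt : P ≤ Subgroup.centralizer ({r} : Set Γ) ∨ (R = Subgroup.zpowers r ∧ ∀ P₁ : Subgroup Γ,
      P₁ ≤ P → P₁ ≠ P → r ∈ Subgroup.normalizer (P₁ : Set Γ) → P₁ ≤ Subgroup.centralizer ({r} : Set Γ))) :
    False := by
  classical
  haveI : Group.IsNilpotent Q := hQ.isNilpotent
  obtain ⟨a, ha⟩ := hP.exists_card_eq
  obtain ⟨b, hb⟩ := hQ.exists_card_eq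
  set Rz := Subgroup.zpowers r with hRz
  have hRzR : Rz ≤ R := Subgroup.zpowers_le.mpr hrR
  have hRzQ : Rz ≤ Subgroup.normalizer (Q : Set Γ) := hRzR.trans hRQ
  have hRzdvd : Nat.card Rz ∣ s := by
    rw [hRz, Nat.card_zpowers]; exact orderOf_dvd_of_pow_eq_one hrs
  have hcopPQ : (Nat.card P).Coprime (Nat.card Q) := by
    rw [ha, hb]; exact Nat.Coprime.pow _ _ ((Nat.coprime_primes hp.out hq.out).mpr hqp.symm)
  have hcopRQ : (Nat.card Rz).Coprime (Nat.card Q) := by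
    rw [hb]
    exact (((Nat.coprime_primes hs.out hq.out).mpr hqs.symm).coprime_dvd_left hRzdvd).pow_right b
  have hcopRP : (Nat.card Rz).Coprime (Nat.card P) := by
    rw [ha]
    exact (((Nat.coprime_primes hs.out hp.out).mpr hps.symm).coprime_dvd_left hRzdvd).pow_right a
  have hnc : ¬ Q ≤ Subgroup.centralizer (P : Set Γ) := fun h => hP1 (by
    rwa [inf_eq_left.mpr (Subgroup.le_centralizer_iff.mp h)] at hfaith)
  have hQ1 : Q ≠ ⊥ := fun h => hnc (h ▸ bot_le)
  haveI : Nontrivial Q := (Subgroup.nontrivial_iff_ne_bot Q).mpr hQ1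
  -- `Q = ⁅Q, P⁆`
  have hQP : ⁅Q, P⁆ = Q := by
    by_contra hne
    have hle := Coprime.commutator_le_of_normalizes hPQ
    have hR' : R ≤ Subgroup.normalizer ((⁅Q, P⁆ : Subgroup Γ) : Set Γ) := by
      refine Subgroup.le_normalizer_iff.2 fun g hg y hy => ?_
      have : MulAut.conj g y ∈ (⁅Q, P⁆).map (MulAut.conj g).toMonoidHom := Subgroup.mem_map_of_mem _ hy
      rw [Subgroup.map_commutator] at this
      refine Subgroup.commutator_mono ?_ ?_ this
      · rintro _ ⟨c, hc, rfl⟩; exact (Subgroup.mem_normalizer_iff.mp (hRQ hg) c).mp hc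
      · rintro _ ⟨c, hc, rfl⟩; exact (Subgroup.mem_normalizer_iff.mp (hRP hg) c).mp hc
    have h1 := hmin _ hle hne (Coprime.le_normalizer_commutator_right Q P) hR'
    rw [← Subgroup.commutator_eq_bot_iff_le_centralizer] at h1
    exact hnc ((Subgroup.commutator_eq_bot_iff_le_centralizer).mp
      (Coprime.commutator_eq_bot_of_commutator_commutator_eq_bot P Q hPQ hcopPQ (Or.inr inferInstance) h1))
  -- the Frattini subgroup is central
  set F := (frattini Q).map Q.subtype with hF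
  have hFQ : F ≤ Q := Subgroup.map_subtype_le _
  have hFne : F ≠ Q := fun h => CfsgLib.PGroup.frattini_ne_top (P := Q) (by
    refine Subgroup.map_injective Q.subtype_injective ?_
    rw [← hF, h, ← MonoidHom.range_eq_map, Subgroup.range_subtype])
  have hFn : Subgroup.normalizer (Q : Set Γ) ≤ Subgroup.normalizer (F : Set Γ) :=
    Structure.normalizer_le_normalizer_map_subtype Q (frattini Q)
  have hFP := hmin F hFQ hFne (hPQ.trans hFn) (hRQ.trans hFn)
  have hQF : ⁅Q, F⁆ = ⊥ := by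
    have h2 : ⁅⁅P, F⁆, Q⁆ = ⊥ := by
      rw [Subgroup.commutator_comm P F, Subgroup.commutator_eq_bot_iff_le_centralizer.mpr hFP]
      exact Subgroup.commutator_bot_left Q
    have h3 : ⁅⁅F, Q⁆, P⁆ = ⊥ := by
      rw [eq_bot_iff, ← Subgroup.commutator_eq_bot_iff_le_centralizer.mpr hFP]
      refine Subgroup.commutator_mono ?_ le_rfl
      rw [Subgroup.commutator_comm]
      exact (Subgroup.commutator_comm Q F).le.trans
        (Coprime.commutator_le_of_normalizes ((Subgroup.le_normalizer).trans hFn))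
    have := Subgroup.commutator_commutator_eq_bot_of_rotate h2 h3
    rwa [hQP] at this
  have hDF : ⁅Q, Q⁆ ≤ F := by
    rw [← Subgroup.map_subtype_commutator]
    exact Subgroup.map_mono (CfsgLib.PGroup.commutator_le_frattini hQ)
  have hclass : ∀ c ∈ ⁅Q, Q⁆, ∀ y ∈ Q, c * y = y * c := fun c hc y hy =>
    (Subgroup.mem_centralizer_iff.mp (Subgroup.commutator_eq_bot_iff_le_centralizer.mp hQF hy) c (hDF hc))
  have hpowF : ∀ y : Q, ((y ^ q : Q) : Γ) ∈ F := fun y => ⟨_, CfsgLib.PGroup.pow_mem_frattini hQ y, rfl⟩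
  have hcen : ∀ z : Q, (z : Γ) ∈ F → z ∈ Subgroup.center Q := fun z hz =>
    Subgroup.mem_center_iff.mpr fun y => Subtype.ext
      (Subgroup.mem_centralizer_iff.mp (Subgroup.commutator_eq_bot_iff_le_centralizer.mp hQF y.2) _ hz).symm
  have hcl : ∀ u v : Q, ⁅u, v⁆ ∈ Subgroup.center Q := fun u v => hcen _ (hDF (by
    rw [show ((⁅u, v⁆ : Q) : Γ) = ⁅(u : Γ), (v : Γ)⁆ from map_commutatorElement Q.subtype u v]
    exact Subgroup.commutator_mem_commutator u.2 v.2))
  have hexp : ∀ y ∈ Q, y ^ q = 1 := by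
    set S : Set Q := {y | y ^ q = 1} with hS
    have hle : Q ≤ (Subgroup.closure S).map Q.subtype := by
      refine hQP.symm.le.trans ?_
      rw [Subgroup.commutator_le]
      intro y hy g hg
      have hgy : g * y⁻¹ * g⁻¹ ∈ Q := (Subgroup.mem_normalizer_iff.mp (hPQ hg) _).mp (Q.inv_mem hy)
      refine ⟨⟨y, hy⟩ * ⟨_, hgy⟩, Subgroup.subset_closure ?_, ?_⟩
      · show (_ : Q) ^ q = 1
        rw [CfsgLib.PGroup.mul_pow_odd_of_central (hq.out.odd_of_ne_two hq2) (hcl _ _)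
          (CfsgLib.PGroup.commutatorElement_pow_eq_one_of_pow_central (hcl _ _) (hcen _ (hpowF _)))]
        refine Subtype.ext ?_
        show y ^ q * (g * y⁻¹ * g⁻¹) ^ q = 1
        rw [conj_pow]
        have h1 : g * (y⁻¹) ^ q = (y⁻¹) ^ q * g := Subgroup.mem_centralizer_iff.mp
          (hFP (by simpa using hpowF (⟨y, hy⟩⁻¹))) g hg
        rw [h1, mul_inv_cancel_right, inv_pow, mul_inv_cancel]
      · show y * (g * y⁻¹ * g⁻¹) = ⁅y, g⁆
        rw [commutatorElement_def]; group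
    intro y hy
    obtain ⟨z, hz, rfl⟩ := hle hy
    have := CfsgLib.PGroup.pow_eq_one_of_mem_closure_class_two (hq.out.odd_of_ne_two hq2) hcl S
      (fun x hx => hx) hz
    exact (map_pow Q.subtype z q).symm.trans (congrArg Subtype.val this)
  set D := Q ⊓ Subgroup.centralizer ({r} : Set Γ) with hD
  haveI : IsCyclic D := hQcyc
  have hDq : Nat.card D ≤ q := by
    refine Nat.le_of_dvd hq.out.pos ?_
    rw [← IsCyclic.exponent_eq_card]
    exact Monoid.exponent_dvd_of_forall_pow_eq_one fun y => Subtype.ext (by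
      rw [SubgroupClass.coe_pow]; exact hexp y y.2.1)
  have hcentr : Subgroup.centralizer (Rz : Set Γ) = Subgroup.centralizer ({r} : Set Γ) := by
    rw [hRz, Subgroup.zpowers_eq_closure, Subgroup.centralizer_closure]
  -- when `r` centralises the centre
  set Z := omegaCenter p P with hZ
  by_cases hZr : Z ≤ Subgroup.centralizer ({r} : Set Γ)
  · set Q₁ := Q ⊓ Subgroup.centralizer (Z : Set Γ) with hQ₁
    have hP₁ : P ≤ Subgroup.normalizer (Q₁ : Set Γ) :=
      le_normalizer_inf_centralizer hPQ (le_normalizer_omegaCenter p Subgroup.le_normalizer)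
    have hR₁ : R ≤ Subgroup.normalizer (Q₁ : Set Γ) :=
      le_normalizer_inf_centralizer hRQ (le_normalizer_omegaCenter p hRP)
    have hQ₁ne : Q₁ ≠ Q := fun h => omegaCenter_ne_bot hP hP1 (le_bot_iff.mp (hfaith ▸
      le_inf (omegaCenter_le p P) (Subgroup.le_centralizer_iff.mp (h ▸ inf_le_right : Q ≤ _))))
    have hQ₁P := hmin Q₁ inf_le_left hQ₁ne hP₁ hR₁
    have hDQ₁ : ⁅Q, Q⁆ ≤ Q₁ := le_inf (Subgroup.commutator_le_self Q)
      ((hDF.trans hFP).trans (Subgroup.centralizer_le (omegaCenter_le p P)))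
    have hQn : Q ≤ Subgroup.normalizer (Q₁ : Set Γ) := Subgroup.le_normalizer_iff.2 fun g hg x hx => by
      rw [show g * x * g⁻¹ = ⁅g, x⁆ * x by rw [commutatorElement_def]; group]
      exact Q₁.mul_mem (hDQ₁ (Subgroup.commutator_mem_commutator hg hx.1)) hx
    have hsup : Q₁ ⊔ D = Q := by
      refine le_antisymm (sup_le inf_le_left inf_le_left) ?_
      have h1 := Coprime.commutator_sup_centralizer Rz Q hRzQ hcopRQ (Or.inr inferInstance)
      rw [hcentr] at h1
      refine h1.symm.le.trans (sup_le (le_trans (le_inf (Coprime.commutator_le_of_normalizes hRzQ) ?_) le_sup_left)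
        le_sup_right)
      intro y hy
      rw [Subgroup.mem_centralizer_iff]
      intro x hx
      have hxr : x * r = r * x := Subgroup.mem_centralizer_singleton_iff.mp (hZr hx)
      have := op_centralizes ρ hpk hqk hsk hp2 hq2 hs2 hqp hqs hps hη hζ hxr hx.2.1 hrs hfix Q hQ hexp hclass hinj
        (hPQ hx.1) (hRQ hrR)
        (fun c hc => (Subgroup.mem_centralizer_iff.mp (hFP (hDF hc)) x hx.1))
        hDq hy
      exact (Subgroup.mem_centralizer_singleton_iff.mp this).symm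
    have h2 := commutator_le_of_cyclic_quotient Q Q₁ D P R inf_le_left inf_le_left hQn hsup hPQ hP₁ hRQ hR₁ hPR
    rw [hQP] at h2
    exact hQ₁ne (le_antisymm inf_le_left h2)
  -- otherwise `P` is an irreducible abelian group without fixed points
  rcases halt with h | ⟨hR, hirr⟩
  · exact hZr ((omegaCenter_le p P).trans h)
  have hrP : r ∈ Subgroup.normalizer (P : Set Γ) := hRP hrR
  have hZP : Z = P := by
    by_contra hne
    exact hZr (hirr Z (omegaCenter_le p P) hne (le_normalizer_omegaCenter p hRP hrR))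
  have hPab : ∀ x ∈ P, ∀ y ∈ P, x * y = y * x := fun x hx y hy => by
    rw [← hZP] at hx; exact hx.2.2 y hy
  haveI : IsMulCommutative P := ⟨⟨fun x y => Subtype.ext (hPab x x.2 y y.2)⟩⟩
  have hPr : ∀ y ∈ P, r * y = y * r → y = 1 := by
    intro y hy hry
    have h1 := Coprime.commutator_inf_centralizer_eq_bot Rz P (Subgroup.zpowers_le.mpr hrP) hcopRP
    rw [← hR, hPR] at h1
    refine Subgroup.mem_bot.mp (h1 ▸ ⟨hy, ?_⟩)
    rw [hR, hcentr]
    exact Subgroup.mem_centralizer_singleton_iff.mpr hry.symm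
  have hirr' : ∀ P₁ : Subgroup Γ, P₁ ≤ P → P₁ ≠ P → r ∈ Subgroup.normalizer (P₁ : Set Γ) → P₁ = ⊥ :=
    fun P₁ h1 h2 h3 => (Subgroup.eq_bot_iff_forall _).mpr fun y hy => hPr y (h1 hy)
      (Subgroup.mem_centralizer_singleton_iff.mp (hirr P₁ h1 h2 h3 hy)).symm
  by_cases hab : ⁅Q, Q⁆ = ⊥
  · refine false_of_frobenius_abelian ρ hqk hη hs2 Q P hQ hexp (fun x hx y hy => ?_) hinj hPQ hPab ?_
      (hRQ hrR) hrP hrs hPr hirr' ?_ hfix
    · exact (commutatorElement_eq_one_iff_commute.mp (Subgroup.mem_bot.mp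
        (hab ▸ Subgroup.commutator_mem_commutator hx hy))).eq
    · rw [ha]; exact (hp.out.odd_of_ne_two hp2).pow
    · by_contra hcon
      push Not at hcon
      exact hnc fun x hx => Subgroup.mem_centralizer_iff.mpr fun y hy => hcon y hy x hx
  have hrc := centralizes_commutator ρ hqk hη Q hQ hexp hclass hinj (hRQ hrR) hrs hfix
  have hle : ⁅Q, Q⁆ ≤ D := le_inf (Subgroup.commutator_le_self Q) fun c hc =>
    Subgroup.mem_centralizer_singleton_iff.mpr (hrc c hc).symm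
  have heq : ⁅Q, Q⁆ = D := by
    refine Subgroup.eq_of_le_of_card_ge hle (hDq.trans ?_)
    obtain ⟨j, hj⟩ := (hQ.to_le (Subgroup.commutator_le_self Q)).exists_card_eq
    rw [hj]
    exact Nat.le_self_pow (fun h0 => hab (Subgroup.card_eq_one.mp (by rw [hj, h0, pow_zero]))) q
  have hfpf : ∀ e ∈ Rz, e ≠ 1 → ∀ u ∈ P, e * u = u * e → u = 1 := by
    intro e he he1 u hu h
    obtain ⟨i, rfl⟩ := (Submonoid.mem_powers_iff _ _).mp (mem_powers_iff_mem_zpowers.mpr he)
    refine hPr u hu (commute_of_pow_commute hs.out hrs (fun hd => he1 ?_) h).eq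
    obtain ⟨j, rfl⟩ := hd
    rw [pow_mul, hrs, one_pow]
  have hRz1 : Rz ≠ ⊥ := fun h => hZr fun x _ => Subgroup.mem_centralizer_singleton_iff.mpr (by
    rw [show r = 1 from Subgroup.mem_bot.mp (h ▸ Subgroup.mem_zpowers r), mul_one, one_mul])
  have hRzP : Rz ≤ Subgroup.normalizer (P : Set Γ) := hRzR.trans hRP
  have hff := FixedFormula.fixed_formula P Rz hRz1 hRzP hcopRP.symm hfpf Q (sup_le hPQ hRzQ) inferInstance ?_
  · have h1 : Q ⊓ Subgroup.centralizer ((P ⊔ Rz : Subgroup Γ) : Set Γ) = D := by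
      refine le_antisymm (inf_le_inf_left Q ?_) (le_inf inf_le_left ?_)
      · exact (Subgroup.centralizer_le (show (Rz : Set Γ) ⊆ _ from
          (le_sup_right : Rz ≤ P ⊔ Rz))).trans hcentr.le
      · rw [Subgroup.le_centralizer_iff, sup_le_iff]
        exact ⟨Subgroup.le_centralizer_iff.mp (heq ▸ hDF.trans hFP),
          Subgroup.le_centralizer_iff.mp (inf_le_right.trans hcentr.ge)⟩
    rw [h1, hcentr] at hff
    have h2 := Nat.eq_of_mul_eq_mul_left (pow_pos Nat.card_pos _) hff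
    exact hnc ((Subgroup.eq_of_le_of_card_ge inf_le_left h2.le) ▸ inf_le_right)
  · rw [sup_comm]
    exact (Nat.Coprime.mul_right hcopRQ.symm hcopPQ.symm).coprime_dvd_right (Coprime.card_sup_dvd hRzP)

end CfsgLib.OddOrder41
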