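import Cfsg.Agent.Lib.OddOrder41.WeightSpaces
import Cfsg.Agent.Lib.OddOrder41.QuadraticCentralizer
import Cfsg.Agent.Lib.OddOrder41.RankTwoAction
import Cfsg.Agent.Lib.Coprime.Commutator

set_option autoImplicit false

/-! Linear part of BG 3.6: an operator of prime order with at most one-dimensional fixed space. -/

namespace CfsgLib.OddOrder41.ZGroupLinear

open Finset CfsgLib.OddOrder41.Weights CfsgLib.OddOrder41.SymplecticCount CfsgLib.OddOrder41.RootProj
open scoped commutatorElement IsMulCommutative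

variable {Γ : Type*} [Group Γ] [Finite Γ]

/-- Conjugation by an element of the normalizer, as an automorphism. -/
def conjMul (A : Subgroup Γ) {g : Γ} (hg : g ∈ Subgroup.normalizer (A : Set Γ)) : MulAut A :=
  conjHom A (Subgroup.normalizer (A : Set Γ)) le_rfl ⟨g, hg⟩

theorem conjMul_apply (A : Subgroup Γ) {g : Γ} (hg : g ∈ Subgroup.normalizer (A : Set Γ)) (a : A) :
    ((conjMul A hg a : A) : Γ) = g * a * g⁻¹ := rfl

theorem conjMul_pow (A : Subgroup Γ) {g : Γ} (hg : g ∈ Subgroup.normalizer (A : Set Γ)) (i : ℕ) (a : A) :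
    (((conjMul A hg ^ i) a : A) : Γ) = g ^ i * a * (g ^ i)⁻¹ := by
  induction i generalizing a with
  | zero => simp
  | succ i ih => rw [pow_succ, MulAut.mul_apply, ih, conjMul_apply, pow_succ]; group

theorem commute_of_pow_commute {g y : Γ} {s i : ℕ} (hs : s.Prime) (hg : g ^ s = 1) (hi : ¬ s ∣ i)
    (h : Commute (g ^ i) y) : Commute g y := by
  obtain ⟨j, hj⟩ : ∃ j : ℕ, i * j % s = 1 :=
    (Nat.exists_mul_mod_eq_one_of_coprime ((hs.coprime_iff_not_dvd).mpr hi).symm hs.one_lt).imp fun j hj => hj.2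
  have := h.pow_left j
  rwa [← pow_mul, pow_eq_pow_mod _ hg, hj, pow_one] at this

/-- Fixed points lie in the derived subgroup when everything is moved. -/
theorem fixed_mem_commutator {q s : ℕ} [hq : Fact q.Prime] [hs : Fact s.Prime] (hqs : q ≠ s) (Q : Subgroup Γ)
    (hQ : IsPGroup q Q) {r : Γ} (hrQ : r ∈ Subgroup.normalizer (Q : Set Γ)) (hrs : r ^ s = 1)
    (hgen : ⁅Q, Subgroup.zpowers r⁆ = Q) {y : Γ} (hy : y ∈ Q) (hry : r * y = y * r) : y ∈ ⁅Q, Q⁆ := by
  classical
  set σ := conjMul Q hrQ with hσ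
  have hσs : σ ^ s = 1 := MulEquiv.ext fun a => Subtype.ext (by
    rw [conjMul_pow, hrs]; simp)
  let φ : Q →* Abelianization Q := ∏ i ∈ range s, Abelianization.of.comp (σ ^ i).toMonoidHom
  have hφ : ∀ g, φ g = ∏ i ∈ range s, Abelianization.of ((σ ^ i) g) := fun g => by
    simp [φ, MonoidHom.finsetProd_apply]
  have hinv : ∀ g, φ (σ g) = φ g := by
    intro g
    rw [hφ, hφ]
    have h1 := Finset.prod_range_succ' (fun i => Abelianization.of ((σ ^ i) g)) s
    rw [Finset.prod_range_succ, hσs, pow_zero] at h1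
    rw [mul_right_cancel h1]
    exact Finset.prod_congr rfl fun i _ => by rw [pow_succ, MulAut.mul_apply]
  have hker : Q ≤ φ.ker.map Q.subtype := by
    refine hgen.symm.le.trans ?_
    rw [Subgroup.commutator_le]
    intro a ha g hg
    obtain ⟨i, hi⟩ := (Submonoid.mem_powers_iff _ _).mp (mem_powers_iff_mem_zpowers.mpr hg)
    refine ⟨(⟨a, ha⟩ : Q) * (σ ^ i) (⟨a, ha⟩ : Q)⁻¹, ?_, ?_⟩
    · rw [SetLike.mem_coe, MonoidHom.mem_ker, map_mul]
      have hii : ∀ (i : ℕ) b, φ ((σ ^ i) b) = φ b := by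
        intro i
        induction i with
        | zero => intro b; rfl
        | succ i ih => intro b; rw [pow_succ, MulAut.mul_apply, ih, hinv]
      rw [hii, map_inv, mul_inv_cancel]
    · show a * (((σ ^ i) (⟨a, ha⟩ : Q)⁻¹ : Q) : Γ) = ⁅a, g⁆
      rw [conjMul_pow, ← hi, commutatorElement_def, Subgroup.coe_inv]
      group
  have hφy : φ ⟨y, hy⟩ = 1 := by
    obtain ⟨b, hb, hby⟩ := hker hy
    rw [show (⟨y, hy⟩ : Q) = b from Subtype.ext hby.symm]
    exact hb
  have hfix : ∀ i : ℕ, (σ ^ i) ⟨y, hy⟩ = ⟨y, hy⟩ := fun i => Subtype.ext (by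
    rw [conjMul_pow]
    show r ^ i * y * (r ^ i)⁻¹ = y
    rw [((show Commute r y from hry).pow_left i).eq, mul_inv_cancel_right])
  rw [hφ, Finset.prod_congr rfl fun i _ => congrArg Abelianization.of (hfix i), Finset.prod_const,
    Finset.card_range] at hφy
  have hof : Abelianization.of (⟨y, hy⟩ : Q) = 1 := by
    refine orderOf_eq_one_iff.mp ?_
    obtain ⟨j, hj⟩ := IsPGroup.iff_orderOf.mp hQ ⟨y, hy⟩
    exact Nat.eq_one_of_dvd_coprimes ((Nat.coprime_primes hs.out hq.out).mpr hqs.symm |>.pow_right j)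
      (orderOf_dvd_of_pow_eq_one hφy) ((orderOf_map_dvd _ _).trans hj.dvd)
  rw [← MonoidHom.mem_ker, Abelianization.ker_of] at hof
  rw [← Subgroup.map_subtype_commutator]
  exact ⟨_, hof, rfl⟩

variable {k : Type*} [Field k] {W : Type*} [AddCommGroup W] [Module k W] [FiniteDimensional k W]
  (ρ : Γ →* Module.End k W)

theorem rho_injective {A : Subgroup Γ} (hinj : ∀ a ∈ A, ρ a = 1 → a = 1) {a b : Γ} (ha : a ∈ A) (hb : b ∈ A)
    (h : ρ a = ρ b) : a = b := by
  refine mul_inv_eq_one.mp (hinj _ (A.mul_mem ha (A.inv_mem hb)) ?_)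
  rw [map_mul, h, ← map_mul, mul_inv_cancel, map_one]

theorem rho_unit_apply (g : Γ) (w : W) : ρ g⁻¹ (ρ g w) = w := by
  rw [← Module.End.mul_apply, ← map_mul, inv_mul_cancel, map_one]; rfl

variable {A : Subgroup Γ} [IsMulCommutative A] [Fintype A]

theorem conj_intertwine {g : Γ} (hg : g ∈ Subgroup.normalizer (A : Set Γ)) (a : A) :
    ρ g * (ρ.comp A.subtype) a = (ρ.comp A.subtype) (conjMul A hg a) * ρ g := by
  show ρ g * ρ (a : Γ) = ρ ((conjMul A hg a : A) : Γ) * ρ g
  rw [← map_mul, ← map_mul, conjMul_apply, inv_mul_cancel_right]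

theorem proj_twist_ne_zero {g : Γ} (hg : g ∈ Subgroup.normalizer (A : Set Γ)) {lam : A →* kˣ}
    (h : proj (ρ.comp A.subtype) lam ≠ 0) : proj (ρ.comp A.subtype) (twist (conjMul A hg) lam) ≠ 0 := by
  intro h0
  refine h (LinearMap.ext fun w => ?_)
  have h1 := LinearMap.congr_fun (mul_proj_twist (conjMul A hg) (conj_intertwine ρ hg) lam) w
  rw [h0, zero_mul, LinearMap.zero_apply, Module.End.mul_apply] at h1
  rw [LinearMap.zero_apply, ← rho_unit_apply ρ g (proj (ρ.comp A.subtype) lam w), h1, map_zero]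

omit [FiniteDimensional k W] [Finite Γ] [Fintype A] in
theorem twist_mul (a b : MulAut A) (lam : A →* kˣ) : twist (a * b) lam = twist a (twist b lam) :=
  MonoidHom.ext fun _ => rfl

omit [FiniteDimensional k W] [Finite Γ] [Fintype A] in
theorem twist_one (lam : A →* kˣ) : twist (1 : MulAut A) lam = lam := MonoidHom.ext fun _ => rfl

omit [FiniteDimensional k W] [Finite Γ] [Fintype A] in
theorem twist_pow_eq {τ : MulAut A} {s i : ℕ} (hs : s.Prime) (hτ : τ ^ s = 1) (hi : ¬ s ∣ i) {lam : A →* kˣ}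
    (h : twist (τ ^ i) lam = lam) : twist τ lam = lam := by
  obtain ⟨j, hj⟩ : ∃ j : ℕ, i * j % s = 1 :=
    (Nat.exists_mul_mod_eq_one_of_coprime ((hs.coprime_iff_not_dvd).mpr hi).symm hs.one_lt).imp fun j hj => hj.2
  have hall : ∀ j : ℕ, twist ((τ ^ i) ^ j) lam = lam := by
    intro j
    induction j with
    | zero => rw [pow_zero, twist_one]
    | succ j ih => rw [pow_succ, twist_mul, h, ih]
  have := hall j
  rwa [← pow_mul, pow_eq_pow_mod _ hτ, hj, pow_one] at this

variable {q : ℕ} [Fact q.Prime]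

/-- A faithful abelian group that is moved has a moved weight. -/
theorem exists_moved_weight {η : k} (hη : IsPrimitiveRoot η q) (hqk : (q : k) ≠ 0) (hAq : ∀ a ∈ A, a ^ q = 1)
    (hA : (Nat.card A : k) ≠ 0) (hinj : ∀ a ∈ A, ρ a = 1 → a = 1) {g : Γ}
    (hg : g ∈ Subgroup.normalizer (A : Set Γ)) (hmove : ∃ a ∈ A, g * a * g⁻¹ ≠ a) :
    ∃ lam : A →* kˣ, proj (ρ.comp A.subtype) lam ≠ 0 ∧ twist (conjMul A hg) lam ≠ lam := by
  by_contra hcon
  push Not at hcon
  obtain ⟨a, ha, hne⟩ := hmove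
  haveI := finite_weights k A
  haveI := Fintype.ofFinite (A →* kˣ)
  have hexp : ∀ b : A, b ^ q = 1 := fun b => Subtype.ext (by
    rw [SubgroupClass.coe_pow]; exact hAq b b.2)
  refine hne (rho_injective ρ hinj (conjMul A hg ⟨a, ha⟩).2 ha ?_)
  refine LinearMap.ext fun w => ?_
  rw [← sum_proj (ρ := ρ.comp A.subtype) hexp hA hqk hη w, map_sum, map_sum]
  refine Finset.sum_congr rfl fun lam _ => ?_
  by_cases h0 : proj (ρ.comp A.subtype) lam = 0
  · rw [h0, LinearMap.zero_apply, map_zero, map_zero]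
  · have h1 := apply_proj (ρ := ρ.comp A.subtype) lam (conjMul A hg ⟨a, ha⟩) w
    have h2 := apply_proj (ρ := ρ.comp A.subtype) lam (⟨a, ha⟩ : A) w
    rw [← twist_apply (conjMul A hg) lam ⟨a, ha⟩, hcon lam h0] at h2
    exact h1.trans h2.symm

end CfsgLib.OddOrder41.ZGroupLinear

namespace CfsgLib.OddOrder41.ZGroupLinear

open Finset CfsgLib.OddOrder41.Weights CfsgLib.OddOrder41.SymplecticCount CfsgLib.OddOrder41.RootProj
open scoped commutatorElement IsMulCommutative

variable {Γ : Type*} [Group Γ] [Finite Γ] {k : Type*} [Field k] {W : Type*} [AddCommGroup W] [Module k W]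
  [FiniteDimensional k W] (ρ : Γ →* Module.End k W) {q p s : ℕ} [hq : Fact q.Prime] [hp : Fact p.Prime]
  [hs : Fact s.Prime]

theorem card_ne_zero_of_qgroup (hqk : (q : k) ≠ 0) {A : Subgroup Γ} (hA : IsPGroup q A) : (Nat.card A : k) ≠ 0 := by
  obtain ⟨n, hn⟩ := hA.exists_card_eq
  rw [hn, Nat.cast_pow]
  exact pow_ne_zero _ hqk

omit [Finite Γ] [FiniteDimensional k W] in
theorem conjMul_pow_prime (A : Subgroup Γ) {g : Γ} (hg : g ∈ Subgroup.normalizer (A : Set Γ)) {n : ℕ}
    (hn : g ^ n = 1) : conjMul A hg ^ n = 1 :=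
  MulEquiv.ext fun a => Subtype.ext (by
    show (((conjHom A _ le_rfl ⟨g, hg⟩ ^ n) a : A) : Γ) = a
    rw [← map_pow, show (⟨g, hg⟩ : Subgroup.normalizer (A : Set Γ)) ^ n = 1 from Subtype.ext hn, map_one]
    rfl)

/-- An operator with a one-dimensional fixed space centralises the derived subgroup. -/
theorem centralizes_commutator (hqk : (q : k) ≠ 0) {η : k} (hη : IsPrimitiveRoot η q) (Q : Subgroup Γ)
    (hQ : IsPGroup q Q) (hexp : ∀ y ∈ Q, y ^ q = 1) (hclass : ∀ c ∈ ⁅Q, Q⁆, ∀ y ∈ Q, c * y = y * c)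
    (hinj : ∀ y ∈ Q, ρ y = 1 → y = 1) {r : Γ} (hrQ : r ∈ Subgroup.normalizer (Q : Set Γ)) (hrs : r ^ s = 1)
    (hfix : Module.finrank k (fix (ρ r)) ≤ 1) : ∀ c ∈ ⁅Q, Q⁆, r * c = c * r := by
  classical
  have hle : ⁅Q, Q⁆ ≤ Q := Subgroup.commutator_le_self Q
  set A := ⁅Q, Q⁆ with hA
  haveI : IsMulCommutative A := ⟨⟨fun a b => Subtype.ext (hclass a a.2 b (hle b.2))⟩⟩
  haveI := Fintype.ofFinite A
  intro c hc
  by_contra hrc
  have hrA : r ∈ Subgroup.normalizer (A : Set Γ) := by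
    refine (Subgroup.le_normalizer_iff (H := Subgroup.zpowers r)).2 (fun g hg x hx => ?_) (Subgroup.mem_zpowers r)
    have hgQ : g ∈ Subgroup.normalizer (Q : Set Γ) := Subgroup.zpowers_le.mpr hrQ hg
    have hmap : Q.map (MulAut.conj g).toMonoidHom = Q := by
      refine le_antisymm ?_ fun h hh => ⟨g⁻¹ * h * g, ?_, by simp [mul_assoc]⟩
      · rintro _ ⟨h, hh, rfl⟩
        exact (Subgroup.mem_normalizer_iff.mp hgQ h).mp hh
      · have := (Subgroup.mem_normalizer_iff.mp ((Subgroup.normalizer (Q : Set Γ)).inv_mem hgQ) h).mp hh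
        simpa using this
    have : MulAut.conj g x ∈ A.map (MulAut.conj g).toMonoidHom := Subgroup.mem_map_of_mem _ hx
    rw [hA, Subgroup.map_commutator, hmap] at this
    exact this
  have hAk := card_ne_zero_of_qgroup hqk (hQ.to_le hle)
  obtain ⟨lam, h0, hmov⟩ := exists_moved_weight ρ hη hqk (fun a ha => hexp a (hle ha)) hAk
    (fun a ha => hinj a (hle ha)) hrA ⟨c, hc, fun h => hrc (mul_inv_eq_iff_eq_mul.mp h)⟩
  have hUs : (ρ r) ^ s = 1 := by rw [← map_pow, hrs, map_one]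
  have hfree : ∀ i, 0 < i → i < s → twist (conjMul A hrA ^ i) lam ≠ lam := fun i hi his h =>
    hmov (twist_pow_eq hs.out (conjMul_pow_prime A hrA hrs)
      (fun hd => absurd (Nat.le_of_dvd hi hd) (not_le.mpr his)) h)
  set E := LinearMap.range (proj (ρ.comp A.subtype) lam) with hE
  have hEdim : Module.finrank k E ≤ 1 :=
    (finrank_range_le_fix (conjMul A hrA) hs.out.pos hAk (conj_intertwine ρ hrA) hUs lam hfree).trans hfix
  obtain ⟨v, hv⟩ := finrank_le_one_iff.mp hEdim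
  have hcomP : ∀ u ∈ Q, Commute (ρ u) (proj (ρ.comp A.subtype) lam) := by
    intro u hu
    unfold Weights.proj
    refine (Commute.sum_right _ _ _ fun a _ => Commute.smul_right ?_ _).smul_right _
    show Commute (ρ u) (ρ (a : Γ))
    rw [commute_iff_eq, ← map_mul, ← map_mul, hclass a a.2 u hu]
  have hscal : ∀ u ∈ Q, ∃ t : k, ∀ e ∈ E, ρ u e = t • e := by
    intro u hu
    have hvE : ρ u (v : W) ∈ E := by
      obtain ⟨w, hw⟩ := v.2
      exact ⟨ρ u w, by rw [← hw]; exact (LinearMap.congr_fun (hcomP u hu).eq w).symm⟩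
    obtain ⟨t, ht⟩ := hv ⟨_, hvE⟩
    refine ⟨t, fun e he => ?_⟩
    obtain ⟨c', hc'⟩ := hv ⟨e, he⟩
    have he' : e = c' • (v : W) := (congrArg Subtype.val hc').symm
    rw [he', map_smul, show ρ u (v : W) = t • (v : W) from (congrArg Subtype.val ht).symm, smul_comm]
  obtain ⟨w₀, hw₀⟩ : ∃ w, proj (ρ.comp A.subtype) lam w ≠ 0 := by
    by_contra hcon; push Not at hcon; exact h0 (LinearMap.ext hcon)
  set e := proj (ρ.comp A.subtype) lam w₀ with he
  have heE : e ∈ E := ⟨w₀, rfl⟩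
  -- commutators act trivially on the line
  let S : Subgroup Γ :=
    { carrier := {g | ρ g e = e}
      one_mem' := by show ρ 1 e = e; rw [map_one]; rfl
      mul_mem' := fun {a b} (ha : ρ a e = e) (hb : ρ b e = e) => by
        show ρ (a * b) e = e
        rw [map_mul, Module.End.mul_apply, hb, ha]
      inv_mem' := fun {a} (ha : ρ a e = e) => by
        show ρ a⁻¹ e = e
        conv_lhs => rw [← ha]
        exact rho_unit_apply ρ a e }
  have hS : A ≤ S := by
    rw [hA, Subgroup.commutator_le]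
    intro a ha b hb
    obtain ⟨ta, hta⟩ := hscal a ha
    obtain ⟨tb, htb⟩ := hscal b hb
    have h1 : ρ (a * b) e = ρ (b * a) e := by
      rw [map_mul, map_mul, Module.End.mul_apply, Module.End.mul_apply, htb e heE, hta e heE, map_smul, map_smul,
        hta e heE, htb e heE, smul_comm]
    have h2 : ρ (a * b) e = ρ ⁅a, b⁆ (ρ (b * a) e) := by
      rw [← Module.End.mul_apply (ρ ⁅a, b⁆), ← map_mul, show ⁅a, b⁆ * (b * a) = a * b by
        rw [commutatorElement_def]; group]
    show ρ ⁅a, b⁆ e = e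
    have h3 : ρ ⁅a, b⁆ (ρ (b * a) e) = ρ (b * a) e := by rw [← h2, h1]
    have h4 : ρ (b * a) e = (tb * ta) • e := by
      rw [map_mul, Module.End.mul_apply, hta e heE, map_smul, htb e heE, smul_smul, mul_comm]
    rw [h4, map_smul] at h3
    by_cases ht : tb * ta = 0
    · exfalso
      rw [ht, zero_smul] at h4
      exact hw₀ ((rho_unit_apply ρ (b * a) e).symm.trans (by rw [h4, map_zero]))
    · exact smul_right_injective W ht h3
  refine hmov (MonoidHom.ext fun a => ?_)
  have hone : ∀ b : A, lam b = 1 := by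
    intro b
    have h1 : ρ (b : Γ) e = ((lam b : kˣ) : k) • e := apply_proj (ρ := ρ.comp A.subtype) lam b w₀
    rw [show ρ (b : Γ) e = e from hS b.2] at h1
    exact Units.ext (smul_left_injective k hw₀ ((one_smul k e).trans h1).symm)
  rw [hone a]
  exact hone _

/-- BG 3.6, the key step: a commuting operator of order `p` centralises what the fixed-point operator moves. -/
theorem op_centralizes (hpk : (p : k) = 0) (hqk : (q : k) ≠ 0) (hsk : (s : k) ≠ 0) (hp2 : p ≠ 2) (hq2 : q ≠ 2)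
    (hs2 : s ≠ 2) (hqp : q ≠ p) (hqs : q ≠ s) (hps : p ≠ s) {η : k} (hη : IsPrimitiveRoot η q) {ζ : k}
    (hζ : IsPrimitiveRoot ζ s) {x r : Γ} (hxr : x * r = r * x) (hxp : x ^ p = 1) (hrs : r ^ s = 1)
    (hfix : Module.finrank k (fix (ρ r)) ≤ 1) :
    ∀ Q : Subgroup Γ, IsPGroup q Q → (∀ y ∈ Q, y ^ q = 1) → (∀ c ∈ ⁅Q, Q⁆, ∀ y ∈ Q, c * y = y * c) →
      (∀ y ∈ Q, ρ y = 1 → y = 1) → x ∈ Subgroup.normalizer (Q : Set Γ) → r ∈ Subgroup.normalizer (Q : Set Γ) →
      (∀ c ∈ ⁅Q, Q⁆, x * c = c * x) → Nat.card ↥(Q ⊓ Subgroup.centralizer ({r} : Set Γ)) ≤ q →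
      ⁅Q, Subgroup.zpowers r⁆ ≤ Subgroup.centralizer ({x} : Set Γ) := by
  suffices H : ∀ n, ∀ Q : Subgroup Γ, Nat.card Q = n → IsPGroup q Q → (∀ y ∈ Q, y ^ q = 1) →
      (∀ c ∈ ⁅Q, Q⁆, ∀ y ∈ Q, c * y = y * c) →
      (∀ y ∈ Q, ρ y = 1 → y = 1) → x ∈ Subgroup.normalizer (Q : Set Γ) → r ∈ Subgroup.normalizer (Q : Set Γ) →
      (∀ c ∈ ⁅Q, Q⁆, x * c = c * x) → Nat.card ↥(Q ⊓ Subgroup.centralizer ({r} : Set Γ)) ≤ q →
      ⁅Q, Subgroup.zpowers r⁆ ≤ Subgroup.centralizer ({x} : Set Γ) from fun Q => H _ Q rfl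
  intro n
  induction n using Nat.strongRecOn with
  | _ n ih =>
  intro Q hn hQ hexp hclass hinj hxQ hrQ hxc hcard
  subst hn
  classical
  set Xz := Subgroup.zpowers x with hXz
  set Rz := Subgroup.zpowers r with hRz
  have hXQ : Xz ≤ Subgroup.normalizer (Q : Set Γ) := Subgroup.zpowers_le.mpr hxQ
  have hRQ : Rz ≤ Subgroup.normalizer (Q : Set Γ) := Subgroup.zpowers_le.mpr hrQ
  haveI : Group.IsNilpotent Q := hQ.isNilpotent
  have hcopX : (Nat.card Xz).Coprime (Nat.card Q) := by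
    obtain ⟨j, hj⟩ := hQ.exists_card_eq
    rw [hXz, Nat.card_zpowers, hj]
    exact (((Nat.coprime_primes hp.out hq.out).mpr hqp.symm).coprime_dvd_left
      (orderOf_dvd_of_pow_eq_one hxp)).pow_right j
  have hcopR : (Nat.card Rz).Coprime (Nat.card Q) := by
    obtain ⟨j, hj⟩ := hQ.exists_card_eq
    rw [hRz, Nat.card_zpowers, hj]
    exact (((Nat.coprime_primes hs.out hq.out).mpr hqs.symm).coprime_dvd_left
      (orderOf_dvd_of_pow_eq_one hrs)).pow_right j
  -- the induction hypothesis for invariant proper subgroups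
  have hIH : ∀ Q₁ : Subgroup Γ, Q₁ ≤ Q → Q₁ ≠ Q → x ∈ Subgroup.normalizer (Q₁ : Set Γ) →
      r ∈ Subgroup.normalizer (Q₁ : Set Γ) → ⁅Q₁, Rz⁆ ≤ Subgroup.centralizer ({x} : Set Γ) := by
    intro Q₁ h1 hne hx1 hr1
    have hcc : ⁅Q₁, Q₁⁆ ≤ ⁅Q, Q⁆ := Subgroup.commutator_mono h1 h1
    refine ih _ ?_ Q₁ rfl (hQ.to_le h1) (fun y hy => hexp y (h1 hy)) (fun c hc y hy => hclass c (hcc hc) y (h1 hy))
      (fun y hy => hinj y (h1 hy)) hx1 hr1 (fun c hc => hxc c (hcc hc))
      ((Subgroup.card_le_of_le (inf_le_inf h1 le_rfl)).trans hcard)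
    exact lt_of_le_of_ne (Subgroup.card_le_of_le h1) fun h => hne (Subgroup.eq_of_le_of_card_ge h1 h.ge)
  have hcomm_x : r ∈ Subgroup.normalizer (Xz : Set Γ) := by
    refine Subgroup.centralizer_le_normalizer _ (Subgroup.mem_centralizer_iff.mpr ?_)
    rintro _ ⟨i, rfl⟩
    exact ((show Commute x r from hxr).zpow_left i).eq
  have hcomm_r : x ∈ Subgroup.normalizer (Rz : Set Γ) := by
    refine Subgroup.centralizer_le_normalizer _ (Subgroup.mem_centralizer_iff.mpr ?_)
    rintro _ ⟨i, rfl⟩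
    exact ((show Commute r x from hxr.symm).zpow_left i).eq
  have hnorm : ∀ (B : Subgroup Γ) (g : Γ), g ∈ Subgroup.normalizer (Q : Set Γ) →
      g ∈ Subgroup.normalizer (B : Set Γ) → g ∈ Subgroup.normalizer ((⁅Q, B⁆ : Subgroup Γ) : Set Γ) := by
    intro B g hgQ hgB
    refine (Subgroup.le_normalizer_iff (H := Subgroup.zpowers g)).2 (fun h hh y hy => ?_) (Subgroup.mem_zpowers g)
    have hmap : ∀ C : Subgroup Γ, g ∈ Subgroup.normalizer (C : Set Γ) → C.map (MulAut.conj h).toMonoidHom ≤ C := by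
      intro C hgC
      rintro _ ⟨c, hc, rfl⟩
      exact (Subgroup.mem_normalizer_iff.mp (Subgroup.zpowers_le.mpr hgC hh) c).mp hc
    have : MulAut.conj h y ∈ (⁅Q, B⁆).map (MulAut.conj h).toMonoidHom := Subgroup.mem_map_of_mem _ hy
    rw [Subgroup.map_commutator] at this
    exact Subgroup.commutator_mono (hmap Q hgQ) (hmap B hgB) this
  have hRzn : r ∈ Subgroup.normalizer (Rz : Set Γ) := Subgroup.le_normalizer (Subgroup.mem_zpowers r)
  have hXzn : x ∈ Subgroup.normalizer (Xz : Set Γ) := Subgroup.le_normalizer (Subgroup.mem_zpowers x)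
  by_cases hgr : ⁅Q, Rz⁆ ≠ Q
  · have h := hIH _ (CfsgLib.Coprime.commutator_le_of_normalizes hRQ) hgr (hnorm Rz x hxQ hcomm_r) (hnorm Rz r hrQ hRzn)
    rwa [CfsgLib.Coprime.commutator_commutator_eq Rz Q hRQ hcopR (Or.inr inferInstance)] at h
  push Not at hgr
  rw [hgr]
  have hfixr : ∀ y ∈ Q, r * y = y * r → y ∈ ⁅Q, Q⁆ := fun y hy h => fixed_mem_commutator hqs Q hQ hrQ hrs hgr hy h
  -- a proper invariant subgroup is centralised by `x`
  have hprop : ∀ Q₁ : Subgroup Γ, Q₁ ≤ Q → Q₁ ≠ Q → x ∈ Subgroup.normalizer (Q₁ : Set Γ) →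
      r ∈ Subgroup.normalizer (Q₁ : Set Γ) → Q₁ ≤ Subgroup.centralizer ({x} : Set Γ) := by
    intro Q₁ h1 hne hx1 hr1
    have h2 := hIH Q₁ h1 hne hx1 hr1
    have hR1 : Rz ≤ Subgroup.normalizer (Q₁ : Set Γ) := Subgroup.zpowers_le.mpr hr1
    rw [← CfsgLib.Coprime.commutator_sup_centralizer Rz Q₁ hR1
      (hcopR.coprime_dvd_right (Subgroup.card_dvd_of_le h1)) (Or.inl inferInstance)]
    refine sup_le h2 fun y hy => Subgroup.mem_centralizer_singleton_iff.mpr ?_
    exact (hxc y (hfixr y (h1 hy.1) (Subgroup.mem_centralizer_iff.mp hy.2 r (Subgroup.mem_zpowers r)))).symm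
  by_cases hgx : ⁅Q, Xz⁆ ≠ Q
  · have h := hprop _ (CfsgLib.Coprime.commutator_le_of_normalizes hXQ) hgx (hnorm Xz x hxQ hXzn) (hnorm Xz r hrQ hcomm_x)
    have h0 : ⁅⁅Q, Xz⁆, Xz⁆ = ⊥ := by
      rw [Subgroup.commutator_eq_bot_iff_le_centralizer, Subgroup.le_centralizer_iff, hXz, Subgroup.zpowers_le,
        Subgroup.mem_centralizer_iff]
      exact fun y hy => (Subgroup.mem_centralizer_singleton_iff.mp (h hy))
    rw [CfsgLib.Coprime.commutator_commutator_eq Xz Q hXQ hcopX (Or.inr inferInstance),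
      Subgroup.commutator_eq_bot_iff_le_centralizer] at h0
    exact h0.trans (Subgroup.centralizer_le (Set.singleton_subset_iff.mpr (Subgroup.mem_zpowers x)))
  push Not at hgx
  have hfixx : ∀ y ∈ Q, x * y = y * x → y ∈ ⁅Q, Q⁆ := fun y hy h => fixed_mem_commutator hqp Q hQ hxQ hxp hgx hy h
  intro y₀ hy₀
  rw [Subgroup.mem_centralizer_singleton_iff]
  by_contra hy₀x
  have hxUp : (ρ x) ^ p = 1 := by rw [← map_pow, hxp, map_one]
  have hrUs : (ρ r) ^ s = 1 := by rw [← map_pow, hrs, map_one]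
  have hQk := card_ne_zero_of_qgroup hqk hQ
  by_cases hab : ⁅Q, Q⁆ = ⊥
  · -- the abelian case: two free orbits of weights
    haveI : IsMulCommutative Q := ⟨⟨fun a b => Subtype.ext
      (commutatorElement_eq_one_iff_commute.mp (Subgroup.mem_bot.mp
        (hab ▸ Subgroup.commutator_mem_commutator a.2 b.2))).eq⟩⟩
    haveI := Fintype.ofFinite Q
    obtain ⟨lam, h0, hmov⟩ := exists_moved_weight ρ hη hqk hexp hQk hinj hxQ
      ⟨y₀, hy₀, fun h => hy₀x (mul_inv_eq_iff_eq_mul.mp h).symm⟩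
    set τ := conjMul Q hxQ with hτ
    set σ := conjMul Q hrQ with hσ
    have hσs : σ ^ s = 1 := conjMul_pow_prime Q hrQ hrs
    have hτp : τ ^ p = 1 := conjMul_pow_prime Q hxQ hxp
    have hcomm : Commute σ τ := by
      refine MulEquiv.ext fun a => Subtype.ext ?_
      show r * (x * a * x⁻¹) * r⁻¹ = x * (r * a * r⁻¹) * x⁻¹
      calc r * (x * a * x⁻¹) * r⁻¹ = (r * x) * a * (r * x)⁻¹ := by group
        _ = (x * r) * a * (x * r)⁻¹ := by rw [hxr]
        _ = _ := by group
    -- a weight fixed by `r` is trivial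
    have htriv : ∀ mu : Q →* kˣ, twist σ mu = mu → mu = 1 := by
      intro mu hmu
      have hle : Q ≤ mu.ker.map Q.subtype := by
        refine hgr.symm.le.trans ?_
        rw [Subgroup.commutator_le]
        intro a ha g hg
        obtain ⟨i, hi⟩ := (Submonoid.mem_powers_iff _ _).mp (mem_powers_iff_mem_zpowers.mpr hg)
        refine ⟨(⟨a, ha⟩ : Q) * (σ ^ i) (⟨a, ha⟩ : Q)⁻¹, ?_, ?_⟩
        · have hpow : ∀ i : ℕ, twist (σ ^ i) mu = mu := by
            intro i
            induction i with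
            | zero => rw [pow_zero, twist_one]
            | succ i ih => rw [pow_succ, twist_mul, hmu, ih]
          rw [SetLike.mem_coe, MonoidHom.mem_ker, map_mul]
          conv_lhs => arg 2; rw [← hpow i]
          rw [twist_apply, map_inv, mul_inv_cancel]
        · show a * (((σ ^ i) (⟨a, ha⟩ : Q)⁻¹ : Q) : Γ) = ⁅a, g⁆
          rw [conjMul_pow, ← hi, commutatorElement_def, Subgroup.coe_inv]
          group
      refine MonoidHom.ext fun a => ?_
      obtain ⟨b, hb, hba⟩ := hle a.2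
      rw [show a = b from Subtype.ext hba.symm]
      exact hb
    have hlam1 : lam ≠ 1 := fun h => hmov (by rw [h]; exact MonoidHom.ext fun _ => rfl)
    have hfl : ∀ mu : Q →* kˣ, mu ≠ 1 → ∀ i, 0 < i → i < s → twist (σ ^ i) mu ≠ mu := fun mu hmu i hi his h =>
      hmu (htriv mu (twist_pow_eq hs.out hσs (fun hd => absurd (Nat.le_of_dvd hi hd) (not_le.mpr his)) h))
    have hmu1 : twist τ lam ≠ 1 := fun h => hlam1 (MonoidHom.ext fun a => by
      rw [← twist_apply τ lam a, h]; rfl)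
    refine false_of_two_orbits σ hs.out.pos hQk (conj_intertwine ρ hrQ) hrUs hfix lam (twist τ lam) h0
      (proj_twist_ne_zero ρ hxQ h0) (hfl lam hlam1) (hfl _ hmu1) fun i _ h => ?_
    -- `τ` would fix `lam`
    have h1 : twist (τ⁻¹ * σ ^ i) lam = lam := by
      rw [twist_mul, h, ← twist_mul, inv_mul_cancel, twist_one]
    have hg : (τ⁻¹ * σ ^ i) ^ s = (τ ^ s)⁻¹ := by
      rw [((hcomm.pow_left i).inv_right).symm.mul_pow, inv_pow, ← pow_mul, mul_comm i s, pow_mul, hσs, one_pow,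
        mul_one]
    have h2 : ∀ j : ℕ, twist ((τ⁻¹ * σ ^ i) ^ j) lam = lam := by
      intro j
      induction j with
      | zero => rw [pow_zero, twist_one]
      | succ j ih => rw [pow_succ, twist_mul, h1, ih]
    have h3 : twist (τ ^ s) lam = lam := by
      have := h2 s
      rw [hg] at this
      conv_lhs => rw [← this]
      rw [← twist_mul, mul_inv_cancel, twist_one]
    exact hmov (twist_pow_eq hp.out hτp
      (fun hd => hps ((Nat.prime_dvd_prime_iff_eq hp.out hs.out).mp hd)) h3)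
  -- the nonabelian case
  have hrc : ∀ c ∈ ⁅Q, Q⁆, r * c = c * r :=
    centralizes_commutator ρ hqk hη Q hQ hexp hclass hinj hrQ hrs hfix
  have hQle : ⁅Q, Q⁆ ≤ Q := Subgroup.commutator_le_self Q
  have hcardD : Nat.card ↥⁅Q, Q⁆ = q := by
    refine le_antisymm ((Subgroup.card_le_of_le (le_inf hQle fun c hc =>
      Subgroup.mem_centralizer_singleton_iff.mpr (hrc c hc).symm)).trans hcard) ?_
    obtain ⟨j, hj⟩ := (hQ.to_le hQle).exists_card_eq
    rw [hj]
    exact Nat.le_self_pow (fun h0 => hab (Subgroup.card_eq_one.mp (by rw [hj, h0, pow_zero]))) q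
  set A := ⁅Q, Q⁆ with hA
  haveI : IsMulCommutative A := ⟨⟨fun a b => Subtype.ext (hclass a a.2 b (hQle b.2))⟩⟩
  haveI := Fintype.ofFinite A
  haveI := finite_weights k A
  haveI := Fintype.ofFinite (A →* kˣ)
  have hAk := card_ne_zero_of_qgroup hqk (hQ.to_le hQle)
  have hAexp : ∀ b : A, b ^ q = 1 := fun b => Subtype.ext (by rw [SubgroupClass.coe_pow]; exact hexp b (hQle b.2))
  obtain ⟨lam, h0, hlam⟩ : ∃ lam : A →* kˣ, proj (ρ.comp A.subtype) lam ≠ 0 ∧ lam ≠ 1 := by
    by_contra hcon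
    push Not at hcon
    refine hab (Subgroup.eq_bot_iff_forall _ |>.mpr fun c hc => hinj c (hQle hc) (LinearMap.ext fun w => ?_))
    rw [Module.End.one_apply]
    conv_rhs => rw [← sum_proj (ρ := ρ.comp A.subtype) hAexp hAk hqk hη w]
    conv_lhs => rw [← sum_proj (ρ := ρ.comp A.subtype) hAexp hAk hqk hη w]
    rw [map_sum]
    refine Finset.sum_congr rfl fun mu _ => ?_
    by_cases hm : proj (ρ.comp A.subtype) mu = 0
    · rw [hm, LinearMap.zero_apply, map_zero]
    · have h1 := apply_proj (ρ := ρ.comp A.subtype) mu (⟨c, hc⟩ : A) w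
      rw [hcon mu hm, MonoidHom.one_apply, Units.val_one, one_smul] at h1
      rw [hcon mu hm]
      exact h1
  have hlaminj : Function.Injective lam := by
    rw [← MonoidHom.ker_eq_bot_iff]
    haveI : Fact (Nat.card ↥A).Prime := ⟨hcardD ▸ hq.out⟩
    rcases Subgroup.eq_bot_or_eq_top_of_prime_card lam.ker with h | h
    · exact h
    · exact absurd (MonoidHom.ext fun a => MonoidHom.mem_ker.mp (h ▸ Subgroup.mem_top a : a ∈ lam.ker)) hlam
  set P₀ := proj (ρ.comp A.subtype) lam with hP₀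
  set E := LinearMap.range P₀ with hE
  have hcomP : ∀ g : Γ, (∀ c ∈ A, g * c = c * g) → Commute (ρ g) P₀ := by
    intro g hg
    rw [hP₀]
    unfold Weights.proj
    refine (Commute.sum_right _ _ _ fun a _ => Commute.smul_right ?_ _).smul_right _
    show Commute (ρ g) (ρ (a : Γ))
    rw [commute_iff_eq, ← map_mul, ← map_mul, hg a a.2]
  have hinv : ∀ g : Γ, (∀ c ∈ A, g * c = c * g) → ∀ e ∈ E, ρ g e ∈ E := by
    rintro g hg _ ⟨w, rfl⟩
    exact ⟨ρ g w, (LinearMap.congr_fun (hcomP g hg).eq w).symm⟩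
  have hQA : ∀ u ∈ Q, ∀ c ∈ A, u * c = c * u := fun u hu c hc => (hclass c hc u hu).symm
  obtain ⟨w₀, hw₀⟩ : ∃ w, P₀ w ≠ 0 := by
    by_contra hcon; push Not at hcon; exact h0 (LinearMap.ext hcon)
  haveI : Nontrivial E := ⟨⟨⟨P₀ w₀, w₀, rfl⟩, 0, fun h => hw₀ (congrArg Subtype.val h)⟩⟩
  let ρE : Q →* Module.End k E :=
    { toFun := fun u => (ρ (u : Γ)).restrict (hinv u (hQA u u.2))
      map_one' := LinearMap.ext fun e => Subtype.ext (by
        show ρ ((1 : Q) : Γ) (e : W) = e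
        rw [Subgroup.coe_one, map_one]; rfl)
      map_mul' := fun a b => LinearMap.ext fun e => Subtype.ext (by
        show ρ ((a * b : Q) : Γ) (e : W) = ρ (a : Γ) (ρ (b : Γ) e)
        rw [Subgroup.coe_mul, map_mul]; rfl) }
  have hρEapply : ∀ (u : Q) (e : E), ((ρE u e : E) : W) = ρ (u : Γ) (e : W) := fun u e => rfl
  have hAE : ∀ (c : A) (e : E), ρ (c : Γ) (e : W) = ((lam c : kˣ) : k) • (e : W) := by
    intro c e
    obtain ⟨w, hw⟩ := e.2
    rw [← hw]
    exact apply_proj (ρ := ρ.comp A.subtype) lam c w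
  -- the centre of `Q` is `A`
  have hZA : ∀ u : Q, u ∈ Subgroup.center Q ↔ (u : Γ) ∈ A := by
    intro u
    constructor
    · intro hu
      set Z := (Subgroup.center Q).map Q.subtype with hZ
      have hZQ : Z ≤ Q := Subgroup.map_subtype_le _
      have hZne : Z ≠ Q := fun h => hab (by
        rw [hA, Subgroup.commutator_eq_bot_iff_le_centralizer]
        intro a ha
        rw [← h] at ha
        obtain ⟨a', ha', rfl⟩ := ha
        exact Subgroup.mem_centralizer_iff.mpr fun b hb =>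
          congrArg Subtype.val (Subgroup.mem_center_iff.mp ha' ⟨b, hb⟩))
      have hZn : ∀ g ∈ Subgroup.normalizer (Q : Set Γ), g ∈ Subgroup.normalizer (Z : Set Γ) := by
        intro g hg
        refine (Subgroup.le_normalizer_iff (H := Subgroup.zpowers g)).2 (fun h hh z hz => ?_) (Subgroup.mem_zpowers g)
        obtain ⟨z', hz', rfl⟩ := hz
        refine ⟨conjMul Q (Subgroup.zpowers_le.mpr hg hh) z', ?_, rfl⟩
        exact Subgroup.characteristic_iff_map_le.mp inferInstance _ (Subgroup.mem_map_of_mem _ hz')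
      have hZx := hprop Z hZQ hZne (hZn x hxQ) (hZn r hrQ)
      exact hfixx u u.2 (Subgroup.mem_centralizer_singleton_iff.mp (hZx ⟨u, hu, rfl⟩)).symm
    · intro hu
      exact Subgroup.mem_center_iff.mpr fun v => Subtype.ext (hQA v v.2 u hu)
  have hclQ : ∀ a b : Q, ⁅a, b⁆ ∈ Subgroup.center Q := fun a b => (hZA _).mpr (by
    rw [show ((⁅a, b⁆ : Q) : Γ) = ⁅(a : Γ), (b : Γ)⁆ from map_commutatorElement Q.subtype a b]
    exact Subgroup.commutator_mem_commutator a.2 b.2)
  have hinjE : Function.Injective ρE := by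
    rw [← MonoidHom.ker_eq_bot_iff, Subgroup.eq_bot_iff_forall]
    intro u hu
    have hE1 : ∀ (v : A), (∀ e : E, ρ (v : Γ) (e : W) = e) → v = 1 := by
      intro v hv
      refine hlaminj ?_
      rw [map_one]
      have h1 := hAE v ⟨P₀ w₀, w₀, rfl⟩
      rw [hv ⟨P₀ w₀, w₀, rfl⟩] at h1
      exact Units.ext (smul_left_injective k hw₀ ((one_smul k (P₀ w₀)).trans h1).symm)
    have hucen : u ∈ Subgroup.center Q := by
      refine Subgroup.mem_center_iff.mpr fun v => ?_
      have hk : ⁅v, u⁆ ∈ ρE.ker := by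
        rw [MonoidHom.mem_ker] at hu ⊢
        rw [commutatorElement_def, map_mul, map_mul, map_mul, hu, mul_one, ← map_mul, mul_inv_cancel, map_one,
          one_mul]
        calc ρE u⁻¹ = ρE u⁻¹ * ρE u := by rw [hu, mul_one]
          _ = 1 := by rw [← map_mul, inv_mul_cancel, map_one]
      have hvA : ((⁅v, u⁆ : Q) : Γ) ∈ A := (hZA _).mp (hclQ v u)
      have h1 := hE1 ⟨_, hvA⟩ fun e => by
        rw [← hρEapply, MonoidHom.mem_ker.mp hk]; rfl
      exact (commutatorElement_eq_one_iff_commute.mp (Subtype.ext (show ((⁅v, u⁆ : Q) : Γ) = 1 from congrArg Subtype.val h1) : ⁅v, u⁆ = 1)).eq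
    have h1 := hE1 ⟨u, (hZA u).mp hucen⟩ fun e => by
      rw [← hρEapply, MonoidHom.mem_ker.mp hu]; rfl
    exact Subtype.ext (congrArg Subtype.val h1 : (u : Γ) = ((1 : A) : Γ))
  let S : ScalarCentre ρE :=
    { χ := fun z => if hz : (z : Γ) ∈ A then ((lam ⟨(z : Γ), hz⟩ : kˣ) : k) else 0
      hχ := fun z hz => by
        rw [dif_pos ((hZA z).mp hz)]
        refine LinearMap.ext fun e => Subtype.ext ?_
        exact hAE ⟨_, (hZA z).mp hz⟩ e
      hclass := hclQ
      hinj := hinjE }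
  have hna : Subgroup.center Q ≠ ⊤ := fun h => hy₀x (by
    have := (hZA ⟨y₀, hy₀⟩).mp (h ▸ Subgroup.mem_top _)
    exact (hxc y₀ this).symm)
  have hQodd : Odd (Nat.card Q) := by
    obtain ⟨j, hj⟩ := hQ.exists_card_eq
    rw [hj]; exact (hq.out.odd_of_ne_two hq2).pow
  have hmodfix : ∀ (g : Γ) (hg : g ∈ Subgroup.normalizer (Q : Set Γ)) (n : ℕ), g ^ n = 1 → n.Coprime q →
      (∀ c ∈ A, g * c = c * g) → (∀ y ∈ Q, g * y = y * g → y ∈ A) →
      ∀ u : Q, u⁻¹ * conjMul Q hg u ∈ Subgroup.center Q → u ∈ Subgroup.center Q := by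
    intro g hg n hgn hcop hgA hgfix u hu
    rw [hZA] at hu ⊢
    set c : Γ := ((u⁻¹ * conjMul Q hg u : Q) : Γ) with hc
    have hgu : g * (u : Γ) * g⁻¹ = u * c := by rw [hc, Subgroup.coe_mul, Subgroup.coe_inv, conjMul_apply]; group
    have hit : ∀ j : ℕ, g ^ j * (u : Γ) * (g ^ j)⁻¹ = u * c ^ j := by
      intro j
      induction j with
      | zero => simp
      | succ j ih =>
        have hgc : g * c ^ j * g⁻¹ = c ^ j := by
          rw [((show Commute g c from hgA c hu).pow_right j).eq, mul_inv_cancel_right]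
        calc g ^ (j + 1) * (u : Γ) * (g ^ (j + 1))⁻¹ = g * (g ^ j * u * (g ^ j)⁻¹) * g⁻¹ := by
              rw [pow_succ']; group
          _ = (g * (u : Γ) * g⁻¹) * (g * c ^ j * g⁻¹) := by rw [ih]; group
          _ = u * (c * c ^ j) := by rw [hgu, hgc, mul_assoc]
          _ = u * c ^ (j + 1) := by rw [pow_succ']
    have hcn := hit n
    rw [hgn] at hcn
    simp only [one_mul, inv_one, mul_one] at hcn
    have hc1 : c = 1 := orderOf_eq_one_iff.mp (Nat.eq_one_of_dvd_coprimes hcop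
      (orderOf_dvd_of_pow_eq_one (left_eq_mul.mp hcn)) (orderOf_dvd_of_pow_eq_one (hexp c (hQle hu))))
    rw [hc1, mul_one] at hgu
    exact hgfix u u.2 (mul_inv_eq_iff_eq_mul.mp hgu)
  -- the operator `r` on `E`
  have hxA : ∀ c ∈ A, x * c = c * x := hxc
  let UR : Module.End k E := (ρ r).restrict (hinv r hrc)
  let UX : Module.End k E := (ρ x).restrict (hinv x hxA)
  have hpow : ∀ (g : Γ) (hg : ∀ c ∈ A, g * c = c * g) (n : ℕ) (e : E),
      ((((ρ g).restrict (hinv g hg)) ^ n) e : W) = ((ρ g) ^ n) (e : W) := by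
    intro g hg n
    induction n with
    | zero => intro e; rfl
    | succ n ih =>
      intro e
      rw [pow_succ', pow_succ', Module.End.mul_apply, Module.End.mul_apply, ← ih]; rfl
  have hURs : UR ^ s = 1 := LinearMap.ext fun e => Subtype.ext (by rw [hpow r hrc s e, hrUs]; rfl)
  have hUXp : UX ^ p = 1 := LinearMap.ext fun e => Subtype.ext (by rw [hpow x hxA p e, hxUp]; rfl)
  have hUR : ∀ u, UR * ρE u = ρE (conjMul Q hrQ u) * UR := fun u => LinearMap.ext fun e => Subtype.ext (by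
    show ρ r (ρ (u : Γ) (e : W)) = ρ ((conjMul Q hrQ u : Q) : Γ) (ρ r (e : W))
    rw [← Module.End.mul_apply, ← Module.End.mul_apply, ← map_mul, ← map_mul, conjMul_apply, inv_mul_cancel_right])
  have hUX : ∀ u, UX * ρE u = ρE (conjMul Q hxQ u) * UX := fun u => LinearMap.ext fun e => Subtype.ext (by
    show ρ x (ρ (u : Γ) (e : W)) = ρ ((conjMul Q hxQ u : Q) : Γ) (ρ x (e : W))
    rw [← Module.End.mul_apply, ← Module.End.mul_apply, ← map_mul, ← map_mul, conjMul_apply, inv_mul_cancel_right])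
  have hQk' : (Nat.card Q : k) ≠ 0 := hQk
  obtain ⟨N, b, o, hidx, hN1, hNodd, horb, hdim, hup⟩ := centralizer_bound S hQk' hQodd hna (conjMul Q hrQ)
    (conjMul_pow_prime Q hrQ hrs)
    (hmodfix r hrQ s hrs ((Nat.coprime_primes hs.out hq.out).mpr hqs.symm) hrc hfixr) UR hUR hURs
  obtain ⟨hd1, hd2⟩ := eigen_blocks_le hζ hsk UR hURs
  have hm0 : Module.finrank k (eigen ζ UR 0) ≤ 1 := by
    refine le_trans ?_ hfix
    let f : eigen ζ UR 0 →ₗ[k] fix (ρ r) :=
      LinearMap.codRestrict _ (E.subtype.comp (eigen ζ UR 0).subtype) fun e => by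
        rw [mem_fix]
        have := mem_eigen.mp e.2
        rw [pow_zero, one_smul] at this
        exact congrArg Subtype.val this
    refine LinearMap.finrank_le_finrank_of_injective (f := f) fun a b h => ?_
    exact Subtype.ext (Subtype.ext (congrArg (fun z : fix (ρ r) => (z : W)) h))
  obtain ⟨hN2, hblk⟩ := blocks_two hs2 hN1 hNodd horb hdim Module.finrank_pos
    (fun i : Fin s => Module.finrank k (eigen ζ UR i)) hm0 hd1 (hd2.trans hup)
  -- `x` is quadratic
  haveI : CharP k p := (CharP.charP_iff_prime_eq_zero hp.out).mpr hpk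
  haveI : CharP (Module.End k E) p :=
    charP_of_injective_algebraMap (algebraMap k (Module.End k E)).injective p
  have hA0 : (UX - 1) ^ p = 0 := by
    rw [sub_pow_char_of_commute p (Commute.one_right UX), hUXp, one_pow, sub_self]
  have hcomRX : Commute UX UR := LinearMap.ext fun e => Subtype.ext (by
    show ρ x (ρ r (e : W)) = ρ r (ρ x (e : W))
    rw [← Module.End.mul_apply, ← Module.End.mul_apply, ← map_mul, ← map_mul, hxr])
  have hquad : (UX - 1) * (UX - 1) = 0 := by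
    refine LinearMap.ext fun e => ?_
    rw [eq_sum_proj (T := UR) hζ hsk e, map_sum, LinearMap.zero_apply]
    refine Finset.sum_eq_zero fun i hi => ?_
    set F := eigen ζ UR i with hF
    have hcom : Commute (UX - 1) UR := hcomRX.sub_left (Commute.one_left UR)
    have hFinv : ∀ v ∈ F, (UX - 1) v ∈ F := fun v hv => by
      rw [hF, mem_eigen] at hv ⊢
      rw [← Module.End.mul_apply UR, ← hcom.eq, Module.End.mul_apply, hv, map_smul]
    set M := (UX - 1).restrict hFinv with hM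
    have hMpow : ∀ (n : ℕ) (v : F), ((M ^ n) v : E) = ((UX - 1) ^ n) (v : E) := by
      intro n
      induction n with
      | zero => intro v; rfl
      | succ n ih =>
        intro v
        rw [pow_succ', pow_succ', Module.End.mul_apply, Module.End.mul_apply, ← ih]; rfl
    have hMp : M ^ p = 0 := LinearMap.ext fun v => Subtype.ext (by rw [hMpow, hA0]; rfl)
    have hF2 : Module.finrank k F ≤ 2 := hblk ⟨i, Finset.mem_range.mp hi⟩
    have hM2 : M ^ 2 = 0 := by
      have h1 := Module.End.ker_pow_eq_ker_pow_finrank_of_le (f := M) (m := p) (hF2.trans hp.out.two_le)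
      rw [hMp, LinearMap.ker_zero] at h1
      have h2 : M ^ Module.finrank k F = 0 := LinearMap.ker_eq_top.mp h1.symm
      obtain ⟨j, hj⟩ := Nat.exists_eq_add_of_le hF2
      rw [hj, pow_add, h2, zero_mul]
    have h3 := hMpow 2 ⟨proj s ζ UR i e, mem_eigen.mpr (RootProj.apply_proj hζ hsk hURs i e)⟩
    rw [hM2, pow_two] at h3
    exact h3.symm
  obtain ⟨N', b', o', hidx', _, _, horb', hdim', hup'⟩ := centralizer_bound S hQk' hQodd hna (conjMul Q hxQ)
    (conjMul_pow_prime Q hxQ hxp)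
    (hmodfix x hxQ p hxp ((Nat.coprime_primes hp.out hq.out).mpr hqp.symm) hxA hfixx) UX hUX hUXp
  have hq2' := sq_le_two_mul_commSub UX hquad
  have hbb : p * (N' * N') ≤ 2 * (N' * N' + (p - 1)) := by
    have hb' : 0 < b' := Nat.pos_of_ne_zero fun h => by
      rw [h, mul_zero] at hdim'
      exact absurd hdim' (Nat.mul_pos Module.finrank_pos Module.finrank_pos).ne'
    refine Nat.le_of_mul_le_mul_right (c := b') ?_ hb'
    calc p * (N' * N') * b' = p * (Module.finrank k E * Module.finrank k E) := by rw [hdim']; ring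
      _ ≤ p * (2 * (o' * b')) := Nat.mul_le_mul_left p (hq2'.trans (Nat.mul_le_mul_left 2 hup'))
      _ = 2 * ((p * o') * b') := by ring
      _ = _ := by rw [horb']; ring
  -- the square sizes agree
  have hNN : N' = N := Nat.mul_self_inj.mp (hidx'.symm.trans hidx)
  have hN5 : 5 ≤ N := by
    have h3 : 3 ≤ s := by have := hs.out.two_le; omega
    omega
  rw [hNN] at hbb
  have hp3 : 3 ≤ p := by have := hp.out.two_le; omega
  obtain ⟨t, rfl⟩ : ∃ t, p = t + 3 := ⟨p - 3, by omega⟩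
  have hNN5 : 25 ≤ N * N := Nat.mul_le_mul hN5 hN5
  have : t * 25 ≤ t * (N * N) := Nat.mul_le_mul_left t hNN5
  rw [show t + 3 - 1 = t + 2 by omega] at hbb
  nlinarith

end CfsgLib.OddOrder41.ZGroupLinear
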